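import Mathlib

/-! # Coprime automorphism groups of abelian `p`-groups: invariant complements -/

set_option autoImplicit false
set_option linter.style.haveILetI false
set_option linter.unusedSectionVars false

namespace Cfsg.Agent.Lib.Helper18.CoprimeAbelian

open Subgroup

variable {A : Type*} [CommGroup A] [Finite A] {p : ℕ} [hp : Fact p.Prime]

/-- `B` is mapped into itself by every element of `X`. -/
def Stable (X : Subgroup (MulAut A)) (B : Subgroup A) : Prop := ∀ x ∈ X, ∀ b ∈ B, x b ∈ B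

theorem Stable.map_eq {X : Subgroup (MulAut A)} {B : Subgroup A} (h : Stable X B) :
    ∀ x ∈ X, B.map x.toMonoidHom = B := by
  intro x hx
  apply le_antisymm
  · rintro _ ⟨b, hb, rfl⟩
    exact h x hx b hb
  · intro b hb
    refine ⟨x⁻¹ b, h x⁻¹ (X.inv_mem hx) b hb, ?_⟩
    change x (x⁻¹ b) = b
    rw [← MulAut.mul_apply, mul_inv_cancel, MulAut.one_apply]

theorem stable_of_map_eq {X : Subgroup (MulAut A)} {B : Subgroup A}
    (h : ∀ x ∈ X, B.map x.toMonoidHom = B) : Stable X B := by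
  intro x hx b hb
  rw [← h x hx]
  exact ⟨b, hb, rfl⟩

theorem stable_bot (X : Subgroup (MulAut A)) : Stable X (⊥ : Subgroup A) := by
  intro x _ b hb
  rw [mem_bot] at hb ⊢
  rw [hb, map_one]

theorem stable_top (X : Subgroup (MulAut A)) : Stable X (⊤ : Subgroup A) := fun _ _ _ _ => mem_top _

theorem Stable.inf {X : Subgroup (MulAut A)} {B C : Subgroup A} (hB : Stable X B)
    (hC : Stable X C) : Stable X (B ⊓ C) :=
  fun x hx b hb => ⟨hB x hx b hb.1, hC x hx b hb.2⟩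

theorem Stable.map_pow {X : Subgroup (MulAut A)} {B : Subgroup A} (hB : Stable X B) (n : ℕ) :
    Stable X (B.map (powMonoidHom n)) := by
  rintro x hx _ ⟨b, hb, rfl⟩
  refine ⟨x b, hB x hx b hb, ?_⟩
  simp [powMonoidHom_apply]

/-- The subgroup `{a | a ^ n ∈ B}`. -/
def powPre (B : Subgroup A) (n : ℕ) : Subgroup A := B.comap (powMonoidHom n)

theorem mem_powPre {B : Subgroup A} {n : ℕ} {a : A} : a ∈ powPre B n ↔ a ^ n ∈ B := Iff.rfl

theorem Stable.powPre {X : Subgroup (MulAut A)} {B : Subgroup A} (hB : Stable X B) (n : ℕ) :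
    Stable X (powPre B n) := by
  intro x hx a ha
  rw [mem_powPre] at ha ⊢
  rw [← _root_.map_pow]
  exact hB x hx _ ha

/-- Maschke-type averaging: an invariant complement modulo `N`. -/
theorem exists_stable_compl (hA : IsPGroup p A) (X : Subgroup (MulAut A))
    (hX : (Nat.card X).Coprime p) {N B D L₀ : Subgroup A} (hN : Stable X N) (hB : Stable X B)
    (hD : Stable X D) (hNB : N ≤ B) (hBD : B ≤ D) (hinf : B ⊓ L₀ ≤ N) (hsup : D ≤ B ⊔ L₀) :
    ∃ L : Subgroup A, Stable X L ∧ N ≤ L ∧ L ≤ D ∧ B ⊓ L ≤ N ∧ D ≤ B ⊔ L := by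
  classical
  haveI : Fintype X := Fintype.ofFinite X
  set q := QuotientGroup.mk' N with hq
  have hqN : ∀ a : A, q a = 1 ↔ a ∈ N := fun a => QuotientGroup.eq_one_iff a
  have hdec : ∀ d : A, d ∈ D → ∃ b ∈ B, ∃ l ∈ L₀, b * l = d :=
    fun d hd => Subgroup.mem_sup.mp (hsup hd)
  let β : A → A := fun d => if hd : d ∈ D then Classical.choose (hdec d hd) else 1
  have hβB : ∀ d, β d ∈ B := by
    intro d
    by_cases hd : d ∈ D
    · simp only [β, dif_pos hd]
      exact (Classical.choose_spec (hdec d hd)).1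
    · simp only [β, dif_neg hd]
      exact one_mem _
  have hβ : ∀ d ∈ D, ∀ b ∈ B, ∀ l ∈ L₀, b * l = d → q (β d) = q b := by
    intro d hd b hb l hl hbl
    simp only [β, dif_pos hd]
    obtain ⟨hb₀, l₀, hl₀, h₀⟩ := Classical.choose_spec (hdec d hd)
    set b₀ := Classical.choose (hdec d hd) with hb₀def
    have h1 : b₀ * b⁻¹ = l * l₀⁻¹ := by
      have : b₀ * l₀ = b * l := by rw [h₀, hbl]
      calc b₀ * b⁻¹ = (b₀ * l₀) * (b⁻¹ * l₀⁻¹) := by
            rw [mul_mul_mul_comm, mul_inv_cancel, mul_one]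
        _ = (b * l) * (b⁻¹ * l₀⁻¹) := by rw [this]
        _ = l * l₀⁻¹ := by rw [mul_mul_mul_comm, mul_inv_cancel, one_mul]
    have h2 : b₀ * b⁻¹ ∈ N := by
      apply hinf
      rw [Subgroup.mem_inf]
      refine ⟨mul_mem hb₀ (inv_mem hb), ?_⟩
      rw [h1]
      exact mul_mem hl (inv_mem hl₀)
    have h3 := (hqN _).mpr h2
    rw [map_mul, map_inv, mul_inv_eq_one] at h3
    exact h3
  have hqx : ∀ x ∈ X, ∀ a b : A, q a = q b → q (x a) = q (x b) := by
    intro x hx a b hab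
    have h1 : a * b⁻¹ ∈ N := by
      rw [← hqN, map_mul, map_inv, hab, mul_inv_cancel]
    have h2 := hN x hx _ h1
    rw [← hqN, map_mul, map_inv, map_mul, map_inv, mul_inv_eq_one] at h2
    exact h2
  let θ : A → A := fun d => ∏ x : X, (x : MulAut A) (β ((x : MulAut A)⁻¹ d))
  have hθB : ∀ d, θ d ∈ B := fun d =>
    Subgroup.prod_mem _ (fun x _ => hB x x.2 _ (hβB _))
  have hθmul : ∀ d ∈ D, ∀ d' ∈ D, q (θ (d * d')) = q (θ d) * q (θ d') := by
    intro d hd d' hd'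
    simp only [θ, map_prod]
    rw [← Finset.prod_mul_distrib]
    apply Finset.prod_congr rfl
    intro x _
    have hxd : (x : MulAut A)⁻¹ d ∈ D := hD _ (X.inv_mem x.2) d hd
    have hxd' : (x : MulAut A)⁻¹ d' ∈ D := hD _ (X.inv_mem x.2) d' hd'
    obtain ⟨l₁, hl₁, h₁⟩ : ∃ l ∈ L₀, β ((x : MulAut A)⁻¹ d) * l = (x : MulAut A)⁻¹ d := by
      simp only [β, dif_pos hxd]
      exact (Classical.choose_spec (hdec _ hxd)).2
    obtain ⟨l₂, hl₂, h₂⟩ : ∃ l ∈ L₀, β ((x : MulAut A)⁻¹ d') * l = (x : MulAut A)⁻¹ d' := by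
      simp only [β, dif_pos hxd']
      exact (Classical.choose_spec (hdec _ hxd')).2
    have h3 : q (β ((x : MulAut A)⁻¹ (d * d')))
        = q (β ((x : MulAut A)⁻¹ d) * β ((x : MulAut A)⁻¹ d')) := by
      apply hβ _ (by rw [map_mul]; exact mul_mem hxd hxd') _ (mul_mem (hβB _) (hβB _)) (l₁ * l₂)
        (mul_mem hl₁ hl₂)
      rw [map_mul, mul_mul_mul_comm, h₁, h₂]
    rw [hqx x x.2 _ _ h3, map_mul, map_mul]
  have hθequiv : ∀ y ∈ X, ∀ d : A, θ (y d) = y (θ d) := by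
    intro y hy d
    simp only [θ, map_prod]
    symm
    apply Fintype.prod_equiv (Equiv.mulLeft (⟨y, hy⟩ : X))
    intro x
    simp only [Equiv.coe_mulLeft, Subgroup.coe_mul, mul_inv_rev, MulAut.mul_apply]
    have : y⁻¹ (y d) = d := by
      rw [← MulAut.mul_apply, inv_mul_cancel, MulAut.one_apply]
    rw [this]
  have hθpow : ∀ b ∈ B, q (θ b) = q b ^ Nat.card X := by
    intro b hb
    simp only [θ, map_prod]
    rw [Nat.card_eq_fintype_card, ← Finset.card_univ, ← Finset.prod_const]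
    apply Finset.prod_congr rfl
    intro x _
    have hxb : (x : MulAut A)⁻¹ b ∈ B := hB _ (X.inv_mem x.2) b hb
    have h1 : q (β ((x : MulAut A)⁻¹ b)) = q ((x : MulAut A)⁻¹ b) :=
      hβ _ (hBD hxb) _ hxb 1 (one_mem _) (mul_one _)
    rw [hqx x x.2 _ _ h1]
    congr 1
    rw [← MulAut.mul_apply, mul_inv_cancel, MulAut.one_apply]
  have hθone : q (θ 1) = 1 := by
    rw [hθpow 1 (one_mem _), map_one, one_pow]
  let L : Subgroup A :=
    { carrier := {d | d ∈ D ∧ θ d ∈ N}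
      one_mem' := ⟨one_mem _, (hqN _).mp hθone⟩
      mul_mem' := by
        rintro d d' ⟨hd, hdθ⟩ ⟨hd', hdθ'⟩
        refine ⟨mul_mem hd hd', ?_⟩
        rw [← hqN, hθmul d hd d' hd', (hqN _).mpr hdθ, (hqN _).mpr hdθ', one_mul]
      inv_mem' := by
        rintro d ⟨hd, hdθ⟩
        refine ⟨inv_mem hd, ?_⟩
        have h1 := hθmul d⁻¹ (inv_mem hd) d hd
        rw [inv_mul_cancel, hθone, (hqN _).mpr hdθ, mul_one] at h1
        exact (hqN _).mp h1.symm }
  have hLmem : ∀ d, d ∈ L ↔ d ∈ D ∧ θ d ∈ N := fun _ => Iff.rfl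
  obtain ⟨K, hK⟩ := IsPGroup.iff_card.mp hA
  refine ⟨L, ?_, ?_, fun d hd => hd.1, ?_, ?_⟩
  · intro y hy d hd
    rw [hLmem] at hd ⊢
    refine ⟨hD y hy d hd.1, ?_⟩
    rw [hθequiv y hy]
    exact hN y hy _ hd.2
  · intro n hn
    rw [hLmem]
    refine ⟨hBD (hNB hn), ?_⟩
    rw [← hqN, hθpow n (hNB hn), (hqN _).mpr hn, one_pow]
  · rintro b ⟨hb, hbL⟩
    obtain ⟨-, hbθ⟩ : b ∈ D ∧ θ b ∈ N := hbL
    have h1 : q b ^ Nat.card X = 1 := by rw [← hθpow b hb]; exact (hqN _).mpr hbθ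
    obtain ⟨k, hk⟩ := hA b
    have h2 : q b ^ p ^ k = 1 := by rw [← map_pow, hk, map_one]
    have h3 : orderOf (q b) ∣ Nat.card X := orderOf_dvd_of_pow_eq_one h1
    have h4 : orderOf (q b) ∣ p ^ k := orderOf_dvd_of_pow_eq_one h2
    have h5 : (orderOf (q b)).Coprime (p ^ k) :=
      Nat.Coprime.coprime_dvd_left h3 (Nat.Coprime.pow_right k hX)
    have h6 : orderOf (q b) = 1 := Nat.Coprime.eq_one_of_dvd h5 h4
    rw [orderOf_eq_one_iff] at h6
    exact (hqN _).mp h6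
  · intro d hd
    have hcop : IsCoprime (Nat.card X : ℤ) (Nat.card A : ℤ) := by
      rw [Nat.isCoprime_iff_coprime, hK]
      exact Nat.Coprime.pow_right K hX
    obtain ⟨u, v, huv⟩ := hcop
    set b := (θ d) ^ u with hbdef
    have hbB : b ∈ B := zpow_mem (hθB d) u
    have hbpow : b ^ (Nat.card X : ℤ) = θ d := by
      rw [hbdef, ← zpow_mul]
      have h1 : u * (Nat.card X : ℤ) = 1 - v * (Nat.card A : ℤ) := by linarith
      rw [h1, zpow_sub, zpow_one, zpow_mul', zpow_natCast, pow_card_eq_one', one_zpow, inv_one,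
        mul_one]
    rw [Subgroup.mem_sup]
    refine ⟨b, hbB, d * b⁻¹, ?_, by rw [mul_comm, inv_mul_cancel_right]⟩
    rw [hLmem]
    refine ⟨mul_mem hd (inv_mem (hBD hbB)), ?_⟩
    rw [← hqN, hθmul d hd b⁻¹ (inv_mem (hBD hbB)), hθpow b⁻¹ (inv_mem hbB), map_inv, inv_pow,
      ← map_pow, ← zpow_natCast, hbpow, mul_inv_cancel]

/-- In a `p`-group, an element outside a subgroup has a power outside it whose `p`-th power lies
in it. -/
theorem exists_pow_not_mem {G : Type*} [Group G] (hG : IsPGroup p G) (K : Subgroup G) {g₀ : G}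
    (h : g₀ ∉ K) : ∃ k : ℕ, g₀ ^ p ^ k ∉ K ∧ (g₀ ^ p ^ k) ^ p ∈ K := by
  classical
  have hex : ∃ k, g₀ ^ p ^ k ∈ K := by
    obtain ⟨k, hk⟩ := hG g₀
    exact ⟨k, by rw [hk]; exact one_mem _⟩
  have hk0 : Nat.find hex ≠ 0 := by
    intro h0
    have := Nat.find_spec hex
    rw [h0, pow_zero, pow_one] at this
    exact h this
  refine ⟨Nat.find hex - 1, Nat.find_min hex (by omega), ?_⟩
  rw [← pow_mul, ← pow_succ]
  have : Nat.find hex - 1 + 1 = Nat.find hex := by omega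
  rw [this]
  exact Nat.find_spec hex

/-- If `d ^ k` and `d ^ p` lie in `K` with `p ∤ k` then `d ∈ K`. -/
theorem mem_of_zpow_mem {G : Type*} [Group G] (K : Subgroup G) {d : G} {k : ℤ}
    (hk : ¬ (p : ℤ) ∣ k) (hdk : d ^ k ∈ K) (hdp : d ^ p ∈ K) : d ∈ K := by
  have hcop : IsCoprime (p : ℤ) k :=
    (Prime.coprime_iff_not_dvd (Nat.prime_iff_prime_int.mp hp.out)).mpr hk
  obtain ⟨a, b, hab⟩ := hcop
  have hdp' : d ^ (p : ℤ) ∈ K := by rw [zpow_natCast]; exact hdp
  have : d = (d ^ (p : ℤ)) ^ a * (d ^ k) ^ b := by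
    rw [← zpow_mul, ← zpow_mul, ← zpow_add, mul_comm (p : ℤ) a, mul_comm k b, hab, zpow_one]
  rw [this]
  exact mul_mem (zpow_mem hdp' a) (zpow_mem hdk b)

/-- Complements in elementary abelian sections. -/
theorem exists_compl_of_elementary {N B D : Subgroup A} (hNB : N ≤ B) (hBD : B ≤ D)
    (hDp : ∀ d ∈ D, d ^ p ∈ N) : ∃ L₀ : Subgroup A, B ⊓ L₀ ≤ N ∧ D ≤ B ⊔ L₀ := by
  classical
  let S : Set (Subgroup A) := {L | N ≤ L ∧ L ≤ D ∧ B ⊓ L ≤ N}
  have hne : S.Nonempty := ⟨N, le_refl _, le_trans hNB hBD, inf_le_right⟩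
  obtain ⟨L₀, hL₀⟩ := (Set.toFinite S).exists_maximal hne
  refine ⟨L₀, hL₀.prop.2.2, ?_⟩
  intro d hd
  by_contra hdn
  have h2 : L₀ ⊔ zpowers d ∈ S := by
    refine ⟨le_trans hL₀.prop.1 le_sup_left, sup_le hL₀.prop.2.1 (zpowers_le.mpr hd), ?_⟩
    intro u hu
    rw [Subgroup.mem_inf] at hu
    obtain ⟨huB, huL⟩ := hu
    obtain ⟨l, hl, y, hy, rfl⟩ := Subgroup.mem_sup.mp huL
    obtain ⟨k, rfl⟩ := mem_zpowers_iff.mp hy
    by_cases hk : (p : ℤ) ∣ k
    · obtain ⟨j, rfl⟩ := hk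
      have hdk : d ^ ((p : ℤ) * j) ∈ N := by
        rw [zpow_mul, zpow_natCast]
        exact zpow_mem (hDp d hd) j
      exact hL₀.prop.2.2 (Subgroup.mem_inf.mpr ⟨huB, mul_mem hl (hL₀.prop.1 hdk)⟩)
    · exfalso
      apply hdn
      have hdk : d ^ k ∈ B ⊔ L₀ := by
        have : d ^ k = l⁻¹ * (l * d ^ k) := by group
        rw [this]
        exact mul_mem (mem_sup_right (inv_mem hl)) (mem_sup_left huB)
      exact mem_of_zpow_mem _ hk hdk (mem_sup_right (hL₀.prop.1 (hDp d hd)))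
  have hle := hL₀.le_of_ge h2 le_sup_left
  exact hdn (mem_sup_right (hle (mem_sup_right (mem_zpowers d))))

/-- A subgroup `H` with `Ω_e(H) ≤ H ^ p`, where `p ^ (e + 1)` is the exponent of `A`, is a direct
factor. -/
theorem exists_compl_of_homocyclic (hA : IsPGroup p A) {e : ℕ} (he : ∀ a : A, a ^ p ^ (e + 1) = 1)
    (H : Subgroup A) (hP : ∀ h ∈ H, h ^ p ^ e = 1 → ∃ h₁ ∈ H, h = h₁ ^ p) :
    ∃ M : Subgroup A, H ⊓ M ≤ ⊥ ∧ ⊤ ≤ H ⊔ M := by
  classical
  let S : Set (Subgroup A) := {M | H ⊓ M ≤ ⊥}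
  have hne : S.Nonempty := ⟨⊥, (inf_le_right : H ⊓ ⊥ ≤ ⊥)⟩
  obtain ⟨M, hM⟩ := (Set.toFinite S).exists_maximal hne
  refine ⟨M, hM.prop, ?_⟩
  intro a₀ _
  by_contra ha₀
  obtain ⟨k, hk1, hk2⟩ := exists_pow_not_mem hA (H ⊔ M) ha₀
  set a := a₀ ^ p ^ k with hadef
  obtain ⟨h, hh, m, hm, hhm⟩ := Subgroup.mem_sup.mp hk2
  have h1 : h ^ p ^ e = 1 := by
    have h2 : (h * m) ^ p ^ e = 1 := by
      rw [hhm, ← pow_mul, ← pow_succ']
      exact he a
    rw [mul_pow] at h2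
    have h3 : h ^ p ^ e ∈ H ⊓ M := by
      rw [Subgroup.mem_inf]
      refine ⟨pow_mem hh _, ?_⟩
      have : h ^ p ^ e = (m ^ p ^ e)⁻¹ := eq_inv_of_mul_eq_one_left h2
      rw [this]
      exact inv_mem (pow_mem hm _)
    exact (Subgroup.mem_bot.mp (hM.prop h3))
  obtain ⟨h₁, hh₁, rfl⟩ := hP h hh h1
  set a' := a * h₁⁻¹ with ha'def
  have ha'p : a' ^ p = m := by
    rw [ha'def, mul_pow, ← hhm, inv_pow]
    rw [mul_comm (h₁ ^ p) m, mul_assoc, mul_inv_cancel, mul_one]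
  have ha'n : a' ∉ H ⊔ M := by
    intro h2
    apply hk1
    have : a = a' * h₁ := by rw [ha'def, inv_mul_cancel_right]
    rw [this]
    exact mul_mem h2 (mem_sup_left hh₁)
  have h2 : M ⊔ zpowers a' ∈ S := by
    intro u hu
    rw [Subgroup.mem_inf] at hu
    obtain ⟨huH, huM⟩ := hu
    obtain ⟨m', hm', y, hy, rfl⟩ := Subgroup.mem_sup.mp huM
    obtain ⟨j, rfl⟩ := mem_zpowers_iff.mp hy
    by_cases hj : (p : ℤ) ∣ j
    · obtain ⟨i, rfl⟩ := hj
      have : a' ^ ((p : ℤ) * i) ∈ M := by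
        rw [zpow_mul, zpow_natCast, ha'p]
        exact zpow_mem hm i
      exact hM.prop (Subgroup.mem_inf.mpr ⟨huH, mul_mem hm' this⟩)
    · exfalso
      apply ha'n
      have h3 : a' ^ j ∈ H ⊔ M := by
        have : a' ^ j = m'⁻¹ * (m' * a' ^ j) := by group
        rw [this]
        exact mul_mem (mem_sup_right (inv_mem hm')) (mem_sup_left huH)
      exact mem_of_zpow_mem _ hj h3 (by rw [ha'p]; exact mem_sup_right hm)
  have hle := hM.le_of_ge h2 le_sup_left
  exact ha'n (mem_sup_right (hle (mem_sup_right (mem_zpowers a'))))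

/-- `X`-indecomposability, in terms of stable subgroups. -/
def Indec (X : Subgroup (MulAut A)) : Prop :=
  ∀ B C : Subgroup A, Stable X B → Stable X C → B ⊓ C ≤ ⊥ → ⊤ ≤ B ⊔ C → B = ⊥ ∨ C = ⊥

theorem exists_exponent (hA : IsPGroup p A) : ∃ e : ℕ, ∀ a : A, a ^ p ^ e = 1 := by
  obtain ⟨K, hK⟩ := IsPGroup.iff_card.mp hA
  exact ⟨K, fun a => by rw [← hK]; exact pow_card_eq_one'⟩

/-- Indecomposable implies `Ω₁` irreducible. -/
theorem irreducible_of_indec (hA : IsPGroup p A) (X : Subgroup (MulAut A))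
    (hX : (Nat.card X).Coprime p) (hind : Indec X) :
    ∀ B : Subgroup A, Stable X B → (∀ b ∈ B, b ^ p = 1) → B = ⊥ ∨ ∀ a : A, a ∈ B ↔ a ^ p = 1 := by
  classical
  intro B hB hBp
  have hex := exists_exponent hA
  have hmin_e := fun m => Nat.find_min hex (m := m)
  have hspec := Nat.find_spec hex
  rcases Nat.eq_zero_or_eq_succ_pred (Nat.find hex) with h0 | hsucc
  · left
    rw [eq_bot_iff]
    intro b _
    have := hspec b
    rw [h0, pow_zero, pow_one] at this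
    rw [mem_bot]
    exact this
  set e := (Nat.find hex).pred with he
  rw [hsucc] at hspec
  have hne : ¬ ∀ a : A, a ^ p ^ e = 1 := hmin_e e (by rw [hsucc]; exact Nat.lt_succ_self e)
  push Not at hne
  obtain ⟨a₀, ha₀⟩ := hne
  -- a minimal stable subgroup not of exponent `p ^ e`
  let 𝓗 : Set (Subgroup A) := {H | Stable X H ∧ ∃ h ∈ H, h ^ p ^ e ≠ 1}
  have h𝓗 : 𝓗.Nonempty := ⟨⊤, stable_top X, a₀, mem_top _, ha₀⟩
  obtain ⟨H, hH⟩ := (Set.toFinite 𝓗).exists_minimal h𝓗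
  obtain ⟨hHs, h₀, hh₀, hh₀e⟩ := hH.prop
  have hmin : ∀ K : Subgroup A, Stable X K → K ≤ H → (∃ k ∈ K, k ^ p ^ e ≠ 1) → K = H :=
    fun K hK hKH hk => le_antisymm hKH (hH.le_of_le ⟨hK, hk⟩ hKH)
  -- property (P)
  have hP : ∀ h ∈ H, h ^ p ^ e = 1 → ∃ h₁ ∈ H, h = h₁ ^ p := by
    set B' := H ⊓ powPre ⊥ (p ^ e) with hB'
    set N := H.map (powMonoidHom p) with hN
    have hB's : Stable X B' := hHs.inf ((stable_bot X).powPre _)
    have hNs : Stable X N := hHs.map_pow p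
    have hNB : N ≤ B' := by
      rintro _ ⟨h, hh, rfl⟩
      rw [hB', Subgroup.mem_inf, mem_powPre, powMonoidHom_apply, mem_bot]
      refine ⟨pow_mem hh p, ?_⟩
      rw [← pow_mul, ← pow_succ']
      exact hspec h
    have hBD : B' ≤ H := inf_le_left
    have hDp : ∀ d ∈ H, d ^ p ∈ N := fun d hd => ⟨d, hd, rfl⟩
    obtain ⟨L₀, hinf, hsup⟩ := exists_compl_of_elementary hNB hBD hDp
    obtain ⟨L, hLs, hNL, hLH, hBL, hHBL⟩ :=
      exists_stable_compl hA X hX hNs hB's hHs hNB hBD hinf hsup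
    by_cases hL : ∃ l ∈ L, l ^ p ^ e ≠ 1
    · have hLeq := hmin L hLs hLH hL
      intro h hh hhe
      have h1 : h ∈ B' ⊓ L := by
        rw [Subgroup.mem_inf, hLeq, hB', Subgroup.mem_inf, mem_powPre, mem_bot]
        exact ⟨⟨hh, hhe⟩, hh⟩
      obtain ⟨h₁, hh₁, h2⟩ := hBL h1
      exact ⟨h₁, hh₁, h2.symm⟩
    · exfalso
      push Not at hL
      have hLB : L ≤ B' := by
        intro l hl
        rw [hB', Subgroup.mem_inf, mem_powPre, mem_bot]
        exact ⟨hLH hl, hL l hl⟩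
      have h1 : h₀ ∈ B' := by
        have := hHBL hh₀
        rwa [sup_eq_left.mpr hLB] at this
      rw [hB', Subgroup.mem_inf, mem_powPre, mem_bot] at h1
      exact hh₀e h1.2
  -- `H` is a direct factor, hence everything
  obtain ⟨M₀, hM₀1, hM₀2⟩ := exists_compl_of_homocyclic hA hspec H hP
  obtain ⟨M, hMs, -, -, hM1, hM2⟩ := exists_stable_compl hA X hX (stable_bot X) hHs (stable_top X)
    bot_le le_top hM₀1 hM₀2
  have hHtop : H = ⊤ := by
    rcases hind H M hHs hMs hM1 hM2 with h | h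
    · exfalso
      apply hh₀e
      rw [h, mem_bot] at hh₀
      rw [hh₀, one_pow]
    · rw [h, sup_bot_eq] at hM2
      exact eq_top_iff.mpr hM2
  subst hHtop
  have hmin' : ∀ K : Subgroup A, Stable X K → (∃ k ∈ K, k ^ p ^ e ≠ 1) → K = ⊤ :=
    fun K hK hk => hmin K hK le_top hk
  have hP' : ∀ a : A, a ^ p ^ e = 1 → ∃ c : A, a = c ^ p := by
    intro a ha
    obtain ⟨c, -, hc⟩ := hP a (mem_top _) ha
    exact ⟨c, hc⟩
  have hroot : ∀ j i : ℕ, i + j = e + 1 → ∀ a : A, a ^ p ^ i = 1 → ∃ d : A, a = d ^ p ^ j := by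
    intro j
    induction j with
    | zero => intro i _ a _; exact ⟨a, by rw [pow_zero, pow_one]⟩
    | succ j ih =>
      intro i hij a ha
      have hie : i ≤ e := by omega
      have hae : a ^ p ^ e = 1 := by
        obtain ⟨t, ht⟩ := Nat.exists_eq_add_of_le hie
        rw [ht, pow_add, pow_mul, ha, one_pow]
      obtain ⟨c, rfl⟩ := hP' a hae
      have hc : c ^ p ^ (i + 1) = 1 := by
        rw [pow_succ', pow_mul]
        exact ha
      obtain ⟨d, rfl⟩ := ih (i + 1) (by omega) c hc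
      exact ⟨d, by rw [← pow_mul, ← pow_succ]⟩
  by_cases hBbot : B = ⊥
  · exact Or.inl hBbot
  right
  obtain ⟨b, hb, hb1⟩ : ∃ b ∈ B, b ≠ 1 := by
    by_contra hcon
    push Not at hcon
    apply hBbot
    rw [eq_bot_iff]
    intro b hb
    rw [mem_bot]
    exact hcon b hb
  obtain ⟨d, rfl⟩ := hroot e 1 (by omega) b (by rw [pow_one]; exact hBp b hb)
  have hK : powPre B (p ^ e) = ⊤ := hmin' _ (hB.powPre _) ⟨d, hb, hb1⟩
  intro a
  constructor
  · exact hBp a
  · intro ha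
    obtain ⟨d', rfl⟩ := hroot e 1 (by omega) a (by rw [pow_one]; exact ha)
    have : d' ∈ powPre B (p ^ e) := by rw [hK]; exact mem_top _
    exact this

/-- If `Ω₁(A)` is irreducible then the only stable subgroups are the `Ω_i(A)`. -/
theorem omega_of_irreducible (hA : IsPGroup p A) (X : Subgroup (MulAut A))
    (hirr : ∀ B : Subgroup A, Stable X B → (∀ b ∈ B, b ^ p = 1) →
      B = ⊥ ∨ ∀ a : A, a ∈ B ↔ a ^ p = 1) :
    ∀ B : Subgroup A, Stable X B → ∃ i : ℕ, ∀ a : A, a ∈ B ↔ a ^ p ^ i = 1 := by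
  classical
  have key : ∀ i : ℕ, ∀ B : Subgroup A, Stable X B → (∀ b ∈ B, b ^ p ^ i = 1) →
      (∀ j, i = j + 1 → ∃ b ∈ B, b ^ p ^ j ≠ 1) → ∀ a : A, a ∈ B ↔ a ^ p ^ i = 1 := by
    intro i
    induction i with
    | zero =>
      intro B _ hBe _ a
      rw [pow_zero, pow_one]
      constructor
      · intro ha
        have := hBe a ha
        rwa [pow_zero, pow_one] at this
      · rintro rfl
        exact one_mem _
    | succ i ih =>
      intro B hB hBe hBne a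
      obtain ⟨b₀, hb₀, hb₀e⟩ := hBne i rfl
      constructor
      · exact hBe a
      · intro ha
        -- `B ^ (p ^ i) = Ω₁(A)`
        have h1 : ∀ c : A, c ∈ B.map (powMonoidHom (p ^ i)) ↔ c ^ p = 1 := by
          rcases hirr _ (hB.map_pow (p ^ i)) (by
            rintro _ ⟨b, hb, rfl⟩
            rw [powMonoidHom_apply, ← pow_mul, ← pow_succ]
            exact hBe b hb) with h | h
          · exfalso
            apply hb₀e
            have : b₀ ^ p ^ i ∈ B.map (powMonoidHom (p ^ i)) := ⟨b₀, hb₀, rfl⟩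
            rwa [h, mem_bot] at this
          · exact h
        have h2 : ∀ c : A, c ∈ B ⊓ powPre ⊥ (p ^ i) ↔ c ^ p ^ i = 1 := by
          apply ih _ (hB.inf ((stable_bot X).powPre _))
          · intro c hc
            rw [Subgroup.mem_inf, mem_powPre, mem_bot] at hc
            exact hc.2
          · rintro j rfl
            refine ⟨b₀ ^ p, ?_, ?_⟩
            · rw [Subgroup.mem_inf, mem_powPre, mem_bot]
              refine ⟨pow_mem hb₀ p, ?_⟩
              rw [← pow_mul, ← pow_succ']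
              exact hBe b₀ hb₀
            · rw [← pow_mul, ← pow_succ']
              exact hb₀e
        have h3 : a ^ p ^ i ∈ B.map (powMonoidHom (p ^ i)) := by
          rw [h1, ← pow_mul, ← pow_succ]
          exact ha
        obtain ⟨b, hb, hba⟩ := h3
        rw [powMonoidHom_apply] at hba
        have h4 : a * b⁻¹ ∈ B ⊓ powPre ⊥ (p ^ i) := by
          rw [h2, mul_pow, inv_pow, hba, mul_inv_cancel]
        have : a = (a * b⁻¹) * b := by rw [inv_mul_cancel_right]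
        rw [this]
        exact mul_mem h4.1 hb
  intro B hB
  have hex : ∃ i : ℕ, ∀ b ∈ B, b ^ p ^ i = 1 := by
    obtain ⟨e, he⟩ := exists_exponent hA
    exact ⟨e, fun b _ => he b⟩
  refine ⟨Nat.find hex, key _ B hB (Nat.find_spec hex) ?_⟩
  intro j hj
  have := Nat.find_min hex (m := j) (by omega)
  push Not at this
  exact this

end Cfsg.Agent.Lib.Helper18.CoprimeAbelian
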