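import Mathlib

/-! # Auxiliary facts on cycle types (multisets of natural numbers) -/

set_option autoImplicit false

namespace Cfsg.Agent.Lib.Helper18.CycleTypeAux

/-- A prime dividing the lcm of a multiset divides one of its members. -/
theorem exists_dvd_of_prime_dvd_lcm {r : ℕ} (hr : r.Prime) (m : Multiset ℕ) (h : r ∣ m.lcm) :
    ∃ a ∈ m, r ∣ a := by
  induction m using Multiset.induction_on with
  | empty =>
    rw [Multiset.lcm_zero] at h
    exact absurd (Nat.dvd_one.mp h) hr.ne_one
  | cons a s ih =>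
    rw [Multiset.lcm_cons] at h
    have h1 : r ∣ a * s.lcm := dvd_trans h (Nat.lcm_dvd_mul a s.lcm)
    rcases (Nat.Prime.dvd_mul hr).mp h1 with h2 | h2
    · exact ⟨a, Multiset.mem_cons_self a s, h2⟩
    · obtain ⟨b, hb, hrb⟩ := ih h2
      exact ⟨b, Multiset.mem_cons_of_mem hb, hrb⟩

theorem le_sum_of_mem {m : Multiset ℕ} {a : ℕ} (ha : a ∈ m) : a ≤ m.sum :=
  Multiset.single_le_sum (fun _ _ => Nat.zero_le _) a ha

theorem add_le_sum_of_mem_of_ne {m : Multiset ℕ} {a b : ℕ} (ha : a ∈ m) (hb : b ∈ m)
    (hab : a ≠ b) : a + b ≤ m.sum := by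
  obtain ⟨m', rfl⟩ := Multiset.exists_cons_of_mem ha
  have hb' : b ∈ m' := by
    rcases Multiset.mem_cons.mp hb with h | h
    · exact absurd h.symm hab
    · exact h
  rw [Multiset.sum_cons]
  have := le_sum_of_mem hb'
  omega

/-- The sign of a permutation through the number of even cycles. -/
theorem prod_sign_eq (m : Multiset ℕ) :
    (m.map fun n => -(-1 : ℤˣ) ^ n).prod = (-1) ^ (Multiset.card (m.filter fun n => Even n)) := by
  induction m using Multiset.induction_on with
  | empty => simp
  | cons a s ih =>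
    rw [Multiset.map_cons, Multiset.prod_cons, ih]
    by_cases ha : Even a
    · rw [Multiset.filter_cons_of_pos _ ha, Multiset.card_cons, pow_succ, ha.neg_one_pow]
      simp
    · rw [Multiset.filter_cons_of_neg _ ha]
      have : Odd a := Nat.not_even_iff_odd.mp ha
      rw [this.neg_one_pow]
      simp

end Cfsg.Agent.Lib.Helper18.CycleTypeAux
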