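import Mathlib
import Cfsg.Prelude.Def_CaseTheorems
import Cfsg.Prelude.Def_PLocal
import Cfsg.Prelude.Def_Transfer
import Cfsg.Agent.Lib.Lead.CyclicMax
import Cfsg.Agent.Lib.Lead.QuatIso
import Cfsg.Agent.Lib.Lead.Taussky
import Cfsg.Agent.Lib.Lead.NormalAbelianCyclic
import Cfsg.Agent.Lib.Lead.OmegaOne
import Cfsg.Agent.Lib.Helper24.DihIso

/-! # p-groups with a self-centralizing cyclic normal subgroup (Gorenstein 5.4.8) -/

set_option autoImplicit false
set_option linter.style.haveILetI false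
set_option linter.unusedSectionVars false

namespace Cfsg.Agent.Lib.Helper18.CyclicSelfCent

open Subgroup
open Cfsg.Agent.Lib.Lead.CyclicMax

section Recognition

variable {P : Type*} [Group P] [Finite P]

/-- Recognition of dihedral, generalized quaternion and semidihedral groups from generators. -/
theorem dqsd_of_gens (n : ℕ) (hn3 : 3 ≤ n) (hcard : Nat.card P = 2 ^ n) (a b : P)
    (hoa : orderOf a = 2 ^ (n - 1)) (hb : b ∉ zpowers a) (hidx : (zpowers a).index = 2)
    (hrel : (b ^ 2 = 1 ∧ b * a * b⁻¹ = a⁻¹) ∨ (b ^ 2 = a ^ (2 ^ (n - 2)) ∧ b * a * b⁻¹ = a⁻¹) ∨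
        (4 ≤ n ∧ b ^ 2 = 1 ∧ b * a * b⁻¹ = a ^ (2 ^ (n - 2) - 1))) :
    (∃ m : ℕ, Nonempty (P ≃* DihedralGroup m)) ∨ (∃ m : ℕ, Nonempty (P ≃* QuaternionGroup m)) ∨
      Cfsg.IsQuasiDihedral P := by
  have hb1 : b ≠ 1 := by
    intro h
    apply hb
    rw [h]
    exact one_mem _
  rcases hrel with ⟨hb2, hinv⟩ | ⟨hb2, hinv⟩ | ⟨h4, hb2, hsd⟩
  · -- dihedral
    left
    refine ⟨2 ^ (n - 1), ?_⟩
    have hbb : b * b = 1 := by rw [← pow_two]; exact hb2
    have hbinv : b⁻¹ = b := inv_eq_of_mul_eq_one_left hbb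
    have hos : orderOf b = 2 := orderOf_eq_prime hb2 hb1
    have hba1 : b * a ≠ 1 := by
      intro h
      apply hb
      have : b = a⁻¹ := eq_inv_of_mul_eq_one_left h
      rw [this]
      exact inv_mem (Subgroup.mem_zpowers a)
    have hba2 : (b * a) ^ 2 = 1 := by
      rw [pow_two]
      calc b * a * (b * a) = (b * a * b⁻¹) * (b * b) * a := by group
        _ = 1 := by rw [hinv, hbb]; group
    have hot : orderOf (b * a) = 2 := orderOf_eq_prime hba2 hba1
    have hst : b * (b * a) = a := by rw [← mul_assoc, hbb, one_mul]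
    have htop := Cfsg.Agent.Lib.Lead.Taussky.closure_pair_eq_top Nat.prime_two hidx hb
    have hcl : Subgroup.closure ({b, b * a} : Set P) = ⊤ := by
      rw [eq_top_iff, ← htop, Subgroup.closure_le]
      have h1 : b ∈ Subgroup.closure ({b, b * a} : Set P) :=
        Subgroup.subset_closure (Set.mem_insert _ _)
      have h2 : b * a ∈ Subgroup.closure ({b, b * a} : Set P) :=
        Subgroup.subset_closure (Set.mem_insert_of_mem _ rfl)
      have h3 : a ∈ Subgroup.closure ({b, b * a} : Set P) := by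
        have := mul_mem (inv_mem h1) h2
        simpa using this
      rintro x (hx | hx)
      · rw [hx]
        exact h3
      · rw [Set.mem_singleton_iff] at hx
        rw [hx]
        exact h1
    have hD := Cfsg.Agent.Lib.Helper24.closure_pair_equiv_dihedral hos hot
    rw [hst, hoa] at hD
    obtain ⟨e⟩ := hD
    exact ⟨(Subgroup.topEquiv.symm.trans (MulEquiv.subgroupCongr hcl.symm)).trans e⟩
  · -- quaternion
    right; left
    refine ⟨2 ^ (n - 2), ?_⟩
    haveI : NeZero (2 ^ (n - 2)) := ⟨by positivity⟩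
    apply Cfsg.Agent.Lib.Lead.QuatIso.nonempty_mulEquiv_quaternionGroup (N := 2 ^ (n - 2)) _ hb2 hinv hb
    · rw [hcard]
      have : (4 : ℕ) = 2 ^ 2 := by norm_num
      rw [this, ← pow_add]
      congr 1
      omega
    · rw [hoa, ← pow_succ']
      congr 1
      omega
  · -- semidihedral
    right; right
    refine ⟨n - 1, by omega, ?_, a, b, hoa, orderOf_eq_prime hb2 hb1, ?_⟩
    · rw [hcard]
      congr 1
      omega
    · have : n - 1 - 1 = n - 2 := by omega
      rw [this]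
      exact hsd

end Recognition

section Core

variable {G : Type*} [Group G] [Finite G] {p : ℕ} [hp : Fact p.Prime]

/-- The standing hypotheses: `G` a `p`-group, `⟨a⟩` normal, self-centralizing, of order `p ^ n`,
and proper. -/
structure Setup (p : ℕ) (a : G) (n : ℕ) : Prop where
  hG : IsPGroup p G
  hoa : orderOf a = p ^ n
  hnorm : (zpowers a).Normal
  hcent : ∀ x : G, x * a = a * x → x ∈ zpowers a
  hne : ∃ g : G, g ∉ zpowers a

variable {a : G} {n : ℕ}

theorem Setup.exists_conj (S : Setup p a n) (g : G) : ∃ r : ℤ, g * a * g⁻¹ = a ^ r := by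
  obtain ⟨r, hr⟩ := mem_zpowers_iff.mp (S.hnorm.conj_mem a (mem_zpowers a) g)
  exact ⟨r, hr.symm⟩

theorem Setup.hoa' (S : Setup p a n) : orderOf a = ((p ^ n : ℕ)) := S.hoa

theorem Setup.mem_iff (S : Setup p a n) {g : G} {r : ℤ} (h : g * a * g⁻¹ = a ^ r) :
    g ∈ zpowers a ↔ (p : ℤ) ^ n ∣ r - 1 := by
  constructor
  · intro hg
    obtain ⟨i, rfl⟩ := mem_zpowers_iff.mp hg
    have h1 : a ^ i * a * (a ^ i)⁻¹ = a := by
      have : Commute (a ^ i) a := (Commute.refl a).zpow_left i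
      rw [this.eq]; group
    rw [h1] at h
    have h2 : a ^ r = a ^ (1 : ℤ) := by rw [zpow_one]; exact h.symm
    have := dvd_sub_of_zpow_eq S.hoa h2
    exact_mod_cast this
  · intro hd
    apply S.hcent
    have h2 : a ^ r = a ^ (1 : ℤ) := by
      apply zpow_eq_of_dvd_sub S.hoa
      exact_mod_cast hd
    rw [zpow_one] at h2
    calc g * a = (g * a * g⁻¹) * g := by group
      _ = a * g := by rw [h, h2]

theorem Setup.comm_pow_iff (S : Setup p a n) {g : G} {r : ℤ} (h : g * a * g⁻¹ = a ^ r) :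
    g * a ^ p = a ^ p * g ↔ (p : ℤ) ^ n ∣ p * (r - 1) := by
  have h1 : g * a ^ p * g⁻¹ = a ^ ((p : ℤ) * r) := by
    have := conj_zpow_of_conj h (p : ℤ)
    rwa [zpow_natCast] at this
  constructor
  · intro hc
    have h2 : g * a ^ p * g⁻¹ = a ^ p := by rw [hc]; group
    rw [h2, ← zpow_natCast] at h1
    have := dvd_sub_of_zpow_eq S.hoa h1
    have e : (p : ℤ) * (r - 1) = -((p : ℤ) - p * r) := by ring
    rw [e, dvd_neg]
    exact_mod_cast this
  · intro hd
    have h2 : a ^ ((p : ℤ) * r) = a ^ ((p : ℕ) : ℤ) := by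
      apply zpow_eq_of_dvd_sub S.hoa
      have e : (p : ℤ) * r - (p : ℕ) = (p : ℤ) * (r - 1) := by push_cast; ring
      rw [e]
      exact_mod_cast hd
    rw [zpow_natCast] at h2
    calc g * a ^ p = (g * a ^ p * g⁻¹) * g := by group
      _ = a ^ p * g := by rw [h1, h2]

/-- `a` is not central. -/
theorem Setup.two_le (S : Setup p a n) : 2 ≤ n := by
  obtain ⟨g, hg⟩ := S.hne
  by_contra hlt
  apply hg
  apply S.hcent
  have hn : n = 0 ∨ n = 1 := by omega
  rcases hn with rfl | rfl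
  · have := S.hoa
    rw [pow_zero, orderOf_eq_one_iff] at this
    rw [this]; simp
  · -- `⟨a⟩` has order `p`, hence is central
    haveI := S.hnorm
    have hane : zpowers a ≠ ⊥ := by
      intro h
      have := S.hoa
      rw [pow_one] at this
      have h1 : a = 1 := by
        have : a ∈ zpowers a := mem_zpowers a
        rwa [h, mem_bot] at this
      rw [h1, orderOf_one] at this
      exact hp.out.one_lt.ne this
    obtain ⟨z, hzU, hz1, hzc⟩ :=
      Cfsg.Agent.Lib.Lead.UniqueOrderP.exists_central_of_normal S.hG (zpowers a) hane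
    have hcard : Nat.card (zpowers a) = p := by rw [Nat.card_zpowers, S.hoa, pow_one]
    haveI : Fact (Nat.card (zpowers a)).Prime := by rw [hcard]; exact hp
    have hzz : zpowers z = zpowers a := by
      have hle : zpowers z ≤ zpowers a := zpowers_le.mpr hzU
      have h1 : (zpowers z).subgroupOf (zpowers a) = ⊤ := by
        rcases Subgroup.eq_bot_or_eq_top_of_prime_card ((zpowers z).subgroupOf (zpowers a)) with h | h
        · exfalso
          apply hz1
          have : (⟨z, hzU⟩ : zpowers a) ∈ (zpowers z).subgroupOf (zpowers a) := by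
            rw [mem_subgroupOf]; exact mem_zpowers z
          rw [h, mem_bot] at this
          exact congrArg Subtype.val this
        · exact h
      rw [subgroupOf_eq_top] at h1
      exact le_antisymm hle h1
    have haz : a ∈ zpowers z := by rw [hzz]; exact mem_zpowers a
    obtain ⟨k, rfl⟩ := mem_zpowers_iff.mp haz
    have : Commute g z := (mem_center_iff.mp hzc g)
    exact (this.zpow_right k).eq

end Core

section Powers

variable {G : Type*} [Group G] {p : ℕ}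

/-- In a `p`-group, an element outside a subgroup `H` has a `p`-power-th power outside `H` whose
`p`-th power lies in `H`; more generally for any predicate `Q` holding at `1`. -/
theorem exists_pow_not_and_pow (hG : IsPGroup p G) (Q : G → Prop) (h1 : Q 1) {g₀ : G}
    (h : ¬ Q g₀) : ∃ k : ℕ, ¬ Q (g₀ ^ p ^ k) ∧ Q ((g₀ ^ p ^ k) ^ p) := by
  classical
  have hex : ∃ k, Q (g₀ ^ p ^ k) := by
    obtain ⟨k, hk⟩ := hG g₀
    exact ⟨k, by rw [hk]; exact h1⟩
  have hk0 : Nat.find hex ≠ 0 := by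
    intro h0
    have := Nat.find_spec hex
    rw [h0, pow_zero, pow_one] at this
    exact h this
  refine ⟨Nat.find hex - 1, Nat.find_min hex (by omega), ?_⟩
  rw [← pow_mul, ← pow_succ]
  have : Nat.find hex - 1 + 1 = Nat.find hex := by omega
  rw [this]
  exact Nat.find_spec hex

end Powers

section TwoCase

variable {G : Type*} [Group G] [Finite G] {a : G} {n : ℕ}

instance : Fact (Nat.Prime 2) := ⟨Nat.prime_two⟩

/-- For `g ∉ ⟨a⟩` with `g ^ 2 ∈ ⟨a⟩`: the trichotomy for the conjugation exponent. -/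
theorem Setup.trichotomy (S : Setup 2 a n) {g : G} {r : ℤ} (h : g * a * g⁻¹ = a ^ r)
    (hg : g ∉ zpowers a) (hg2 : g ^ 2 ∈ zpowers a) :
    (2 : ℤ) ^ n ∣ r + 1 ∨ (3 ≤ n ∧ (2 : ℤ) ^ n ∣ r - (1 + 2 ^ (n - 1))) ∨
      (3 ≤ n ∧ (2 : ℤ) ^ n ∣ r - (-1 + 2 ^ (n - 1))) := by
  have hr1 : ¬ ((2 : ℤ) ^ n ∣ r - 1) := by
    intro hd
    apply hg
    have := (S.mem_iff h).mpr (by exact_mod_cast hd)
    exact this
  have hr2 : (2 : ℤ) ^ n ∣ r ^ 2 - 1 := by
    have h1 := pow_conj_of_conj h 2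
    have h2 : (2 : ℤ) ^ n ∣ r ^ 2 - 1 := by
      have := (S.mem_iff h1).mp hg2
      exact_mod_cast this
    exact h2
  exact two_trichotomy S.two_le hr1 hr2

/-- If `n = 2`, every element outside `⟨a⟩` inverts `a`, and `⟨a⟩` has index 2. -/
theorem Setup.index_of_eq_two (S : Setup 2 a 2) : (zpowers a).index = 2 := by
  have hoa : orderOf a = 4 := by rw [S.hoa]; norm_num
  have ha4 : a ^ (4 : ℤ) = 1 := by
    have := pow_orderOf_eq_one a
    rw [hoa] at this
    exact_mod_cast this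
  have hinv : ∀ h : G, h ∉ zpowers a → (4 : ℤ) ∣ (Classical.choose (S.exists_conj h)) + 1 := by
    intro h hh
    set r := Classical.choose (S.exists_conj h) with hr
    have hconj : h * a * h⁻¹ = a ^ r := Classical.choose_spec (S.exists_conj h)
    have h1 : ¬ ((4 : ℤ) ∣ r - 1) := by
      intro hd
      apply hh
      have := (S.mem_iff hconj).mpr (by norm_num; exact hd)
      exact this
    -- `r` is odd
    have hodd : ¬ ((2 : ℤ) ∣ r) := by
      rintro ⟨k, hk⟩
      have h2 : h * a ^ (2 : ℤ) * h⁻¹ = a ^ ((2 : ℤ) * r) := conj_zpow_of_conj hconj 2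
      have h3 : a ^ ((2 : ℤ) * r) = 1 := by
        rw [hk]
        have e : (2 : ℤ) * (2 * k) = 4 * k := by ring
        rw [e, zpow_mul, ha4, one_zpow]
      rw [h3] at h2
      have h4 : a ^ (2 : ℤ) = 1 := by
        have : a ^ (2 : ℤ) = h⁻¹ * (h * a ^ (2 : ℤ) * h⁻¹) * h := by group
        rw [this, h2]; group
      have h5 : a ^ 2 = 1 := by exact_mod_cast h4
      have := orderOf_dvd_of_pow_eq_one h5
      rw [hoa] at this
      omega
    omega
  obtain ⟨g₁, hg₁⟩ := S.hne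
  rw [Subgroup.index_eq_two_iff]
  refine ⟨g₁⁻¹, fun b => ?_⟩
  have hU := S.hnorm
  by_cases hb : b ∈ zpowers a
  · refine Or.inr ⟨hb, ?_⟩
    intro h1
    apply hg₁
    have : g₁⁻¹ ∈ zpowers a := by
      have := (zpowers a).mul_mem ((zpowers a).inv_mem hb) h1
      simpa using this
    simpa using (zpowers a).inv_mem this
  · refine Or.inl ⟨?_, hb⟩
    -- `b g₁⁻¹` centralizes `a`
    set r := Classical.choose (S.exists_conj b) with hr
    have hconj : b * a * b⁻¹ = a ^ r := Classical.choose_spec (S.exists_conj b)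
    have hrb := hinv b hb
    rw [← hr] at hrb
    set r₁ := Classical.choose (S.exists_conj g₁) with hr₁
    have hconj₁ : g₁ * a * g₁⁻¹ = a ^ r₁ := Classical.choose_spec (S.exists_conj g₁)
    have hrg := hinv g₁ hg₁
    rw [← hr₁] at hrg
    -- `g₁⁻¹ a g₁ = a ^ r₁` as well, since `r₁² ≡ 1`
    have h2 : g₁⁻¹ * a * g₁ = a ^ r₁ := by
      have h3 : g₁ * a ^ r₁ * g₁⁻¹ = a ^ (r₁ * r₁) := conj_zpow_of_conj hconj₁ r₁
      have h4 : a ^ (r₁ * r₁) = a := by
        have : a ^ (r₁ * r₁) = a ^ (1 : ℤ) := by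
          apply zpow_eq_of_dvd_sub hoa
          obtain ⟨k, hk⟩ := hrg
          refine ⟨k * (r₁ - 1), ?_⟩
          have : r₁ = 4 * k - 1 := by linarith
          push_cast
          rw [this]; ring
        rw [this, zpow_one]
      rw [h4] at h3
      calc g₁⁻¹ * a * g₁ = g₁⁻¹ * (g₁ * a ^ r₁ * g₁⁻¹) * g₁ := by rw [h3]
        _ = a ^ r₁ := by group
    apply S.hcent
    have h5 : (b * g₁⁻¹) * a * (b * g₁⁻¹)⁻¹ = a := by
      calc (b * g₁⁻¹) * a * (b * g₁⁻¹)⁻¹ = b * (g₁⁻¹ * a * g₁) * b⁻¹ := by group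
        _ = b * a ^ r₁ * b⁻¹ := by rw [h2]
        _ = a ^ (r₁ * r) := conj_zpow_of_conj hconj r₁
        _ = a ^ (1 : ℤ) := by
            apply zpow_eq_of_dvd_sub hoa
            obtain ⟨k, hk⟩ := hrg
            obtain ⟨l, hl⟩ := hrb
            refine ⟨4 * k * l - k - l, ?_⟩
            have e1 : r₁ = 4 * k - 1 := by linarith
            have e2 : r = 4 * l - 1 := by linarith
            push_cast
            rw [e1, e2]; ring
        _ = a := zpow_one a
    calc b * g₁⁻¹ * a = ((b * g₁⁻¹) * a * (b * g₁⁻¹)⁻¹) * (b * g₁⁻¹) := by group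
      _ = a * (b * g₁⁻¹) := by rw [h5]

/-- If `g ^ 2 ∈ ⟨a⟩` then `g⁻¹` acts on `a` like `g`. -/
theorem Setup.inv_conj (S : Setup 2 a n) {g : G} {r : ℤ} (h : g * a * g⁻¹ = a ^ r)
    (hg2 : g ^ 2 ∈ zpowers a) : g⁻¹ * a * g = a ^ r := by
  obtain ⟨i, hi⟩ := mem_zpowers_iff.mp hg2
  have h1 : (g ^ 2)⁻¹ * a * g ^ 2 = a := by
    rw [← hi]
    have : Commute (a ^ i) a := (Commute.refl a).zpow_left i
    calc (a ^ i)⁻¹ * a * a ^ i = (a ^ i)⁻¹ * (a * a ^ i) := by group
      _ = (a ^ i)⁻¹ * (a ^ i * a) := by rw [this.eq]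
      _ = a := by group
  calc g⁻¹ * a * g = g * ((g ^ 2)⁻¹ * a * g ^ 2) * g⁻¹ := by rw [pow_two]; group
    _ = g * a * g⁻¹ := by rw [h1]
    _ = a ^ r := h

/-- Lemma K: if `C_G(a²) = ⟨a⟩` then the elements of order 2 modulo `⟨a⟩` act as `-1` modulo
`2 ^ (n - 1)`. -/
theorem Setup.exponent_of_M (S : Setup 2 a n)
    (hM : ∀ x : G, x * a ^ 2 = a ^ 2 * x → x ∈ zpowers a) {g : G} {r : ℤ}
    (h : g * a * g⁻¹ = a ^ r) (hg : g ∉ zpowers a) (hg2 : g ^ 2 ∈ zpowers a) :
    (2 : ℤ) ^ (n - 1) ∣ r + 1 := by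
  have hn := S.two_le
  have e : (2 : ℤ) ^ n = 2 * 2 ^ (n - 1) := by
    rw [← pow_succ']; congr 1; omega
  rcases S.trichotomy h hg hg2 with h1 | ⟨-, h1⟩ | ⟨-, h1⟩
  · exact dvd_trans ⟨2, by rw [e]; ring⟩ h1
  · exfalso
    apply hg
    apply hM
    rw [S.comm_pow_iff h]
    obtain ⟨k, hk⟩ := h1
    refine ⟨2 * k + 1, ?_⟩
    push_cast
    have : r = 1 + 2 ^ (n - 1) + 2 ^ n * k := by linarith
    rw [this, e]; ring
  · obtain ⟨k, hk⟩ := h1
    refine ⟨2 * k + 1, ?_⟩
    have : r = -1 + 2 ^ (n - 1) + 2 ^ n * k := by linarith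
    rw [this, e]; ring

/-- If `C_G(a²) = ⟨a⟩` (and `3 ≤ n`) then `⟨a⟩` has index 2. -/
theorem Setup.index_of_M (S : Setup 2 a n) (hn3 : 3 ≤ n)
    (hM : ∀ x : G, x * a ^ 2 = a ^ 2 * x → x ∈ zpowers a) : (zpowers a).index = 2 := by
  have e : (2 : ℤ) ^ n = 2 * 2 ^ (n - 1) := by
    rw [← pow_succ']; congr 1; omega
  have e4 : (2 : ℤ) ^ (n - 1) = 4 * 2 ^ (n - 3) := by
    have : (4 : ℤ) = 2 ^ 2 := by norm_num
    rw [this, ← pow_add]; congr 1; omega
  obtain ⟨g₀, hg₀⟩ := S.hne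
  obtain ⟨k₀, hk₀, hk₀'⟩ := exists_pow_not_and_pow S.hG (fun x => x ∈ zpowers a) (one_mem _) hg₀
  set g₁ := g₀ ^ 2 ^ k₀ with hg₁def
  have hg₁ : g₁ ∉ zpowers a := hk₀
  have hg₁2 : g₁ ^ 2 ∈ zpowers a := hk₀'
  obtain ⟨r₁, hr₁⟩ := S.exists_conj g₁
  have hK₁ := S.exponent_of_M hM hr₁ hg₁ hg₁2
  have hinv₁ := S.inv_conj hr₁ hg₁2
  have claim : ∀ h : G, h ∈ zpowers a ∨ h * g₁⁻¹ ∈ zpowers a := by
    intro h
    by_contra hQ
    obtain ⟨k, hk, hk'⟩ := exists_pow_not_and_pow S.hG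
      (fun x => x ∈ zpowers a ∨ x * g₁⁻¹ ∈ zpowers a) (Or.inl (one_mem _)) hQ
    set h' := h ^ 2 ^ k with hh'
    push Not at hk
    obtain ⟨hk1, hk2⟩ := hk
    obtain ⟨s, hs⟩ := S.exists_conj h'
    rcases hk' with hsq | hsq
    · -- `h'² ∈ ⟨a⟩`
      have hK := S.exponent_of_M hM hs hk1 hsq
      apply hk2
      apply hM
      have hx : (h' * g₁⁻¹) * a * (h' * g₁⁻¹)⁻¹ = a ^ (r₁ * s) := by
        calc (h' * g₁⁻¹) * a * (h' * g₁⁻¹)⁻¹ = h' * (g₁⁻¹ * a * g₁) * h'⁻¹ := by group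
          _ = h' * a ^ r₁ * h'⁻¹ := by rw [hinv₁]
          _ = a ^ (r₁ * s) := conj_zpow_of_conj hs r₁
      rw [S.comm_pow_iff hx]
      obtain ⟨u, hu⟩ := hK₁
      obtain ⟨v, hv⟩ := hK
      refine ⟨2 ^ (n - 1) * u * v - u - v, ?_⟩
      have e1 : r₁ = 2 ^ (n - 1) * u - 1 := by linarith
      have e2 : s = 2 ^ (n - 1) * v - 1 := by linarith
      push_cast
      rw [e1, e2, e]; ring
    · -- `h'² ∈ ⟨a⟩ g₁`
      exfalso
      obtain ⟨i, hi⟩ := mem_zpowers_iff.mp hsq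
      have h1 : h' ^ 2 * a * (h' ^ 2)⁻¹ = a ^ (s ^ 2) := pow_conj_of_conj hs 2
      have h2 : h' ^ 2 = a ^ i * g₁ := by rw [hi]; group
      have h3 : h' ^ 2 * a * (h' ^ 2)⁻¹ = a ^ r₁ := by
        rw [h2]
        calc a ^ i * g₁ * a * (a ^ i * g₁)⁻¹ = a ^ i * (g₁ * a * g₁⁻¹) * (a ^ i)⁻¹ := by group
          _ = a ^ i * a ^ r₁ * (a ^ i)⁻¹ := by rw [hr₁]
          _ = a ^ r₁ := by
              have : Commute (a ^ i) (a ^ r₁) := ((Commute.refl a).zpow_left i).zpow_right r₁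
              rw [this.eq]; group
      rw [h3] at h1
      have h4 := dvd_sub_of_zpow_eq S.hoa h1
      push_cast at h4
      -- `4 ∣ s² + 1`
      have h5 : (4 : ℤ) ∣ s ^ 2 + 1 := by
        obtain ⟨u, hu⟩ := hK₁
        obtain ⟨v, hv⟩ := h4
        refine ⟨2 ^ (n - 3) * u - 2 * 2 ^ (n - 3) * v, ?_⟩
        have e1 : r₁ = 2 ^ (n - 1) * u - 1 := by linarith
        have e2 : s ^ 2 = r₁ - 2 ^ n * v := by linarith
        rw [e2, e1, e, e4]; ring
      rcases Int.even_or_odd' s with ⟨t, rfl | rfl⟩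
      · obtain ⟨w, hw⟩ := h5
        have : (2 * t) ^ 2 + 1 = 4 * (t * t) + 1 := by ring
        rw [this] at hw
        omega
      · obtain ⟨w, hw⟩ := h5
        have : (2 * t + 1) ^ 2 + 1 = 4 * (t * t + t) + 2 := by ring
        rw [this] at hw
        omega
  rw [Subgroup.index_eq_two_iff]
  refine ⟨g₁⁻¹, fun b => ?_⟩
  by_cases hb : b ∈ zpowers a
  · refine Or.inr ⟨hb, ?_⟩
    intro h1
    apply hg₁
    have : g₁⁻¹ ∈ zpowers a := by
      have := (zpowers a).mul_mem ((zpowers a).inv_mem hb) h1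
      simpa using this
    simpa using (zpowers a).inv_mem this
  · rcases claim b with h1 | h1
    · exact absurd h1 hb
    · exact Or.inl ⟨h1, hb⟩

/-- Conclusion (A): `G` is dihedral, generalized quaternion or semidihedral of order `2 ^ (n+1)`. -/
theorem Setup.conclusion_A (S : Setup 2 a n) (hidx : (zpowers a).index = 2)
    (hmod : n = 2 ∨ ∀ x : G, x * a ^ 2 = a ^ 2 * x → x ∈ zpowers a) :
    Nat.card G = 2 ^ (n + 1) ∧ ((∃ m : ℕ, Nonempty (G ≃* DihedralGroup m)) ∨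
      (∃ m : ℕ, Nonempty (G ≃* QuaternionGroup m)) ∨ Cfsg.IsQuasiDihedral G) := by
  have hn := S.two_le
  have hcard : Nat.card G = 2 ^ (n + 1) := by
    have := Subgroup.card_mul_index (zpowers a)
    rw [hidx, Nat.card_zpowers, S.hoa] at this
    rw [← this, pow_succ]
  refine ⟨hcard, ?_⟩
  have hna : ∃ x y : G, x * y ≠ y * x := by
    obtain ⟨g, hg⟩ := S.hne
    exact ⟨g, a, fun h => hg (S.hcent g h)⟩
  obtain ⟨a', b, hoa', hC, hb, hcases⟩ := exists_gens_two (n + 1) (by omega) hcard (zpowers a)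
    inferInstance hidx hna
  have e1 : n + 1 - 1 = n := by omega
  have e2 : n + 1 - 2 = n - 1 := by omega
  rw [e1] at hoa'
  rw [e2] at hcases
  have hidx' : (zpowers a').index = 2 := by rw [← hC]; exact hidx
  have hnotmod : ¬ (4 ≤ n + 1 ∧ b ^ 2 = 1 ∧ b * a' * b⁻¹ = a' ^ (1 + 2 ^ (n - 1))) := by
    rintro ⟨h4, -, hconj⟩
    rcases hmod with h2 | hM
    · omega
    · apply hb
      rw [← hC]
      apply hM
      have haa' : a ∈ zpowers a' := by rw [← hC]; exact mem_zpowers a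
      obtain ⟨i, hi⟩ := mem_zpowers_iff.mp haa'
      -- `b` commutes with `a'²`
      have h1 : b * a' ^ 2 * b⁻¹ = a' ^ 2 := by
        have : b * a' ^ 2 * b⁻¹ = (b * a' * b⁻¹) ^ 2 := by rw [pow_two, pow_two]; group
        rw [this, hconj, ← pow_mul]
        have e : (1 + 2 ^ (n - 1)) * 2 = 2 + 2 ^ n := by
          have : 2 ^ n = 2 ^ (n - 1) * 2 := by rw [← pow_succ]; congr 1; omega
          rw [this]; ring
        rw [e, pow_add, ← hoa', pow_orderOf_eq_one, mul_one]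
      have h2 : Commute b (a' ^ 2) := by
        change b * a' ^ 2 = a' ^ 2 * b
        calc b * a' ^ 2 = (b * a' ^ 2 * b⁻¹) * b := by group
          _ = a' ^ 2 * b := by rw [h1]
      have h3 : a ^ 2 = (a' ^ 2) ^ i := by
        rw [← hi, ← zpow_natCast, ← zpow_natCast, ← zpow_mul, ← zpow_mul, mul_comm]
      rw [h3]
      exact (h2.zpow_right i).eq
  apply dqsd_of_gens (n + 1) (by omega) hcard a' b (by rw [e1]; exact hoa') hb hidx'
  rw [e2]
  rcases hcases with h | h | h | h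
  · exact Or.inl h
  · exact Or.inr (Or.inl h)
  · exact absurd h hnotmod
  · exact Or.inr (Or.inr h)

end TwoCase

section BranchB

variable {G : Type*} [Group G] [Finite G] {p : ℕ} [hp : Fact p.Prime] {a : G} {n : ℕ}

/-- `M = C_G(a ^ p)`. -/
def MM (p : ℕ) (a : G) : Subgroup G := centralizer (zpowers (a ^ p) : Set G)

theorem mem_MM {g : G} : g ∈ MM p a ↔ g * a ^ p = a ^ p * g := by
  rw [MM, mem_centralizer_iff]
  constructor
  · intro h
    exact (h (a ^ p) (mem_zpowers _)).symm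
  · intro h x hx
    obtain ⟨i, rfl⟩ := mem_zpowers_iff.mp hx
    have : Commute g (a ^ p) := h
    exact (this.zpow_right i).eq.symm

theorem zpowers_le_MM : zpowers a ≤ MM p a := by
  rw [zpowers_le, mem_MM]
  exact ((Commute.refl a).pow_right p).eq

/-- The exponent of an element of `M` is `≡ 1` modulo `p ^ (n - 1)`. -/
theorem Setup.exponent_of_mem_MM (S : Setup p a n) {g : G} {r : ℤ} (h : g * a * g⁻¹ = a ^ r)
    (hg : g ∈ MM p a) : (p : ℤ) ^ (n - 1) ∣ r - 1 := by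
  have hn := S.two_le
  have h1 := (S.comm_pow_iff h).mp (mem_MM.mp hg)
  have e : (p : ℤ) ^ n = p * p ^ (n - 1) := by
    rw [← pow_succ']; congr 1; omega
  rw [e] at h1
  exact (mul_dvd_mul_iff_left (by exact_mod_cast hp.out.ne_zero)).mp h1

/-- The map `g ↦ a⁻¹ g a g⁻¹` on `M`. -/
noncomputable def phi (S : Setup p a n) : MM p a →* G where
  toFun g := a⁻¹ * (g : G) * a * (g : G)⁻¹
  map_one' := by simp
  map_mul' g h := by
    obtain ⟨r, hr⟩ := S.exists_conj (h : G)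
    have hd := S.exponent_of_mem_MM hr h.2
    have hn := S.two_le
    have hpd : (p : ℤ) ∣ r - 1 := dvd_trans (dvd_pow_self (p : ℤ) (by omega)) hd
    obtain ⟨c, hc⟩ := hpd
    have h1 : a⁻¹ * (h : G) * a * (h : G)⁻¹ = (a ^ p) ^ c := by
      calc a⁻¹ * (h : G) * a * (h : G)⁻¹ = a⁻¹ * ((h : G) * a * (h : G)⁻¹) := by group
        _ = a⁻¹ * a ^ r := by rw [hr]
        _ = a ^ (r - 1) := by rw [zpow_sub, zpow_one]; group
        _ = (a ^ p) ^ c := by rw [hc, ← zpow_natCast a p, ← zpow_mul]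
    have h2 : Commute (g : G) ((a ^ p) ^ c) := by
      have : Commute (g : G) (a ^ p) := mem_MM.mp g.2
      exact this.zpow_right c
    simp only [Subgroup.coe_mul]
    calc a⁻¹ * ((g : G) * (h : G)) * a * ((g : G) * (h : G))⁻¹
        = a⁻¹ * (g : G) * a * ((a⁻¹ * (h : G) * a * (h : G)⁻¹) * (g : G)⁻¹) := by group
      _ = a⁻¹ * (g : G) * a * ((a ^ p) ^ c * (g : G)⁻¹) := by rw [h1]
      _ = a⁻¹ * (g : G) * a * ((g : G)⁻¹ * (a ^ p) ^ c) := by rw [(h2.inv_left).eq]
      _ = a⁻¹ * (g : G) * a * (g : G)⁻¹ * (a⁻¹ * (h : G) * a * (h : G)⁻¹) := by rw [h1]; group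

theorem phi_apply (S : Setup p a n) (g : MM p a) :
    phi S g = a⁻¹ * (g : G) * a * (g : G)⁻¹ := rfl

theorem phi_ker (S : Setup p a n) : (phi S).ker = (zpowers a).subgroupOf (MM p a) := by
  ext g
  rw [MonoidHom.mem_ker, phi_apply, mem_subgroupOf]
  constructor
  · intro h
    apply S.hcent
    have : (g : G) * a * (g : G)⁻¹ = a := by
      calc (g : G) * a * (g : G)⁻¹ = a * (a⁻¹ * (g : G) * a * (g : G)⁻¹) := by group
        _ = a := by rw [h, mul_one]
    calc (g : G) * a = ((g : G) * a * (g : G)⁻¹) * (g : G) := by group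
      _ = a * (g : G) := by rw [this]
  · intro h
    obtain ⟨i, hi⟩ := mem_zpowers_iff.mp h
    rw [← hi]
    have : Commute (a ^ i) a := (Commute.refl a).zpow_left i
    calc a⁻¹ * a ^ i * a * (a ^ i)⁻¹ = a⁻¹ * (a ^ i * a) * (a ^ i)⁻¹ := by group
      _ = a⁻¹ * (a * a ^ i) * (a ^ i)⁻¹ := by rw [this.eq]
      _ = 1 := by group

theorem phi_mem (S : Setup p a n) (g : MM p a) : phi S g ∈ zpowers a ∧ (phi S g) ^ p = 1 := by
  obtain ⟨r, hr⟩ := S.exists_conj (g : G)
  have hd := (S.comm_pow_iff hr).mp (mem_MM.mp g.2)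
  have h1 : phi S g = a ^ (r - 1) := by
    rw [phi_apply]
    calc a⁻¹ * (g : G) * a * (g : G)⁻¹ = a⁻¹ * ((g : G) * a * (g : G)⁻¹) := by group
      _ = a⁻¹ * a ^ r := by rw [hr]
      _ = a ^ (r - 1) := by rw [zpow_sub, zpow_one]; group
  refine ⟨by rw [h1]; exact zpow_mem (mem_zpowers a) _, ?_⟩
  rw [h1, ← zpow_natCast, ← zpow_mul]
  have : a ^ ((r - 1) * (p : ℤ)) = a ^ (0 : ℤ) := by
    apply zpow_eq_of_dvd_sub S.hoa
    rw [sub_zero, mul_comm]
    exact_mod_cast hd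
  rw [this, zpow_zero]

/-- (B1): `⟨a⟩` has index `p` in `M` when `M ≠ ⟨a⟩`. -/
theorem Setup.relIndex_MM (S : Setup p a n) {b : G} (hb : b ∈ MM p a) (hbU : b ∉ zpowers a) :
    (zpowers a).relIndex (MM p a) = p := by
  rw [Subgroup.relIndex, ← phi_ker S, Subgroup.index_ker]
  -- the range is a nontrivial subgroup of exponent `p` of the cyclic group `⟨a⟩`
  have hle : (phi S).range ≤ zpowers a := by
    rintro _ ⟨g, rfl⟩
    exact (phi_mem S g).1
  haveI : IsCyclic (phi S).range := Subgroup.isCyclic_of_le hle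
  obtain ⟨t, ht⟩ := IsCyclic.exists_generator (α := (phi S).range)
  have htp : t ^ p = 1 := by
    obtain ⟨g, hg⟩ := t.2
    apply Subtype.ext
    rw [Subgroup.coe_pow, ← hg]
    exact (phi_mem S g).2
  have ht1 : t ≠ 1 := by
    intro h1
    have hbot : ∀ x : (phi S).range, x = 1 := by
      intro x
      obtain ⟨k, hk⟩ := mem_zpowers_iff.mp (ht x)
      rw [← hk, h1, one_zpow]
    have := hbot ⟨phi S ⟨b, hb⟩, ⟨_, rfl⟩⟩
    have h2 : phi S ⟨b, hb⟩ = 1 := congrArg Subtype.val this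
    have h3 : (⟨b, hb⟩ : MM p a) ∈ (phi S).ker := h2
    rw [phi_ker S, mem_subgroupOf] at h3
    exact hbU h3
  rw [← orderOf_eq_card_of_forall_mem_zpowers ht]
  exact orderOf_eq_prime htp ht1

/-- `Ω₁(M)` as the image of the subgroup of `↥M` generated by the elements of order dividing `p`. -/
theorem omegaOne_eq_map (M : Subgroup G) :
    Cfsg.omegaOne p M = (closure {x : M | x ^ p = 1}).map M.subtype := by
  rw [Cfsg.omegaOne, MonoidHom.map_closure]
  congr 1
  ext x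
  constructor
  · rintro ⟨hx, hxp⟩
    exact ⟨⟨x, hx⟩, Subtype.ext hxp, rfl⟩
  · rintro ⟨y, hy, rfl⟩
    refine ⟨y.2, ?_⟩
    have : y ^ p = 1 := hy
    simpa using congrArg Subtype.val this

/-- (B2) for odd `p`. -/
theorem Setup.omega_odd (S : Setup p a n) (hp2 : p ≠ 2) {b : G} (hb : b ∈ MM p a)
    (hbU : b ∉ zpowers a) :
    Cfsg.IsElementaryAbelian p (Cfsg.omegaOne p (MM p a)) ∧
      Nat.card (Cfsg.omegaOne p (MM p a)) = p ^ 2 := by
  have hidx := S.relIndex_MM hb hbU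
  have hnc : ¬ IsCyclic (MM p a) := by
    intro hc
    apply hbU
    apply S.hcent
    letI := IsCyclic.commGroup (α := MM p a)
    have := mul_comm (⟨b, hb⟩ : MM p a) ⟨a, zpowers_le_MM (mem_zpowers a)⟩
    exact congrArg Subtype.val this
  have hC : IsCyclic ((zpowers a).subgroupOf (MM p a)) :=
    isCyclic_of_surjective (Subgroup.subgroupOfEquivOfLe (zpowers_le_MM (p := p) (a := a))).symm
      (MulEquiv.surjective _)
  obtain ⟨h1, h2⟩ := Cfsg.Agent.Lib.Lead.OmegaOne.omega_one_of_cyclic_index hp2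
    (S.hG.to_subgroup (MM p a)) hnc ((zpowers a).subgroupOf (MM p a)) hC hidx
  rw [omegaOne_eq_map]
  refine ⟨⟨?_, ?_⟩, ?_⟩
  · refine ⟨⟨?_⟩⟩
    rintro ⟨_, x, hx, rfl⟩ ⟨_, y, hy, rfl⟩
    apply Subtype.ext
    have := h1.1.is_comm.comm ⟨x, hx⟩ ⟨y, hy⟩
    have h3 : x * y = y * x := congrArg Subtype.val this
    simpa using congrArg Subtype.val h3
  · rintro _ ⟨x, hx, rfl⟩
    have := h1.2 x hx
    simpa using congrArg Subtype.val this
  · rw [Subgroup.card_map_of_injective (Subgroup.subtype_injective _)]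
    exact h2

end BranchB

section Modular

open Cfsg.Agent.Lib.Lead.MaxClassCentralizers

variable {P : Type*} [Group P] [Finite P]

theorem card_kleinSub_eq (hP : IsPGroup 2 P) {s t : P} (hs : s * s = 1) (ht : t * t = 1)
    (hst : s * t = t * s) (hs1 : s ≠ 1) (ht1 : t ≠ 1) (hne : s ≠ t) :
    Nat.card (kleinSub s t hs ht hst) = 4 := by
  have hEnc := kleinSub_not_cyclic hs ht hst hs1 ht1 hne
  obtain ⟨j, hj⟩ := IsPGroup.iff_card.mp (hP.to_subgroup (kleinSub s t hs ht hst))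
  have hle := card_kleinSub_le hs ht hst
  rw [hj] at hle
  have hj2 : j ≤ 2 := by
    by_contra hlt'
    have : 2 ^ 3 ≤ 2 ^ j := Nat.pow_le_pow_right (by norm_num) (by omega)
    omega
  have hj1 : 2 ≤ j := by
    by_contra hlt'
    apply hEnc
    have hj' : j = 0 ∨ j = 1 := by omega
    rcases hj' with rfl | rfl
    · rw [pow_zero] at hj
      haveI : Subsingleton (kleinSub s t hs ht hst) := (Nat.card_eq_one_iff_unique.mp hj).1
      infer_instance
    · rw [pow_one] at hj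
      exact isCyclic_of_prime_card hj
  have : j = 2 := by omega
  rw [hj, this]
  norm_num

/-- In the modular group of order `2 ^ (k + 4)`, the solutions of `x ^ 2 = 1` are
`1, z, b, z b`. -/
theorem modular_sq_eq_one {a b : P} {k : ℕ} (hoa : orderOf a = 2 ^ (k + 3))
    (hidx : (zpowers a).index = 2) (hb : b ∉ zpowers a) (hb2 : b ^ 2 = 1)
    (hconj : b * a * b⁻¹ = a ^ (1 + 2 ^ (k + 2) : ℤ)) {x : P} (hx : x ^ 2 = 1) :
    x = 1 ∨ x = a ^ 2 ^ (k + 2) ∨ x = b ∨ x = a ^ 2 ^ (k + 2) * b := by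
  have hzz : (a ^ 2 ^ (k + 2)) ^ 2 = 1 := by
    rw [← pow_mul, ← pow_succ, ← hoa]
    exact pow_orderOf_eq_one a
  have key : ∀ i : ℤ, (2 : ℤ) ^ (k + 2) ∣ i → a ^ i = 1 ∨ a ^ i = a ^ 2 ^ (k + 2) := by
    rintro i ⟨j, rfl⟩
    have e : a ^ ((2 : ℤ) ^ (k + 2) * j) = (a ^ 2 ^ (k + 2)) ^ j := by
      rw [zpow_mul]
      congr 1
      exact_mod_cast zpow_natCast a (2 ^ (k + 2))
    rw [e]
    rcases Int.even_or_odd' j with ⟨l, rfl | rfl⟩
    · left
      rw [zpow_mul, zpow_ofNat, hzz, one_zpow]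
    · right
      rw [zpow_add, zpow_mul, zpow_ofNat, hzz, one_zpow, one_mul, zpow_one]
  by_cases hxa : x ∈ zpowers a
  · obtain ⟨i, rfl⟩ := mem_zpowers_iff.mp hxa
    have h1 : a ^ (i * 2) = a ^ (0 : ℤ) := by
      rw [zpow_mul, zpow_ofNat, hx, zpow_zero]
    have h2 := dvd_sub_of_zpow_eq hoa h1
    have h3 : (2 : ℤ) ^ (k + 2) ∣ i := by
      have e : ((2 ^ (k + 3) : ℕ) : ℤ) = 2 ^ (k + 2) * 2 := by push_cast; ring
      rw [e, sub_zero] at h2
      exact (mul_dvd_mul_iff_right (by norm_num : (2 : ℤ) ≠ 0)).mp h2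
    rcases key i h3 with h | h
    · exact Or.inl h
    · exact Or.inr (Or.inl h)
  · have hxb : x * b⁻¹ ∈ zpowers a := by
      rw [Subgroup.mul_mem_iff_of_index_two hidx]
      constructor
      · intro h; exact absurd h hxa
      · intro h
        exact absurd (by simpa using (zpowers a).inv_mem h) hb
    obtain ⟨i, hi⟩ := mem_zpowers_iff.mp hxb
    have hxe : x = a ^ i * b := by rw [hi]; group
    have h0 := mul_pow_of_conj hconj i 2
    rw [← hxe, hx, hb2, mul_one] at h0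
    have h1 : a ^ (i * ∑ l ∈ Finset.range 2, (1 + 2 ^ (k + 2) : ℤ) ^ l) = a ^ (0 : ℤ) := by
      rw [← h0, zpow_zero]
    have h2 := dvd_sub_of_zpow_eq hoa h1
    have h3 : (2 : ℤ) ^ (k + 2) ∣ i := by
      apply Cfsg.Agent.Lib.Lead.NormalAbelianCyclic.nt_a
      have e : i * ∑ l ∈ Finset.range 2, (1 + 2 ^ (k + 2) : ℤ) ^ l - 0
          = 2 * (i * (1 + 2 ^ (k + 1))) := by
        rw [Finset.sum_range_succ, Finset.sum_range_one]
        ring
      rw [e] at h2
      exact_mod_cast h2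
    rcases key i h3 with h | h
    · right; right; left
      rw [hxe, h, one_mul]
    · right; right; right
      rw [hxe, h]

/-- `Ω₁` of the modular group is a four-group. -/
theorem modular_omega (hP : IsPGroup 2 P) {a b : P} {k : ℕ} (hoa : orderOf a = 2 ^ (k + 3))
    (hidx : (zpowers a).index = 2) (hb : b ∉ zpowers a) (hb2 : b ^ 2 = 1)
    (hconj : b * a * b⁻¹ = a ^ (1 + 2 ^ (k + 2) : ℤ)) :
    (∀ x ∈ closure {x : P | x ^ 2 = 1}, ∀ y ∈ closure {x : P | x ^ 2 = 1}, x * y = y * x) ∧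
      (∀ x ∈ closure {x : P | x ^ 2 = 1}, x ^ 2 = 1) ∧
      Nat.card (closure {x : P | x ^ 2 = 1}) = 4 := by
  set z := a ^ 2 ^ (k + 2) with hz
  have hzz2 : z ^ 2 = 1 := by
    rw [hz, ← pow_mul, ← pow_succ, ← hoa]
    exact pow_orderOf_eq_one a
  have hzz : z * z = 1 := by rw [← pow_two]; exact hzz2
  have hbb : b * b = 1 := by rw [← pow_two]; exact hb2
  have hz1 : z ≠ 1 := by
    apply pow_ne_one_of_lt_orderOf (by positivity)
    rw [hoa]
    exact Nat.pow_lt_pow_right (by norm_num) (by omega)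
  have hb1 : b ≠ 1 := by
    intro h
    apply hb
    rw [h]
    exact one_mem _
  have hzb : z ≠ b := by
    intro h
    apply hb
    rw [← h]
    exact pow_mem (mem_zpowers a) _
  have hcomm : z * b = b * z := by
    have h1 : b * z * b⁻¹ = z := by
      have h2 : b * z * b⁻¹ = (b * a * b⁻¹) ^ 2 ^ (k + 2) := by
        rw [hz]
        have := map_pow (MulAut.conj b) a (2 ^ (k + 2))
        simpa [MulAut.conj_apply] using this
      rw [h2, hconj, ← zpow_natCast, ← zpow_mul]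
      have h3 : a ^ ((1 + 2 ^ (k + 2) : ℤ) * ((2 ^ (k + 2) : ℕ) : ℤ))
          = a ^ (((2 ^ (k + 2) : ℕ)) : ℤ) := by
        apply zpow_eq_of_dvd_sub hoa
        push_cast
        exact ⟨2 ^ (k + 1), by ring⟩
      rw [h3, zpow_natCast]
    calc z * b = (b * z * b⁻¹) * b := by rw [h1]
      _ = b * z := by group
  have hcl : closure {x : P | x ^ 2 = 1} = kleinSub z b hzz hbb hcomm := by
    apply le_antisymm
    · rw [closure_le]
      intro x hx
      exact (mem_kleinSub hzz hbb hcomm x).mpr (modular_sq_eq_one hoa hidx hb hb2 hconj hx)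
    · intro x hx
      rcases (mem_kleinSub hzz hbb hcomm x).mp hx with rfl | rfl | rfl | rfl
      · exact one_mem _
      · exact subset_closure hzz2
      · exact subset_closure hb2
      · exact mul_mem (subset_closure hzz2) (subset_closure hb2)
  rw [hcl]
  refine ⟨Cfsg.Agent.Lib.Lead.NormalAbelianCyclic.kleinSub_comm hzz hbb hcomm, ?_,
    card_kleinSub_eq hP hzz hbb hcomm hz1 hb1 hzb⟩
  intro x hx
  rcases (mem_kleinSub hzz hbb hcomm x).mp hx with rfl | rfl | rfl | rfl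
  · exact one_pow 2
  · exact hzz2
  · exact hb2
  · rw [pow_two]
    calc z * b * (z * b) = z * (b * z) * b := by group
      _ = z * (z * b) * b := by rw [hcomm]
      _ = (z * z) * (b * b) := by group
      _ = 1 := by rw [hzz, hbb, one_mul]

end Modular

section BranchBTwo

variable {G : Type*} [Group G] [Finite G] {a : G} {n : ℕ}

/-- (B2) for `p = 2`. -/
theorem Setup.omega_two (S : Setup 2 a n) (hn3 : 3 ≤ n) {b : G} (hb : b ∈ MM 2 a)
    (hbU : b ∉ zpowers a) :
    Cfsg.IsElementaryAbelian 2 (Cfsg.omegaOne 2 (MM 2 a)) ∧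
      Nat.card (Cfsg.omegaOne 2 (MM 2 a)) = 2 ^ 2 := by
  have hidx : ((zpowers a).subgroupOf (MM 2 a)).index = 2 := S.relIndex_MM hb hbU
  have hC : IsCyclic ((zpowers a).subgroupOf (MM 2 a)) :=
    isCyclic_of_surjective (Subgroup.subgroupOfEquivOfLe (zpowers_le_MM (p := 2) (a := a))).symm
      (MulEquiv.surjective _)
  have hcard : Nat.card (MM 2 a) = 2 ^ (n + 1) := by
    have h1 := Subgroup.card_mul_index ((zpowers a).subgroupOf (MM 2 a))
    rw [hidx, Nat.card_congr (Subgroup.subgroupOfEquivOfLe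
      (zpowers_le_MM (p := 2) (a := a))).toEquiv, Nat.card_zpowers, S.hoa] at h1
    rw [← h1, pow_succ]
  set aM : MM 2 a := ⟨a, zpowers_le_MM (mem_zpowers a)⟩ with haM
  have hna : ∃ x y : MM 2 a, x * y ≠ y * x := by
    refine ⟨⟨b, hb⟩, aM, fun h => hbU (S.hcent b ?_)⟩
    exact congrArg Subtype.val h
  obtain ⟨a', b', hoa', hCa', hb', hcases⟩ := exists_gens_two (n + 1) (by omega) hcard
    ((zpowers a).subgroupOf (MM 2 a)) hC hidx hna
  have e1 : n + 1 - 1 = n := by omega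
  have e2 : n + 1 - 2 = n - 1 := by omega
  rw [e1] at hoa'
  rw [e2] at hcases
  have hidx' : (zpowers a').index = 2 := by rw [← hCa']; exact hidx
  -- `b'` commutes with `a' ^ 2`
  have hcomm : b' * a' ^ 2 * b'⁻¹ = a' ^ 2 := by
    have h1 : a' ∈ (zpowers a).subgroupOf (MM 2 a) := by rw [hCa']; exact mem_zpowers a'
    rw [mem_subgroupOf] at h1
    obtain ⟨j, hj⟩ := mem_zpowers_iff.mp h1
    have h2 : a' = aM ^ j := by
      apply Subtype.ext
      rw [Subgroup.coe_zpow, ← hj]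
    have h3 : Commute b' (aM ^ 2) := by
      apply Subtype.ext
      have := mem_MM.mp b'.2
      simpa [haM] using this
    have h4 : a' ^ 2 = (aM ^ 2) ^ j := by
      rw [h2, ← zpow_natCast, ← zpow_natCast, ← zpow_mul, ← zpow_mul, mul_comm]
    rw [h4, (h3.zpow_right j).eq]
    group
  have hconj2 : ∀ y : MM 2 a, b' * a' * b'⁻¹ = y → y ^ 2 = a' ^ 2 := by
    intro y hy
    rw [← hy]
    calc (b' * a' * b'⁻¹) ^ 2 = b' * a' ^ 2 * b'⁻¹ := by rw [pow_two, pow_two]; group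
      _ = a' ^ 2 := hcomm
  have hno4 : a' ^ 4 ≠ 1 := by
    intro h
    have := orderOf_dvd_of_pow_eq_one h
    rw [hoa'] at this
    have h8 : 2 ^ 3 ∣ 2 ^ n := pow_dvd_pow 2 hn3
    have : 2 ^ 3 ∣ 4 := dvd_trans h8 this
    omega
  have hinvcase : b' * a' * b'⁻¹ ≠ a'⁻¹ := by
    intro h
    apply hno4
    have := hconj2 _ h
    calc a' ^ 4 = a' ^ 2 * a' ^ 2 := by rw [← pow_add]
      _ = a' ^ 2 * (a'⁻¹) ^ 2 := by rw [this]
      _ = 1 := by group
  have hsdcase : b' * a' * b'⁻¹ ≠ a' ^ (2 ^ (n - 1) - 1) := by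
    intro h
    apply hno4
    have := hconj2 _ h
    have e : 2 ^ n = (2 ^ (n - 1) - 1) * 2 + 2 := by
      have h1 : 2 ^ n = 2 ^ (n - 1) * 2 := by rw [← pow_succ]; congr 1; omega
      have h2 : 1 ≤ 2 ^ (n - 1) := Nat.one_le_two_pow
      rw [h1]
      omega
    have h5 : a' ^ 2 ^ n = 1 := by rw [← hoa']; exact pow_orderOf_eq_one a'
    rw [e, pow_add, pow_mul, this, ← pow_add] at h5
    exact h5
  have hmod : b' ^ 2 = 1 ∧ b' * a' * b'⁻¹ = a' ^ (1 + 2 ^ (n - 1)) := by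
    rcases hcases with ⟨-, h⟩ | ⟨-, h⟩ | ⟨-, h1, h2⟩ | ⟨-, -, h⟩
    · exact absurd h hinvcase
    · exact absurd h hinvcase
    · exact ⟨h1, h2⟩
    · exact absurd h hsdcase
  obtain ⟨k, rfl⟩ : ∃ k, n = k + 3 := ⟨n - 3, by omega⟩
  have hconj : b' * a' * b'⁻¹ = a' ^ (1 + 2 ^ (k + 2) : ℤ) := by
    rw [hmod.2]
    have : k + 3 - 1 = k + 2 := by omega
    rw [this]
    exact_mod_cast (zpow_natCast a' (1 + 2 ^ (k + 2))).symm
  obtain ⟨h1, h2, h3⟩ := modular_omega (S.hG.to_subgroup (MM 2 a)) hoa' hidx' hb' hmod.1 hconj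
  rw [omegaOne_eq_map]
  refine ⟨⟨?_, ?_⟩, ?_⟩
  · refine ⟨⟨?_⟩⟩
    rintro ⟨_, x, hx, rfl⟩ ⟨_, y, hy, rfl⟩
    apply Subtype.ext
    have h4 : x * y = y * x := h1 x hx y hy
    simpa using congrArg Subtype.val h4
  · rintro _ ⟨x, hx, rfl⟩
    have := h2 x hx
    simpa using congrArg Subtype.val this
  · rw [Subgroup.card_map_of_injective (Subgroup.subtype_injective _)]
    rw [h3]
    norm_num

end BranchBTwo

section Characteristic

variable {G : Type*} [Group G] [Finite G] {p : ℕ} [hp : Fact p.Prime] {a : G} {n : ℕ}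

theorem Setup.zpowers_pow_normal (S : Setup p a n) : (zpowers (a ^ p)).Normal := by
  refine ⟨fun x hx g => ?_⟩
  obtain ⟨i, rfl⟩ := mem_zpowers_iff.mp hx
  obtain ⟨r, hr⟩ := S.exists_conj g
  have h1 : g * (a ^ p) ^ i * g⁻¹ = a ^ (((p : ℤ) * i) * r) := by
    rw [← zpow_natCast, ← zpow_mul]
    exact conj_zpow_of_conj hr _
  rw [h1]
  have : a ^ (((p : ℤ) * i) * r) = (a ^ p) ^ (i * r) := by
    rw [← zpow_natCast, ← zpow_mul, mul_assoc]
  rw [this]
  exact zpow_mem (mem_zpowers _) _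

theorem Setup.MM_normal (S : Setup p a n) : (MM p a).Normal := by
  haveI := S.zpowers_pow_normal
  exact Subgroup.normal_centralizer

theorem omegaOne_normal (M : Subgroup G) [hM : M.Normal] : (Cfsg.omegaOne p M).Normal := by
  refine ⟨fun x hx g => ?_⟩
  have h1 : (Cfsg.omegaOne p M).map (MulAut.conj g).toMonoidHom ≤ Cfsg.omegaOne p M := by
    rw [Cfsg.omegaOne, MonoidHom.map_closure, closure_le]
    rintro _ ⟨y, ⟨hyM, hyp⟩, rfl⟩
    apply Subgroup.subset_closure
    refine ⟨hM.conj_mem y hyM g, ?_⟩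
    change (MulAut.conj g y) ^ p = 1
    rw [← map_pow, hyp, map_one]
  exact h1 ⟨x, hx, rfl⟩

/-- Every normal subgroup of exponent `p` lies in `Ω₁(M)`. -/
theorem Setup.le_omega_of_normal (S : Setup p a n) (V : Subgroup G) [hV : V.Normal]
    (hexp : ∀ v ∈ V, v ^ p = 1) : V ≤ Cfsg.omegaOne p (MM p a) := by
  intro v hv
  apply Subgroup.subset_closure
  refine ⟨?_, hexp v hv⟩
  rw [mem_MM]
  set t := a⁻¹ * (v * a * v⁻¹) with ht
  have htV : t ∈ V := by
    have h1 : a⁻¹ * v * a⁻¹⁻¹ ∈ V := hV.conj_mem v hv a⁻¹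
    have h2 : t = (a⁻¹ * v * a⁻¹⁻¹) * v⁻¹ := by rw [ht]; group
    rw [h2]
    exact V.mul_mem h1 (V.inv_mem hv)
  have htU : t ∈ zpowers a := by
    rw [ht]
    exact (zpowers a).mul_mem ((zpowers a).inv_mem (mem_zpowers a))
      (S.hnorm.conj_mem a (mem_zpowers a) v)
  have htp : t ^ p = 1 := hexp t htV
  have hcomm : Commute a t := by
    obtain ⟨i, hi⟩ := mem_zpowers_iff.mp htU
    rw [← hi]
    exact (Commute.refl a).zpow_right i
  have h3 : v * a * v⁻¹ = a * t := by rw [ht]; group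
  have h4 : v * a ^ p * v⁻¹ = a ^ p := by
    have : v * a ^ p * v⁻¹ = (v * a * v⁻¹) ^ p := by
      have := map_pow (MulAut.conj v) a p
      simpa [MulAut.conj_apply] using this
    rw [this, h3, hcomm.mul_pow, htp, mul_one]
  calc v * a ^ p = (v * a ^ p * v⁻¹) * v := by group
    _ = a ^ p * v := by rw [h4]

/-- (B3): `Ω₁(M)` is characteristic as soon as it has exponent `p`. -/
theorem Setup.omega_characteristic (S : Setup p a n)
    (hexp : ∀ v ∈ Cfsg.omegaOne p (MM p a), v ^ p = 1) :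
    (Cfsg.omegaOne p (MM p a)).Characteristic := by
  rw [Subgroup.characteristic_iff_map_le]
  intro φ
  haveI := S.MM_normal
  haveI : (Cfsg.omegaOne p (MM p a)).Normal := omegaOne_normal (MM p a)
  haveI : ((Cfsg.omegaOne p (MM p a)).map φ.toMonoidHom).Normal :=
    Subgroup.Normal.map inferInstance _ φ.surjective
  apply S.le_omega_of_normal
  rintro _ ⟨x, hx, rfl⟩
  change (φ x) ^ p = 1
  rw [← map_pow, hexp x hx, map_one]

theorem powerClosure_zpowers (a : G) : Cfsg.powerClosure p 1 (zpowers a) = zpowers (a ^ p) := by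
  rw [Cfsg.powerClosure]
  apply le_antisymm
  · rw [closure_le]
    rintro _ ⟨x, hx, rfl⟩
    obtain ⟨i, rfl⟩ := mem_zpowers_iff.mp hx
    rw [pow_one, SetLike.mem_coe]
    have : (a ^ i) ^ p = (a ^ p) ^ i := by
      rw [← zpow_natCast, ← zpow_natCast, ← zpow_mul, ← zpow_mul, mul_comm]
    rw [this]
    exact zpow_mem (mem_zpowers _) _
  · rw [zpowers_le]
    apply Subgroup.subset_closure
    exact ⟨a, mem_zpowers a, by rw [pow_one]⟩

end Characteristic

end Cfsg.Agent.Lib.Helper18.CyclicSelfCent
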