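import Mathlib.GroupTheory.OrderOfElement
import Mathlib.Algebra.Group.Conj
import Mathlib.Tactic.Group
import Mathlib.Algebra.Group.Commute.Basic

/-!
Elementary facts about the subgroup generated by two involutions `z`, `u` (with `t = z * u`),
used for isolated involutions and root involutions.
-/

set_option autoImplicit false

namespace Cfsg.Agent.Lib.Helper18

variable {G : Type*} [Group G]

theorem inv_eq_self_of_mul_self {z : G} (hz : z * z = 1) : z⁻¹ = z :=
  inv_eq_of_mul_eq_one_left hz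

theorem mul_self_of_orderOf_two {z : G} (hz : orderOf z = 2) : z * z = 1 := by
  have := pow_orderOf_eq_one z
  rw [hz, pow_two] at this
  exact this

theorem ne_one_of_orderOf_two {z : G} (hz : orderOf z = 2) : z ≠ 1 := by
  intro h
  rw [h, orderOf_one] at hz
  omega

theorem orderOf_two_of_mul_self {z : G} (hz : z * z = 1) (h1 : z ≠ 1) : orderOf z = 2 := by
  apply orderOf_eq_prime
  · rw [pow_two]; exact hz
  · exact h1

/-- `z` inverts `z * u`. -/
theorem conj_mul_left {z u : G} (hz : z * z = 1) (hu : u * u = 1) :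
    z * (z * u) * z⁻¹ = (z * u)⁻¹ := by
  rw [inv_eq_self_of_mul_self hz, mul_inv_rev, inv_eq_self_of_mul_self hz,
    inv_eq_self_of_mul_self hu, ← mul_assoc, hz, one_mul]

/-- `u` inverts `z * u`. -/
theorem conj_mul_right {z u : G} (hz : z * z = 1) (hu : u * u = 1) :
    u * (z * u) * u⁻¹ = (z * u)⁻¹ := by
  rw [inv_eq_self_of_mul_self hu, mul_inv_rev, inv_eq_self_of_mul_self hz,
    inv_eq_self_of_mul_self hu, mul_assoc, mul_assoc, hu, mul_one]

theorem conj_pow_left {z u : G} (hz : z * z = 1) (hu : u * u = 1) (j : ℕ) :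
    z * (z * u) ^ j * z⁻¹ = ((z * u) ^ j)⁻¹ := by
  rw [← conj_pow, conj_mul_left hz hu, inv_pow]

theorem conj_pow_right {z u : G} (hz : z * z = 1) (hu : u * u = 1) (j : ℕ) :
    u * (z * u) ^ j * u⁻¹ = ((z * u) ^ j)⁻¹ := by
  rw [← conj_pow, conj_mul_right hz hu, inv_pow]

/-- Conjugating `z` by `t^j`, `t = z * u`. -/
theorem pow_conj_left {z u : G} (hz : z * z = 1) (hu : u * u = 1) (j : ℕ) :
    (z * u) ^ j * z * ((z * u) ^ j)⁻¹ = (z * u) ^ (2 * j) * z := by
  have h := conj_pow_left hz hu j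
  have h2 : z * ((z * u) ^ j)⁻¹ = (z * u) ^ j * z := by
    have : ((z * u) ^ j)⁻¹ = z * (z * u) ^ j * z⁻¹ := h.symm
    rw [this, inv_eq_self_of_mul_self hz, ← mul_assoc, ← mul_assoc, hz, one_mul]
  rw [mul_assoc, h2, ← mul_assoc, ← pow_add, two_mul]

/-- Conjugating `u` by `t^j`, `t = z * u`. -/
theorem pow_conj_right {z u : G} (hz : z * z = 1) (hu : u * u = 1) (j : ℕ) :
    (z * u) ^ j * u * ((z * u) ^ j)⁻¹ = (z * u) ^ (2 * j) * u := by
  have h := conj_pow_right hz hu j
  have h2 : u * ((z * u) ^ j)⁻¹ = (z * u) ^ j * u := by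
    have : ((z * u) ^ j)⁻¹ = u * (z * u) ^ j * u⁻¹ := h.symm
    rw [this, inv_eq_self_of_mul_self hu, ← mul_assoc, ← mul_assoc, hu, one_mul]
  rw [mul_assoc, h2, ← mul_assoc, ← pow_add, two_mul]

/-- If `z * u` has odd order `2k+1` then `(z*u)^k` conjugates `z` to `u`. -/
theorem conj_of_odd_order {z u : G} (hz : z * z = 1) (hu : u * u = 1) (k : ℕ)
    (hk : (z * u) ^ (2 * k + 1) = 1) :
    (z * u) ^ k * z * ((z * u) ^ k)⁻¹ = u := by
  rw [pow_conj_left hz hu]
  have h1 : (z * u) ^ (2 * k) = (z * u)⁻¹ := by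
    rw [pow_succ] at hk
    exact eq_inv_of_mul_eq_one_left hk
  rw [h1, mul_inv_rev, inv_eq_self_of_mul_self hz, inv_eq_self_of_mul_self hu, mul_assoc, hz,
    mul_one]

/-- The central involution `w = (z*u)^m` of the dihedral group generated by involutions `z, u`
with `z * u` of order `2m`: `w` is an involution commuting with `z` and `u`, and `z * w` is
conjugate to `z` or to `u`. -/
theorem central_involution {z u : G} (hz : z * z = 1) (hu : u * u = 1) (m : ℕ)
    (hm : orderOf (z * u) = 2 * m) (hm0 : 0 < m) :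
    (z * u) ^ m * (z * u) ^ m = 1 ∧ (z * u) ^ m ≠ 1 ∧ Commute z ((z * u) ^ m) ∧
      Commute u ((z * u) ^ m) ∧
      ((∃ a : G, a * z * a⁻¹ = z * (z * u) ^ m) ∨ (∃ a : G, a * u * a⁻¹ = z * (z * u) ^ m)) := by
  have hw2 : (z * u) ^ m * (z * u) ^ m = 1 := by
    rw [← pow_add, ← two_mul, ← hm, pow_orderOf_eq_one]
  have hw1 : (z * u) ^ m ≠ 1 := by
    apply pow_ne_one_of_lt_orderOf (by omega)
    rw [hm]; omega
  have hwinv : ((z * u) ^ m)⁻¹ = (z * u) ^ m := inv_eq_self_of_mul_self hw2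
  have hcz : Commute z ((z * u) ^ m) := by
    have h := conj_pow_left hz hu m
    rw [hwinv] at h
    exact mul_inv_eq_iff_eq_mul.mp h
  have hcu : Commute u ((z * u) ^ m) := by
    have h := conj_pow_right hz hu m
    rw [hwinv] at h
    exact mul_inv_eq_iff_eq_mul.mp h
  refine ⟨hw2, hw1, hcz, hcu, ?_⟩
  rcases Nat.even_or_odd' m with ⟨j, hj | hj⟩
  · left
    refine ⟨(z * u) ^ j, ?_⟩
    rw [pow_conj_left hz hu, ← hj]
    exact hcz.eq.symm
  · right
    refine ⟨(z * u) ^ (j + 1), ?_⟩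
    rw [pow_conj_right hz hu, hcz.eq]
    have : 2 * (j + 1) = m + 1 := by omega
    rw [this, pow_succ, mul_assoc, mul_assoc, hu, mul_one]

end Cfsg.Agent.Lib.Helper18
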