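import Mathlib

/-! # A bound for the order of a two-generator group with central commutator -/

set_option autoImplicit false
set_option linter.style.haveILetI false

namespace Cfsg.Agent.Lib.Helper18.ESBound

variable {G : Type*} [Group G]

/-- If `w = [u, v]` commutes with `u` and `v`, then `u ^ i * v ^ j = w ^ (i * j) * v ^ j * u ^ i`. -/
theorem pow_mul_pow_of_central (u v : G)
    (hwu : Commute (u * v * u⁻¹ * v⁻¹) u) (hwv : Commute (u * v * u⁻¹ * v⁻¹) v) (i j : ℕ) :
    u ^ i * v ^ j = (u * v * u⁻¹ * v⁻¹) ^ (i * j) * v ^ j * u ^ i := by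
  set w := u * v * u⁻¹ * v⁻¹ with hw
  have huv : SemiconjBy u v (w * v) := by
    change u * v = w * v * u
    rw [hw]; group
  have h1 : SemiconjBy u (v ^ j) (w ^ j * v ^ j) := by
    have := huv.pow_right j
    rwa [hwv.mul_pow] at this
  have hWu : Commute (w ^ j) u := hwu.pow_left j
  have hWV : Commute (w ^ j) (v ^ j) := (hwv.pow_left j).pow_right j
  induction i with
  | zero => simp
  | succ i ih =>
    have e1 : u ^ (i + 1) * v ^ j = u * (u ^ i * v ^ j) := by rw [pow_succ']; group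
    rw [e1, ih]
    have e2 : u * (w ^ (i * j) * v ^ j * u ^ i) = w ^ (i * j) * (u * v ^ j) * u ^ i := by
      have : Commute (w ^ (i * j)) u := hwu.pow_left _
      calc u * (w ^ (i * j) * v ^ j * u ^ i) = (u * w ^ (i * j)) * v ^ j * u ^ i := by group
        _ = (w ^ (i * j) * u) * v ^ j * u ^ i := by rw [this.eq]
        _ = _ := by group
    rw [e2, h1.eq]
    have e3 : (i + 1) * j = i * j + j := by ring
    rw [e3, pow_add, pow_succ' u i]
    group

/-- A group generated by `u`, `v` with `[u, v]` central of order dividing `c`, `u ^ a = 1` and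
`v ^ b = 1` has order at most `a * b * c`. -/
theorem card_closure_pair_le (u v : G) (a b c : ℕ) (ha : 0 < a) (hb : 0 < b) (hc : 0 < c)
    (hwu : Commute (u * v * u⁻¹ * v⁻¹) u) (hwv : Commute (u * v * u⁻¹ * v⁻¹) v)
    (hu : u ^ a = 1) (hv : v ^ b = 1) (hw : (u * v * u⁻¹ * v⁻¹) ^ c = 1) :
    Nat.card (Subgroup.closure ({u, v} : Set G)) ≤ a * b * c := by
  classical
  set w := u * v * u⁻¹ * v⁻¹ with hwdef
  let T : Set G := {g | ∃ k j i : ℕ, g = w ^ k * v ^ j * u ^ i}
  have hT1 : (1 : G) ∈ T := ⟨0, 0, 0, by simp⟩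
  have hTmul : ∀ g h : G, g ∈ T → h ∈ T → g * h ∈ T := by
    rintro g h ⟨k, j, i, rfl⟩ ⟨k', j', i', rfl⟩
    refine ⟨k + k' + i * j', j + j', i + i', ?_⟩
    have h1 := pow_mul_pow_of_central u v hwu hwv i j'
    have c1 : Commute (w ^ k') (u ^ i) := (hwu.pow_left k').pow_right i
    have c2 : Commute (w ^ k') (v ^ j) := (hwv.pow_left k').pow_right j
    have c3 : Commute (w ^ (i * j')) (v ^ j) := (hwv.pow_left _).pow_right j
    calc w ^ k * v ^ j * u ^ i * (w ^ k' * v ^ j' * u ^ i')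
        = w ^ k * v ^ j * (u ^ i * w ^ k') * v ^ j' * u ^ i' := by group
      _ = w ^ k * v ^ j * (w ^ k' * u ^ i) * v ^ j' * u ^ i' := by rw [c1.eq]
      _ = w ^ k * (v ^ j * w ^ k') * (u ^ i * v ^ j') * u ^ i' := by group
      _ = w ^ k * (w ^ k' * v ^ j) * (w ^ (i * j') * v ^ j' * u ^ i) * u ^ i' := by
          rw [c2.eq, h1]
      _ = w ^ k * w ^ k' * (v ^ j * w ^ (i * j')) * v ^ j' * u ^ i * u ^ i' := by group
      _ = w ^ k * w ^ k' * (w ^ (i * j') * v ^ j) * v ^ j' * u ^ i * u ^ i' := by rw [c3.eq]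
      _ = w ^ (k + k' + i * j') * v ^ (j + j') * u ^ (i + i') := by
          rw [pow_add, pow_add, pow_add, pow_add]; group
  have hTu : u ∈ T := ⟨0, 0, 1, by simp⟩
  have hTv : v ∈ T := ⟨0, 1, 0, by simp⟩
  have hTw : w ∈ T := ⟨1, 0, 0, by simp⟩
  have hTpow : ∀ (g : G) (n : ℕ), g ∈ T → g ^ n ∈ T := by
    intro g n hg
    induction n with
    | zero => simpa using hT1
    | succ n ih => rw [pow_succ]; exact hTmul _ _ ih hg
  have hinv : ∀ (g : G) (n : ℕ), 0 < n → g ^ n = 1 → g⁻¹ = g ^ (n - 1) := by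
    intro g n hn hg
    have : g * g ^ (n - 1) = 1 := by rw [← pow_succ', Nat.sub_add_cancel hn, hg]
    exact inv_eq_of_mul_eq_one_right this
  have hTinv : ∀ g : G, g ∈ T → g⁻¹ ∈ T := by
    rintro g ⟨k, j, i, rfl⟩
    rw [mul_inv_rev, mul_inv_rev, ← inv_pow, ← inv_pow, ← inv_pow, hinv u a ha hu, hinv v b hb hv,
      hinv w c hc hw]
    exact hTmul _ _ (hTpow _ _ (hTpow _ _ hTu))
      (hTmul _ _ (hTpow _ _ (hTpow _ _ hTv)) (hTpow _ _ (hTpow _ _ hTw)))
  let S : Subgroup G :=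
    { carrier := T
      mul_mem' := fun {g h} hg hh => hTmul g h hg hh
      one_mem' := hT1
      inv_mem' := fun {g} hg => hTinv g hg }
  have hle : Subgroup.closure ({u, v} : Set G) ≤ S := by
    rw [Subgroup.closure_le]
    intro g hg
    rcases hg with rfl | rfl
    · exact hTu
    · exact hTv
  let F : Fin c × Fin b × Fin a → G := fun t => w ^ (t.1 : ℕ) * v ^ (t.2.1 : ℕ) * u ^ (t.2.2 : ℕ)
  have hsub : ((Subgroup.closure ({u, v} : Set G) : Subgroup G) : Set G) ⊆ Set.range F := by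
    intro g hg
    obtain ⟨k, j, i, rfl⟩ := hle hg
    refine ⟨(⟨k % c, Nat.mod_lt _ hc⟩, ⟨j % b, Nat.mod_lt _ hb⟩, ⟨i % a, Nat.mod_lt _ ha⟩), ?_⟩
    simp only [F]
    rw [← pow_eq_pow_mod k hw, ← pow_eq_pow_mod j hv, ← pow_eq_pow_mod i hu]
  calc Nat.card (Subgroup.closure ({u, v} : Set G))
      ≤ Nat.card (Set.range F) := Nat.card_mono (Set.finite_range F) hsub
    _ ≤ Nat.card (Fin c × Fin b × Fin a) := Finite.card_range_le F
    _ = a * b * c := by
        rw [Nat.card_prod, Nat.card_prod, Nat.card_fin, Nat.card_fin, Nat.card_fin]; ring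

end Cfsg.Agent.Lib.Helper18.ESBound
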