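import Mathlib

/-! # Gluing isomorphisms over central products, and isomorphisms from graphs -/

set_option autoImplicit false
set_option linter.style.haveILetI false

namespace Cfsg.Agent.Lib.Helper18.ESGlue

universe u v

section Glue

variable {E : Type u} {E' : Type v} [Group E] [Group E']

/-- Gluing two isomorphisms over a central product: if `E = D C` with `[D, C] = 1`, `E' = D' C'`
with `[D', C'] = 1`, and `θ : D ≃* D'`, `ψ : C ≃* C'` agree on `D ∩ C`, then there is a surjective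
homomorphism `E →* E'` extending both. -/
theorem exists_hom_of_central_product
    (D C : Subgroup E) (D' C' : Subgroup E')
    (hDC : ∀ g : E, ∃ d ∈ D, ∃ c ∈ C, g = d * c)
    (hcomm : ∀ d ∈ D, ∀ c ∈ C, d * c = c * d)
    (hDC' : ∀ g : E', ∃ d ∈ D', ∃ c ∈ C', g = d * c)
    (hcomm' : ∀ d ∈ D', ∀ c ∈ C', d * c = c * d)
    (θ : D ≃* D') (ψ : C ≃* C')
    (hagree : ∀ (t : E) (hd : t ∈ D) (hc : t ∈ C), (θ ⟨t, hd⟩ : E') = (ψ ⟨t, hc⟩ : E')) :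
    ∃ φ : E →* E', Function.Surjective φ ∧ (∀ d : D, φ d = θ d) ∧ (∀ c : C, φ c = ψ c) := by
  classical
  -- choose a decomposition
  choose dd hdd cc hcc hdc using hDC
  let f : E → E' := fun g => (θ ⟨dd g, hdd g⟩ : E') * (ψ ⟨cc g, hcc g⟩ : E')
  -- independence of the decomposition
  have key : ∀ (d : E) (hd : d ∈ D) (c : E) (hc : c ∈ C),
      f (d * c) = (θ ⟨d, hd⟩ : E') * (ψ ⟨c, hc⟩ : E') := by
    intro d hd c hc
    set d₀ := dd (d * c) with hd₀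
    set c₀ := cc (d * c) with hc₀
    have hd₀m : d₀ ∈ D := hdd _
    have hc₀m : c₀ ∈ C := hcc _
    have heq : d * c = d₀ * c₀ := hdc (d * c)
    -- t = d⁻¹ d₀ = c c₀⁻¹
    have ht : d⁻¹ * d₀ = c * c₀⁻¹ := by
      have : d₀ = d * c * c₀⁻¹ := by rw [heq]; group
      rw [this]; group
    have htD : d⁻¹ * d₀ ∈ D := D.mul_mem (D.inv_mem hd) hd₀m
    have htC : d⁻¹ * d₀ ∈ C := by rw [ht]; exact C.mul_mem hc (C.inv_mem hc₀m)
    have h1 : (⟨d₀, hd₀m⟩ : D) = ⟨d, hd⟩ * ⟨d⁻¹ * d₀, htD⟩ := by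
      apply Subtype.ext; simp
    have h2 : (⟨c, hc⟩ : C) = ⟨d⁻¹ * d₀, htC⟩ * ⟨c₀, hc₀m⟩ := by
      apply Subtype.ext
      simp only [Subgroup.coe_mul]
      rw [ht]; group
    change (θ ⟨d₀, hd₀m⟩ : E') * (ψ ⟨c₀, hc₀m⟩ : E') = _
    rw [h1, h2, map_mul, map_mul, Subgroup.coe_mul, Subgroup.coe_mul, hagree _ htD htC]
    group
  have hmul : ∀ g h : E, f (g * h) = f g * f h := by
    intro g h
    obtain ⟨d, hd, c, hc, rfl⟩ : ∃ d ∈ D, ∃ c ∈ C, g = d * c := ⟨_, hdd g, _, hcc g, hdc g⟩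
    obtain ⟨d₁, hd₁, c₁, hc₁, rfl⟩ : ∃ d ∈ D, ∃ c ∈ C, h = d * c := ⟨_, hdd h, _, hcc h, hdc h⟩
    have h1 : d * c * (d₁ * c₁) = (d * d₁) * (c * c₁) := by
      have := hcomm d₁ hd₁ c hc
      calc d * c * (d₁ * c₁) = d * (c * d₁) * c₁ := by group
        _ = d * (d₁ * c) * c₁ := by rw [this]
        _ = (d * d₁) * (c * c₁) := by group
    rw [h1, key _ (D.mul_mem hd hd₁) _ (C.mul_mem hc hc₁), key _ hd _ hc, key _ hd₁ _ hc₁]
    have e1 : (⟨d * d₁, D.mul_mem hd hd₁⟩ : D) = ⟨d, hd⟩ * ⟨d₁, hd₁⟩ := rfl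
    have e2 : (⟨c * c₁, C.mul_mem hc hc₁⟩ : C) = ⟨c, hc⟩ * ⟨c₁, hc₁⟩ := rfl
    rw [e1, e2, map_mul, map_mul, Subgroup.coe_mul, Subgroup.coe_mul]
    have := hcomm' (θ ⟨d₁, hd₁⟩ : E') (θ ⟨d₁, hd₁⟩).2 (ψ ⟨c, hc⟩ : E') (ψ ⟨c, hc⟩).2
    calc (θ ⟨d, hd⟩ : E') * (θ ⟨d₁, hd₁⟩ : E') * ((ψ ⟨c, hc⟩ : E') * (ψ ⟨c₁, hc₁⟩ : E'))
        = (θ ⟨d, hd⟩ : E') * ((θ ⟨d₁, hd₁⟩ : E') * (ψ ⟨c, hc⟩ : E')) * (ψ ⟨c₁, hc₁⟩ : E') := by
          group
      _ = (θ ⟨d, hd⟩ : E') * ((ψ ⟨c, hc⟩ : E') * (θ ⟨d₁, hd₁⟩ : E')) * (ψ ⟨c₁, hc₁⟩ : E') := by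
          rw [this]
      _ = _ := by group
  have hone : f 1 = 1 := by
    have := hmul 1 1
    rw [mul_one] at this
    exact (mul_eq_left.mp this.symm)
  let φ : E →* E' := { toFun := f, map_one' := hone, map_mul' := hmul }
  refine ⟨φ, ?_, ?_, ?_⟩
  · intro g'
    obtain ⟨d', hd', c', hc', rfl⟩ := hDC' g'
    refine ⟨(θ.symm ⟨d', hd'⟩ : E) * (ψ.symm ⟨c', hc'⟩ : E), ?_⟩
    change f _ = _
    rw [key _ (θ.symm ⟨d', hd'⟩).2 _ (ψ.symm ⟨c', hc'⟩).2]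
    simp
  · intro d
    change f _ = _
    have := key d.1 d.2 1 C.one_mem
    rw [mul_one] at this
    rw [this]
    have h1 : (⟨1, C.one_mem⟩ : C) = 1 := rfl
    rw [h1, map_one]
    simp
  · intro c
    change f _ = _
    have := key 1 D.one_mem c.1 c.2
    rw [one_mul] at this
    rw [this]
    have h1 : (⟨1, D.one_mem⟩ : D) = 1 := rfl
    rw [h1, map_one]
    simp

/-- Gluing isomorphisms over central products of finite groups of equal order. -/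
theorem exists_mulEquiv_of_central_product [Finite E] [Finite E']
    (hcard : Nat.card E = Nat.card E')
    (D C : Subgroup E) (D' C' : Subgroup E')
    (hDC : ∀ g : E, ∃ d ∈ D, ∃ c ∈ C, g = d * c)
    (hcomm : ∀ d ∈ D, ∀ c ∈ C, d * c = c * d)
    (hDC' : ∀ g : E', ∃ d ∈ D', ∃ c ∈ C', g = d * c)
    (hcomm' : ∀ d ∈ D', ∀ c ∈ C', d * c = c * d)
    (θ : D ≃* D') (ψ : C ≃* C')
    (hagree : ∀ (t : E) (hd : t ∈ D) (hc : t ∈ C), (θ ⟨t, hd⟩ : E') = (ψ ⟨t, hc⟩ : E')) :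
    ∃ φ : E ≃* E', (∀ d : D, φ d = θ d) ∧ (∀ c : C, φ c = ψ c) := by
  obtain ⟨φ, hsurj, h1, h2⟩ :=
    exists_hom_of_central_product D C D' C' hDC hcomm hDC' hcomm' θ ψ hagree
  have hbij : Function.Bijective φ :=
    hsurj.bijective_of_nat_card_le hcard.le
  exact ⟨MulEquiv.ofBijective φ hbij, h1, h2⟩

end Glue

section Graph

variable {E : Type u} {E' : Type v} [Group E] [Group E']

/-- An isomorphism from a graph: a subgroup `Γ ≤ E × E'` that is not larger than either of its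
projections is the graph of an isomorphism between them. -/
theorem exists_mulEquiv_of_graph [Finite E] [Finite E'] (Γ : Subgroup (E × E'))
    (D : Subgroup E) (D' : Subgroup E')
    (hD : Γ.map (MonoidHom.fst E E') = D) (hD' : Γ.map (MonoidHom.snd E E') = D')
    (h1 : Nat.card Γ ≤ Nat.card D) (h2 : Nat.card Γ ≤ Nat.card D') :
    ∃ θ : D ≃* D', ∀ (g : E) (g' : E') (hg : (g, g') ∈ Γ),
      ∃ (hd : g ∈ D) (hd' : g' ∈ D'), θ ⟨g, hd⟩ = ⟨g', hd'⟩ := by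
  have hmem1 : ∀ γ : Γ, (γ : E × E').1 ∈ D := by
    intro γ; rw [← hD]; exact ⟨γ, γ.2, rfl⟩
  have hmem2 : ∀ γ : Γ, (γ : E × E').2 ∈ D' := by
    intro γ; rw [← hD']; exact ⟨γ, γ.2, rfl⟩
  let p1 : Γ →* D :=
    { toFun := fun γ => ⟨(γ : E × E').1, hmem1 γ⟩
      map_one' := rfl
      map_mul' := fun _ _ => rfl }
  let p2 : Γ →* D' :=
    { toFun := fun γ => ⟨(γ : E × E').2, hmem2 γ⟩
      map_one' := rfl
      map_mul' := fun _ _ => rfl }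
  have hs1 : Function.Surjective p1 := by
    rintro ⟨d, hd⟩
    rw [← hD] at hd
    obtain ⟨γ, hγ, rfl⟩ := hd
    exact ⟨⟨γ, hγ⟩, rfl⟩
  have hs2 : Function.Surjective p2 := by
    rintro ⟨d, hd⟩
    rw [← hD'] at hd
    obtain ⟨γ, hγ, rfl⟩ := hd
    exact ⟨⟨γ, hγ⟩, rfl⟩
  have hb1 : Function.Bijective p1 := hs1.bijective_of_nat_card_le h1
  have hb2 : Function.Bijective p2 := hs2.bijective_of_nat_card_le h2
  let e1 : Γ ≃* D := MulEquiv.ofBijective p1 hb1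
  let e2 : Γ ≃* D' := MulEquiv.ofBijective p2 hb2
  refine ⟨e1.symm.trans e2, ?_⟩
  intro g g' hg
  refine ⟨hmem1 ⟨(g, g'), hg⟩, hmem2 ⟨(g, g'), hg⟩, ?_⟩
  have : e1 ⟨(g, g'), hg⟩ = ⟨g, hmem1 ⟨(g, g'), hg⟩⟩ := rfl
  rw [MulEquiv.trans_apply, ← this, MulEquiv.symm_apply_apply]
  rfl

end Graph

end Cfsg.Agent.Lib.Helper18.ESGlue
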