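import Mathlib
import Cfsg.Prelude.Def_Transfer
import Cfsg.Agent.Lib.Helper24.Extraspecial
import Cfsg.Agent.Lib.Helper18.ESGlue
import Cfsg.Agent.Lib.Helper18.ESBound
import Cfsg.Agent.Lib.Lead.UniqueSubgroup

/-! # Groups whose centre has prime order and contains all commutators

`IsES p E` says that the centre of `E` has order `p` and contains all commutators; for finite `E`
this means that `E` is extraspecial or of order `p`. We decompose such a group as a central product
`E = D ∘ C` of `D = ⟨x, y⟩` and `C = C_E(x) ∩ C_E(y)` for non-commuting `x`, `y`. -/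

set_option autoImplicit false
set_option linter.style.haveILetI false
set_option linter.unusedSectionVars false

namespace Cfsg.Agent.Lib.Helper18.ES

open Cfsg.Agent.Lib.Helper24

universe u v

/-- The centre of `E` has order `p` and contains all commutators. -/
def IsES (p : ℕ) (E : Type*) [Group E] : Prop :=
  Nat.card (Subgroup.center E) = p ∧ ∀ a b : E, a * b * a⁻¹ * b⁻¹ ∈ Subgroup.center E

theorem isES_of_isExtraspecial {p : ℕ} {E : Type*} [Group E] (h : Cfsg.IsExtraspecial p E) :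
    IsES p E := by
  obtain ⟨⟨_, _, hcomm⟩, hZ⟩ := h
  refine ⟨hZ, ?_⟩
  intro a b
  rw [← hcomm, commutator_def, ← commutatorElement_def]
  exact Subgroup.commutator_mem_commutator (Subgroup.mem_top a) (Subgroup.mem_top b)

section Basic

variable {p : ℕ} [hp : Fact p.Prime] {E : Type u} [Group E]

/-- Every central element is a power of a given nontrivial central element. -/
theorem IsES.exists_zpow (h : IsES p E) {z : E} (hz : z ∈ Subgroup.center E) (hz1 : z ≠ 1)
    {t : E} (ht : t ∈ Subgroup.center E) : ∃ k : ℤ, z ^ k = t := by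
  obtain ⟨k, hk⟩ := exists_zpow_eq_of_center_prime h.1 ⟨z, hz⟩ ⟨t, ht⟩
    (fun h0 => hz1 (congrArg Subtype.val h0))
  exact ⟨k, by simpa using congrArg Subtype.val hk⟩

/-- A central element has `p`-th power one. -/
theorem IsES.pow_eq_one_of_mem_center (h : IsES p E) {z : E} (hz : z ∈ Subgroup.center E) :
    z ^ p = 1 := by
  have := pow_card_eq_one' (G := Subgroup.center E) (x := ⟨z, hz⟩)
  rw [h.1] at this
  simpa using congrArg Subtype.val this

/-- `p`-th powers are central. -/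
theorem IsES.pow_mem_center (h : IsES p E) (g : E) : g ^ p ∈ Subgroup.center E := by
  rw [Subgroup.mem_center_iff]
  intro a
  -- `[a, g^p] = [a, g]^p = 1`
  obtain ⟨hZ, hc⟩ := h
  have h1 : commHom hc a (g ^ p) = 1 := by
    rw [map_pow]
    have := pow_card_eq_one' (G := Subgroup.center E) (x := commHom hc a g)
    rwa [hZ] at this
  exact (mem_ker_commHom hc a (g ^ p)).mp h1

/-- There is a nontrivial central element. -/
theorem IsES.exists_center_ne_one (h : IsES p E) : ∃ z ∈ Subgroup.center E, z ≠ 1 := by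
  have h1 : 1 < Nat.card (Subgroup.center E) := by rw [h.1]; exact hp.out.one_lt
  haveI : Finite (Subgroup.center E) := Nat.finite_of_card_ne_zero (by omega)
  haveI := Finite.one_lt_card_iff_nontrivial.mp h1
  obtain ⟨z, hz⟩ := exists_ne (1 : Subgroup.center E)
  exact ⟨z.1, z.2, fun h0 => hz (Subtype.ext h0)⟩

end Basic

section Decomp

variable {p : ℕ} [hp : Fact p.Prime] {E : Type u} [Group E]

/-- The subgroup `C = C_E(x) ∩ C_E(y)`. -/
def cen (h : IsES p E) (x y : E) : Subgroup E := commKer h.2 x y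

theorem mem_cen (h : IsES p E) (x y g : E) :
    g ∈ cen h x y ↔ x * g = g * x ∧ y * g = g * y := mem_commKer h.2 x y g

theorem center_le_cen (h : IsES p E) (x y : E) : Subgroup.center E ≤ cen h x y := by
  intro t ht
  rw [mem_cen]
  exact ⟨(Subgroup.mem_center_iff.mp ht x), (Subgroup.mem_center_iff.mp ht y)⟩

theorem mem_center_cen_iff (h : IsES p E) {x y : E} (hxy : x * y ≠ y * x) (c : cen h x y) :
    c ∈ Subgroup.center (cen h x y) ↔ (c : E) ∈ Subgroup.center E := by
  constructor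
  · intro hc
    have hcC := (mem_cen h x y c).mp c.2
    apply mem_center_of_commKer h.2 h.1 hxy hcC.1 hcC.2
    intro d hd
    have := (Subgroup.mem_center_iff.mp hc) ⟨d, hd⟩
    exact congrArg Subtype.val this
  · intro hc
    rw [Subgroup.mem_center_iff]
    intro d
    apply Subtype.ext
    exact (Subgroup.mem_center_iff.mp hc) d

/-- `C` is again of the same kind. -/
theorem isES_cen (h : IsES p E) {x y : E} (hxy : x * y ≠ y * x) : IsES p (cen h x y) := by
  constructor
  · refine (Nat.card_congr ?_).trans h.1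
    refine
      { toFun := fun c => ⟨c.1.1, (mem_center_cen_iff h hxy c.1).mp c.2⟩
        invFun := fun z => ⟨⟨z.1, center_le_cen h x y z.2⟩, ?_⟩
        left_inv := fun c => rfl
        right_inv := fun z => rfl }
    exact (mem_center_cen_iff h hxy _).mpr z.2
  · intro a b
    rw [mem_center_cen_iff h hxy]
    exact h.2 a b

theorem card_cen [Finite E] (h : IsES p E) {x y : E} (hxy : x * y ≠ y * x) :
    Nat.card (cen h x y) * (p * p) = Nat.card E := by
  rw [← index_commKer h.2 h.1 hxy]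
  exact Subgroup.card_mul_index _

/-- The subgroup `D = ⟨x, y⟩`. -/
def dd (x y : E) : Subgroup E := Subgroup.closure {x, y}

theorem left_mem_dd (x y : E) : x ∈ dd x y := Subgroup.subset_closure (by simp)

theorem right_mem_dd (x y : E) : y ∈ dd x y := Subgroup.subset_closure (by simp)

theorem dd_commute_cen (h : IsES p E) (x y : E) :
    ∀ d ∈ dd x y, ∀ c ∈ cen h x y, d * c = c * d := by
  intro d hd c hc
  have hle : dd x y ≤ Subgroup.centralizer {c} := by
    rw [dd, Subgroup.closure_le]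
    intro g hg
    have hcC := (mem_cen h x y c).mp hc
    rw [SetLike.mem_coe, Subgroup.mem_centralizer_singleton_iff]
    rcases hg with rfl | rfl
    · exact hcC.1
    · exact hcC.2
  have := hle hd
  rw [Subgroup.mem_centralizer_singleton_iff] at this
  exact this

theorem exists_dd_mul_cen (h : IsES p E) {x y : E} (hxy : x * y ≠ y * x) (g : E) :
    ∃ d ∈ dd x y, ∃ c ∈ cen h x y, g = d * c := by
  obtain ⟨c, hc, l, k, rfl⟩ := exists_decomp h.2 h.1 hxy g
  have hd : x ^ l * y ^ k ∈ dd x y :=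
    (dd x y).mul_mem ((dd x y).zpow_mem (left_mem_dd x y) l) ((dd x y).zpow_mem (right_mem_dd x y) k)
  refine ⟨x ^ l * y ^ k, hd, c, hc, ?_⟩
  rw [dd_commute_cen h x y _ hd c hc]
  group

theorem comm_mem_center_ne_one (h : IsES p E) {x y : E} (hxy : x * y ≠ y * x) :
    x * y * x⁻¹ * y⁻¹ ∈ Subgroup.center E ∧ x * y * x⁻¹ * y⁻¹ ≠ 1 := by
  refine ⟨h.2 x y, ?_⟩
  intro h1
  apply hxy
  calc x * y = (x * y * x⁻¹ * y⁻¹) * y * x := by group
    _ = y * x := by rw [h1, one_mul]

theorem center_le_dd (h : IsES p E) {x y : E} (hxy : x * y ≠ y * x) :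
    Subgroup.center E ≤ dd x y := by
  intro t ht
  obtain ⟨hz, hz1⟩ := comm_mem_center_ne_one h hxy
  obtain ⟨k, rfl⟩ := h.exists_zpow hz hz1 ht
  apply Subgroup.zpow_mem
  exact (dd x y).mul_mem ((dd x y).mul_mem ((dd x y).mul_mem (left_mem_dd x y) (right_mem_dd x y))
    ((dd x y).inv_mem (left_mem_dd x y))) ((dd x y).inv_mem (right_mem_dd x y))

theorem dd_inf_cen_le_center (h : IsES p E) {x y : E} (hxy : x * y ≠ y * x) {t : E}
    (hd : t ∈ dd x y) (hc : t ∈ cen h x y) : t ∈ Subgroup.center E := by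
  have hcC := (mem_cen h x y t).mp hc
  apply mem_center_of_commKer h.2 h.1 hxy hcC.1 hcC.2
  intro d hdC
  exact (dd_commute_cen h x y t hd d hdC).symm

end Decomp

section CardDD

variable {p : ℕ} [hp : Fact p.Prime] {E : Type u} [Group E]

/-- A finite group of this kind has order `p ^ (2 n + 1)`. -/
theorem IsES.exists_card [Finite E] (h : IsES p E) : ∃ n : ℕ, Nat.card E = p ^ (2 * n + 1) :=
  card_eq_prime_pow_odd p (Nat.card E) E rfl h.1 h.2

/-- `⟨x, y⟩` is nonabelian, hence of order at least `p ^ 3`. -/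
theorem card_dd_ge [Finite E] (h : IsES p E) {x y : E} (hxy : x * y ≠ y * x) :
    p * p * p ≤ Nat.card (dd x y) := by
  obtain ⟨n, hn⟩ := h.exists_card
  have hdvd : Nat.card (dd x y) ∣ p ^ (2 * n + 1) := by
    rw [← hn]; exact Subgroup.card_subgroup_dvd_card _
  obtain ⟨k, -, hk⟩ := (Nat.dvd_prime_pow hp.out).mp hdvd
  by_contra hlt
  push Not at hlt
  have hk2 : k ≤ 2 := by
    by_contra h3
    push Not at h3
    have : p ^ 3 ≤ p ^ k := Nat.pow_le_pow_right hp.out.pos h3
    rw [hk] at hlt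
    have e : p ^ 3 = p * p * p := by ring
    omega
  have := Cfsg.Agent.Lib.Lead.UniqueSubgroup.comm_of_card_le_sq hk2 hk
    ⟨x, left_mem_dd x y⟩ ⟨y, right_mem_dd x y⟩
  exact hxy (congrArg Subtype.val this)

end CardDD

section Step

variable {p : ℕ} [hp : Fact p.Prime] {E : Type u} {E' : Type v} [Group E] [Group E']

/-- The isomorphism `⟨x, y⟩ ≃* ⟨x', y'⟩` when `x, y, x', y'` have `p`-th power one. -/
theorem exists_dd_equiv [Finite E] [Finite E'] (h : IsES p E) (h' : IsES p E')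
    {x y : E} {x' y' : E'} (hxy : x * y ≠ y * x) (hxy' : x' * y' ≠ y' * x')
    (hx : x ^ p = 1) (hy : y ^ p = 1) (hx' : x' ^ p = 1) (hy' : y' ^ p = 1) :
    ∃ θ : dd x y ≃* dd x' y', θ ⟨x, left_mem_dd x y⟩ = ⟨x', left_mem_dd x' y'⟩ ∧
      θ ⟨y, right_mem_dd x y⟩ = ⟨y', right_mem_dd x' y'⟩ := by
  have hp0 : 0 < p := hp.out.pos
  set u : E × E' := (x, x') with hu
  set w : E × E' := (y, y') with hw
  let Γ : Subgroup (E × E') := Subgroup.closure {u, w}
  have hcomm : u * w * u⁻¹ * w⁻¹ = (x * y * x⁻¹ * y⁻¹, x' * y' * x'⁻¹ * y'⁻¹) := rfl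
  have hzc := (comm_mem_center_ne_one h hxy).1
  have hzc' := (comm_mem_center_ne_one h' hxy').1
  have hcen : ∀ g : E × E', Commute (u * w * u⁻¹ * w⁻¹) g := by
    intro g
    rw [hcomm]
    change (_, _) = (_, _)
    rw [Prod.mk.injEq]
    exact ⟨((Subgroup.mem_center_iff.mp hzc) g.1).symm, ((Subgroup.mem_center_iff.mp hzc') g.2).symm⟩
  have hΓcard : Nat.card Γ ≤ p * p * p := by
    apply Cfsg.Agent.Lib.Helper18.ESBound.card_closure_pair_le u w p p p hp0 hp0 hp0
      (hcen u) (hcen w)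
    · rw [hu, Prod.pow_mk, hx, hx']; rfl
    · rw [hw, Prod.pow_mk, hy, hy']; rfl
    · rw [hcomm, Prod.pow_mk, h.pow_eq_one_of_mem_center hzc, h'.pow_eq_one_of_mem_center hzc']
      rfl
  have hD : Γ.map (MonoidHom.fst E E') = dd x y := by
    rw [MonoidHom.map_closure, dd]
    congr 1
    simp [Set.image_pair, hu, hw]
  have hD' : Γ.map (MonoidHom.snd E E') = dd x' y' := by
    rw [MonoidHom.map_closure, dd]
    congr 1
    simp [Set.image_pair, hu, hw]
  have h1 := card_dd_ge h hxy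
  have h2 := card_dd_ge h' hxy'
  obtain ⟨θ, hθ⟩ := Cfsg.Agent.Lib.Helper18.ESGlue.exists_mulEquiv_of_graph Γ (dd x y) (dd x' y')
    hD hD' (hΓcard.trans h1) (hΓcard.trans h2)
  refine ⟨θ, ?_, ?_⟩
  · obtain ⟨_, _, h3⟩ := hθ x x' (Subgroup.subset_closure (by simp [hu]))
    exact h3
  · obtain ⟨_, _, h3⟩ := hθ y y' (Subgroup.subset_closure (by simp [hw]))
    exact h3

/-- Step lemma: an isomorphism `C ≃* C'` mapping `[x, y]` to `[x', y']` extends to an
isomorphism `E ≃* E'` mapping `x` to `x'` and `y` to `y'`. -/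
theorem exists_equiv_of_cen_equiv [Finite E] [Finite E'] (h : IsES p E) (h' : IsES p E')
    (hcard : Nat.card E = Nat.card E')
    {x y : E} {x' y' : E'} (hxy : x * y ≠ y * x) (hxy' : x' * y' ≠ y' * x')
    (hx : x ^ p = 1) (hy : y ^ p = 1) (hx' : x' ^ p = 1) (hy' : y' ^ p = 1)
    (ψ : cen h x y ≃* cen h' x' y')
    (hψ : (ψ ⟨x * y * x⁻¹ * y⁻¹, center_le_cen h x y (h.2 x y)⟩ : E') = x' * y' * x'⁻¹ * y'⁻¹) :
    ∃ φ : E ≃* E', φ x = x' ∧ φ y = y' ∧ ∀ c : cen h x y, φ c = ψ c := by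
  obtain ⟨θ, hθx, hθy⟩ := exists_dd_equiv h h' hxy hxy' hx hy hx' hy'
  obtain ⟨hzc, hz1⟩ := comm_mem_center_ne_one h hxy
  set z := x * y * x⁻¹ * y⁻¹ with hz
  have hzD : z ∈ dd x y := center_le_dd h hxy hzc
  have hzC : z ∈ cen h x y := center_le_cen h x y hzc
  have hθz : (θ ⟨z, hzD⟩ : E') = x' * y' * x'⁻¹ * y'⁻¹ := by
    have e : (⟨z, hzD⟩ : dd x y) = ⟨x, left_mem_dd x y⟩ * ⟨y, right_mem_dd x y⟩ *
        ⟨x, left_mem_dd x y⟩⁻¹ * ⟨y, right_mem_dd x y⟩⁻¹ := rfl
    rw [e, map_mul, map_mul, map_mul, map_inv, map_inv, hθx, hθy]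
    rfl
  have hagree : ∀ (t : E) (hd : t ∈ dd x y) (hc : t ∈ cen h x y),
      (θ ⟨t, hd⟩ : E') = (ψ ⟨t, hc⟩ : E') := by
    intro t hd hc
    have htc := dd_inf_cen_le_center h hxy hd hc
    obtain ⟨k, hk⟩ := h.exists_zpow hzc hz1 htc
    have e1 : (⟨t, hd⟩ : dd x y) = ⟨z, hzD⟩ ^ k := Subtype.ext (by simp [hk])
    have e2 : (⟨t, hc⟩ : cen h x y) = ⟨z, hzC⟩ ^ k := Subtype.ext (by simp [hk])
    rw [e1, e2, map_zpow, map_zpow, Subgroup.coe_zpow, Subgroup.coe_zpow, hθz, hψ]
  obtain ⟨φ, h1, h2⟩ := Cfsg.Agent.Lib.Helper18.ESGlue.exists_mulEquiv_of_central_product hcard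
    (dd x y) (cen h x y) (dd x' y') (cen h' x' y')
    (exists_dd_mul_cen h hxy) (dd_commute_cen h x y)
    (exists_dd_mul_cen h' hxy') (dd_commute_cen h' x' y') θ ψ hagree
  refine ⟨φ, ?_, ?_, h2⟩
  · have := h1 ⟨x, left_mem_dd x y⟩
    rw [hθx] at this
    exact this
  · have := h1 ⟨y, right_mem_dd x y⟩
    rw [hθy] at this
    exact this

end Step

end Cfsg.Agent.Lib.Helper18.ES
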