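import Mathlib
import Cfsg.Agent.Lib.Helper18.ESBasic

/-! # Extraspecial groups of exponent `p` are determined by their order -/

set_option autoImplicit false
set_option linter.style.haveILetI false
set_option linter.unusedSectionVars false

namespace Cfsg.Agent.Lib.Helper18.ES

open Cfsg.Agent.Lib.Helper24

universe u v

section

variable {p : ℕ} [hp : Fact p.Prime]

/-- In a nonabelian group of our kind, every nontrivial central element is a commutator `[x, y]`. -/
theorem IsES.exists_comm_eq {E : Type u} [Group E] (h : IsES p E)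
    (hna : ∃ a b : E, a * b ≠ b * a) {z : E} (hz : z ∈ Subgroup.center E) (hz1 : z ≠ 1) :
    ∃ x y : E, x * y * x⁻¹ * y⁻¹ = z ∧ x * y ≠ y * x := by
  obtain ⟨x, y₀, hxy₀⟩ := hna
  obtain ⟨hz₀, hz₀1⟩ := comm_mem_center_ne_one h hxy₀
  obtain ⟨k, hk⟩ := h.exists_zpow hz₀ hz₀1 hz
  have hc := h.2
  have h1 : commHom hc x (y₀ ^ k) = (commHom hc x y₀) ^ k := map_zpow _ _ _
  have h2 : x * y₀ ^ k * x⁻¹ * (y₀ ^ k)⁻¹ = z := by
    have := congrArg Subtype.val h1
    rw [commHom_apply, Subgroup.coe_zpow, commHom_apply, hk] at this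
    exact this
  refine ⟨x, y₀ ^ k, h2, ?_⟩
  intro h3
  apply hz1
  rw [← h2, h3]
  group

/-- A group of our kind of order more than `p` is nonabelian. -/
theorem IsES.exists_not_comm {E : Type u} [Group E] [Finite E] (h : IsES p E) {n : ℕ}
    (hc : Nat.card E = p ^ (2 * (n + 1) + 1)) : ∃ a b : E, a * b ≠ b * a := by
  have hp1 : 1 < p := hp.out.one_lt
  by_contra hcon
  push Not at hcon
  have : Subgroup.center E = ⊤ := by
    rw [Subgroup.eq_top_iff']
    intro g
    rw [Subgroup.mem_center_iff]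
    intro a
    exact hcon a g
  have h1 := h.1
  rw [this, Subgroup.card_top, hc] at h1
  have : p ^ 1 < p ^ (2 * (n + 1) + 1) := Nat.pow_lt_pow_right hp1 (by omega)
  rw [pow_one] at this
  omega

theorem card_cen_succ {E : Type u} [Group E] [Finite E] (h : IsES p E) {a b : E}
    (hab : a * b ≠ b * a) {n : ℕ} (hc : Nat.card E = p ^ (2 * (n + 1) + 1)) :
    Nat.card (cen h a b) = p ^ (2 * n + 1) := by
  have := card_cen h hab
  rw [hc] at this
  have e : p ^ (2 * (n + 1) + 1) = p ^ (2 * n + 1) * (p * p) := by ring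
  rw [e] at this
  exact Nat.eq_of_mul_eq_mul_right (Nat.mul_pos hp.out.pos hp.out.pos) this

/-- Two groups with centre of order `p` containing all commutators, of exponent `p` and of the same
order, are isomorphic, by an isomorphism mapping a prescribed central element to a prescribed
central element. -/
theorem exists_equiv_of_exponent : ∀ (n : ℕ) (E : Type u) (E' : Type v) [Group E] [Group E']
    [Finite E] [Finite E'], IsES p E → IsES p E' → (∀ g : E, g ^ p = 1) → (∀ g : E', g ^ p = 1) →
    Nat.card E = p ^ (2 * n + 1) → Nat.card E' = p ^ (2 * n + 1) →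
    ∀ z ∈ Subgroup.center E, z ≠ 1 → ∀ z' ∈ Subgroup.center E', z' ≠ 1 →
    ∃ φ : E ≃* E', φ z = z' := by
  intro n
  induction n with
  | zero =>
    intro E E' _ _ _ _ h h' hexp hexp' hc hc' z hz hz1 z' hz' hz'1
    simp only [mul_zero, zero_add, pow_one] at hc hc'
    have ho : orderOf z = p := orderOf_eq_prime (hexp z) hz1
    have ho' : orderOf z' = p := orderOf_eq_prime (hexp' z') hz'1
    have hg : ∀ g : E, g ∈ Subgroup.zpowers z := by
      have : Subgroup.zpowers z = ⊤ := by
        apply Subgroup.eq_top_of_card_eq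
        rw [Nat.card_zpowers, ho, hc]
      intro g; rw [this]; exact Subgroup.mem_top g
    have hg' : ∀ g : E', g ∈ Subgroup.zpowers z' := by
      have : Subgroup.zpowers z' = ⊤ := by
        apply Subgroup.eq_top_of_card_eq
        rw [Nat.card_zpowers, ho', hc']
      intro g; rw [this]; exact Subgroup.mem_top g
    exact ⟨mulEquivOfOrderOfEq hg hg' (ho.trans ho'.symm), mulEquivOfOrderOfEq_apply_gen hg hg' _⟩
  | succ n ih =>
    intro E E' _ _ _ _ h h' hexp hexp' hc hc' z hz hz1 z' hz' hz'1
    obtain ⟨x, y, hxyz, hxy⟩ := h.exists_comm_eq (h.exists_not_comm hc) hz hz1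
    obtain ⟨x', y', hxyz', hxy'⟩ := h'.exists_comm_eq (h'.exists_not_comm hc') hz' hz'1
    have hzC : z ∈ cen h x y := center_le_cen h x y hz
    have hzC' : z' ∈ cen h' x' y' := center_le_cen h' x' y' hz'
    obtain ⟨ψ, hψ⟩ := ih (cen h x y) (cen h' x' y') (isES_cen h hxy) (isES_cen h' hxy')
      (fun g => Subtype.ext (by simpa using hexp g.1))
      (fun g => Subtype.ext (by simpa using hexp' g.1))
      (card_cen_succ h hxy hc) (card_cen_succ h' hxy' hc')
      ⟨z, hzC⟩ ((mem_center_cen_iff h hxy _).mpr hz) (fun h0 => hz1 (congrArg Subtype.val h0))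
      ⟨z', hzC'⟩ ((mem_center_cen_iff h' hxy' _).mpr hz') (fun h0 => hz'1 (congrArg Subtype.val h0))
    obtain ⟨φ, -, -, hφ⟩ := exists_equiv_of_cen_equiv h h' (hc.trans hc'.symm) hxy hxy'
      (hexp x) (hexp y) (hexp' x') (hexp' y') ψ (by
        have e : (⟨x * y * x⁻¹ * y⁻¹, center_le_cen h x y (h.2 x y)⟩ : cen h x y) = ⟨z, hzC⟩ :=
          Subtype.ext hxyz
        rw [e, hψ, hxyz'])
    refine ⟨φ, ?_⟩
    have := hφ ⟨z, hzC⟩
    rw [hψ] at this
    exact this

end

end Cfsg.Agent.Lib.Helper18.ES
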