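import Mathlib
import Cfsg.Agent.Lib.Helper18.ESBasic
import Cfsg.Agent.Lib.Helper18.ESExp

/-! # Extraspecial 2-groups: counting solutions of `g ^ 2 = 1` -/

set_option autoImplicit false
set_option linter.style.haveILetI false
set_option linter.unusedSectionVars false

namespace Cfsg.Agent.Lib.Helper18.ES

open Cfsg.Agent.Lib.Helper24

universe u v

section Two

variable {E : Type u} [Group E]

instance : Fact (Nat.Prime 2) := ⟨Nat.prime_two⟩

/-- The centre is `{1, z}`. -/
theorem IsES.center_cases (h : IsES 2 E) {z : E} (hz : z ∈ Subgroup.center E) (hz1 : z ≠ 1)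
    {t : E} (ht : t ∈ Subgroup.center E) : t = 1 ∨ t = z := by
  obtain ⟨z', hz'1, hz'u⟩ := (Nat.card_eq_two_iff' (1 : Subgroup.center E)).mp h.1
  by_cases h1 : t = 1
  · left; exact h1
  · right
    have e1 : (⟨t, ht⟩ : Subgroup.center E) = z' := hz'u _ (fun h0 => h1 (congrArg Subtype.val h0))
    have e2 : (⟨z, hz⟩ : Subgroup.center E) = z' := hz'u _ (fun h0 => hz1 (congrArg Subtype.val h0))
    exact congrArg Subtype.val (e1.trans e2.symm)

theorem IsES.sq_cases (h : IsES 2 E) {z : E} (hz : z ∈ Subgroup.center E) (hz1 : z ≠ 1) (g : E) :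
    g ^ 2 = 1 ∨ g ^ 2 = z := h.center_cases hz hz1 (h.pow_mem_center g)

theorem IsES.comm_cases (h : IsES 2 E) {z : E} (hz : z ∈ Subgroup.center E) (hz1 : z ≠ 1) (a b : E) :
    a * b * a⁻¹ * b⁻¹ = 1 ∨ a * b * a⁻¹ * b⁻¹ = z := h.center_cases hz hz1 (h.2 a b)

/-- The number of solutions of `g ^ 2 = 1`. -/
noncomputable def nsq (E : Type*) [Group E] : ℕ := Nat.card {g : E // g ^ 2 = 1}

/-- The counting formula: if `x`, `y` are non-commuting involutions and `C = C_E(x) ∩ C_E(y)`, then
`N(E) = 2 N(C) + |C|`. -/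
theorem nsq_eq [Finite E] (h : IsES 2 E) {x y : E} (hx : x ^ 2 = 1) (hy : y ^ 2 = 1)
    (hxy : x * y ≠ y * x) : nsq E = 2 * nsq (cen h x y) + Nat.card (cen h x y) := by
  classical
  haveI : Fintype E := Fintype.ofFinite E
  haveI : Fintype (cen h x y) := Fintype.ofFinite _
  obtain ⟨hzc, hz1⟩ := comm_mem_center_ne_one h hxy
  set z := x * y * x⁻¹ * y⁻¹ with hz
  have hxi : x⁻¹ = x := by
    rw [inv_eq_iff_mul_eq_one, ← pow_two, hx]
  have hyi : y⁻¹ = y := by
    rw [inv_eq_iff_mul_eq_one, ← pow_two, hy]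
  have hxyz : (x * y) ^ 2 = z := by
    rw [hz, hxi, hyi, pow_two]; group
  have hzz : z * z = 1 := by
    have := h.pow_eq_one_of_mem_center hzc
    rwa [pow_two] at this
  let f : Bool × Bool × cen h x y → E :=
    fun t => (bif t.1 then x else 1) * (bif t.2.1 then y else 1) * (t.2.2 : E)
  have hsurj : Function.Surjective f := by
    intro g
    obtain ⟨c, hc, l, k, rfl⟩ := exists_decomp h.2 h.1 hxy g
    have hx2 : x ^ (2 : ℤ) = 1 := by exact_mod_cast hx
    have hy2 : y ^ (2 : ℤ) = 1 := by exact_mod_cast hy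
    have hcx : x * c = c * x := ((mem_cen h x y c).mp hc).1
    have hcy : y * c = c * y := ((mem_cen h x y c).mp hc).2
    have e1 : c * x ^ l * y ^ k = x ^ l * y ^ k * c := by
      have c1 : Commute c (x ^ l) := (Commute.zpow_right hcx.symm l)
      have c2 : Commute c (y ^ k) := (Commute.zpow_right hcy.symm k)
      calc c * x ^ l * y ^ k = x ^ l * c * y ^ k := by rw [c1.eq]
        _ = x ^ l * (c * y ^ k) := by group
        _ = x ^ l * (y ^ k * c) := by rw [c2.eq]
        _ = _ := by group
    rw [e1, zpow_eq_zpow_emod l hx2, zpow_eq_zpow_emod k hy2]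
    rcases Int.emod_two_eq_zero_or_one l with hl | hl <;>
    rcases Int.emod_two_eq_zero_or_one k with hk | hk
    · exact ⟨(false, false, ⟨c, hc⟩), by simp [f, hl, hk]⟩
    · exact ⟨(false, true, ⟨c, hc⟩), by simp [f, hl, hk]⟩
    · exact ⟨(true, false, ⟨c, hc⟩), by simp [f, hl, hk]⟩
    · exact ⟨(true, true, ⟨c, hc⟩), by simp [f, hl, hk]⟩
  have hcard : Nat.card (Bool × Bool × cen h x y) = Nat.card E := by
    rw [Nat.card_prod, Nat.card_prod, ← card_cen h hxy]
    simp only [Nat.card_eq_fintype_card, Fintype.card_bool]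
    ring
  have hbij : Function.Bijective f := hsurj.bijective_of_nat_card_le hcard.le
  let e : Bool × Bool × cen h x y ≃ E := Equiv.ofBijective f hbij
  -- squares
  have hsq : ∀ (d : E), d ∈ dd x y → ∀ c : cen h x y, (d * (c : E)) ^ 2 = d ^ 2 * (c : E) ^ 2 := by
    intro d hd c
    have := dd_commute_cen h x y d hd c c.2
    exact (Commute.mul_pow this 2)
  have hxD := left_mem_dd x y
  have hyD := right_mem_dd x y
  have h00 : ∀ c : cen h x y, (f (false, false, c)) ^ 2 = (c : E) ^ 2 := by
    intro c; simp [f]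
  have h10 : ∀ c : cen h x y, (f (true, false, c)) ^ 2 = (c : E) ^ 2 := by
    intro c
    have := hsq x hxD c
    simp only [f, cond_true, cond_false, mul_one]
    rw [this, hx, one_mul]
  have h01 : ∀ c : cen h x y, (f (false, true, c)) ^ 2 = (c : E) ^ 2 := by
    intro c
    have := hsq y hyD c
    simp only [f, cond_true, cond_false, one_mul]
    rw [this, hy, one_mul]
  have h11 : ∀ c : cen h x y, (f (true, true, c)) ^ 2 = z * (c : E) ^ 2 := by
    intro c
    have := hsq (x * y) ((dd x y).mul_mem hxD hyD) c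
    simp only [f, cond_true]
    rw [this, hxyz]
  have hcsq : ∀ c : cen h x y, (c : E) ^ 2 = 1 ↔ c ^ 2 = 1 := by
    intro c
    rw [← Subgroup.coe_pow, OneMemClass.coe_eq_one]
  have hN : nsq E = ∑ t : Bool × Bool × cen h x y, if (f t) ^ 2 = 1 then 1 else 0 := by
    rw [nsq, Nat.card_eq_fintype_card, Fintype.card_subtype, Finset.card_filter]
    exact (Equiv.sum_comp e (fun g => if g ^ 2 = 1 then 1 else 0)).symm
  have hNC : nsq (cen h x y) = ∑ c : cen h x y, if (c : E) ^ 2 = 1 then 1 else 0 := by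
    rw [nsq, Nat.card_eq_fintype_card, Fintype.card_subtype, Finset.card_filter]
    apply Finset.sum_congr rfl
    intro c _
    simp only [hcsq]
  have hlast : ∀ c : cen h x y, (if z * (c : E) ^ 2 = 1 then 1 else 0) +
      (if (c : E) ^ 2 = 1 then 1 else 0) = 1 := by
    intro c
    rcases h.sq_cases hzc hz1 (c : E) with h1 | h1
    · rw [h1, mul_one, if_neg hz1, if_pos rfl]
    · rw [h1, hzz, if_pos rfl, if_neg hz1]
  rw [hN, Fintype.sum_prod_type, Fintype.sum_bool, Fintype.sum_prod_type, Fintype.sum_prod_type,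
    Fintype.sum_bool, Fintype.sum_bool]
  simp only [h00, h10, h01, h11]
  rw [← hNC]
  have hsum : (∑ c : cen h x y, if z * (c : E) ^ 2 = 1 then 1 else 0) + nsq (cen h x y) =
      Nat.card (cen h x y) := by
    rw [hNC, ← Finset.sum_add_distrib]
    simp only [hlast]
    simp
  omega

/-- A non-central involution has a non-commuting involution partner. -/
theorem IsES.exists_involution_pair (h : IsES 2 E) {x : E} (hx : x ^ 2 = 1)
    (hxc : x ∉ Subgroup.center E) : ∃ y : E, y ^ 2 = 1 ∧ x * y ≠ y * x := by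
  rw [Subgroup.mem_center_iff] at hxc
  push Not at hxc
  obtain ⟨y₀, hy₀⟩ := hxc
  have hxy₀ : x * y₀ ≠ y₀ * x := fun h0 => hy₀ h0.symm
  obtain ⟨hzc, hz1⟩ := comm_mem_center_ne_one h hxy₀
  have hxi : x⁻¹ = x := by
    rw [inv_eq_iff_mul_eq_one, ← pow_two, hx]
  rcases h.sq_cases hzc hz1 y₀ with h1 | h1
  · exact ⟨y₀, h1, hxy₀⟩
  · refine ⟨x * y₀, ?_, ?_⟩
    · have hzz : (x * y₀ * x⁻¹ * y₀⁻¹) * (x * y₀ * x⁻¹ * y₀⁻¹) = 1 := by
        have := h.pow_eq_one_of_mem_center hzc
        rwa [pow_two] at this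
      have e1 : (x * y₀) ^ 2 = (x * y₀ * x⁻¹ * y₀⁻¹) * y₀ ^ 2 := by
        rw [hxi, pow_two, pow_two]; group
      rw [e1, h1, hzz]
    · intro h0
      apply hxy₀
      have : x * (x * y₀) = x * (y₀ * x) := by rw [h0]; group
      exact mul_left_cancel this

/-- Elements with `g ^ 2 = 1` are exactly the central ones when all involutions are central. -/
theorem nsq_eq_two_of_central (h : IsES 2 E) (hall : ∀ g : E, g ^ 2 = 1 → g ∈ Subgroup.center E) :
    nsq E = 2 := by
  refine (Nat.card_congr ?_).trans h.1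
  exact
    { toFun := fun g => ⟨g.1, hall g.1 g.2⟩
      invFun := fun t => ⟨t.1, h.pow_eq_one_of_mem_center t.2⟩
      left_inv := fun _ => rfl
      right_inv := fun _ => rfl }

/-- Lemma Q: a nonabelian group of our kind in which all involutions are central has order 8. -/
theorem card_eq_eight_of_central [Finite E] (h : IsES 2 E) (hna : ∃ a b : E, a * b ≠ b * a)
    (hall : ∀ g : E, g ^ 2 = 1 → g ∈ Subgroup.center E) : Nat.card E = 8 := by
  obtain ⟨x, y, hxy⟩ := hna
  obtain ⟨hzc, hz1⟩ := comm_mem_center_ne_one h hxy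
  set z := x * y * x⁻¹ * y⁻¹ with hz
  have hzz : z * z = 1 := by
    have := h.pow_eq_one_of_mem_center hzc
    rwa [pow_two] at this
  have hCle : cen h x y ≤ Subgroup.center E := by
    intro c hc
    by_contra hcc
    have hc2 : c ^ 2 = z := by
      rcases h.sq_cases hzc hz1 c with h1 | h1
      · exact absurd (hall c h1) hcc
      · exact h1
    have hx2 : x ^ 2 = z := by
      rcases h.sq_cases hzc hz1 x with h1 | h1
      · exfalso
        have := hall x h1
        exact hxy ((Subgroup.mem_center_iff.mp this) y).symm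
      · exact h1
    have hcx : x * c = c * x := ((mem_cen h x y c).mp hc).1
    have hcy : y * c = c * y := ((mem_cen h x y c).mp hc).2
    have h3 : (x * c) ^ 2 = 1 := by
      rw [Commute.mul_pow hcx 2, hx2, hc2, hzz]
    have h4 := hall _ h3
    apply hxy
    have h5 := (Subgroup.mem_center_iff.mp h4) y
    -- y * (x * c) = x * c * y
    have h6 : y * x * c = x * y * c := by
      calc y * x * c = y * (x * c) := by group
        _ = x * c * y := h5
        _ = x * (c * y) := by group
        _ = x * (y * c) := by rw [hcy]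
        _ = x * y * c := by group
    exact (mul_right_cancel h6).symm
  have hCeq : cen h x y = Subgroup.center E := le_antisymm hCle (center_le_cen h x y)
  have := card_cen h hxy
  rw [hCeq, h.1] at this
  omega

/-- Theorem N: a group of our kind of order `2 ^ (2 n + 1)` has `2 ^ (2 n) + 2 ^ n` or
`2 ^ (2 n) - 2 ^ n` solutions of `g ^ 2 = 1`. -/
theorem nsq_cases : ∀ (n : ℕ) (E : Type u) [Group E] [Finite E], IsES 2 E →
    Nat.card E = 2 ^ (2 * n + 1) → nsq E = 2 ^ (2 * n) + 2 ^ n ∨ nsq E + 2 ^ n = 2 ^ (2 * n) := by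
  intro n
  induction n with
  | zero =>
    intro E _ _ h hc
    left
    simp only [mul_zero, zero_add, pow_one, pow_zero] at hc ⊢
    have hall : ∀ g : E, g ^ 2 = 1 := by
      intro g
      have := pow_card_eq_one' (G := E) (x := g)
      rwa [hc] at this
    have e : nsq E = Nat.card E := Nat.card_congr
      { toFun := fun g => g.1
        invFun := fun g => ⟨g, hall g⟩
        left_inv := fun _ => rfl
        right_inv := fun _ => rfl }
    rw [e, hc]; norm_num
  | succ n ih =>
    intro E _ _ h hc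
    by_cases hex : ∃ x : E, x ^ 2 = 1 ∧ x ∉ Subgroup.center E
    · obtain ⟨x, hx, hxc⟩ := hex
      obtain ⟨y, hy, hxy⟩ := h.exists_involution_pair hx hxc
      have hC := card_cen_succ h hxy hc
      have hN := nsq_eq h hx hy hxy
      have e1 : 2 ^ (2 * (n + 1)) = 4 * 2 ^ (2 * n) := by ring
      have e2 : (2 : ℕ) ^ (n + 1) = 2 * 2 ^ n := by ring
      have e3 : (2 : ℕ) ^ (2 * n + 1) = 2 * 2 ^ (2 * n) := by ring
      rcases ih (cen h x y) (isES_cen h hxy) hC with h1 | h1
      · left; omega
      · right; omega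
    · push Not at hex
      have h8 := card_eq_eight_of_central h (h.exists_not_comm hc) hex
      have h2 := nsq_eq_two_of_central h hex
      rw [hc] at h8
      have hn : n = 0 := by
        by_contra hn
        have : 2 ^ (2 * 1 + 1) < 2 ^ (2 * (n + 1) + 1) :=
          Nat.pow_lt_pow_right (by norm_num) (by omega)
        omega
      subst hn
      right
      rw [h2]
      norm_num

end Two

end Cfsg.Agent.Lib.Helper18.ES
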