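import Mathlib
import Cfsg.Agent.Lib.Helper18.ESTwo
import Cfsg.Prelude.Def_CaseTheorems

/-! # Elementary abelian subgroups of extraspecial 2-groups -/

set_option autoImplicit false
set_option linter.style.haveILetI false
set_option linter.unusedSectionVars false

namespace Cfsg.Agent.Lib.Helper18.ES

open Cfsg.Agent.Lib.Helper24

universe u v

section

variable {E : Type u} [Group E]

/-- Lemma K: if `A` is an abelian subgroup containing `x`, and `y` does not commute with `x`, then
`A ∩ C_E(x) ∩ C_E(y)` has index `p` in `A`. -/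
theorem card_subgroupOf_cen_mul {p : ℕ} [hp : Fact p.Prime] [Finite E] (h : IsES p E)
    (A : Subgroup E) (hA : ∀ a ∈ A, ∀ b ∈ A, a * b = b * a) {x y : E} (hxA : x ∈ A)
    (hxy : x * y ≠ y * x) :
    Nat.card (A.subgroupOf (cen h x y)) * p = Nat.card A := by
  let ρ : A →* Subgroup.center E := (commHom h.2 y).comp A.subtype
  have hρx : ρ ⟨x, hxA⟩ ≠ 1 := by
    intro h0
    have : x ∈ (commHom h.2 y).ker := h0
    exact hxy ((mem_ker_commHom h.2 y x).mp this).symm
  have hidx : ρ.ker.index = p := index_ker_of_ne_one h.1 ρ hρx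
  have hker : ∀ a : A, a ∈ ρ.ker ↔ y * (a : E) = (a : E) * y := by
    intro a
    change (a : E) ∈ (commHom h.2 y).ker ↔ _
    exact mem_ker_commHom h.2 y a
  have hcard : Nat.card (A.subgroupOf (cen h x y)) = Nat.card ρ.ker := by
    apply Nat.card_congr
    refine
      { toFun := fun b => ⟨⟨((b : cen h x y) : E), b.2⟩, ?_⟩
        invFun := fun k => ⟨⟨((k : A) : E), ?_⟩, ?_⟩
        left_inv := fun _ => rfl
        right_inv := fun _ => rfl }
    · rw [hker]
      exact ((mem_cen h x y _).mp (b : cen h x y).2).2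
    · rw [mem_cen]
      exact ⟨hA x hxA _ (k : A).2, (hker _).mp k.2⟩
    · exact (k : A).2
  rw [hcard, ← hidx]
  exact Subgroup.card_mul_index _

/-- Theorem U: an abelian subgroup of a group of our kind of order `2 ^ (2 n + 1)` has order at
most `2 ^ (n + 1)`. -/
theorem card_abelian_le : ∀ (n : ℕ) (E : Type u) [Group E] [Finite E], IsES 2 E →
    Nat.card E = 2 ^ (2 * n + 1) → ∀ A : Subgroup E, (∀ a ∈ A, ∀ b ∈ A, a * b = b * a) →
    Nat.card A ≤ 2 ^ (n + 1) := by
  intro n
  induction n with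
  | zero =>
    intro E _ _ h hc A _
    rw [← hc]
    exact Subgroup.card_le_card_group A
  | succ n ih =>
    intro E _ _ h hc A hA
    by_cases hAc : A ≤ Subgroup.center E
    · calc Nat.card A ≤ Nat.card (Subgroup.center E) := Subgroup.card_le_of_le hAc
        _ = 2 ^ 1 := by rw [h.1]; norm_num
        _ ≤ 2 ^ (n + 1 + 1) := Nat.pow_le_pow_right (by norm_num) (by omega)
    · rw [SetLike.not_le_iff_exists] at hAc
      obtain ⟨x, hxA, hxc⟩ := hAc
      rw [Subgroup.mem_center_iff] at hxc
      push Not at hxc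
      obtain ⟨y, hy⟩ := hxc
      have hxy : x * y ≠ y * x := fun h0 => hy h0.symm
      have hK := card_subgroupOf_cen_mul h A hA hxA hxy
      have hB := ih (cen h x y) (isES_cen h hxy) (card_cen_succ h hxy hc)
        (A.subgroupOf (cen h x y)) (by
          intro a ha b hb
          apply Subtype.ext
          exact hA _ ha _ hb)
      have e : 2 ^ (n + 1 + 1) = 2 ^ (n + 1) * 2 := by ring
      omega

theorem nsq_eq_two_of_card_two [Finite E] (hc : Nat.card E = 2) : nsq E = 2 := by
  have hall : ∀ g : E, g ^ 2 = 1 := by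
    intro g
    have := pow_card_eq_one' (G := E) (x := g)
    rwa [hc] at this
  have e : nsq E = Nat.card E := Nat.card_congr
    { toFun := fun g => g.1
      invFun := fun g => ⟨g, hall g⟩
      left_inv := fun _ => rfl
      right_inv := fun _ => rfl }
  rw [e, hc]

/-- Theorem P: a group of our kind of order `2 ^ (2 n + 1)` with an elementary abelian subgroup of
order `2 ^ (n + 1)` has `2 ^ (2 n) + 2 ^ n` solutions of `g ^ 2 = 1`. -/
theorem nsq_of_elementary : ∀ (n : ℕ) (E : Type u) [Group E] [Finite E], IsES 2 E →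
    Nat.card E = 2 ^ (2 * n + 1) → ∀ A : Subgroup E, (∀ a ∈ A, ∀ b ∈ A, a * b = b * a) →
    (∀ a ∈ A, a ^ 2 = 1) → Nat.card A = 2 ^ (n + 1) → nsq E = 2 ^ (2 * n) + 2 ^ n := by
  intro n
  induction n with
  | zero =>
    intro E _ _ h hc A _ _ _
    simp only [mul_zero, zero_add, pow_one, pow_zero] at hc ⊢
    rw [nsq_eq_two_of_card_two hc]; norm_num
  | succ n ih =>
    intro E _ _ h hc A hA hA2 hcA
    have hAc : ¬ A ≤ Subgroup.center E := by
      intro hle
      have h1 : Nat.card A ≤ 2 := by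
        rw [← h.1]; exact Subgroup.card_le_of_le hle
      rw [hcA] at h1
      have : 2 ^ 2 ≤ 2 ^ (n + 1 + 1) := Nat.pow_le_pow_right (by norm_num) (by omega)
      omega
    rw [SetLike.not_le_iff_exists] at hAc
    obtain ⟨x, hxA, hxc⟩ := hAc
    have hx := hA2 x hxA
    obtain ⟨y, hy, hxy⟩ := h.exists_involution_pair hx hxc
    have hK := card_subgroupOf_cen_mul h A hA hxA hxy
    have hC := card_cen_succ h hxy hc
    have hcB : Nat.card (A.subgroupOf (cen h x y)) = 2 ^ (n + 1) := by
      rw [hcA] at hK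
      have e : 2 ^ (n + 1 + 1) = 2 ^ (n + 1) * 2 := by ring
      omega
    have hB := ih (cen h x y) (isES_cen h hxy) hC (A.subgroupOf (cen h x y))
      (by
        intro a ha b hb
        apply Subtype.ext
        exact hA _ ha _ hb)
      (by
        intro a ha
        apply Subtype.ext
        exact hA2 _ ha)
      hcB
    have hN := nsq_eq h hx hy hxy
    rw [hN, hB, hC]
    ring

/-- Lemma X: an elementary abelian subgroup `B` of `C = C_E(x) ∩ C_E(y)` (`x`, `y` non-commuting
involutions) extends to an elementary abelian subgroup of `E` of order at least `2 |B|`. -/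
theorem exists_elementary_extension (h : IsES 2 E) [Finite E] {x y : E} (hx : x ^ 2 = 1)
    (hxy : x * y ≠ y * x) (B : Subgroup (cen h x y)) (hB : ∀ a ∈ B, ∀ b ∈ B, a * b = b * a)
    (hB2 : ∀ a ∈ B, a ^ 2 = 1) :
    ∃ A : Subgroup E, (∀ a ∈ A, ∀ b ∈ A, a * b = b * a) ∧ (∀ a ∈ A, a ^ 2 = 1) ∧
      2 * Nat.card B ≤ Nat.card A := by
  let f : B →* E := (cen h x y).subtype.comp B.subtype
  let g : Subgroup.zpowers x →* E := (Subgroup.zpowers x).subtype
  have comm : ∀ (b : B) (t : Subgroup.zpowers x), Commute (f b) (g t) := by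
    intro b t
    obtain ⟨k, hk⟩ := Subgroup.mem_zpowers_iff.mp t.2
    have h1 : x * ((b : cen h x y) : E) = ((b : cen h x y) : E) * x :=
      ((mem_cen h x y _).mp (b : cen h x y).2).1
    change Commute ((b : cen h x y) : E) (t : E)
    rw [← hk]
    exact (Commute.zpow_right h1.symm k)
  let φ : B × Subgroup.zpowers x →* E := f.noncommCoprod g comm
  have hφ : ∀ q : B × Subgroup.zpowers x, φ q = ((q.1 : cen h x y) : E) * (q.2 : E) := fun q => rfl
  have hcomm : ∀ q r : B × Subgroup.zpowers x, q * r = r * q := by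
    intro q r
    apply Prod.ext
    · exact Subtype.ext (hB _ q.1.2 _ r.1.2)
    · obtain ⟨k, hk⟩ := Subgroup.mem_zpowers_iff.mp q.2.2
      obtain ⟨l, hl⟩ := Subgroup.mem_zpowers_iff.mp r.2.2
      apply Subtype.ext
      change (q.2 : E) * (r.2 : E) = (r.2 : E) * (q.2 : E)
      rw [← hk, ← hl, ← zpow_add, ← zpow_add, add_comm]
  have hsq : ∀ q : B × Subgroup.zpowers x, q ^ 2 = 1 := by
    intro q
    apply Prod.ext
    · exact Subtype.ext (hB2 _ q.1.2)
    · obtain ⟨k, hk⟩ := Subgroup.mem_zpowers_iff.mp q.2.2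
      apply Subtype.ext
      change ((q.2 : E)) ^ 2 = 1
      rw [← hk, ← zpow_natCast, ← zpow_mul, mul_comm, zpow_mul, zpow_natCast, hx, one_zpow]
  refine ⟨φ.range, ?_, ?_, ?_⟩
  · rintro _ ⟨q, rfl⟩ _ ⟨r, rfl⟩
    rw [← map_mul, ← map_mul, hcomm]
  · rintro _ ⟨q, rfl⟩
    rw [← map_pow, hsq, map_one]
  · -- the image of `B` is a proper subgroup of the range
    let B' : Subgroup E := B.map (cen h x y).subtype
    have hcB' : Nat.card B' = Nat.card B :=
      Subgroup.card_map_of_injective (Subgroup.subtype_injective _)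
    have hle : B' ≤ φ.range := by
      rintro _ ⟨b, hb, rfl⟩
      refine ⟨(⟨b, hb⟩, 1), ?_⟩
      rw [hφ]; simp
    have hxr : x ∈ φ.range := by
      refine ⟨(1, ⟨x, Subgroup.mem_zpowers x⟩), ?_⟩
      rw [hφ]; simp
    have hxB' : x ∉ B' := by
      rintro ⟨b, -, hb⟩
      have : x ∈ cen h x y := by
        have hb2 : (b : E) = x := hb
        have := b.2
        rwa [hb2] at this
      exact hxy ((mem_cen h x y x).mp this).2.symm
    have hdvd : Nat.card B' ∣ Nat.card φ.range := Subgroup.card_dvd_of_le hle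
    have hne : Nat.card B' ≠ Nat.card φ.range := by
      intro heq
      have : B' = φ.range := Subgroup.eq_of_le_of_card_ge hle heq.ge
      exact hxB' (this ▸ hxr)
    obtain ⟨k, hk⟩ := hdvd
    have hpos : 0 < Nat.card φ.range := Nat.card_pos
    have hk2 : 2 ≤ k := by
      rcases k with _ | _ | k
      · omega
      · omega
      · omega
    rw [← hcB', hk]
    calc 2 * Nat.card B' = Nat.card B' * 2 := by ring
      _ ≤ Nat.card B' * k := Nat.mul_le_mul_left _ hk2

/-- Theorem R: a group of our kind of order `2 ^ (2 n + 1)` has an elementary abelian subgroup of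
order at least `2 ^ n`, and at least `2 ^ (n + 1)` when it has `2 ^ (2 n) + 2 ^ n` solutions of
`g ^ 2 = 1`. -/
theorem exists_elementary : ∀ (n : ℕ) (E : Type u) [Group E] [Finite E], IsES 2 E →
    Nat.card E = 2 ^ (2 * n + 1) → ∃ A : Subgroup E, (∀ a ∈ A, ∀ b ∈ A, a * b = b * a) ∧
      (∀ a ∈ A, a ^ 2 = 1) ∧ 2 ^ n ≤ Nat.card A ∧
      (nsq E = 2 ^ (2 * n) + 2 ^ n → 2 ^ (n + 1) ≤ Nat.card A) := by
  intro n
  induction n with
  | zero =>
    intro E _ _ h hc
    simp only [mul_zero, zero_add, pow_one, pow_zero] at hc ⊢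
    have htop : Subgroup.center E = ⊤ := Subgroup.eq_top_of_card_eq _ (by rw [h.1, hc])
    refine ⟨⊤, ?_, ?_, ?_, ?_⟩
    · intro a _ b _
      have : a ∈ Subgroup.center E := by rw [htop]; exact Subgroup.mem_top a
      exact ((Subgroup.mem_center_iff.mp this) b).symm
    · intro a _
      have := pow_card_eq_one' (G := E) (x := a)
      rwa [hc] at this
    · rw [Subgroup.card_top, hc]; norm_num
    · intro _
      rw [Subgroup.card_top, hc]
  | succ n ih =>
    intro E _ _ h hc
    by_cases hex : ∃ x : E, x ^ 2 = 1 ∧ x ∉ Subgroup.center E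
    · obtain ⟨x, hx, hxc⟩ := hex
      obtain ⟨y, hy, hxy⟩ := h.exists_involution_pair hx hxc
      have hC := card_cen_succ h hxy hc
      have hN := nsq_eq h hx hy hxy
      obtain ⟨B, hB, hB2, hcB, hcB'⟩ := ih (cen h x y) (isES_cen h hxy) hC
      obtain ⟨A, hA, hA2, hcA⟩ := exists_elementary_extension h hx hxy B hB hB2
      refine ⟨A, hA, hA2, ?_, ?_⟩
      · have e : 2 ^ (n + 1) = 2 * 2 ^ n := by ring
        omega
      · intro hNE
        have e1 : 2 ^ (2 * (n + 1)) = 4 * 2 ^ (2 * n) := by ring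
        have e2 : (2 : ℕ) ^ (n + 1) = 2 * 2 ^ n := by ring
        have e3 : (2 : ℕ) ^ (2 * n + 1) = 2 * 2 ^ (2 * n) := by ring
        have e4 : (2 : ℕ) ^ (n + 1 + 1) = 2 * 2 ^ (n + 1) := by ring
        have := hcB' (by omega)
        omega
    · push Not at hex
      have h8 := card_eq_eight_of_central h (h.exists_not_comm hc) hex
      have h2 := nsq_eq_two_of_central h hex
      rw [hc] at h8
      have hn : n = 0 := by
        by_contra hn
        have : 2 ^ (2 * 1 + 1) < 2 ^ (2 * (n + 1) + 1) :=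
          Nat.pow_lt_pow_right (by norm_num) (by omega)
        omega
      subst hn
      refine ⟨Subgroup.center E, ?_, ?_, ?_, ?_⟩
      · intro a ha b _
        exact ((Subgroup.mem_center_iff.mp ha) b).symm
      · intro a ha
        exact h.pow_eq_one_of_mem_center ha
      · rw [h.1]; norm_num
      · intro hNE
        rw [h2] at hNE
        norm_num at hNE

theorem comm_of_isMulCommutative (A : Subgroup E) (hA : IsMulCommutative A) :
    ∀ a ∈ A, ∀ b ∈ A, a * b = b * a := by
  intro a ha b hb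
  have := hA.is_comm.comm ⟨a, ha⟩ ⟨b, hb⟩
  exact congrArg Subtype.val this

/-- Plus type: the 2-rank is `n + 1`. -/
theorem pRank_of_plus [Finite E] (h : IsES 2 E) {n : ℕ} (hc : Nat.card E = 2 ^ (2 * n + 1))
    (hN : nsq E = 2 ^ (2 * n) + 2 ^ n) :
    Cfsg.PRankLE 2 (n + 1) E ∧ ¬ Cfsg.PRankLE 2 n E := by
  constructor
  · intro A hA _
    exact card_abelian_le n E h hc A (comm_of_isMulCommutative A hA)
  · intro hR
    obtain ⟨A, hA, hA2, -, hcA⟩ := exists_elementary n E h hc
    have h1 := hcA hN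
    have h2 := hR A ⟨⟨fun a b => Subtype.ext (hA _ a.2 _ b.2)⟩⟩ hA2
    have e : 2 ^ (n + 1) = 2 * 2 ^ n := by ring
    have : 0 < 2 ^ n := by positivity
    omega

/-- Minus type: the 2-rank is `n`. -/
theorem pRank_of_minus [Finite E] (h : IsES 2 E) {n : ℕ} (hn : 1 ≤ n)
    (hc : Nat.card E = 2 ^ (2 * n + 1)) (hN : nsq E + 2 ^ n = 2 ^ (2 * n)) :
    Cfsg.PRankLE 2 n E ∧ ¬ Cfsg.PRankLE 2 (n - 1) E := by
  have hpos : 0 < 2 ^ n := by positivity
  constructor
  · intro A hA hA2
    have hAc := comm_of_isMulCommutative A hA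
    have hle := card_abelian_le n E h hc A hAc
    have hdvd : Nat.card A ∣ 2 ^ (2 * n + 1) := by
      rw [← hc]; exact Subgroup.card_subgroup_dvd_card A
    obtain ⟨k, -, hk⟩ := (Nat.dvd_prime_pow Nat.prime_two).mp hdvd
    rw [hk] at hle ⊢
    have hk1 : k ≤ n + 1 := (Nat.pow_le_pow_iff_right (by norm_num)).mp hle
    have hk2 : k ≠ n + 1 := by
      intro hk2
      rw [hk2] at hk
      have := nsq_of_elementary n E h hc A hAc hA2 hk
      omega
    exact Nat.pow_le_pow_right (by norm_num) (by omega)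
  · intro hR
    obtain ⟨A, hA, hA2, hcA, -⟩ := exists_elementary n E h hc
    have h2 := hR A ⟨⟨fun a b => Subtype.ext (hA _ a.2 _ b.2)⟩⟩ hA2
    have : 2 ^ (n - 1) < 2 ^ n := Nat.pow_lt_pow_right (by norm_num) (by omega)
    omega

/-- The 2-rank is at most `n` exactly for the minus type. -/
theorem pRankLE_iff_minus [Finite E] (h : IsES 2 E) {n : ℕ} (hn : 1 ≤ n)
    (hc : Nat.card E = 2 ^ (2 * n + 1)) :
    Cfsg.PRankLE 2 n E ↔ nsq E + 2 ^ n = 2 ^ (2 * n) := by
  constructor
  · intro hR
    rcases nsq_cases n E h hc with h1 | h1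
    · exact absurd hR (pRank_of_plus h hc h1).2
    · exact h1
  · intro h1
    exact (pRank_of_minus h hn hc h1).1

end

end Cfsg.Agent.Lib.Helper18.ES
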