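import Mathlib
import Cfsg.Prelude.Def_Transfer
import Cfsg.Prelude.Def_CaseTheorems
import Cfsg.Agent.Lib.Helper2.PGroupFrattini
import Cfsg.Agent.Lib.Helper16.Frattini2
import Cfsg.Agent.Lib.Helper18.ESRank

/-! # Construction of extraspecial 2-groups of both types from quadratic forms over `𝔽₂` -/

set_option autoImplicit false
set_option linter.style.haveILetI false
set_option linter.unusedSectionVars false

namespace Cfsg.Agent.Lib.Helper18.ESConstruct

open Subgroup
open scoped commutatorElement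

/-- A criterion for a whole group to be extraspecial. -/
theorem isExtraspecial_of_center {G : Type*} [Group G] [Finite G] {p : ℕ} [hp : Fact p.Prime]
    (hG : IsPGroup p G) (hcard : Nat.card (center G) = p)
    (hcomm : ∀ a b : G, ⁅a, b⁆ ∈ center G)
    (hpow : ∀ a : G, a ^ p ∈ center G) (hna : ∃ a b : G, a * b ≠ b * a) :
    Cfsg.IsExtraspecial p G := by
  have hle : commutator G ≤ center G := by
    rw [_root_.commutator_def, Subgroup.commutator_le]
    intro x _ y _
    exact hcomm x y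
  have hne : commutator G ≠ ⊥ := by
    intro h
    obtain ⟨a, b, hab⟩ := hna
    have h1 : ⁅a, b⁆ ∈ commutator G := by
      rw [_root_.commutator_def]
      exact Subgroup.commutator_mem_commutator (mem_top _) (mem_top _)
    rw [h, mem_bot, commutatorElement_eq_one_iff_mul_comm] at h1
    exact hab h1
  have heq : commutator G = center G := by
    apply Subgroup.eq_of_le_of_card_ge hle
    have hdvd := Subgroup.card_dvd_of_le hle
    rw [hcard] at hdvd ⊢
    rcases (Nat.dvd_prime hp.out).mp hdvd with h | h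
    · exact absurd (Subgroup.card_eq_one.mp h) hne
    · exact h.ge
  refine ⟨⟨hG, ?_, heq⟩, hcard⟩
  apply le_antisymm
  · exact Cfsg.Agent.Lib.Helper16.frattini_le_of_forall (p := p) _ hcomm hpow
  · rw [← heq]
    exact Cfsg.Agent.Lib.Helper2.commutator_le_frattini_of_isPGroup hG

/-- A bi-additive form with values in `𝔽₂`. -/
structure Form (V : Type) [AddCommGroup V] where
  β : V → V → ZMod 2
  add_left : ∀ u v w, β (u + v) w = β u w + β v w
  add_right : ∀ u v w, β u (v + w) = β u v + β u w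

namespace Form

variable {V : Type} [AddCommGroup V] (F : Form V)

theorem zero_left (w : V) : F.β 0 w = 0 := by
  have := F.add_left 0 0 w
  rw [add_zero] at this
  exact left_eq_add.mp this

theorem zero_right (w : V) : F.β w 0 = 0 := by
  have := F.add_right w 0 0
  rw [add_zero] at this
  exact left_eq_add.mp this

/-- Nondegeneracy of the associated alternating form. -/
def Nondeg : Prop := ∀ v : V, (∀ w : V, F.β v w = F.β w v) → v = 0

/-- The number of singular vectors. -/
noncomputable def zeros : ℕ := Nat.card {v : V // F.β v v = 0}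

theorem neg_right (v w : V) : F.β v (-w) = -F.β v w := by
  have := F.add_right v w (-w)
  rw [add_neg_cancel, F.zero_right] at this
  exact (neg_eq_of_add_eq_zero_right this.symm).symm

theorem neg_left (v w : V) : F.β (-v) w = -F.β v w := by
  have := F.add_left v (-v) w
  rw [add_neg_cancel, F.zero_left] at this
  exact (neg_eq_of_add_eq_zero_right this.symm).symm

end Form

/-- The underlying type of the central extension of `V` by `𝔽₂` with cocycle `β`. -/
@[ext]
structure Coc {V : Type} [AddCommGroup V] (F : Form V) where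
  vec : V
  sc : ZMod 2

namespace Coc

variable {V : Type} [AddCommGroup V] {F : Form V}

instance : Mul (Coc F) := ⟨fun x y => ⟨x.vec + y.vec, x.sc + y.sc + F.β x.vec y.vec⟩⟩
instance : One (Coc F) := ⟨⟨0, 0⟩⟩
instance : Inv (Coc F) := ⟨fun x => ⟨-x.vec, -x.sc + F.β x.vec x.vec⟩⟩

@[simp] theorem mul_vec (x y : Coc F) : (x * y).vec = x.vec + y.vec := rfl
@[simp] theorem mul_sc (x y : Coc F) : (x * y).sc = x.sc + y.sc + F.β x.vec y.vec := rfl
@[simp] theorem one_vec : (1 : Coc F).vec = 0 := rfl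
@[simp] theorem one_sc : (1 : Coc F).sc = 0 := rfl
@[simp] theorem inv_vec (x : Coc F) : (x⁻¹).vec = -x.vec := rfl
@[simp] theorem inv_sc (x : Coc F) : (x⁻¹).sc = -x.sc + F.β x.vec x.vec := rfl

instance : Group (Coc F) where
  mul_assoc x y z := by
    ext
    · simp [add_assoc]
    · simp only [mul_sc, mul_vec, F.add_left, F.add_right]; ring
  one_mul x := by
    ext
    · simp
    · simp [F.zero_left]
  mul_one x := by
    ext
    · simp
    · simp [F.zero_right]
  inv_mul_cancel x := by
    ext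
    · simp
    · simp only [mul_sc, inv_sc, inv_vec, one_sc, F.neg_left]; ring

/-- The underlying equivalence with `V × 𝔽₂`. -/
def equivProd : Coc F ≃ V × ZMod 2 where
  toFun x := (x.vec, x.sc)
  invFun t := ⟨t.1, t.2⟩
  left_inv _ := rfl
  right_inv _ := rfl

instance [Finite V] : Finite (Coc F) := Finite.of_equiv _ equivProd.symm

theorem card_eq [Finite V] : Nat.card (Coc F) = 2 * Nat.card V := by
  rw [Nat.card_congr (equivProd (F := F)), Nat.card_prod, Nat.card_zmod, mul_comm]

theorem zmod_add_self (a : ZMod 2) : a + a = 0 := CharTwo.add_self_eq_zero a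

variable (h2 : ∀ v : V, v + v = 0)

include h2 in
theorem sq_vec (x : Coc F) : (x ^ 2).vec = 0 := by
  rw [pow_two, mul_vec, h2]

theorem sq_sc (x : Coc F) : (x ^ 2).sc = F.β x.vec x.vec := by
  rw [pow_two, mul_sc, zmod_add_self, zero_add]

theorem mem_center_iff' (x : Coc F) :
    x ∈ center (Coc F) ↔ ∀ w : V, F.β x.vec w = F.β w x.vec := by
  rw [Subgroup.mem_center_iff]
  constructor
  · intro h w
    have := congrArg Coc.sc (h ⟨w, 0⟩)
    simp only [mul_sc, zero_add, add_zero] at this
    have h3 : F.β w x.vec = F.β x.vec w := add_left_cancel this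
    exact h3.symm
  · intro h g
    ext
    · simp [add_comm]
    · simp only [mul_sc, h g.vec]; ring

theorem mem_center_of_vec {x : Coc F} (hx : x.vec = 0) : x ∈ center (Coc F) := by
  rw [mem_center_iff']
  intro w
  rw [hx, F.zero_left, F.zero_right]

theorem mem_center_iff_vec (hnd : F.Nondeg) (x : Coc F) : x ∈ center (Coc F) ↔ x.vec = 0 :=
  ⟨fun h => hnd _ ((mem_center_iff' x).mp h), mem_center_of_vec⟩

theorem card_center (hnd : F.Nondeg) : Nat.card (center (Coc F)) = 2 := by
  have e : center (Coc F) ≃ ZMod 2 :=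
    { toFun := fun x => x.1.sc
      invFun := fun a => ⟨⟨0, a⟩, mem_center_of_vec rfl⟩
      left_inv := by
        rintro ⟨x, hx⟩
        have := (mem_center_iff_vec hnd x).mp hx
        apply Subtype.ext
        ext
        · exact this.symm
        · rfl
      right_inv := fun _ => rfl }
  rw [Nat.card_congr e, Nat.card_zmod]

theorem comm_mem_center (x y : Coc F) : ⁅x, y⁆ ∈ center (Coc F) := by
  apply mem_center_of_vec
  rw [commutatorElement_def]
  simp

include h2 in
theorem sq_mem_center (x : Coc F) : x ^ 2 ∈ center (Coc F) :=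
  mem_center_of_vec (sq_vec h2 x)

include h2 in
theorem sq_eq_one_iff (x : Coc F) : x ^ 2 = 1 ↔ F.β x.vec x.vec = 0 := by
  constructor
  · intro h
    rw [← sq_sc, h, one_sc]
  · intro h
    ext
    · rw [sq_vec h2, one_vec]
    · rw [sq_sc, h, one_sc]

include h2 in
theorem nsq_eq [Finite V] : Cfsg.Agent.Lib.Helper18.ES.nsq (Coc F) = 2 * F.zeros := by
  unfold Cfsg.Agent.Lib.Helper18.ES.nsq Form.zeros
  have e : {g : Coc F // g ^ 2 = 1} ≃ {v : V // F.β v v = 0} × ZMod 2 :=
    { toFun := fun g => (⟨g.1.vec, (sq_eq_one_iff h2 g.1).mp g.2⟩, g.1.sc)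
      invFun := fun t => ⟨⟨t.1.1, t.2⟩, (sq_eq_one_iff h2 _).mpr t.1.2⟩
      left_inv := fun _ => rfl
      right_inv := fun _ => rfl }
  rw [Nat.card_congr e, Nat.card_prod, Nat.card_zmod, mul_comm]

theorem exists_not_comm (hnd : F.Nondeg) (hV : ∃ v : V, v ≠ 0) :
    ∃ a b : Coc F, a * b ≠ b * a := by
  obtain ⟨v, hv⟩ := hV
  have : ¬ ∀ w : V, F.β v w = F.β w v := fun h => hv (hnd v h)
  push Not at this
  obtain ⟨w, hw⟩ := this
  refine ⟨⟨v, 0⟩, ⟨w, 0⟩, ?_⟩
  intro h
  have := congrArg Coc.sc h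
  simp only [mul_sc, zero_add] at this
  exact hw this

include h2 in
theorem isExtraspecial [Finite V] (hnd : F.Nondeg) {k : ℕ} (hk : 1 ≤ k)
    (hcard : Nat.card V = 2 ^ (2 * k)) :
    Cfsg.IsExtraspecial 2 (Coc F) ∧ Nat.card (Coc F) = 2 ^ (2 * k + 1) := by
  haveI : Fact (Nat.Prime 2) := ⟨Nat.prime_two⟩
  have hc : Nat.card (Coc F) = 2 ^ (2 * k + 1) := by
    rw [card_eq, hcard, pow_succ, mul_comm]
  refine ⟨?_, hc⟩
  apply isExtraspecial_of_center (IsPGroup.of_card hc) (card_center hnd) comm_mem_center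
    (sq_mem_center h2)
  apply exists_not_comm hnd
  by_contra hne
  push Not at hne
  have : Subsingleton V := ⟨fun a b => (hne a).trans (hne b).symm⟩
  have h1 : Nat.card V = 1 := Nat.card_unique
  rw [hcard] at h1
  have : 2 ^ (2 * k) ≥ 2 ^ 1 := Nat.pow_le_pow_right (by norm_num) (by omega)
  omega

end Coc

namespace Form

variable {V : Type} [AddCommGroup V] (F : Form V)

/-- Orthogonal sum with a hyperbolic plane. -/
def hyp : Form (V × (ZMod 2 × ZMod 2)) where
  β x y := F.β x.1 y.1 + x.2.1 * y.2.2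
  add_left u v w := by simp only [Prod.fst_add, Prod.snd_add, F.add_left]; ring
  add_right u v w := by simp only [Prod.fst_add, Prod.snd_add, F.add_right]; ring

theorem hyp_β (x y : V × (ZMod 2 × ZMod 2)) : F.hyp.β x y = F.β x.1 y.1 + x.2.1 * y.2.2 := rfl

theorem hyp_two (h2 : ∀ v : V, v + v = 0) : ∀ v : V × (ZMod 2 × ZMod 2), v + v = 0 := by
  rintro ⟨v, a, b⟩
  ext
  · exact h2 v
  · exact CharTwo.add_self_eq_zero a
  · exact CharTwo.add_self_eq_zero b

theorem hyp_nondeg (hnd : F.Nondeg) : F.hyp.Nondeg := by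
  rintro ⟨v, a, b⟩ h
  have hv : v = 0 := by
    apply hnd
    intro w
    have := h (w, 0, 0)
    simpa [hyp_β] using this
  have ha : a = 0 := by
    have := h (0, 0, 1)
    simpa [hyp_β, F.zero_left, F.zero_right] using this
  have hb : b = 0 := by
    have := h (0, 1, 0)
    simpa [hyp_β, F.zero_left, F.zero_right] using this.symm
  rw [hv, ha, hb]
  rfl

theorem hyp_zeros [Finite V] : F.hyp.zeros = 2 * F.zeros + Nat.card V := by
  classical
  haveI := Fintype.ofFinite V
  unfold zeros
  rw [Nat.card_eq_fintype_card, Nat.card_eq_fintype_card, Nat.card_eq_fintype_card,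
    Fintype.card_subtype, Fintype.card_subtype]
  rw [Finset.card_filter, ← Finset.univ_product_univ, Finset.sum_product]
  have inner : ∀ v : V, (∑ p : ZMod 2 × ZMod 2, if F.hyp.β (v, p) (v, p) = 0 then 1 else 0)
      = 2 * (if F.β v v = 0 then 1 else 0) + 1 := by
    intro v
    have key : ∀ c : ZMod 2, (∑ p : ZMod 2 × ZMod 2, if c + p.1 * p.2 = 0 then 1 else 0)
        = 2 * (if c = 0 then 1 else 0) + 1 := by decide
    exact key (F.β v v)
  simp_rw [inner]
  rw [Finset.sum_add_distrib, ← Finset.mul_sum, Finset.card_filter]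
  simp

theorem hyp_card [Finite V] : Nat.card (V × (ZMod 2 × ZMod 2)) = 4 * Nat.card V := by
  rw [Nat.card_prod, Nat.card_prod, Nat.card_zmod, mul_comm]

end Form

/-- The zero form on the trivial group. -/
def zeroForm : Form PUnit where
  β _ _ := 0
  add_left _ _ _ := (add_zero 0).symm
  add_right _ _ _ := (add_zero 0).symm

/-- The anisotropic form on `𝔽₂²`. -/
def anisoForm : Form (ZMod 2 × ZMod 2) where
  β x y := x.1 * y.2 + x.1 * y.1 + x.2 * y.2
  add_left u v w := by simp only [Prod.fst_add, Prod.snd_add]; ring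
  add_right u v w := by simp only [Prod.fst_add, Prod.snd_add]; ring

theorem exists_plus : ∀ k : ℕ, ∃ (V : Type) (_ : AddCommGroup V) (_ : Finite V) (F : Form V),
    (∀ v : V, v + v = 0) ∧ F.Nondeg ∧ Nat.card V = 2 ^ (2 * k) ∧
      2 * F.zeros = 2 ^ (2 * k) + 2 ^ k := by
  intro k
  induction k with
  | zero =>
    refine ⟨PUnit, inferInstance, inferInstance, zeroForm, fun _ => rfl, fun _ _ => rfl, ?_, ?_⟩
    · simp
    · have : zeroForm.zeros = 1 := by
        unfold Form.zeros
        rw [Nat.card_eq_fintype_card, Fintype.card_subtype]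
        rfl
      rw [this]
      norm_num
  | succ k ih =>
    obtain ⟨V, _, _, F, h2, hnd, hc, hz⟩ := ih
    refine ⟨V × (ZMod 2 × ZMod 2), inferInstance, inferInstance, F.hyp, Form.hyp_two h2,
      F.hyp_nondeg hnd, ?_, ?_⟩
    · rw [Form.hyp_card, hc]; ring
    · rw [F.hyp_zeros, hc, mul_add, ← mul_assoc, mul_comm 2 2, mul_assoc, hz]; ring

theorem exists_minus : ∀ k : ℕ, ∃ (V : Type) (_ : AddCommGroup V) (_ : Finite V) (F : Form V),
    (∀ v : V, v + v = 0) ∧ F.Nondeg ∧ Nat.card V = 2 ^ (2 * (k + 1)) ∧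
      2 * F.zeros + 2 ^ (k + 1) = 2 ^ (2 * (k + 1)) := by
  intro k
  induction k with
  | zero =>
    refine ⟨ZMod 2 × ZMod 2, inferInstance, inferInstance, anisoForm, ?_, ?_, ?_, ?_⟩
    · decide
    · unfold Form.Nondeg anisoForm
      decide
    · rw [Nat.card_prod, Nat.card_zmod]; norm_num
    · have : anisoForm.zeros = 1 := by
        unfold Form.zeros
        rw [Nat.card_eq_fintype_card, Fintype.card_subtype]
        rfl
      rw [this]; norm_num
  | succ k ih =>
    obtain ⟨V, _, _, F, h2, hnd, hc, hz⟩ := ih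
    refine ⟨V × (ZMod 2 × ZMod 2), inferInstance, inferInstance, F.hyp, Form.hyp_two h2,
      F.hyp_nondeg hnd, ?_, ?_⟩
    · rw [Form.hyp_card, hc]; ring
    · rw [F.hyp_zeros, hc]
      have e1 : 2 ^ (2 * (k + 1 + 1)) = 4 * 2 ^ (2 * (k + 1)) := by ring
      have e2 : 2 ^ (k + 1 + 1) = 2 * 2 ^ (k + 1) := by ring
      rw [e1, e2]
      omega

open Cfsg.Agent.Lib.Helper18.ES in
/-- Existence of extraspecial 2-groups of plus type. -/
theorem exists_extraspecial_plus (n : ℕ) (hn : 1 ≤ n) :
    ∃ (E : Type) (_ : Group E) (_ : Finite E), Cfsg.IsExtraspecial 2 E ∧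
      Nat.card E = 2 ^ (2 * n + 1) ∧ nsq E = 2 ^ (2 * n) + 2 ^ n := by
  obtain ⟨V, _, _, F, h2, hnd, hc, hz⟩ := exists_plus n
  obtain ⟨h1, h3⟩ := Coc.isExtraspecial (F := F) h2 hnd hn hc
  refine ⟨Coc F, inferInstance, inferInstance, h1, h3, ?_⟩
  rw [Coc.nsq_eq h2, hz]

open Cfsg.Agent.Lib.Helper18.ES in
/-- Existence of extraspecial 2-groups of minus type. -/
theorem exists_extraspecial_minus (n : ℕ) (hn : 1 ≤ n) :
    ∃ (E : Type) (_ : Group E) (_ : Finite E), Cfsg.IsExtraspecial 2 E ∧
      Nat.card E = 2 ^ (2 * n + 1) ∧ nsq E + 2 ^ n = 2 ^ (2 * n) := by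
  obtain ⟨k, rfl⟩ : ∃ k, n = k + 1 := ⟨n - 1, by omega⟩
  obtain ⟨V, _, _, F, h2, hnd, hc, hz⟩ := exists_minus k
  obtain ⟨h1, h3⟩ := Coc.isExtraspecial (F := F) h2 hnd hn hc
  refine ⟨Coc F, inferInstance, inferInstance, h1, h3, ?_⟩
  rw [Coc.nsq_eq h2, hz]

/-- The largest rank of an elementary abelian 2-subgroup, from `PRankLE` bounds. -/
theorem sSup_rank_eq {E : Type*} [Group E] [Finite E] {m r : ℕ} (hc : Nat.card E = 2 ^ m)
    (hr : 1 ≤ r) (h1 : Cfsg.PRankLE 2 r E) (h2 : ¬ Cfsg.PRankLE 2 (r - 1) E) :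
    sSup {k : ℕ | ∃ A : Subgroup E, Cfsg.IsElementaryAbelian 2 A ∧ Nat.card A = 2 ^ k} = r := by
  apply IsGreatest.csSup_eq
  constructor
  · unfold Cfsg.PRankLE at h2
    push Not at h2
    obtain ⟨A, hA1, hA2, hlt⟩ := h2
    have hdvd : Nat.card A ∣ 2 ^ m := by
      rw [← hc]; exact Subgroup.card_subgroup_dvd_card A
    obtain ⟨j, -, hj⟩ := (Nat.dvd_prime_pow Nat.prime_two).mp hdvd
    have hle := h1 A hA1 hA2
    rw [hj] at hlt hle
    have hj1 : r - 1 < j := (Nat.pow_lt_pow_iff_right (by norm_num)).mp hlt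
    have hj2 : j ≤ r := (Nat.pow_le_pow_iff_right (by norm_num)).mp hle
    have : j = r := by omega
    exact ⟨A, ⟨hA1, hA2⟩, by rw [hj, this]⟩
  · rintro k ⟨A, ⟨hA1, hA2⟩, hk⟩
    have hle := h1 A hA1 hA2
    rw [hk] at hle
    exact (Nat.pow_le_pow_iff_right (by norm_num)).mp hle

end Cfsg.Agent.Lib.Helper18.ESConstruct
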