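import Mathlib
import Cfsg.Agent.Lib.Helper18.ESTwo

/-! # Extraspecial 2-groups are determined by their order and the number of solutions of `g² = 1` -/

set_option autoImplicit false
set_option linter.style.haveILetI false
set_option linter.unusedSectionVars false

namespace Cfsg.Agent.Lib.Helper18.ES

open Cfsg.Agent.Lib.Helper24

universe u v

/-- A group of our kind of order 8 in which all involutions are central is the quaternion group. -/
theorem nonempty_equiv_quaternion {E : Type u} [Group E] [Finite E] (h : IsES 2 E)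
    (hna : ∃ a b : E, a * b ≠ b * a)
    (hall : ∀ g : E, g ^ 2 = 1 → g ∈ Subgroup.center E) :
    Nonempty (E ≃* QuaternionGroup 2) := by
  have h8 := card_eq_eight_of_central h hna hall
  have hP : IsPGroup 2 E := IsPGroup.of_card (n := 3) (by rw [h8]; norm_num)
  obtain ⟨z, hz, hz1⟩ := h.exists_center_ne_one
  have huniq : Cfsg.Agent.Lib.Lead.UniqueOrderP.UniqueOrderP 2 E := by
    have key : ∀ H : Subgroup E, Nat.card H = 2 → H = Subgroup.zpowers z := by
      intro H hH
      obtain ⟨g, hg⟩ := exists_prime_orderOf_dvd_card' (G := H) 2 (by rw [hH])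
      have hg2 : (g : E) ^ 2 = 1 := by
        rw [← Subgroup.orderOf_coe] at hg
        rw [← hg]; exact pow_orderOf_eq_one _
      have hg1 : (g : E) ≠ 1 := by
        intro h0
        rw [← Subgroup.orderOf_coe, h0, orderOf_one] at hg
        omega
      have hgz : (g : E) = z := by
        rcases h.center_cases hz hz1 (hall _ hg2) with h1 | h1
        · exact absurd h1 hg1
        · exact h1
      have hzH : z ∈ H := hgz ▸ g.2
      symm
      apply Subgroup.eq_of_le_of_card_ge (Subgroup.zpowers_le.mpr hzH)
      rw [Nat.card_zpowers, hH]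
      have : orderOf z = 2 := orderOf_eq_prime (h.pow_eq_one_of_mem_center hz) hz1
      rw [this]
    intro H K hH hK
    rw [key H hH, key K hK]
  rcases Cfsg.Agent.Lib.Lead.UniqueSubgroup.cyclic_or_quaternion hP huniq with hc | ⟨-, k, ⟨e⟩⟩
  · exfalso
    obtain ⟨a, b, hab⟩ := hna
    letI := IsCyclic.commGroup (α := E)
    exact hab (mul_comm a b)
  · have hk : Nat.card (QuaternionGroup (2 ^ k)) = 8 := by
      rw [← Nat.card_congr e.toEquiv, h8]
    haveI : NeZero (2 ^ k) := ⟨pow_ne_zero _ two_ne_zero⟩
    rw [Nat.card_eq_fintype_card, QuaternionGroup.card] at hk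
    have hk1 : k = 1 := by
      have h2 : 2 ^ k = 2 ^ 1 := by omega
      exact Nat.pow_right_injective (le_refl 2) h2
    subst hk1
    exact ⟨e⟩

/-- Theorem A: two groups of our kind of the same order with the same number of solutions of
`g ^ 2 = 1` are isomorphic. -/
theorem nonempty_equiv_of_nsq : ∀ (n : ℕ) (E : Type u) (E' : Type v) [Group E] [Group E']
    [Finite E] [Finite E'], IsES 2 E → IsES 2 E' →
    Nat.card E = 2 ^ (2 * n + 1) → Nat.card E' = 2 ^ (2 * n + 1) → nsq E = nsq E' →
    Nonempty (E ≃* E') := by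
  intro n
  induction n with
  | zero =>
    intro E E' _ _ _ _ h h' hc hc' _
    obtain ⟨z, hz, hz1⟩ := h.exists_center_ne_one
    obtain ⟨z', hz', hz'1⟩ := h'.exists_center_ne_one
    have h1 : ∀ g : E, g ^ 2 = 1 := by
      intro g
      have := pow_card_eq_one' (G := E) (x := g)
      rwa [hc] at this
    have h2 : ∀ g : E', g ^ 2 = 1 := by
      intro g
      have := pow_card_eq_one' (G := E') (x := g)
      rwa [hc'] at this
    obtain ⟨φ, -⟩ := exists_equiv_of_exponent (p := 2) 0 E E' h h' h1 h2 hc hc' z hz hz1 z' hz' hz'1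
    exact ⟨φ⟩
  | succ n ih =>
    intro E E' _ _ _ _ h h' hc hc' hN
    by_cases hex : ∃ x : E, x ^ 2 = 1 ∧ x ∉ Subgroup.center E
    · by_cases hex' : ∃ x : E', x ^ 2 = 1 ∧ x ∉ Subgroup.center E'
      · obtain ⟨x, hx, hxc⟩ := hex
        obtain ⟨y, hy, hxy⟩ := h.exists_involution_pair hx hxc
        obtain ⟨x', hx', hxc'⟩ := hex'
        obtain ⟨y', hy', hxy'⟩ := h'.exists_involution_pair hx' hxc'
        have hC := card_cen_succ h hxy hc
        have hC' := card_cen_succ h' hxy' hc'
        have hNE := nsq_eq h hx hy hxy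
        have hNE' := nsq_eq h' hx' hy' hxy'
        have hNC : nsq (cen h x y) = nsq (cen h' x' y') := by omega
        obtain ⟨ψ⟩ := ih (cen h x y) (cen h' x' y') (isES_cen h hxy) (isES_cen h' hxy') hC hC' hNC
        obtain ⟨hzc, hz1⟩ := comm_mem_center_ne_one h hxy
        obtain ⟨hzc', hz1'⟩ := comm_mem_center_ne_one h' hxy'
        have hψ : (ψ ⟨x * y * x⁻¹ * y⁻¹, center_le_cen h x y (h.2 x y)⟩ : E') =
            x' * y' * x'⁻¹ * y'⁻¹ := by
          set t : cen h x y := ⟨x * y * x⁻¹ * y⁻¹, center_le_cen h x y (h.2 x y)⟩ with ht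
          have ht1 : t ≠ 1 := fun h0 => hz1 (congrArg Subtype.val h0)
          have htc : t ∈ Subgroup.center (cen h x y) := (mem_center_cen_iff h hxy t).mpr hzc
          have h3 : ψ t ∈ Subgroup.center (cen h' x' y') := by
            rw [Subgroup.mem_center_iff]
            intro g
            obtain ⟨g₀, rfl⟩ := ψ.surjective g
            rw [← map_mul, ← map_mul, (Subgroup.mem_center_iff.mp htc) g₀]
          have h4 : ((ψ t : cen h' x' y') : E') ∈ Subgroup.center E' :=
            (mem_center_cen_iff h' hxy' _).mp h3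
          have h5 : ((ψ t : cen h' x' y') : E') ≠ 1 := by
            intro h0
            apply ht1
            apply ψ.injective
            rw [map_one]
            exact Subtype.ext h0
          rcases h'.center_cases hzc' hz1' h4 with h6 | h6
          · exact absurd h6 h5
          · exact h6
        obtain ⟨φ, -⟩ := exists_equiv_of_cen_equiv h h' (hc.trans hc'.symm) hxy hxy'
          hx hy hx' hy' ψ hψ
        exact ⟨φ⟩
      · exfalso
        push Not at hex'
        have h2 := nsq_eq_two_of_central h' hex'
        obtain ⟨x, hx, hxc⟩ := hex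
        obtain ⟨y, hy, hxy⟩ := h.exists_involution_pair hx hxc
        have hC := card_cen_succ h hxy hc
        have hNE := nsq_eq h hx hy hxy
        have : 2 ≤ 2 ^ (2 * n + 1) := by
          calc 2 = 2 ^ 1 := by norm_num
            _ ≤ 2 ^ (2 * n + 1) := Nat.pow_le_pow_right (by norm_num) (by omega)
        have hpos : 0 < nsq (cen h x y) := by
          rw [nsq]
          haveI : Nonempty {g : cen h x y // g ^ 2 = 1} := ⟨⟨1, one_pow 2⟩⟩
          exact Nat.card_pos
        omega
    · by_cases hex' : ∃ x : E', x ^ 2 = 1 ∧ x ∉ Subgroup.center E'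
      · exfalso
        push Not at hex
        have h2 := nsq_eq_two_of_central h hex
        obtain ⟨x, hx, hxc⟩ := hex'
        obtain ⟨y, hy, hxy⟩ := h'.exists_involution_pair hx hxc
        have hC := card_cen_succ h' hxy hc'
        have hNE := nsq_eq h' hx hy hxy
        have : 2 ≤ 2 ^ (2 * n + 1) := by
          calc 2 = 2 ^ 1 := by norm_num
            _ ≤ 2 ^ (2 * n + 1) := Nat.pow_le_pow_right (by norm_num) (by omega)
        have hpos : 0 < nsq (cen h' x y) := by
          rw [nsq]
          haveI : Nonempty {g : cen h' x y // g ^ 2 = 1} := ⟨⟨1, one_pow 2⟩⟩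
          exact Nat.card_pos
        omega
      · push Not at hex hex'
        obtain ⟨e⟩ := nonempty_equiv_quaternion h (h.exists_not_comm hc) hex
        obtain ⟨e'⟩ := nonempty_equiv_quaternion h' (h'.exists_not_comm hc') hex'
        exact ⟨e.trans e'.symm⟩

end Cfsg.Agent.Lib.Helper18.ES
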