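import Mathlib

/-!
A finite commutative group acting linearly and fixed-point-freely is cyclic (Schur's lemma on a
minimal invariant subspace), and its order divides `|W| - 1` for every invariant subspace `W`.
-/

set_option autoImplicit false

namespace Cfsg.Agent.Lib.Helper18.FpfAbelian

variable {K : Type*} [Field K] {V : Type*} [AddCommGroup V] [Module K V] {A : Type*} [Group A]

/-- The action restricted to an invariant subspace. -/
def restrictHom (ρ : A →* Module.End K V) (W : Submodule K V)
    (hinv : ∀ a : A, ∀ v ∈ W, ρ a v ∈ W) : A →* Module.End K W where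
  toFun a := (ρ a).restrict (hinv a)
  map_one' := by
    ext v
    simp
  map_mul' a b := by
    ext v
    simp

theorem restrictHom_apply (ρ : A →* Module.End K V) (W : Submodule K V)
    (hinv : ∀ a : A, ∀ v ∈ W, ρ a v ∈ W) (a : A) (w : W) :
    ((restrictHom ρ W hinv a) w : V) = ρ a (w : V) := rfl

theorem isCyclic_of_fpf [Finite A] (hcomm : ∀ a b : A, a * b = b * a) (ρ : A →* Module.End K V)
    (W : Submodule K V) (hW0 : W ≠ ⊥)
    (hinv : ∀ a : A, ∀ v ∈ W, ρ a v ∈ W)
    (hmin : ∀ W' : Submodule K V, W' ≤ W → (∀ a : A, ∀ v ∈ W', ρ a v ∈ W') → W' = ⊥ ∨ W' = W)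
    (hfpf : ∀ a : A, ∀ v : V, v ≠ 0 → ρ a v = v → a = 1) : IsCyclic A := by
  classical
  obtain ⟨σ, hσ⟩ : ∃ σ : A →* Module.End K W, σ = restrictHom ρ W hinv := ⟨_, rfl⟩
  have hσapp : ∀ (a : A) (w : W), ((σ a) w : V) = ρ a (w : V) := by
    intro a w; rw [hσ]; rfl
  obtain ⟨S, hS⟩ : ∃ S : Set (Module.End K W), S = Set.range σ := ⟨_, rfl⟩
  have hScomm : ∀ x ∈ S, ∀ y ∈ S, x * y = y * x := by
    rw [hS]
    rintro _ ⟨a, rfl⟩ _ ⟨b, rfl⟩
    rw [← map_mul, ← map_mul, hcomm]
  letI : CommRing (Algebra.adjoin K S) := Algebra.adjoinCommRingOfComm K hScomm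
  have hmem : ∀ a : A, σ a ∈ Algebra.adjoin K S := fun a =>
    Algebra.subset_adjoin (by rw [hS]; exact ⟨a, rfl⟩)
  obtain ⟨w₀, hw₀W, hw₀⟩ := (Submodule.ne_bot_iff W).1 hW0
  -- every nonzero element of the adjoin is injective
  have hkey : ∀ r : Algebra.adjoin K S, r ≠ 0 →
      Function.Injective (r.1 : Module.End K W) := by
    intro r hr
    have hrc : ∀ a : A, r.1 * σ a = σ a * r.1 := by
      intro a
      have := mul_comm r ⟨σ a, hmem a⟩
      exact congrArg Subtype.val this
    have hinvN : ∀ a : A, ∀ v ∈ (LinearMap.ker r.1).map W.subtype,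
        ρ a v ∈ (LinearMap.ker r.1).map W.subtype := by
      intro a v hv
      obtain ⟨n, hn, rfl⟩ := hv
      refine ⟨σ a n, ?_, ?_⟩
      · rw [SetLike.mem_coe, LinearMap.mem_ker] at hn ⊢
        have : r.1 (σ a n) = (r.1 * σ a) n := rfl
        rw [this, hrc a]
        show σ a (r.1 n) = 0
        rw [hn, map_zero]
      · exact hσapp a n
    rcases hmin _ (Submodule.map_subtype_le W _) hinvN with h | h
    · have hN : LinearMap.ker r.1 = ⊥ := by
        apply Submodule.map_injective_of_injective W.injective_subtype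
        rw [h, Submodule.map_bot]
      exact LinearMap.ker_eq_bot.1 hN
    · exfalso
      apply hr
      apply Subtype.ext
      apply LinearMap.ext
      intro w
      have hw : (w : V) ∈ (LinearMap.ker r.1).map W.subtype := by rw [h]; exact w.2
      obtain ⟨n, hn, hnw⟩ := hw
      have : n = w := Subtype.ext hnw
      rw [← this]
      exact hn
  haveI : Nontrivial (Algebra.adjoin K S) := by
    refine ⟨⟨1, 0, ?_⟩⟩
    intro h
    have h1 : ((1 : Algebra.adjoin K S).1 : Module.End K W) ⟨w₀, hw₀W⟩
        = ((0 : Algebra.adjoin K S).1 : Module.End K W) ⟨w₀, hw₀W⟩ := by rw [h]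
    have h2 : ((1 : Algebra.adjoin K S).1 : Module.End K W) = 1 := rfl
    have h3 : ((0 : Algebra.adjoin K S).1 : Module.End K W) = 0 := rfl
    rw [h2, h3] at h1
    apply hw₀
    have := congrArg Subtype.val h1
    simpa using this
  haveI : NoZeroDivisors (Algebra.adjoin K S) := by
    refine ⟨?_⟩
    intro r s hrs
    by_cases hr : r = 0
    · exact Or.inl hr
    · right
      have hinj := hkey r hr
      apply Subtype.ext
      apply LinearMap.ext
      intro w
      apply hinj
      have h1 : r.1 (s.1 w) = (r * s).1 w := rfl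
      rw [h1, hrs]
      have h3 : ((0 : Algebra.adjoin K S).1 : Module.End K W) = 0 := rfl
      rw [h3]
      simp
  haveI : IsDomain (Algebra.adjoin K S) := NoZeroDivisors.to_isDomain _
  let f : A →* Algebra.adjoin K S :=
    { toFun := fun a => ⟨σ a, hmem a⟩
      map_one' := by
        apply Subtype.ext
        show σ 1 = 1
        exact map_one σ
      map_mul' := by
        intro a b
        apply Subtype.ext
        show σ (a * b) = σ a * σ b
        exact map_mul σ a b }
  have hf : Function.Injective f := by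
    intro a b hab
    have h1 : σ a = σ b := congrArg Subtype.val hab
    have h2 : ρ (a⁻¹ * b) w₀ = w₀ := by
      have h3 := hσapp (a⁻¹ * b) ⟨w₀, hw₀W⟩
      rw [map_mul, ← h1, ← map_mul, inv_mul_cancel, map_one] at h3
      exact h3.symm
    have := hfpf _ w₀ hw₀ h2
    exact inv_mul_eq_one.1 this
  exact isCyclic_of_injective_ringHom f hf

/-- A group acting freely on a finite set has order dividing the size of the set. -/
theorem card_dvd_of_free' {G X : Type*} [Group G] [MulAction G X] [Finite G] [Finite X]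
    (hfree : ∀ (g : G) (x : X), g • x = x → g = 1) : Nat.card G ∣ Nat.card X := by
  classical
  have := Fintype.ofFinite (Quotient (MulAction.orbitRel G X))
  have e := MulAction.selfEquivSigmaOrbitsQuotientStabilizer G X
  have h : ∀ ω : Quotient (MulAction.orbitRel G X),
      Nat.card (G ⧸ MulAction.stabilizer G ω.out) = Nat.card G := by
    intro ω
    have hbot : MulAction.stabilizer G ω.out = ⊥ := by
      rw [eq_bot_iff]
      intro g hg
      exact Subgroup.mem_bot.mpr (hfree g _ hg)
    rw [hbot]
    exact Nat.card_congr (QuotientGroup.quotientBot).toEquiv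
  rw [Nat.card_congr e, Nat.card_sigma, Finset.sum_congr rfl (fun ω _ => h ω), Finset.sum_const]
  exact Dvd.intro_left _ rfl

theorem card_dvd_of_fpf [Finite A] [Finite V] (ρ : A →* Module.End K V)
    (W : Submodule K V) (hinv : ∀ a : A, ∀ v ∈ W, ρ a v ∈ W)
    (hfpf : ∀ a : A, ∀ v : V, v ≠ 0 → ρ a v = v → a = 1) : Nat.card A ∣ Nat.card W - 1 := by
  classical
  have hne : ∀ (a : A) (w : W), w ≠ 0 → restrictHom ρ W hinv a w ≠ 0 := by
    intro a w hw h0
    apply hw
    have h1 : restrictHom ρ W hinv (a⁻¹ * a) w = w := by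
      rw [inv_mul_cancel, map_one]; rfl
    rw [map_mul] at h1
    have h2 : restrictHom ρ W hinv a⁻¹ (restrictHom ρ W hinv a w) = w := h1
    rw [h0, map_zero] at h2
    exact h2.symm
  letI : MulAction A {w : W // w ≠ 0} :=
    { smul := fun a x => ⟨restrictHom ρ W hinv a x.1, hne a x.1 x.2⟩
      one_smul := by
        intro x
        apply Subtype.ext
        show restrictHom ρ W hinv 1 x.1 = x.1
        rw [map_one]; rfl
      mul_smul := by
        intro a b x
        apply Subtype.ext
        show restrictHom ρ W hinv (a * b) x.1 = restrictHom ρ W hinv a (restrictHom ρ W hinv b x.1)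
        rw [map_mul]; rfl }
  have hfree : ∀ (a : A) (x : {w : W // w ≠ 0}), a • x = x → a = 1 := by
    intro a x hx
    have h1 : restrictHom ρ W hinv a x.1 = x.1 := congrArg Subtype.val hx
    have h2 : ρ a (x.1 : V) = (x.1 : V) := by
      rw [← restrictHom_apply ρ W hinv a x.1, h1]
    refine hfpf a _ ?_ h2
    intro h0
    exact x.2 (Subtype.ext h0)
  have hdvd := card_dvd_of_free' hfree
  have hcard : Nat.card {w : W // w ≠ 0} = Nat.card W - 1 := by
    have : Nat.card {w : W // w ≠ 0} = (({0} : Set W)ᶜ).ncard := by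
      rw [← Nat.card_coe_set_eq]
      rfl
    rw [this, Set.ncard_compl, Set.ncard_singleton]
  rw [hcard] at hdvd
  exact hdvd

end Cfsg.Agent.Lib.Helper18.FpfAbelian
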