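import Cfsg.Prelude.Def_Solvable
import Mathlib.GroupTheory.SemidirectProduct
import Mathlib.Algebra.Group.Subgroup.Pointwise
import Mathlib.Algebra.Group.TransferInstance
import Mathlib.Data.Fintype.EquivFin
import Mathlib.Tactic.Group

/-!
Construction of Frobenius groups: if a nontrivial finite group `H` acts on a nontrivial finite
group `N` by automorphisms such that every non-identity element of `H` fixes only `1`, then `H` is
(isomorphic to) a Frobenius complement in `N ⋊ H`, in the sense of `Cfsg.IsFrobeniusComplement`,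
and the ambient group can be taken in `Type`.
-/

set_option autoImplicit false

namespace Cfsg.Agent.Lib.Helper18

open scoped Pointwise

theorem mem_conj_smul_iff_frob {G : Type*} [Group G] (H : Subgroup G) (g x : G) :
    x ∈ MulAut.conj g • H ↔ g⁻¹ * x * g ∈ H := by
  rw [Subgroup.mem_pointwise_smul_iff_inv_smul_mem]
  simp [MulAut.smul_def, mul_assoc]

/-- Elementwise form of `Cfsg.IsFrobeniusComplement`. -/
theorem isFrobeniusComplement_iff {G : Type*} [Group G] (H : Subgroup G) :
    Cfsg.IsFrobeniusComplement H ↔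
      H ≠ ⊥ ∧ H ≠ ⊤ ∧ ∀ g : G, g ∉ H → ∀ x ∈ H, g⁻¹ * x * g ∈ H → x = 1 := by
  unfold Cfsg.IsFrobeniusComplement
  constructor
  · rintro ⟨h1, h2, h3⟩
    refine ⟨h1, h2, ?_⟩
    intro g hg x hx hgx
    have : x ∈ H ⊓ (MulAut.conj g • H) := ⟨hx, (mem_conj_smul_iff_frob H g x).mpr hgx⟩
    rw [h3 g hg, Subgroup.mem_bot] at this
    exact this
  · rintro ⟨h1, h2, h3⟩
    refine ⟨h1, h2, ?_⟩
    intro g hg
    rw [eq_bot_iff]
    rintro x ⟨hx, hgx⟩
    rw [Subgroup.mem_bot]
    exact h3 g hg x hx ((mem_conj_smul_iff_frob H g x).mp hgx)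

/-- Transport a Frobenius complement along a group isomorphism. -/
theorem isFrobeniusComplement_map_equiv {G G' : Type*} [Group G] [Group G'] (e : G ≃* G')
    (H : Subgroup G) (hH : Cfsg.IsFrobeniusComplement H) :
    Cfsg.IsFrobeniusComplement (H.map e.toMonoidHom) := by
  rw [isFrobeniusComplement_iff] at hH ⊢
  obtain ⟨h1, h2, h3⟩ := hH
  have hmem : ∀ y : G', y ∈ H.map e.toMonoidHom ↔ e.symm y ∈ H := by
    intro y
    constructor
    · rintro ⟨x, hx, rfl⟩
      simpa using hx
    · intro hy
      exact ⟨e.symm y, hy, by simp⟩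
  refine ⟨?_, ?_, ?_⟩
  · intro h
    apply h1
    rw [eq_bot_iff]
    intro x hx
    have : e x ∈ H.map e.toMonoidHom := ⟨x, hx, rfl⟩
    rw [h, Subgroup.mem_bot] at this
    rw [Subgroup.mem_bot]
    exact (map_eq_one_iff e e.injective).mp this
  · intro h
    apply h2
    rw [eq_top_iff]
    intro x _
    have : e x ∈ H.map e.toMonoidHom := by rw [h]; trivial
    rw [hmem] at this
    simpa using this
  · intro g hg x hx hgx
    rw [hmem] at hg hx hgx
    have h4 := h3 (e.symm g) hg (e.symm x) hx (by simpa using hgx)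
    exact (map_eq_one_iff e.symm e.symm.injective).mp h4

/-- Any Frobenius complement in a finite group can be realised in a finite group living in `Type`. -/
theorem frob_to_type_zero {L₀ : Type*} [Group L₀] [Finite L₀] (C : Subgroup L₀)
    (hC : Cfsg.IsFrobeniusComplement C) :
    ∃ (L : Type) (_ : Group L) (_ : Finite L) (C' : Subgroup L),
      Cfsg.IsFrobeniusComplement C' ∧ Nonempty (C ≃* C') := by
  classical
  obtain ⟨n, ⟨e⟩⟩ := Finite.exists_equiv_fin L₀
  let e' : L₀ ≃ {i : ℕ // i < n} := e.trans Fin.equivSubtype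
  letI iG : Group {i : ℕ // i < n} := e'.symm.group
  have iF : Finite {i : ℕ // i < n} := Finite.of_equiv _ e'
  let f' : L₀ ≃* {i : ℕ // i < n} := (e'.symm.mulEquiv).symm
  exact ⟨{i : ℕ // i < n}, iG, iF, C.map f'.toMonoidHom,
    isFrobeniusComplement_map_equiv f' C hC, ⟨f'.subgroupMap C⟩⟩

/-- The core construction. -/
theorem frob_core {H N : Type*} [Group H] [Group N] [Nontrivial H] [Nontrivial N]
    (φ : H →* MulAut N) (hfree : ∀ h : H, h ≠ 1 → ∀ n : N, φ h n = n → n = 1) :
    Cfsg.IsFrobeniusComplement (SemidirectProduct.inr : H →* N ⋊[φ] H).range := by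
  rw [isFrobeniusComplement_iff]
  have hmem : ∀ x : N ⋊[φ] H, x ∈ (SemidirectProduct.inr : H →* N ⋊[φ] H).range ↔ x.left = 1 := by
    intro x
    constructor
    · rintro ⟨h, rfl⟩; rfl
    · intro hx
      refine ⟨x.right, ?_⟩
      ext
      · simp [hx]
      · simp
  refine ⟨?_, ?_, ?_⟩
  · intro hbot
    obtain ⟨h, hh⟩ := exists_ne (1 : H)
    have : (SemidirectProduct.inr h : N ⋊[φ] H) ∈ (SemidirectProduct.inr : H →* N ⋊[φ] H).range :=
      ⟨h, rfl⟩
    rw [hbot, Subgroup.mem_bot] at this
    apply hh
    have h2 := congrArg SemidirectProduct.right this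
    simpa using h2
  · intro htop
    obtain ⟨n, hn⟩ := exists_ne (1 : N)
    have : (SemidirectProduct.inl n : N ⋊[φ] H) ∈ (SemidirectProduct.inr : H →* N ⋊[φ] H).range := by
      rw [htop]; trivial
    rw [hmem] at this
    exact hn (by simpa using this)
  · intro g hg x hx hgx
    rw [hmem] at hg hx hgx
    -- x = inr c
    have hxeq : x = SemidirectProduct.inr x.right := by
      ext
      · simp [hx]
      · simp
    set c := x.right with hc
    rw [hxeq] at hgx
    have h1 : (g⁻¹ * SemidirectProduct.inr c * g).left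
        = φ g.right⁻¹ (g.left⁻¹) * φ (g.right⁻¹ * c) g.left := by
      simp [SemidirectProduct.mul_left, SemidirectProduct.inv_left, SemidirectProduct.mul_right,
        SemidirectProduct.inv_right]
    rw [h1] at hgx
    -- apply φ g.right
    have h2 : φ g.right (φ g.right⁻¹ (g.left⁻¹) * φ (g.right⁻¹ * c) g.left) = 1 := by
      rw [hgx, map_one]
    have h3 : φ g.right (φ g.right⁻¹ (g.left⁻¹)) = g.left⁻¹ := by
      rw [← MulAut.mul_apply, ← map_mul, mul_inv_cancel, map_one, MulAut.one_apply]
    have h4 : φ g.right (φ (g.right⁻¹ * c) g.left) = φ c g.left := by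
      rw [← MulAut.mul_apply, ← map_mul, ← mul_assoc, mul_inv_cancel, one_mul]
    rw [map_mul, h3, h4] at h2
    have h5 : φ c g.left = g.left := by
      have := congrArg (fun y => g.left * y) h2
      simpa [mul_assoc] using this
    by_contra hx1
    have hc1 : c ≠ 1 := by
      intro hc1
      apply hx1
      rw [hxeq, hc1, map_one]
    exact hg (hfree c hc1 g.left h5)

/-- Main lemma (multiplicative version): a finite nontrivial group acting freely (away from `1`)
on a finite nontrivial group is a Frobenius complement. -/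
theorem exists_frobenius_of_free_action {H N : Type*} [Group H] [Group N] [Finite H] [Finite N]
    [Nontrivial H] [Nontrivial N]
    (φ : H →* MulAut N) (hfree : ∀ h : H, h ≠ 1 → ∀ n : N, φ h n = n → n = 1) :
    ∃ (L : Type) (_ : Group L) (_ : Finite L) (C : Subgroup L),
      Cfsg.IsFrobeniusComplement C ∧ Nonempty (H ≃* C) := by
  have : Finite (N ⋊[φ] H) := Finite.of_equiv _ SemidirectProduct.equivProd.symm
  obtain ⟨L, iG, iF, C', hC', ⟨e⟩⟩ := frob_to_type_zero _ (frob_core φ hfree)
  refine ⟨L, iG, iF, C', hC', ⟨?_⟩⟩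
  exact (MonoidHom.ofInjective SemidirectProduct.inr_injective).trans e

/-- The automorphism of `Multiplicative V` induced by an element of a group acting additively. -/
def addActionMulAut {H V : Type*} [Group H] [AddCommGroup V] (f : H →* AddMonoid.End V) :
    H →* MulAut (Multiplicative V) where
  toFun h := AddEquiv.toMultiplicative
    { toFun := f h
      invFun := f h⁻¹
      left_inv := fun v => by
        show (f h⁻¹ * f h) v = v
        rw [← map_mul, inv_mul_cancel, map_one]; rfl
      right_inv := fun v => by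
        show (f h * f h⁻¹) v = v
        rw [← map_mul, mul_inv_cancel, map_one]; rfl
      map_add' := fun a b => map_add (f h) a b }
  map_one' := by
    ext v
    show Multiplicative.ofAdd ((f 1) (Multiplicative.toAdd v)) = v
    rw [map_one]; rfl
  map_mul' a b := by
    ext v
    show Multiplicative.ofAdd ((f (a * b)) (Multiplicative.toAdd v)) =
      Multiplicative.ofAdd ((f a) ((f b) (Multiplicative.toAdd v)))
    rw [map_mul]; rfl

theorem addActionMulAut_apply {H V : Type*} [Group H] [AddCommGroup V] (f : H →* AddMonoid.End V)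
    (h : H) (v : Multiplicative V) :
    addActionMulAut f h v = Multiplicative.ofAdd (f h (Multiplicative.toAdd v)) := rfl

/-- Main lemma (additive version). -/
theorem exists_frobenius_of_free_add_action {H V : Type*} [Group H] [AddCommGroup V] [Finite H]
    [Finite V] [Nontrivial H] [Nontrivial V] (f : H →* AddMonoid.End V)
    (hfree : ∀ h : H, h ≠ 1 → ∀ v : V, f h v = v → v = 0) :
    ∃ (L : Type) (_ : Group L) (_ : Finite L) (C : Subgroup L),
      Cfsg.IsFrobeniusComplement C ∧ Nonempty (H ≃* C) := by
  apply exists_frobenius_of_free_action (addActionMulAut f)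
  intro h hh n hn
  rw [addActionMulAut_apply] at hn
  have h1 : f h (Multiplicative.toAdd n) = Multiplicative.toAdd n := by
    have := congrArg Multiplicative.toAdd hn
    simpa using this
  have h2 := hfree h hh _ h1
  have : n = Multiplicative.ofAdd (Multiplicative.toAdd n) := rfl
  rw [this, h2]; rfl

end Cfsg.Agent.Lib.Helper18
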