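import Mathlib
import Cfsg.Prelude.Def_Sporadic_a
import Cfsg.Agent.Lib.Helper21.GolayConj
import Cfsg.Agent.Lib.Helper21.GolayFacts

/-!
The Steiner system S(3,6,22) obtained from the octads through two points, and the action of
the two-point stabiliser of `M24` on it.
-/

set_option autoImplicit false

namespace Cfsg.Agent.Lib.Helper18.GolayS22

open Cfsg Finset Cfsg.Agent.Lib.Helper21
open scoped Pointwise

/-- The points other than `none` and `some 0`. -/
abbrev P22 (x : GolayPt) : Prop := x ≠ none ∧ x ≠ some 0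

abbrev Pt22 : Type := {x : GolayPt // P22 x}

theorem card_pt22 : Fintype.card Pt22 = 22 := by decide

/-- Add the two base points to a set of the 22 remaining points. -/
def up (b : Finset Pt22) : Finset GolayPt :=
  insert none (insert (some 0) (b.map (Function.Embedding.subtype P22)))

theorem mem_up {b : Finset Pt22} {x : GolayPt} :
    x ∈ up b ↔ x = none ∨ x = some 0 ∨ ∃ h : P22 x, (⟨x, h⟩ : Pt22) ∈ b := by
  simp only [up, mem_insert, mem_map, Function.Embedding.coe_subtype]
  constructor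
  · rintro (h | h | ⟨y, hy, rfl⟩)
    · exact Or.inl h
    · exact Or.inr (Or.inl h)
    · exact Or.inr (Or.inr ⟨y.2, hy⟩)
  · rintro (h | h | ⟨h, hx⟩)
    · exact Or.inl h
    · exact Or.inr (Or.inl h)
    · exact Or.inr (Or.inr ⟨⟨x, h⟩, hx, rfl⟩)

theorem card_up (b : Finset Pt22) : (up b).card = b.card + 2 := by
  rw [up, card_insert_of_notMem, card_insert_of_notMem, card_map]
  · simp only [mem_map, Function.Embedding.coe_subtype, not_exists, not_and]
    intro y _ hy
    exact y.2.2 hy
  · simp only [mem_insert, mem_map, Function.Embedding.coe_subtype, not_or, not_exists, not_and]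
    refine ⟨by decide, ?_⟩
    intro y _ hy
    exact y.2.1 hy

theorem up_subset {s b : Finset Pt22} (h : s ⊆ b) : up s ⊆ up b := by
  intro x hx
  rw [mem_up] at hx ⊢
  rcases hx with h1 | h1 | ⟨h1, h2⟩
  · exact Or.inl h1
  · exact Or.inr (Or.inl h1)
  · exact Or.inr (Or.inr ⟨h1, h h2⟩)

theorem down_up (b : Finset Pt22) : (up b).subtype P22 = b := by
  ext y
  rw [mem_subtype, mem_up]
  constructor
  · rintro (h | h | ⟨_, h2⟩)
    · exact absurd h y.2.1
    · exact absurd h y.2.2
    · exact h2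
  · intro h
    exact Or.inr (Or.inr ⟨y.2, h⟩)

theorem up_down {o : Finset GolayPt} (h1 : none ∈ o) (h2 : some 0 ∈ o) :
    up (o.subtype P22) = o := by
  ext x
  rw [mem_up]
  constructor
  · rintro (h | h | ⟨_, h3⟩)
    · rw [h]; exact h1
    · rw [h]; exact h2
    · exact mem_subtype.1 h3
  · intro hx
    by_cases e1 : x = none
    · exact Or.inl e1
    by_cases e2 : x = some 0
    · exact Or.inr (Or.inl e2)
    exact Or.inr (Or.inr ⟨⟨e1, e2⟩, mem_subtype.2 hx⟩)

/-- The derived design. -/
def D22 : Set (Finset Pt22) := {b | up b ∈ octads}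

theorem steiner_D22 : IsSteinerSystem 3 6 D22 := by
  have hO := octads_steiner
  constructor
  · intro b hb
    have := hO.1 _ hb
    rw [card_up] at this
    omega
  · intro s hs
    obtain ⟨o, ⟨ho, hsub⟩, huniq⟩ := hO.2 (up s) (by rw [card_up, hs])
    have h1 : none ∈ o := hsub (mem_up.2 (Or.inl rfl))
    have h2 : some 0 ∈ o := hsub (mem_up.2 (Or.inr (Or.inl rfl)))
    refine ⟨o.subtype P22, ⟨?_, ?_⟩, ?_⟩
    · show up (o.subtype P22) ∈ octads
      rw [up_down h1 h2]
      exact ho
    · intro y hy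
      rw [mem_subtype]
      exact hsub (mem_up.2 (Or.inr (Or.inr ⟨y.2, hy⟩)))
    · rintro b' ⟨hb', hsb'⟩
      have : up b' = o := huniq _ ⟨hb', up_subset hsb'⟩
      rw [← this, down_up]

theorem P22_iff {g : Equiv.Perm GolayPt} (h1 : g none = none) (h2 : g (some 0) = some 0)
    (x : GolayPt) : P22 (g x) ↔ P22 x := by
  constructor
  · rintro ⟨ha, hb⟩
    refine ⟨?_, ?_⟩
    · rintro rfl
      exact ha h1
    · rintro rfl
      exact hb h2
  · rintro ⟨ha, hb⟩
    refine ⟨?_, ?_⟩
    · intro h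
      rw [← h1] at h
      exact ha (g.injective h)
    · intro h
      rw [← h2] at h
      exact hb (g.injective h)

theorem up_image {g : Equiv.Perm GolayPt} (h1 : g none = none) (h2 : g (some 0) = some 0)
    (b : Finset Pt22) : up (b.image (g.subtypePerm (P22_iff h1 h2))) = g • up b := by
  ext x
  rw [mem_up, Finset.mem_smul_finset]
  constructor
  · rintro (h | h | ⟨hP, hx⟩)
    · exact ⟨none, mem_up.2 (Or.inl rfl), by rw [h]; exact h1⟩
    · exact ⟨some 0, mem_up.2 (Or.inr (Or.inl rfl)), by rw [h]; exact h2⟩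
    · obtain ⟨y, hy, hyx⟩ := mem_image.1 hx
      refine ⟨y.1, mem_up.2 (Or.inr (Or.inr ⟨y.2, hy⟩)), ?_⟩
      have := congrArg Subtype.val hyx
      simpa using this
  · rintro ⟨z, hz, rfl⟩
    rw [mem_up] at hz
    rcases hz with h | h | ⟨hP, hz⟩
    · left; rw [h]; exact h1
    · right; left; rw [h]; exact h2
    · right; right
      refine ⟨(P22_iff h1 h2 z).2 hP, ?_⟩
      rw [mem_image]
      exact ⟨⟨z, hP⟩, hz, by simp [Equiv.Perm.subtypePerm_apply]⟩

/-- The two-point stabiliser. -/
abbrev K22 : Subgroup ↥M24 :=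
  MulAction.stabilizer M24 (none : GolayPt) ⊓ MulAction.stabilizer M24 (some 0 : GolayPt)

theorem K22_fix1 (k : ↥K22) : (k.1.1 : Equiv.Perm GolayPt) none = none :=
  MulAction.mem_stabilizer_iff.1 k.2.1

theorem K22_fix2 (k : ↥K22) : (k.1.1 : Equiv.Perm GolayPt) (some 0) = some 0 :=
  MulAction.mem_stabilizer_iff.1 k.2.2

/-- The action on the 22 points. -/
noncomputable def rho (k : ↥K22) : Equiv.Perm Pt22 :=
  (k.1.1 : Equiv.Perm GolayPt).subtypePerm (P22_iff (K22_fix1 k) (K22_fix2 k))

theorem rho_apply (k : ↥K22) (y : Pt22) : ((rho k y : Pt22) : GolayPt) = k.1.1 y.1 := rfl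

theorem rho_mul (k k' : ↥K22) : rho (k * k') = rho k * rho k' := by
  ext y
  rfl

theorem rho_injective : Function.Injective rho := by
  intro k k' h
  apply Subtype.ext
  apply Subtype.ext
  apply Equiv.ext
  intro x
  by_cases e1 : x = none
  · rw [e1, K22_fix1 k, K22_fix1 k']
  by_cases e2 : x = some 0
  · rw [e2, K22_fix2 k, K22_fix2 k']
  have := congrArg (fun f : Equiv.Perm Pt22 => ((f ⟨x, e1, e2⟩ : Pt22) : GolayPt)) h
  exact this

theorem rho_mem (k : ↥K22) {b : Finset Pt22} (hb : b ∈ D22) : b.image (rho k) ∈ D22 := by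
  show up (b.image (rho k)) ∈ octads
  rw [rho, up_image (K22_fix1 k) (K22_fix2 k)]
  exact smul_mem_octads k.1.2 hb

end Cfsg.Agent.Lib.Helper18.GolayS22
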