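import Mathlib

/-!
Strongly regular graphs with parameters (100, 22, 0, 6): local structure at a vertex, part 1.
-/

set_option autoImplicit false

namespace Cfsg.Agent.Lib.Helper18.HS

open Finset

variable {V : Type*} [Fintype V] [DecidableEq V] {G : SimpleGraph V} [DecidableRel G.Adj]

theorem card_common (v w : V) [Fintype ↥(G.commonNeighbors v w)] :
    Fintype.card ↥(G.commonNeighbors v w) = (G.neighborFinset v ∩ G.neighborFinset w).card :=
  Fintype.card_of_subtype _ (by simp [SimpleGraph.mem_commonNeighbors])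

theorem deg (hG : G.IsSRGWith 100 22 0 6) (v : V) : (G.neighborFinset v).card = 22 := by
  rw [G.card_neighborFinset_eq_degree]
  exact hG.regular v

theorem adj_common (hG : G.IsSRGWith 100 22 0 6) {v w : V} (h : G.Adj v w) :
    G.neighborFinset v ∩ G.neighborFinset w = ∅ := by
  rw [← card_eq_zero, ← card_common]
  exact hG.of_adj v w h

theorem nonadj_common (hG : G.IsSRGWith 100 22 0 6) {v w : V} (hne : v ≠ w) (h : ¬ G.Adj v w) :
    (G.neighborFinset v ∩ G.neighborFinset w).card = 6 := by
  rw [← card_common]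
  exact hG.of_not_adj hne h

/-- No triangles. -/
theorem no_triangle (hG : G.IsSRGWith 100 22 0 6) {x y z : V} (hxy : G.Adj x y) (hxz : G.Adj x z)
    (hyz : G.Adj y z) : False := by
  have h := adj_common hG hyz
  have : x ∈ G.neighborFinset y ∩ G.neighborFinset z := by
    rw [mem_inter, SimpleGraph.mem_neighborFinset, SimpleGraph.mem_neighborFinset]
    exact ⟨hxy.symm, hxz.symm⟩
  rw [h] at this
  exact notMem_empty _ this

/-- The non-neighbours of `v`. -/
def nonNbrs (G : SimpleGraph V) [DecidableRel G.Adj] (v : V) : Finset V :=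
  univ.filter (fun w => w ≠ v ∧ ¬ G.Adj v w)

theorem mem_nonNbrs {v w : V} : w ∈ nonNbrs G v ↔ w ≠ v ∧ ¬ G.Adj v w := by
  simp [nonNbrs]

theorem card_nonNbrs (hG : G.IsSRGWith 100 22 0 6) (v : V) : (nonNbrs G v).card = 77 := by
  have h1 : (univ : Finset V) = insert v (G.neighborFinset v ∪ nonNbrs G v) := by
    ext w
    simp only [mem_univ, mem_insert, mem_union, SimpleGraph.mem_neighborFinset, mem_nonNbrs,
      true_iff]
    by_cases h : w = v
    · exact Or.inl h
    · by_cases h' : G.Adj v w
      · exact Or.inr (Or.inl h')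
      · exact Or.inr (Or.inr ⟨h, h'⟩)
  have h2 : (univ : Finset V).card = 100 := by rw [card_univ]; exact hG.card
  rw [h1, card_insert_of_notMem, card_union_of_disjoint, deg hG] at h2
  · omega
  · rw [disjoint_left]
    intro w hw hw'
    rw [SimpleGraph.mem_neighborFinset] at hw
    exact (mem_nonNbrs.1 hw').2 hw
  · simp [mem_nonNbrs]

theorem block_card (hG : G.IsSRGWith 100 22 0 6) {v w : V} (hw : w ∈ nonNbrs G v) :
    (G.neighborFinset w ∩ G.neighborFinset v).card = 6 := by
  rw [mem_nonNbrs] at hw
  exact nonadj_common hG hw.1 (fun h => hw.2 h.symm)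

/-- The non-neighbours of `v` other than `w` that are not adjacent to `w`. -/
def far (G : SimpleGraph V) [DecidableRel G.Adj] (v w : V) : Finset V :=
  (nonNbrs G v).filter (fun w' => w' ≠ w ∧ ¬ G.Adj w w')

theorem mem_far {v w w' : V} :
    w' ∈ far G v w ↔ (w' ≠ v ∧ ¬ G.Adj v w') ∧ w' ≠ w ∧ ¬ G.Adj w w' := by
  simp [far, mem_nonNbrs]

theorem card_far (hG : G.IsSRGWith 100 22 0 6) {v w : V} (hw : w ∈ nonNbrs G v) :
    (far G v w).card = 60 := by
  have hw' := mem_nonNbrs.1 hw
  -- nonNbrs v = {w} ∪ (N w ∩ nonNbrs v) ∪ far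
  have h1 : nonNbrs G v = insert w ((G.neighborFinset w ∩ nonNbrs G v) ∪ far G v w) := by
    ext u
    simp only [mem_insert, mem_union, mem_inter, SimpleGraph.mem_neighborFinset, mem_far,
      mem_nonNbrs]
    constructor
    · rintro ⟨h1, h2⟩
      by_cases e : u = w
      · exact Or.inl e
      · by_cases a : G.Adj w u
        · exact Or.inr (Or.inl ⟨a, h1, h2⟩)
        · exact Or.inr (Or.inr ⟨⟨h1, h2⟩, e, a⟩)
    · rintro (rfl | ⟨_, h⟩ | ⟨h, _⟩)
      · exact hw'
      · exact h
      · exact h
  -- N w = (N w ∩ N v) ∪ (N w ∩ nonNbrs v)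
  have h2 : G.neighborFinset w
      = (G.neighborFinset w ∩ G.neighborFinset v) ∪ (G.neighborFinset w ∩ nonNbrs G v) := by
    ext u
    simp only [mem_union, mem_inter, SimpleGraph.mem_neighborFinset, mem_nonNbrs]
    constructor
    · intro a
      by_cases b : G.Adj v u
      · exact Or.inl ⟨a, b⟩
      · refine Or.inr ⟨a, ?_, b⟩
        rintro rfl
        exact hw'.2 a.symm
    · rintro (h | h) <;> exact h.1
  have c1 := card_nonNbrs hG v
  have c2 := deg hG w
  rw [h2, card_union_of_disjoint, block_card hG hw] at c2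
  · rw [h1, card_insert_of_notMem, card_union_of_disjoint] at c1
    · omega
    · rw [disjoint_left]
      intro u hu hu'
      rw [mem_inter, SimpleGraph.mem_neighborFinset] at hu
      exact (mem_far.1 hu').2.2 hu.1
    · simp [mem_far]
  · rw [disjoint_left]
    intro u hu hu'
    rw [mem_inter, SimpleGraph.mem_neighborFinset, SimpleGraph.mem_neighborFinset] at hu
    rw [mem_inter, mem_nonNbrs] at hu'
    exact hu'.2.2 hu.2

/-- A neighbour `x` of both `v` and `w` (`w` a non-neighbour of `v`) has 20 neighbours in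
`far v w`. -/
theorem nbrs_far (hG : G.IsSRGWith 100 22 0 6) {v w x : V} (hw : w ∈ nonNbrs G v)
    (hxv : G.Adj v x) (hxw : G.Adj w x) : (G.neighborFinset x ∩ far G v w).card = 20 := by
  have hw' := mem_nonNbrs.1 hw
  have h1 : G.neighborFinset x = insert v (insert w (G.neighborFinset x ∩ far G v w)) := by
    ext u
    simp only [mem_insert, mem_inter, SimpleGraph.mem_neighborFinset, mem_far]
    constructor
    · intro a
      by_cases e1 : u = v
      · exact Or.inl e1
      by_cases e2 : u = w
      · exact Or.inr (Or.inl e2)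
      refine Or.inr (Or.inr ⟨a, ⟨e1, ?_⟩, e2, ?_⟩)
      · intro b
        exact no_triangle hG hxv.symm a b
      · intro b
        exact no_triangle hG hxw.symm a b
    · rintro (rfl | rfl | h)
      · exact hxv.symm
      · exact hxw.symm
      · exact h.1
  have c := deg hG x
  rw [h1, card_insert_of_notMem, card_insert_of_notMem] at c
  · omega
  · simp [mem_far]
  · simp only [mem_insert, mem_inter, mem_far, not_or]
    exact ⟨hw'.1.symm, fun h => h.2.1.1 rfl⟩

theorem common_far (hG : G.IsSRGWith 100 22 0 6) {v w x y : V} (hw : w ∈ nonNbrs G v)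
    (hxv : G.Adj v x) (hxw : G.Adj w x) (hyv : G.Adj v y) (hyw : G.Adj w y) (hxy : x ≠ y) :
    (G.neighborFinset x ∩ G.neighborFinset y ∩ far G v w).card = 4 := by
  have hw' := mem_nonNbrs.1 hw
  have hnadj : ¬ G.Adj x y := fun a => no_triangle hG hxv hyv a
  have h1 : G.neighborFinset x ∩ G.neighborFinset y
      = insert v (insert w (G.neighborFinset x ∩ G.neighborFinset y ∩ far G v w)) := by
    ext u
    simp only [mem_insert, mem_inter, SimpleGraph.mem_neighborFinset, mem_far]
    constructor
    · rintro ⟨a, a'⟩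
      by_cases e1 : u = v
      · exact Or.inl e1
      by_cases e2 : u = w
      · exact Or.inr (Or.inl e2)
      refine Or.inr (Or.inr ⟨⟨a, a'⟩, ⟨e1, ?_⟩, e2, ?_⟩)
      · intro b
        exact no_triangle hG hxv.symm a b
      · intro b
        exact no_triangle hG hxw.symm a b
    · rintro (rfl | rfl | h)
      · exact ⟨hxv.symm, hyv.symm⟩
      · exact ⟨hxw.symm, hyw.symm⟩
      · exact h.1
  have c := nonadj_common hG hxy hnadj
  rw [h1, card_insert_of_notMem, card_insert_of_notMem] at c
  · omega
  · simp [mem_far]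
  · simp only [mem_insert, mem_inter, mem_far, not_or]
    exact ⟨hw'.1.symm, fun h => h.2.1.1 rfl⟩

end Cfsg.Agent.Lib.Helper18.HS
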