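import Mathlib
import Cfsg.Agent.Lib.Helper18.HS1

/-!
Strongly regular graphs with parameters (100, 22, 0, 6): local structure at a vertex, part 2:
two "blocks" meet in 0 or 2 points; every triple of neighbours of `v` has exactly one further
common neighbour.
-/

set_option autoImplicit false

namespace Cfsg.Agent.Lib.Helper18.HS

open Finset

variable {V : Type*} [Fintype V] [DecidableEq V] {G : SimpleGraph V} [DecidableRel G.Adj]

/-- The block of the non-neighbour `w` of `v`. -/
def blk (G : SimpleGraph V) [DecidableRel G.Adj] (v w : V) : Finset V :=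
  G.neighborFinset w ∩ G.neighborFinset v

theorem mem_blk {v w x : V} : x ∈ blk G v w ↔ G.Adj w x ∧ G.Adj v x := by
  simp [blk]

theorem arith_key (i : ℕ) (hi : i ≤ 6) :
    4 * i ≤ 2 * i.choose 2 + i + 4 ∧ (4 * i = 2 * i.choose 2 + i + 4 → i = 2) := by
  interval_cases i <;> simp [Nat.choose]

theorem far_inter (hG : G.IsSRGWith 100 22 0 6) {v w : V} (hw : w ∈ nonNbrs G v) :
    ∀ w' ∈ far G v w, (blk G v w ∩ G.neighborFinset w').card = 2 := by
  have hB6 : (blk G v w).card = 6 := block_card hG hw
  -- first moment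
  have hdc := sum_card_bipartiteAbove_eq_sum_card_bipartiteBelow (s := blk G v w)
    (t := far G v w) (fun x w' => G.Adj x w')
  have S1 : ∑ w' ∈ far G v w, (blk G v w ∩ G.neighborFinset w').card = 120 := by
    have hl : ∑ x ∈ blk G v w, (bipartiteAbove (fun x w' => G.Adj x w') (far G v w) x).card
        = 120 := by
      rw [sum_const_nat (m := 20), hB6]
      intro x hx
      rw [mem_blk] at hx
      rw [← nbrs_far hG hw hx.2 hx.1]
      congr 1
      ext u
      simp only [bipartiteAbove, mem_filter, mem_inter, SimpleGraph.mem_neighborFinset]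
      tauto
    rw [← hl, hdc]
    apply sum_congr rfl
    intro w' _
    congr 1
    ext x
    simp only [bipartiteBelow, mem_filter, mem_inter, SimpleGraph.mem_neighborFinset]
    constructor
    · rintro ⟨h1, h2⟩
      exact ⟨h1, h2.symm⟩
    · rintro ⟨h1, h2⟩
      exact ⟨h1, h2.symm⟩
  -- second moment
  have hdc2 := sum_card_bipartiteAbove_eq_sum_card_bipartiteBelow (s := powersetCard 2 (blk G v w))
    (t := far G v w) (fun T w' => T ⊆ G.neighborFinset w')
  have S2 : ∑ w' ∈ far G v w, ((blk G v w ∩ G.neighborFinset w').card.choose 2) = 60 := by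
    have hl : ∑ T ∈ powersetCard 2 (blk G v w),
        (bipartiteAbove (fun T w' => T ⊆ G.neighborFinset w') (far G v w) T).card = 60 := by
      rw [sum_const_nat (m := 4), card_powersetCard, hB6]
      · decide
      intro T hT
      rw [mem_powersetCard] at hT
      obtain ⟨x, y, hxy, rfl⟩ := card_eq_two.1 hT.2
      have hx := mem_blk.1 (hT.1 (by simp : x ∈ ({x, y} : Finset V)))
      have hy := mem_blk.1 (hT.1 (by simp : y ∈ ({x, y} : Finset V)))
      rw [← common_far hG hw hx.2 hx.1 hy.2 hy.1 hxy]
      congr 1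
      ext u
      simp only [bipartiteAbove, mem_filter, mem_inter, SimpleGraph.mem_neighborFinset,
        insert_subset_iff, singleton_subset_iff]
      constructor
      · rintro ⟨h1, h2, h3⟩
        exact ⟨⟨h2.symm, h3.symm⟩, h1⟩
      · rintro ⟨⟨h2, h3⟩, h1⟩
        exact ⟨h1, h2.symm, h3.symm⟩
    rw [← hl, hdc2]
    apply sum_congr rfl
    intro w' _
    rw [← card_powersetCard]
    congr 1
    ext T
    simp only [bipartiteBelow, mem_filter, mem_powersetCard, subset_inter_iff]
    tauto
  have hle : ∀ w' ∈ far G v w, 4 * (blk G v w ∩ G.neighborFinset w').card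
      ≤ 2 * (blk G v w ∩ G.neighborFinset w').card.choose 2
        + (blk G v w ∩ G.neighborFinset w').card + 4 := by
    intro w' _
    have : (blk G v w ∩ G.neighborFinset w').card ≤ 6 := by
      rw [← hB6]
      exact card_le_card inter_subset_left
    exact (arith_key _ this).1
  have hsum : ∑ w' ∈ far G v w, 4 * (blk G v w ∩ G.neighborFinset w').card
      = ∑ w' ∈ far G v w, (2 * (blk G v w ∩ G.neighborFinset w').card.choose 2
        + (blk G v w ∩ G.neighborFinset w').card + 4) := by
    rw [sum_add_distrib, sum_add_distrib, ← mul_sum, ← mul_sum, S1, S2, sum_const, card_far hG hw]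
    rfl
  have hall := (sum_eq_sum_iff_of_le hle).1 hsum
  intro w' hw'
  have : (blk G v w ∩ G.neighborFinset w').card ≤ 6 := by
    rw [← hB6]
    exact card_le_card inter_subset_left
  exact (arith_key _ this).2 (hall w' hw')

theorem blk_inter_le (hG : G.IsSRGWith 100 22 0 6) {v w w' : V} (hw : w ∈ nonNbrs G v)
    (hw' : w' ∈ nonNbrs G v) (hne : w ≠ w') : (blk G v w ∩ blk G v w').card ≤ 2 := by
  by_cases hadj : G.Adj w w'
  · have h := adj_common hG hadj
    have hsub : blk G v w ∩ blk G v w' ⊆ G.neighborFinset w ∩ G.neighborFinset w' := by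
      intro x hx
      rw [mem_inter, mem_blk, mem_blk] at hx
      rw [mem_inter, SimpleGraph.mem_neighborFinset, SimpleGraph.mem_neighborFinset]
      exact ⟨hx.1.1, hx.2.1⟩
    have := card_le_card hsub
    rw [h, card_empty] at this
    omega
  · have hfar : w' ∈ far G v w := by
      rw [mem_far]
      exact ⟨mem_nonNbrs.1 hw', hne.symm, hadj⟩
    rw [← far_inter hG hw w' hfar]
    apply card_le_card
    intro x hx
    rw [mem_inter] at hx
    rw [mem_inter, SimpleGraph.mem_neighborFinset]
    exact ⟨hx.1, (mem_blk.1 hx.2).1⟩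

/-- Adjacent non-neighbours have disjoint blocks; non-adjacent ones meet in two points. -/
theorem blk_inter_card (hG : G.IsSRGWith 100 22 0 6) {v w w' : V} (hw : w ∈ nonNbrs G v)
    (hw' : w' ∈ nonNbrs G v) (hne : w ≠ w') :
    (G.Adj w w' → blk G v w ∩ blk G v w' = ∅) ∧
      (¬ G.Adj w w' → (blk G v w ∩ blk G v w').card = 2) := by
  constructor
  · intro hadj
    have h := adj_common hG hadj
    rw [eq_empty_iff_forall_notMem]
    intro x hx
    rw [mem_inter, mem_blk, mem_blk] at hx
    have : x ∈ G.neighborFinset w ∩ G.neighborFinset w' := by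
      rw [mem_inter, SimpleGraph.mem_neighborFinset, SimpleGraph.mem_neighborFinset]
      exact ⟨hx.1.1, hx.2.1⟩
    rw [h] at this
    exact notMem_empty _ this
  · intro hadj
    have hfar : w' ∈ far G v w := by
      rw [mem_far]
      exact ⟨mem_nonNbrs.1 hw', hne.symm, hadj⟩
    rw [← far_inter hG hw w' hfar]
    congr 1
    ext x
    simp only [mem_inter, mem_blk, SimpleGraph.mem_neighborFinset]
    tauto

theorem unique_block (hG : G.IsSRGWith 100 22 0 6) (v : V) {T : Finset V}
    (hT : T ⊆ G.neighborFinset v) (h3 : T.card = 3) :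
    ∃! w, w ∈ nonNbrs G v ∧ T ⊆ G.neighborFinset w := by
  have hP : (G.neighborFinset v).card = 22 := deg hG v
  have hle : ∀ T ∈ powersetCard 3 (G.neighborFinset v),
      ((nonNbrs G v).filter (fun w => T ⊆ G.neighborFinset w)).card ≤ 1 := by
    intro T hT
    rw [mem_powersetCard] at hT
    rw [card_le_one]
    intro w hw w' hw'
    rw [mem_filter] at hw hw'
    by_contra hne
    have h2 := blk_inter_le hG hw.1 hw'.1 hne
    have hsub : T ⊆ blk G v w ∩ blk G v w' := by
      intro x hx
      rw [mem_inter, mem_blk, mem_blk]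
      have h1 := hw.2 hx
      have h1' := hw'.2 hx
      have h0 := hT.1 hx
      rw [SimpleGraph.mem_neighborFinset] at h1 h1' h0
      exact ⟨⟨h1, h0⟩, ⟨h1', h0⟩⟩
    have := card_le_card hsub
    omega
  have hdc := sum_card_bipartiteAbove_eq_sum_card_bipartiteBelow
    (s := powersetCard 3 (G.neighborFinset v)) (t := nonNbrs G v)
    (fun T w => T ⊆ G.neighborFinset w)
  have hr : ∑ w ∈ nonNbrs G v, (bipartiteBelow (fun T w => T ⊆ G.neighborFinset w)
      (powersetCard 3 (G.neighborFinset v)) w).card = 1540 := by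
    rw [sum_const_nat (m := 20), card_nonNbrs hG]
    intro w hw
    have e : bipartiteBelow (fun T w => T ⊆ G.neighborFinset w)
        (powersetCard 3 (G.neighborFinset v)) w = powersetCard 3 (blk G v w) := by
      ext T
      simp only [bipartiteBelow, mem_filter, mem_powersetCard, blk, subset_inter_iff]
      tauto
    rw [e, card_powersetCard, blk, block_card hG hw]
    decide
  have hsum : ∑ T ∈ powersetCard 3 (G.neighborFinset v),
      ((nonNbrs G v).filter (fun w => T ⊆ G.neighborFinset w)).card
      = ∑ T ∈ powersetCard 3 (G.neighborFinset v), 1 := by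
    rw [sum_const, card_powersetCard, hP]
    have : ∑ T ∈ powersetCard 3 (G.neighborFinset v),
        ((nonNbrs G v).filter (fun w => T ⊆ G.neighborFinset w)).card = 1540 := by
      rw [← hr, ← hdc]
      rfl
    rw [this]
    decide
  have hall := (sum_eq_sum_iff_of_le hle).1 hsum T (mem_powersetCard.2 ⟨hT, h3⟩)
  obtain ⟨w, hw⟩ := card_eq_one.1 hall
  refine ⟨w, ?_, ?_⟩
  · have : w ∈ (nonNbrs G v).filter (fun w => T ⊆ G.neighborFinset w) := by rw [hw]; simp
    exact mem_filter.1 this
  · intro w' hw'
    have : w' ∈ (nonNbrs G v).filter (fun w => T ⊆ G.neighborFinset w) := mem_filter.2 hw'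
    rw [hw, mem_singleton] at this
    exact this

end Cfsg.Agent.Lib.Helper18.HS
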