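import Mathlib
import Cfsg.Prelude.Def_Sporadic_a
import Cfsg.Agent.Lib.Helper21.SteinerCounts

/-!
Counting facts in a Steiner system S(3,6,22), used for the strongly regular graphs on
77 and 100 vertices.
-/

set_option autoImplicit false

namespace Cfsg.Agent.Lib.Helper18.S22

open Cfsg Finset Cfsg.Agent.Lib.Helper21

variable {α : Type*} [Fintype α] [DecidableEq α]

theorem card_blocks (hα : Fintype.card α = 22) {B : Set (Finset α)} (hB : IsSteinerSystem 3 6 B) :
    (blocksFinset B).card = 77 := by
  have h := (lam_3_6_22 hα hB ∅).1 (by simp)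
  rw [← h]
  congr 1
  ext b
  simp

theorem through_point (hα : Fintype.card α = 22) {B : Set (Finset α)} (hB : IsSteinerSystem 3 6 B)
    (x : α) : ((blocksFinset B).filter (x ∈ ·)).card = 21 := by
  have h := (lam_3_6_22 hα hB {x}).2.1 (by simp)
  rw [← h]
  congr 1
  ext b
  simp

theorem through_two (hα : Fintype.card α = 22) {B : Set (Finset α)} (hB : IsSteinerSystem 3 6 B)
    {x y : α} (hxy : x ≠ y) : ((blocksFinset B).filter (fun d => x ∈ d ∧ y ∈ d)).card = 5 := by
  have h := (lam_3_6_22 hα hB {x, y}).2.2 (by rw [card_pair hxy])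
  rw [← h]
  congr 1
  ext b
  simp [insert_subset_iff]

theorem inter_zero_or_two (hα : Fintype.card α = 22) {B : Set (Finset α)}
    (hB : IsSteinerSystem 3 6 B) {b c : Finset α} (hb : b ∈ B) (hc : c ∈ B) (hbc : b ≠ c) :
    (b ∩ c).card = 0 ∨ (b ∩ c).card = 2 := by
  have hlt := inter_card_lt hB hb hc hbc
  obtain ⟨_, h1, _⟩ := interCounts_3_6_22 hα hB hb
  have n1 := interCount_eq_zero b 1 h1 hc hbc
  omega

theorem block_ne_empty {B : Set (Finset α)} (hB : IsSteinerSystem 3 6 B) {b : Finset α}
    (hb : b ∈ B) : b ≠ ∅ := by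
  intro h
  have := hB.1 b hb
  rw [h] at this
  simp at this

theorem not_disjoint_self {B : Set (Finset α)} (hB : IsSteinerSystem 3 6 B) {b : Finset α}
    (hb : b ∈ B) : ¬ Disjoint b b := by
  rw [disjoint_self]
  exact block_ne_empty hB hb

theorem disjoint_count (hα : Fintype.card α = 22) {B : Set (Finset α)}
    (hB : IsSteinerSystem 3 6 B) {b : Finset α} (hb : b ∈ B) :
    ((blocksFinset B).filter (fun d => Disjoint b d)).card = 16 := by
  rw [← (interCounts_3_6_22 hα hB hb).1, interCount]
  congr 1
  ext c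
  simp only [mem_filter, mem_erase, mem_blocksFinset, card_eq_zero, disjoint_iff_inter_eq_empty]
  constructor
  · rintro ⟨hc, hd⟩
    refine ⟨⟨?_, hc⟩, hd⟩
    rintro rfl
    rw [inter_self] at hd
    exact block_ne_empty hB hb hd
  · rintro ⟨⟨_, hc⟩, hd⟩
    exact ⟨hc, hd⟩

/-- Blocks through a point `x ∉ b` meeting `b`: in bijection with the pairs of `b`. -/
theorem through_point_meeting (hα : Fintype.card α = 22) {B : Set (Finset α)}
    (hB : IsSteinerSystem 3 6 B) {b : Finset α} (hb : b ∈ B) {x : α} (hx : x ∉ b) :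
    ((blocksFinset B).filter (fun d => x ∈ d ∧ ¬ Disjoint b d)).card = 15 := by
  have hcard : (b.powersetCard 2).card = 15 := by
    rw [card_powersetCard, hB.1 b hb]; rfl
  rw [← hcard]
  apply Finset.card_bij (fun d _ => b ∩ d)
  · intro d hd
    rw [mem_filter, mem_blocksFinset] at hd
    obtain ⟨hdB, hxd, hnd⟩ := hd
    rw [mem_powersetCard]
    refine ⟨inter_subset_left, ?_⟩
    have hne : b ≠ d := by rintro rfl; exact hx hxd
    rcases inter_zero_or_two hα hB hb hdB hne with h | h
    · exfalso; apply hnd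
      rw [disjoint_iff_inter_eq_empty, ← card_eq_zero]; exact h
    · exact h
  · intro d hd d' hd' heq
    rw [mem_filter, mem_blocksFinset] at hd hd'
    obtain ⟨hdB, hxd, hnd⟩ := hd
    obtain ⟨hdB', hxd', hnd'⟩ := hd'
    have hne : b ≠ d := by rintro rfl; exact hx hxd
    have h2 : (b ∩ d).card = 2 := by
      rcases inter_zero_or_two hα hB hb hdB hne with h | h
      · exfalso; apply hnd
        rw [disjoint_iff_inter_eq_empty, ← card_eq_zero]; exact h
      · exact h
    have hxT : x ∉ b ∩ d := fun h => hx (mem_inter.1 h).1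
    have hT3 : (insert x (b ∩ d)).card = 3 := by rw [card_insert_of_notMem hxT, h2]
    obtain ⟨e, _, huniq⟩ := hB.2 _ hT3
    have h1 := huniq d ⟨hdB, by
      intro y hy
      rcases mem_insert.1 hy with rfl | hy
      · exact hxd
      · exact (mem_inter.1 hy).2⟩
    have h2' := huniq d' ⟨hdB', by
      intro y hy
      rcases mem_insert.1 hy with rfl | hy
      · exact hxd'
      · rw [heq] at hy; exact (mem_inter.1 hy).2⟩
    exact h1.trans h2'.symm
  · intro T hT
    rw [mem_powersetCard] at hT
    obtain ⟨hTb, hT2⟩ := hT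
    have hxT : x ∉ T := fun h => hx (hTb h)
    have hT3 : (insert x T).card = 3 := by rw [card_insert_of_notMem hxT, hT2]
    obtain ⟨d, ⟨hdB, hsub⟩, _⟩ := hB.2 _ hT3
    have hxd : x ∈ d := hsub (mem_insert_self _ _)
    have hTd : T ⊆ d := fun y hy => hsub (mem_insert_of_mem hy)
    have hne : b ≠ d := by rintro rfl; exact hx hxd
    have hTbd : T ⊆ b ∩ d := fun y hy => mem_inter.2 ⟨hTb hy, hTd hy⟩
    have hle : 2 ≤ (b ∩ d).card := by rw [← hT2]; exact card_le_card hTbd
    have h2 : (b ∩ d).card = 2 := by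
      rcases inter_zero_or_two hα hB hb hdB hne with h | h
      · omega
      · exact h
    refine ⟨d, ?_, ?_⟩
    · rw [mem_filter, mem_blocksFinset]
      refine ⟨hdB, hxd, ?_⟩
      rw [disjoint_iff_inter_eq_empty, ← card_eq_zero]; omega
    · exact (eq_of_subset_of_card_le hTbd (by rw [h2, hT2])).symm

/-- Blocks through a point `x ∉ b` disjoint from `b`. -/
theorem through_point_disjoint (hα : Fintype.card α = 22) {B : Set (Finset α)}
    (hB : IsSteinerSystem 3 6 B) {b : Finset α} (hb : b ∈ B) {x : α} (hx : x ∉ b) :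
    ((blocksFinset B).filter (fun d => x ∈ d ∧ Disjoint b d)).card = 6 := by
  have h1 := through_point hα hB x
  have h2 := through_point_meeting hα hB hb hx
  have h3 : ((blocksFinset B).filter (x ∈ ·)).card
      = ((blocksFinset B).filter (fun d => x ∈ d ∧ Disjoint b d)).card
        + ((blocksFinset B).filter (fun d => x ∈ d ∧ ¬ Disjoint b d)).card := by
    rw [← card_union_of_disjoint]
    · congr 1
      ext d
      simp only [mem_filter, mem_union]
      tauto
    · rw [disjoint_left]
      intro d hd hd'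
      rw [mem_filter] at hd hd'
      exact hd'.2.2 hd.2.2
  omega

end Cfsg.Agent.Lib.Helper18.S22
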