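import Mathlib
import Cfsg.Prelude.Def_Sporadic_a
import Cfsg.Agent.Lib.Helper18.S22Counts

/-!
More counting in S(3,6,22): no three pairwise disjoint blocks; two blocks meeting in two
points have exactly four common disjoint blocks.
-/

set_option autoImplicit false

namespace Cfsg.Agent.Lib.Helper18.S22

open Cfsg Finset Cfsg.Agent.Lib.Helper21

variable {α : Type*} [Fintype α] [DecidableEq α]

theorem filter_disjoint_mem (hα : Fintype.card α = 22) {B : Set (Finset α)}
    (hB : IsSteinerSystem 3 6 B) {b : Finset α} (hb : b ∈ B) {x : α} (hx : x ∉ b) :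
    (((blocksFinset B).filter (fun d => Disjoint b d)).filter (fun d => x ∈ d)).card = 6 := by
  rw [← through_point_disjoint hα hB hb hx]
  congr 1
  ext d
  simp only [mem_filter]
  tauto

theorem no_three_disjoint (hα : Fintype.card α = 22) {B : Set (Finset α)}
    (hB : IsSteinerSystem 3 6 B) {b c d : Finset α} (hb : b ∈ B) (hc : c ∈ B) (hd : d ∈ B)
    (hbc : Disjoint b c) (hbd : Disjoint b d) (hcd : Disjoint c d) : False := by
  obtain ⟨D, hD⟩ : ∃ D, D = (blocksFinset B).filter (fun d => Disjoint b d) := ⟨_, rfl⟩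
  have hDcard : D.card = 16 := by rw [hD]; exact disjoint_count hα hB hb
  have hsum : ∑ e ∈ D, (c ∩ e).card = c.card * 6 := by
    apply Finset.sum_card_inter
    intro x hx
    have hxb : x ∉ b := fun h => (disjoint_left.1 hbc) h hx
    rw [hD]
    exact filter_disjoint_mem hα hB hb hxb
  rw [hB.1 c hc] at hsum
  have hcD : c ∈ D := by rw [hD, mem_filter, mem_blocksFinset]; exact ⟨hc, hbc⟩
  have hdc : d ≠ c := by
    rintro rfl; exact not_disjoint_self hB hd hcd
  have hdD : d ∈ D.erase c := by
    rw [mem_erase, hD, mem_filter, mem_blocksFinset]; exact ⟨hdc, hd, hbd⟩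
  rw [← Finset.add_sum_erase D _ hcD, ← Finset.add_sum_erase (D.erase c) _ hdD] at hsum
  have hbound : ∑ e ∈ (D.erase c).erase d, (c ∩ e).card ≤ ((D.erase c).erase d).card • 2 := by
    apply Finset.sum_le_card_nsmul
    intro e he
    rw [mem_erase, mem_erase, hD, mem_filter, mem_blocksFinset] at he
    rcases inter_zero_or_two hα hB hc he.2.2.1 (Ne.symm he.2.1) with h | h <;> omega
  rw [card_erase_of_mem hdD, card_erase_of_mem hcD, hDcard, smul_eq_mul] at hbound
  have h1 : (c ∩ c).card = 6 := by rw [inter_self]; exact hB.1 c hc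
  have h2 : (c ∩ d).card = 0 := by
    rw [card_eq_zero, ← disjoint_iff_inter_eq_empty]; exact hcd
  omega

theorem common_disjoint_count (hα : Fintype.card α = 22) {B : Set (Finset α)}
    (hB : IsSteinerSystem 3 6 B) {b c : Finset α} (hb : b ∈ B) (hc : c ∈ B)
    (hbc : (b ∩ c).card = 2) :
    ((blocksFinset B).filter (fun d => Disjoint b d ∧ Disjoint c d)).card = 4 := by
  obtain ⟨D, hD⟩ : ∃ D, D = (blocksFinset B).filter (fun d => Disjoint b d) := ⟨_, rfl⟩
  have hDcard : D.card = 16 := by rw [hD]; exact disjoint_count hα hB hb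
  have hT : (c \ b).card = 4 := by
    have := card_sdiff_add_card_inter c b
    rw [hB.1 c hc, inter_comm, hbc] at this
    omega
  have hsum : ∑ e ∈ D, ((c \ b) ∩ e).card = (c \ b).card * 6 := by
    apply Finset.sum_card_inter
    intro x hx
    rw [hD]
    exact filter_disjoint_mem hα hB hb (mem_sdiff.1 hx).2
  rw [hT] at hsum
  have hnbc : ¬ Disjoint b c := by
    rw [disjoint_iff_inter_eq_empty, ← card_eq_zero]; omega
  have hterm : ∀ e ∈ D, ((c \ b) ∩ e).card = if Disjoint c e then 0 else 2 := by
    intro e he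
    rw [hD, mem_filter, mem_blocksFinset] at he
    have heq : (c \ b) ∩ e = c ∩ e := by
      ext y
      simp only [mem_inter, mem_sdiff]
      constructor
      · rintro ⟨⟨h1, _⟩, h3⟩; exact ⟨h1, h3⟩
      · rintro ⟨h1, h3⟩
        exact ⟨⟨h1, fun h => (disjoint_left.1 he.2) h h3⟩, h3⟩
    rw [heq]
    have hne : c ≠ e := by
      rintro rfl; exact hnbc he.2
    split_ifs with hdis
    · rw [card_eq_zero, ← disjoint_iff_inter_eq_empty]; exact hdis
    · rcases inter_zero_or_two hα hB hc he.1 hne with h | h
      · exfalso; apply hdis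
        rw [disjoint_iff_inter_eq_empty, ← card_eq_zero]; exact h
      · exact h
  rw [Finset.sum_congr rfl hterm, Finset.sum_ite, Finset.sum_const_zero, zero_add,
    Finset.sum_const, smul_eq_mul] at hsum
  have hsplit := Finset.card_filter_add_card_filter_not (s := D)
    (p := fun e => Disjoint c e)
  have hgoal : (blocksFinset B).filter (fun d => Disjoint b d ∧ Disjoint c d)
      = D.filter (fun e => Disjoint c e) := by
    rw [hD]
    ext e
    simp only [mem_filter]
    tauto
  rw [hgoal]
  omega

end Cfsg.Agent.Lib.Helper18.S22
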