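import Mathlib
import Cfsg.Prelude.Def_Sporadic_a
import Cfsg.Agent.Lib.Helper18.HS2
import Cfsg.Agent.S0428

/-!
A strongly regular graph with parameters (100, 22, 0, 6) is the point-block graph of the
Steiner system S(3,6,22) it induces on the neighbours of any vertex.
-/

set_option autoImplicit false

namespace Cfsg.Agent.Lib.Helper18.HS

open Cfsg Finset

variable {V : Type*} [Fintype V] [DecidableEq V] {G : SimpleGraph V} [DecidableRel G.Adj]

/-- The block of `w`, as a set of neighbours of `v`. -/
def blkS (G : SimpleGraph V) [DecidableRel G.Adj] (v w : V) : Finset ↥(G.neighborFinset v) :=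
  (blk G v w).subtype (· ∈ G.neighborFinset v)

theorem mem_blkS {v w : V} {x : ↥(G.neighborFinset v)} : x ∈ blkS G v w ↔ G.Adj w x.1 := by
  rw [blkS, mem_subtype, mem_blk]
  have := x.2
  rw [SimpleGraph.mem_neighborFinset] at this
  tauto

theorem blkS_map (v w : V) :
    (blkS G v w).map (Function.Embedding.subtype _) = blk G v w := by
  rw [blkS, subtype_map, filter_eq_self]
  intro x hx
  rw [mem_blk] at hx
  rw [SimpleGraph.mem_neighborFinset]
  exact hx.2

theorem card_blkS (hG : G.IsSRGWith 100 22 0 6) {v w : V} (hw : w ∈ nonNbrs G v) :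
    (blkS G v w).card = 6 := by
  rw [← card_map (Function.Embedding.subtype _), blkS_map]
  exact block_card hG hw

theorem blkS_inter_card (v w w' : V) :
    (blkS G v w ∩ blkS G v w').card = (blk G v w ∩ blk G v w').card := by
  rw [← card_map (Function.Embedding.subtype _), map_inter, blkS_map, blkS_map]

theorem blkS_injOn (hG : G.IsSRGWith 100 22 0 6) (v : V) :
    Set.InjOn (blkS G v) (nonNbrs G v) := by
  intro w hw w' hw' h
  rw [mem_coe] at hw hw'
  by_contra hne
  have h2 := blk_inter_le hG hw hw' hne
  rw [← blkS_inter_card, ← h, inter_self, card_blkS hG hw] at h2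
  omega

/-- The local design at `v`. -/
def localDesign (G : SimpleGraph V) [DecidableRel G.Adj] (v : V) :
    Set (Finset ↥(G.neighborFinset v)) :=
  blkS G v '' (nonNbrs G v : Set V)

theorem card_points (hG : G.IsSRGWith 100 22 0 6) (v : V) :
    Fintype.card ↥(G.neighborFinset v) = 22 := by
  rw [Fintype.card_coe]
  exact deg hG v

theorem localDesign_steiner (hG : G.IsSRGWith 100 22 0 6) (v : V) :
    IsSteinerSystem 3 6 (localDesign G v) := by
  constructor
  · rintro _ ⟨w, hw, rfl⟩
    exact card_blkS hG (mem_coe.1 hw)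
  · intro s hs
    have hT : s.map (Function.Embedding.subtype _) ⊆ G.neighborFinset v := by
      intro x hx
      obtain ⟨y, _, rfl⟩ := mem_map.1 hx
      exact y.2
    obtain ⟨w, ⟨hw, hsub⟩, huniq⟩ := unique_block hG v hT (by rw [card_map, hs])
    refine ⟨blkS G v w, ⟨⟨w, mem_coe.2 hw, rfl⟩, ?_⟩, ?_⟩
    · intro y hy
      rw [mem_blkS]
      have := hsub (mem_map_of_mem (Function.Embedding.subtype _) hy)
      rwa [SimpleGraph.mem_neighborFinset] at this
    · rintro _ ⟨⟨w', hw', rfl⟩, hsub'⟩
      have : w' = w := by
        apply huniq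
        refine ⟨mem_coe.1 hw', ?_⟩
        intro x hx
        obtain ⟨y, hy, rfl⟩ := mem_map.1 hx
        rw [SimpleGraph.mem_neighborFinset]
        exact mem_blkS.1 (hsub' hy)
      rw [this]

/-- The vertex map to the point-block graph of the local design. -/
noncomputable def toPB (G : SimpleGraph V) [DecidableRel G.Adj] (v : V) (u : V) :
    Option (↥(G.neighborFinset v) ⊕ ↥(localDesign G v)) :=
  if h0 : u = v then none
  else if h : G.Adj v u then some (Sum.inl ⟨u, (G.mem_neighborFinset v u).2 h⟩)
  else some (Sum.inr ⟨blkS G v u, ⟨u, mem_coe.2 (mem_nonNbrs.2 ⟨h0, h⟩), rfl⟩⟩)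

theorem toPB_self (v : V) : toPB G v v = none := by
  simp [toPB]

theorem toPB_nbr {v u : V} (h : G.Adj v u) :
    toPB G v u = some (Sum.inl ⟨u, (G.mem_neighborFinset v u).2 h⟩) := by
  have h0 : u ≠ v := by
    rintro rfl
    exact G.loopless.irrefl _ h
  simp [toPB, h0, h]

theorem toPB_non {v u : V} (h0 : u ≠ v) (h : ¬ G.Adj v u) :
    toPB G v u = some (Sum.inr ⟨blkS G v u, ⟨u, mem_coe.2 (mem_nonNbrs.2 ⟨h0, h⟩), rfl⟩⟩) := by
  simp [toPB, h0, h]

theorem toPB_injective (hG : G.IsSRGWith 100 22 0 6) (v : V) :
    Function.Injective (toPB G v) := by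
  intro a b hab
  by_cases ha0 : a = v
  · by_cases hb0 : b = v
    · rw [ha0, hb0]
    · exfalso
      rw [ha0, toPB_self] at hab
      by_cases hb : G.Adj v b
      · rw [toPB_nbr hb] at hab
        exact absurd hab (by simp)
      · rw [toPB_non hb0 hb] at hab
        exact absurd hab (by simp)
  · by_cases hb0 : b = v
    · exfalso
      rw [hb0, toPB_self] at hab
      by_cases ha : G.Adj v a
      · rw [toPB_nbr ha] at hab
        exact absurd hab (by simp)
      · rw [toPB_non ha0 ha] at hab
        exact absurd hab (by simp)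
    · by_cases ha : G.Adj v a
      · by_cases hb : G.Adj v b
        · rw [toPB_nbr ha, toPB_nbr hb] at hab
          have := Sum.inl_injective (Option.some_injective _ hab)
          exact congrArg Subtype.val this
        · exfalso
          rw [toPB_nbr ha, toPB_non hb0 hb] at hab
          exact absurd hab (by simp)
      · by_cases hb : G.Adj v b
        · exfalso
          rw [toPB_non ha0 ha, toPB_nbr hb] at hab
          exact absurd hab (by simp)
        · rw [toPB_non ha0 ha, toPB_non hb0 hb] at hab
          have := Sum.inr_injective (Option.some_injective _ hab)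
          have h' : blkS G v a = blkS G v b := congrArg Subtype.val this
          exact blkS_injOn hG v (mem_coe.2 (mem_nonNbrs.2 ⟨ha0, ha⟩))
            (mem_coe.2 (mem_nonNbrs.2 ⟨hb0, hb⟩)) h'

theorem toPB_bijective (hG : G.IsSRGWith 100 22 0 6) (v : V) :
    Function.Bijective (toPB G v) := by
  rw [Nat.bijective_iff_injective_and_card]
  refine ⟨toPB_injective hG v, ?_⟩
  rw [Nat.card_eq_fintype_card, hG.card, Finite.card_option, Nat.card_sum,
    Nat.card_eq_fintype_card, card_points hG, Nat.card_coe_set_eq, localDesign,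
    Set.InjOn.ncard_image (blkS_injOn hG v), Set.ncard_coe_finset, card_nonNbrs hG]

theorem toPB_adj (hG : G.IsSRGWith 100 22 0 6) (v : V) (a b : V) :
    (pointBlockGraph (localDesign G v)).Adj (toPB G v a) (toPB G v b) ↔ G.Adj a b := by
  have hS := localDesign_steiner hG v
  by_cases ha0 : a = v
  · subst ha0
    rw [toPB_self]
    by_cases hb0 : b = a
    · subst hb0
      rw [toPB_self]
      exact iff_of_false Cfsg.Agent.S0428.adj_none_none (G.loopless.irrefl _)
    · by_cases hb : G.Adj a b
      · rw [toPB_nbr hb]
        exact iff_of_true (Cfsg.Agent.S0428.adj_none_inl _) hb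
      · rw [toPB_non hb0 hb]
        exact iff_of_false (Cfsg.Agent.S0428.adj_none_inr _) hb
  · by_cases hb0 : b = v
    · subst hb0
      rw [toPB_self]
      by_cases ha : G.Adj b a
      · rw [toPB_nbr ha]
        exact iff_of_true (Cfsg.Agent.S0428.adj_inl_none _) ha.symm
      · rw [toPB_non ha0 ha]
        exact iff_of_false (Cfsg.Agent.S0428.adj_inr_none _) (fun h => ha h.symm)
    · by_cases ha : G.Adj v a
      · by_cases hb : G.Adj v b
        · rw [toPB_nbr ha, toPB_nbr hb]
          exact iff_of_false (Cfsg.Agent.S0428.adj_inl_inl _ _)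
            (fun h => no_triangle hG ha hb h)
        · rw [toPB_nbr ha, toPB_non hb0 hb, Cfsg.Agent.S0428.adj_inl_inr]
          show (⟨a, _⟩ : ↥(G.neighborFinset v)) ∈ blkS G v b ↔ G.Adj a b
          rw [mem_blkS]
          exact ⟨fun h => h.symm, fun h => h.symm⟩
      · by_cases hb : G.Adj v b
        · rw [toPB_non ha0 ha, toPB_nbr hb, Cfsg.Agent.S0428.adj_inr_inl]
          show (⟨b, _⟩ : ↥(G.neighborFinset v)) ∈ blkS G v a ↔ G.Adj a b
          rw [mem_blkS]
        · rw [toPB_non ha0 ha, toPB_non hb0 hb, Cfsg.Agent.S0428.adj_inr_inr hS]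
          show Disjoint (blkS G v a) (blkS G v b) ↔ G.Adj a b
          have hwa : a ∈ nonNbrs G v := mem_nonNbrs.2 ⟨ha0, ha⟩
          have hwb : b ∈ nonNbrs G v := mem_nonNbrs.2 ⟨hb0, hb⟩
          rw [disjoint_iff_inter_eq_empty, ← card_eq_zero, blkS_inter_card]
          by_cases hab : a = b
          · subst hab
            rw [inter_self, blk, block_card hG hwa]
            exact iff_of_false (by decide) (G.loopless.irrefl _)
          · obtain ⟨h1, h2⟩ := blk_inter_card hG hwa hwb hab
            constructor
            · intro h0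
              by_contra hadj
              rw [h2 hadj] at h0
              omega
            · intro hadj
              rw [h1 hadj, card_empty]

/-- The graph is the point-block graph of its local design at `v`, with `v` as the extra
vertex. -/
noncomputable def isoPB (hG : G.IsSRGWith 100 22 0 6) (v : V) :
    G ≃g pointBlockGraph (localDesign G v) where
  toEquiv := Equiv.ofBijective (toPB G v) (toPB_bijective hG v)
  map_rel_iff' := by
    intro a b
    exact toPB_adj hG v a b

theorem isoPB_apply_self (hG : G.IsSRGWith 100 22 0 6) (v : V) : isoPB hG v v = none :=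
  toPB_self v

end Cfsg.Agent.Lib.Helper18.HS
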