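import Mathlib
import Cfsg.Prelude.Def_Sporadic_a
import Cfsg.Agent.Lib.Helper21.SteinerCounts

/-!
Counting in a projective plane of order 4, given abstractly as a Steiner system S(2,5,21):
basic incidence facts.
-/

set_option autoImplicit false

namespace Cfsg.Agent.Lib.Helper18.Plane4

open Cfsg Finset Cfsg.Agent.Lib.Helper21

variable {α : Type*} [Fintype α] [DecidableEq α]

theorem card_lines (hα : Fintype.card α = 21) {L : Set (Finset α)} (hL : IsSteinerSystem 2 5 L) :
    (blocksFinset L).card = 21 := by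
  have h := steiner_lambda_eq hL ∅ (by simp) 21 (by rw [card_empty, hα]; decide)
    (by rw [card_empty]; decide)
  rw [← h]
  congr 1
  ext b
  simp

theorem lines_through (hα : Fintype.card α = 21) {L : Set (Finset α)}
    (hL : IsSteinerSystem 2 5 L) (a : α) : ((blocksFinset L).filter (a ∈ ·)).card = 5 := by
  have h := steiner_lambda_eq hL {a} (by simp) 5 (by rw [card_singleton, hα]; decide)
    (by rw [card_singleton]; decide)
  rw [← h]
  congr 1
  ext b
  simp

theorem exists_line {L : Set (Finset α)} (hL : IsSteinerSystem 2 5 L) {a b : α} (hab : a ≠ b) :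
    ∃ l ∈ L, a ∈ l ∧ b ∈ l := by
  obtain ⟨l, ⟨hl, hsub⟩, _⟩ := hL.2 {a, b} (card_pair hab)
  exact ⟨l, hl, hsub (by simp), hsub (by simp)⟩

theorem line_unique {L : Set (Finset α)} (hL : IsSteinerSystem 2 5 L) {a b : α} (hab : a ≠ b)
    {l m : Finset α} (hl : l ∈ L) (hm : m ∈ L) (hal : a ∈ l) (hbl : b ∈ l) (ham : a ∈ m)
    (hbm : b ∈ m) : l = m := by
  obtain ⟨k, _, huniq⟩ := hL.2 {a, b} (card_pair hab)
  have h1 := huniq l ⟨hl, by
    intro x hx
    rcases mem_insert.1 hx with rfl | hx
    · exact hal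
    · rw [mem_singleton.1 hx]; exact hbl⟩
  have h2 := huniq m ⟨hm, by
    intro x hx
    rcases mem_insert.1 hx with rfl | hx
    · exact ham
    · rw [mem_singleton.1 hx]; exact hbm⟩
  rw [h1, h2]

/-- Two distinct lines meet in exactly one point. -/
theorem inter_card_eq_one (hα : Fintype.card α = 21) {L : Set (Finset α)}
    (hL : IsSteinerSystem 2 5 L) {l m : Finset α} (hl : l ∈ L) (hm : m ∈ L) (hlm : l ≠ m) :
    (l ∩ m).card = 1 := by
  have hlt := inter_card_lt hL hl hm hlm
  have e0 := steiner_inter_sum hL l hl 0 21 (fun S _ h => by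
    have h' := steiner_lambda_eq hL S (by omega) 21 (by rw [h, hα]; decide) (by rw [h]; decide)
    exact h')
  have e1 := steiner_inter_sum hL l hl 1 5 (fun S _ h => by
    have h' := steiner_lambda_eq hL S (by omega) 5 (by rw [h, hα]; decide) (by rw [h]; decide)
    exact h')
  simp only [sum_range_succ, sum_range_zero, Nat.choose] at e0 e1
  have h0 : interCount L l 0 = 0 := by omega
  have := interCount_eq_zero l 0 h0 hm hlm
  omega

theorem exists_inter_point (hα : Fintype.card α = 21) {L : Set (Finset α)}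
    (hL : IsSteinerSystem 2 5 L) {l m : Finset α} (hl : l ∈ L) (hm : m ∈ L) (hlm : l ≠ m) :
    ∃ y, l ∩ m = {y} := card_eq_one.1 (inter_card_eq_one hα hL hl hm hlm)

/-- A point on two distinct lines is their unique common point. -/
theorem eq_of_mem_two_lines {L : Set (Finset α)} (hL : IsSteinerSystem 2 5 L)
    {l m : Finset α} (hl : l ∈ L) (hm : m ∈ L) (hlm : l ≠ m) {x y : α}
    (hxl : x ∈ l) (hxm : x ∈ m) (hyl : y ∈ l) (hym : y ∈ m) : x = y := by
  by_contra hxy
  exact hlm (line_unique hL hxy hl hm hxl hyl hxm hym)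

end Cfsg.Agent.Lib.Helper18.Plane4
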