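import Mathlib
import Cfsg.Prelude.Def_Sporadic_a
import Cfsg.Agent.Lib.Helper18.Plane4

/-!
Independent sets (arcs) in a projective plane of order 4 given as a Steiner system S(2,5,21):
extension points and the double counting lemma.
-/

set_option autoImplicit false

namespace Cfsg.Agent.Lib.Helper18.Plane4

open Cfsg Finset Cfsg.Agent.Lib.Helper21

variable {α : Type*} [Fintype α] [DecidableEq α]

/-- No line meets `S` in more than two points. -/
def Indep (L : Set (Finset α)) (S : Finset α) : Prop := ∀ l ∈ L, (l ∩ S).card ≤ 2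

theorem Indep.mono {L : Set (Finset α)} {S T : Finset α} (h : Indep L T) (hST : S ⊆ T) :
    Indep L S :=
  fun l hl => (card_le_card (inter_subset_inter_left hST)).trans (h l hl)

theorem Indep.not_three {L : Set (Finset α)} {S : Finset α} (hS : Indep L S) {l : Finset α}
    (hl : l ∈ L) {u v w : α} (hu : u ∈ S) (hv : v ∈ S) (hw : w ∈ S) (hul : u ∈ l) (hvl : v ∈ l)
    (hwl : w ∈ l) (huv : u ≠ v) (huw : u ≠ w) (hvw : v ≠ w) : False := by
  have h := hS l hl
  have hsub : ({u, v, w} : Finset α) ⊆ l ∩ S := by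
    intro z hz
    simp only [mem_insert, mem_singleton] at hz
    rcases hz with rfl | rfl | rfl <;> simp [*]
  have h3 := card_le_card hsub
  rw [card_eq_three.2 ⟨u, v, w, huv, huw, hvw, rfl⟩] at h3
  omega

/-- `x` is an extension point of `S`. -/
def IsExt (L : Set (Finset α)) (S : Finset α) (x : α) : Prop := x ∉ S ∧ Indep L (insert x S)

theorem isExt_iff {L : Set (Finset α)} {S : Finset α} (hS : Indep L S) {x : α} :
    IsExt L S x ↔ x ∉ S ∧ ∀ l ∈ L, x ∈ l → (l ∩ S).card ≤ 1 := by
  constructor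
  · rintro ⟨hx, h⟩
    refine ⟨hx, fun l hl hxl => ?_⟩
    have h1 := h l hl
    rw [inter_insert_of_mem hxl, card_insert_of_notMem (by simp [hx])] at h1
    omega
  · rintro ⟨hx, h⟩
    refine ⟨hx, fun l hl => ?_⟩
    by_cases hxl : x ∈ l
    · rw [inter_insert_of_mem hxl, card_insert_of_notMem (by simp [hx])]
      have := h l hl hxl
      omega
    · rw [inter_insert_of_notMem hxl]
      exact hS l hl

open Classical in
/-- The independent `k`-sets. -/
noncomputable def indepSets (L : Set (Finset α)) (k : ℕ) : Finset (Finset α) :=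
  (powersetCard k univ).filter (Indep L)

theorem mem_indepSets {L : Set (Finset α)} {k : ℕ} {S : Finset α} :
    S ∈ indepSets L k ↔ S.card = k ∧ Indep L S := by
  simp [indepSets, mem_powersetCard]

open Classical in
/-- The extension points of `S`. -/
noncomputable def extPts (L : Set (Finset α)) (S : Finset α) : Finset α :=
  univ.filter (IsExt L S)

theorem mem_extPts {L : Set (Finset α)} {S : Finset α} {x : α} :
    x ∈ extPts L S ↔ IsExt L S x := by
  simp [extPts]

theorem sum_ext_card (L : Set (Finset α)) (k : ℕ) :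
    ∑ S ∈ indepSets L k, (extPts L S).card = (k + 1) * (indepSets L (k + 1)).card := by
  have h1 : ∑ S ∈ indepSets L k, (extPts L S).card
      = ((indepSets L k).sigma (extPts L)).card := (card_sigma _ _).symm
  have h2 : (k + 1) * (indepSets L (k + 1)).card
      = ((indepSets L (k + 1)).sigma (fun T => T)).card := by
    rw [card_sigma, mul_comm, ← smul_eq_mul, ← sum_const]
    apply sum_congr rfl
    intro T hT
    exact (mem_indepSets.1 hT).1.symm
  rw [h1, h2]
  apply card_nbij' (fun p => ⟨insert p.2 p.1, p.2⟩) (fun p => ⟨p.1.erase p.2, p.2⟩)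
  · rintro ⟨S, x⟩ hp
    simp only [coe_sigma, Set.mem_sigma_iff, mem_coe, mem_indepSets, mem_extPts] at hp ⊢
    obtain ⟨⟨hk, _⟩, hx, hi⟩ := hp
    refine ⟨⟨?_, hi⟩, mem_insert_self _ _⟩
    rw [card_insert_of_notMem hx, hk]
  · rintro ⟨T, y⟩ hp
    simp only [coe_sigma, Set.mem_sigma_iff, mem_coe, mem_indepSets, mem_extPts] at hp ⊢
    obtain ⟨⟨hk, hi⟩, hy⟩ := hp
    refine ⟨⟨?_, hi.mono (erase_subset _ _)⟩, notMem_erase _ _, ?_⟩
    · rw [card_erase_of_mem hy, hk]; rfl
    · rw [insert_erase hy]; exact hi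
  · rintro ⟨S, x⟩ hp
    simp only [coe_sigma, Set.mem_sigma_iff, mem_coe, mem_indepSets, mem_extPts] at hp
    obtain ⟨_, hx, _⟩ := hp
    simp [erase_insert hx]
  · rintro ⟨T, y⟩ hp
    simp only [coe_sigma, Set.mem_sigma_iff, mem_coe, mem_indepSets, mem_extPts] at hp
    obtain ⟨_, hy⟩ := hp
    simp [insert_erase hy]

end Cfsg.Agent.Lib.Helper18.Plane4
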