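import Mathlib
import Cfsg.Prelude.Def_Sporadic_a
import Cfsg.Agent.Lib.Helper18.Plane4b

/-!
Projective plane of order 4 as S(2,5,21): counting extension points of an independent set through
the lines on one of its points.
-/

set_option autoImplicit false

namespace Cfsg.Agent.Lib.Helper18.Plane4

open Cfsg Finset Cfsg.Agent.Lib.Helper21

variable {α : Type*} [Fintype α] [DecidableEq α]

theorem unique_line_through {L : Set (Finset α)} (hL : IsSteinerSystem 2 5 L) {s t : α}
    (hst : s ≠ t) : ((blocksFinset L).filter (fun m => s ∈ m ∧ t ∈ m)).card = 1 := by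
  obtain ⟨m₀, hm₀, hs, ht⟩ := exists_line hL hst
  rw [card_eq_one]
  refine ⟨m₀, ?_⟩
  ext m
  simp only [mem_filter, mem_blocksFinset, mem_singleton]
  constructor
  · rintro ⟨hm, hsm, htm⟩
    exact line_unique hL hst hm hm₀ hsm htm hs ht
  · rintro rfl
    exact ⟨hm₀, hs, ht⟩

/-- The number of lines on `s ∈ S` meeting the independent set `S` only in `s`. -/
theorem card_free_lines (hα : Fintype.card α = 21) {L : Set (Finset α)}
    (hL : IsSteinerSystem 2 5 L) {S : Finset α} (hS : Indep L S) {s : α} (hs : s ∈ S) :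
    ((blocksFinset L).filter (fun m => s ∈ m ∧ (m ∩ S).card = 1)).card + S.card = 6 := by
  have h5 : ((blocksFinset L).filter (s ∈ ·)).card = 5 := lines_through hα hL s
  have hdc := sum_card_bipartiteAbove_eq_sum_card_bipartiteBelow (s := S.erase s)
    (t := (blocksFinset L).filter (s ∈ ·)) (fun t m => t ∈ m)
  have hl : ∑ t ∈ S.erase s, (bipartiteAbove (fun t m => t ∈ m)
      ((blocksFinset L).filter (s ∈ ·)) t).card = S.card - 1 := by
    rw [sum_const_nat (m := 1), mul_one, card_erase_of_mem hs]
    intro t ht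
    have hst : s ≠ t := (ne_of_mem_erase ht).symm
    refine Eq.trans ?_ (unique_line_through hL hst)
    congr 1
    ext m
    simp [bipartiteAbove, and_assoc]
  have hr : ∑ m ∈ (blocksFinset L).filter (s ∈ ·), (bipartiteBelow (fun t m => t ∈ m)
      (S.erase s) m).card
      = (((blocksFinset L).filter (s ∈ ·)).filter (fun m => ¬ (m ∩ S).card = 1)).card := by
    rw [card_filter]
    apply sum_congr rfl
    intro m hm
    rw [mem_filter, mem_blocksFinset] at hm
    have e : bipartiteBelow (fun t m => t ∈ m) (S.erase s) m = (m ∩ S).erase s := by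
      ext t
      simp only [bipartiteBelow, mem_filter, mem_erase, mem_inter]
      tauto
    have hsm : s ∈ m ∩ S := mem_inter.2 ⟨hm.2, hs⟩
    rw [e, card_erase_of_mem hsm]
    have h1 : 0 < (m ∩ S).card := card_pos.2 ⟨s, hsm⟩
    have h2 := hS m hm.1
    split_ifs with h <;> omega
  have hsplit := card_filter_add_card_filter_not (s := (blocksFinset L).filter (s ∈ ·))
    (fun m => (m ∩ S).card = 1)
  have e2 : ((blocksFinset L).filter (s ∈ ·)).filter (fun m => (m ∩ S).card = 1)
      = (blocksFinset L).filter (fun m => s ∈ m ∧ (m ∩ S).card = 1) := by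
    rw [filter_filter]
  have hpos : 0 < S.card := card_pos.2 ⟨s, hs⟩
  rw [e2] at hsplit
  rw [hl, hr] at hdc
  omega

theorem ext_line_free {L : Set (Finset α)} {S : Finset α} (hS : Indep L S) {s : α} (hs : s ∈ S)
    {x : α} (hx : IsExt L S x) {m : Finset α} (hm : m ∈ L) (hsm : s ∈ m) (hxm : x ∈ m) :
    (m ∩ S).card = 1 := by
  have h1 := ((isExt_iff hS).1 hx).2 m hm hxm
  have h2 : 0 < (m ∩ S).card := card_pos.2 ⟨s, mem_inter.2 ⟨hsm, hs⟩⟩
  omega

/-- The extension points of `S` are distributed over the free lines on `s`. -/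
theorem card_ext_eq_sum {L : Set (Finset α)} (hL : IsSteinerSystem 2 5 L) {S : Finset α}
    (hS : Indep L S) {s : α} (hs : s ∈ S) :
    (extPts L S).card = ∑ m ∈ (blocksFinset L).filter (fun m => s ∈ m ∧ (m ∩ S).card = 1),
      ((extPts L S).filter (· ∈ m)).card := by
  have hdc := sum_card_bipartiteAbove_eq_sum_card_bipartiteBelow (s := extPts L S)
    (t := (blocksFinset L).filter (fun m => s ∈ m ∧ (m ∩ S).card = 1)) (fun x m => x ∈ m)
  have hl : ∑ x ∈ extPts L S, (bipartiteAbove (fun x m => x ∈ m)
      ((blocksFinset L).filter (fun m => s ∈ m ∧ (m ∩ S).card = 1)) x).card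
      = (extPts L S).card := by
    rw [sum_const_nat (m := 1), mul_one]
    intro x hx
    rw [mem_extPts] at hx
    have hsx : s ≠ x := by
      rintro rfl
      exact hx.1 hs
    refine Eq.trans ?_ (unique_line_through hL hsx)
    congr 1
    ext m
    simp only [bipartiteAbove, mem_filter, mem_blocksFinset]
    constructor
    · rintro ⟨⟨hm, hsm, _⟩, hxm⟩
      exact ⟨hm, hsm, hxm⟩
    · rintro ⟨hm, hsm, hxm⟩
      exact ⟨⟨hm, hsm, ext_line_free hS hs hx hm hsm hxm⟩, hxm⟩
  rw [← hl, hdc]
  rfl

open Classical in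
/-- The points of `m` lying on a secant of `T`. -/
noncomputable def badPts (L : Set (Finset α)) (T m : Finset α) : Finset α :=
  m.filter (fun y => ∃ l ∈ L, y ∈ l ∧ 2 ≤ (l ∩ T).card)

theorem mem_badPts {L : Set (Finset α)} {T m : Finset α} {y : α} :
    y ∈ badPts L T m ↔ y ∈ m ∧ ∃ l ∈ L, y ∈ l ∧ 2 ≤ (l ∩ T).card := by
  simp [badPts]

theorem ext_on_free_line {L : Set (Finset α)} (hL : IsSteinerSystem 2 5 L) {S : Finset α}
    (hS : Indep L S) {s : α} (hs : s ∈ S) {m : Finset α} (hm : m ∈ L) (hsm : s ∈ m)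
    (hfree : (m ∩ S).card = 1) :
    ((extPts L S).filter (· ∈ m)).card + (badPts L (S.erase s) m).card = 4 := by
  have hm5 : m.card = 5 := hL.1 m hm
  have hmS : m ∩ S = {s} := by
    obtain ⟨a, ha⟩ := card_eq_one.1 hfree
    have : s ∈ m ∩ S := mem_inter.2 ⟨hsm, hs⟩
    rw [ha, mem_singleton] at this
    rw [ha, this]
  have hsnb : s ∉ badPts L (S.erase s) m := by
    rw [mem_badPts]
    rintro ⟨_, l, hl, hsl, h2⟩
    have h3 := hS l hl
    have hsub : insert s (l ∩ S.erase s) ⊆ l ∩ S := by
      intro z hz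
      rcases mem_insert.1 hz with rfl | hz
      · exact mem_inter.2 ⟨hsl, hs⟩
      · rw [mem_inter, mem_erase] at hz
        exact mem_inter.2 ⟨hz.1, hz.2.2⟩
    have h4 := card_le_card hsub
    rw [card_insert_of_notMem (by simp)] at h4
    omega
  have e : (extPts L S).filter (· ∈ m) = (m \ badPts L (S.erase s) m).erase s := by
    ext x
    simp only [mem_filter, mem_extPts, mem_erase, mem_sdiff]
    constructor
    · rintro ⟨hx, hxm⟩
      have hx' := (isExt_iff hS).1 hx
      refine ⟨?_, hxm, ?_⟩
      · rintro rfl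
        exact hx.1 hs
      · rw [mem_badPts]
        rintro ⟨_, l, hl, hxl, h2⟩
        have h1 := hx'.2 l hl hxl
        have := card_le_card (inter_subset_inter_left (s := l) (erase_subset s S))
        omega
    · rintro ⟨hxs, hxm, hxb⟩
      refine ⟨?_, hxm⟩
      rw [isExt_iff hS]
      have hxS : x ∉ S := by
        intro hxS
        have : x ∈ m ∩ S := mem_inter.2 ⟨hxm, hxS⟩
        rw [hmS, mem_singleton] at this
        exact hxs this
      refine ⟨hxS, fun l hl hxl => ?_⟩
      by_contra hcon
      by_cases hsl : s ∈ l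
      · have : l = m := line_unique hL (Ne.symm hxs) hl hm hsl hxl hsm hxm
        rw [this] at hcon
        omega
      · apply hxb
        rw [mem_badPts]
        refine ⟨hxm, l, hl, hxl, ?_⟩
        have : l ∩ S = l ∩ S.erase s := by
          conv_lhs => rw [← insert_erase hs]
          exact inter_insert_of_notMem hsl
        rw [← this]
        omega
  have hsm' : s ∈ m \ badPts L (S.erase s) m := mem_sdiff.2 ⟨hsm, hsnb⟩
  have hsub : badPts L (S.erase s) m ⊆ m := fun y hy => (mem_badPts.1 hy).1
  rw [e, card_erase_of_mem hsm', card_sdiff_of_subset hsub, hm5]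
  have h1 := card_le_card hsub
  have h2 : 0 < (m \ badPts L (S.erase s) m).card := card_pos.2 ⟨s, hsm'⟩
  rw [card_sdiff_of_subset hsub] at h2
  omega

end Cfsg.Agent.Lib.Helper18.Plane4
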