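import Mathlib
import Cfsg.Prelude.Def_Sporadic_a
import Cfsg.Agent.Lib.Helper18.Plane4c

/-!
Projective plane of order 4 as S(2,5,21): the number of extension points of independent
2-, 3- and 4-sets.
-/

set_option autoImplicit false

namespace Cfsg.Agent.Lib.Helper18.Plane4

open Cfsg Finset Cfsg.Agent.Lib.Helper21

variable {α : Type*} [Fintype α] [DecidableEq α]

theorem badPts_of_card_le_one {L : Set (Finset α)} {T : Finset α} (hT : T.card ≤ 1)
    (m : Finset α) : badPts L T m = ∅ := by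
  rw [eq_empty_iff_forall_notMem]
  intro y hy
  obtain ⟨_, l, _, _, h2⟩ := mem_badPts.1 hy
  have := card_le_card (inter_subset_right (s₁ := l) (s₂ := T))
  omega

theorem badPts_card_two (hα : Fintype.card α = 21) {L : Set (Finset α)}
    (hL : IsSteinerSystem 2 5 L) {T : Finset α} (hT : T.card = 2) {m : Finset α} (hm : m ∈ L)
    (hTm : ∀ t ∈ T, t ∉ m) : (badPts L T m).card = 1 := by
  obtain ⟨b, c, hbc, rfl⟩ := card_eq_two.1 hT
  have hbm : b ∉ m := hTm b (by simp)
  obtain ⟨l₁, hl₁, hb₁, hc₁⟩ := exists_line hL hbc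
  have hne : m ≠ l₁ := by
    rintro rfl
    exact hbm hb₁
  rw [← inter_card_eq_one hα hL hm hl₁ hne]
  congr 1
  ext y
  rw [mem_badPts, mem_inter]
  constructor
  · rintro ⟨hym, l, hl, hyl, h2⟩
    refine ⟨hym, ?_⟩
    obtain ⟨u, hu, v, hv, huv⟩ := one_lt_card.1 (Nat.lt_of_lt_of_le (by decide : 1 < 2) h2)
    simp only [mem_inter, mem_insert, mem_singleton] at hu hv
    have hbl : b ∈ l := by
      rcases hu with ⟨hul, rfl | rfl⟩
      · exact hul
      · rcases hv with ⟨hvl, rfl | rfl⟩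
        · exact hvl
        · exact absurd rfl huv
    have hcl : c ∈ l := by
      rcases hu with ⟨hul, rfl | rfl⟩
      · rcases hv with ⟨hvl, rfl | rfl⟩
        · exact absurd rfl huv
        · exact hvl
      · exact hul
    rw [← line_unique hL hbc hl hl₁ hbl hcl hb₁ hc₁]
    exact hyl
  · rintro ⟨hym, hyl⟩
    refine ⟨hym, l₁, hl₁, hyl, ?_⟩
    have : l₁ ∩ {b, c} = {b, c} := by
      rw [inter_eq_right]
      intro z hz
      rcases mem_insert.1 hz with rfl | hz
      · exact hb₁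
      · rw [mem_singleton.1 hz]; exact hc₁
    rw [this, card_pair hbc]

theorem badPts_card_three (hα : Fintype.card α = 21) {L : Set (Finset α)}
    (hL : IsSteinerSystem 2 5 L) {T : Finset α} (hT : T.card = 3) (hTi : Indep L T)
    {m : Finset α} (hm : m ∈ L) (hTm : ∀ t ∈ T, t ∉ m) : (badPts L T m).card = 3 := by
  obtain ⟨b, c, d, hbc, hbd, hcd, rfl⟩ := card_eq_three.1 hT
  have hbm : b ∉ m := hTm b (by simp)
  have hcm : c ∉ m := hTm c (by simp)
  have hdm : d ∉ m := hTm d (by simp)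
  obtain ⟨l₁, hl₁, hb₁, hc₁⟩ := exists_line hL hbc
  obtain ⟨l₂, hl₂, hb₂, hd₂⟩ := exists_line hL hbd
  obtain ⟨l₃, hl₃, hc₃, hd₃⟩ := exists_line hL hcd
  have hd₁ : d ∉ l₁ := fun h =>
    hTi.not_three hl₁ (u := b) (v := c) (w := d) (by simp) (by simp) (by simp) hb₁ hc₁ h hbc hbd hcd
  have hc₂ : c ∉ l₂ := fun h =>
    hTi.not_three hl₂ (u := b) (v := c) (w := d) (by simp) (by simp) (by simp) hb₂ h hd₂ hbc hbd hcd
  have hb₃ : b ∉ l₃ := fun h =>
    hTi.not_three hl₃ (u := b) (v := c) (w := d) (by simp) (by simp) (by simp) h hc₃ hd₃ hbc hbd hcd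
  have h12 : l₁ ≠ l₂ := by
    rintro rfl
    exact hd₁ hd₂
  have h13 : l₁ ≠ l₃ := by
    rintro rfl
    exact hd₁ hd₃
  have h23 : l₂ ≠ l₃ := by
    rintro rfl
    exact hc₂ hc₃
  have hm1 : m ≠ l₁ := by
    rintro rfl
    exact hbm hb₁
  have hm2 : m ≠ l₂ := by
    rintro rfl
    exact hbm hb₂
  have hm3 : m ≠ l₃ := by
    rintro rfl
    exact hcm hc₃
  have e : badPts L {b, c, d} m = (m ∩ l₁) ∪ (m ∩ l₂) ∪ (m ∩ l₃) := by
    ext y
    simp only [mem_badPts, mem_union, mem_inter]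
    constructor
    · rintro ⟨hym, l, hl, hyl, h2⟩
      obtain ⟨u, hu, v, hv, huv⟩ := one_lt_card.1 (Nat.lt_of_lt_of_le (by decide : 1 < 2) h2)
      simp only [mem_inter, mem_insert, mem_singleton] at hu hv
      have hcases : (b ∈ l ∧ c ∈ l) ∨ (b ∈ l ∧ d ∈ l) ∨ (c ∈ l ∧ d ∈ l) := by
        rcases hu with ⟨hul, rfl | rfl | rfl⟩ <;> rcases hv with ⟨hvl, rfl | rfl | rfl⟩ <;>
          first
          | exact absurd rfl huv
          | tauto
      rcases hcases with ⟨h1, h2⟩ | ⟨h1, h2⟩ | ⟨h1, h2⟩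
      · left; left
        rw [← line_unique hL hbc hl hl₁ h1 h2 hb₁ hc₁]
        exact ⟨hym, hyl⟩
      · left; right
        rw [← line_unique hL hbd hl hl₂ h1 h2 hb₂ hd₂]
        exact ⟨hym, hyl⟩
      · right
        rw [← line_unique hL hcd hl hl₃ h1 h2 hc₃ hd₃]
        exact ⟨hym, hyl⟩
    · have key : ∀ l ∈ L, ∀ u v : α, u ≠ v → u ∈ ({b, c, d} : Finset α) →
          v ∈ ({b, c, d} : Finset α) → u ∈ l → v ∈ l → 2 ≤ (l ∩ {b, c, d}).card := by
        intro l _ u v huv hu hv hul hvl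
        have hsub : ({u, v} : Finset α) ⊆ l ∩ {b, c, d} := by
          intro z hz
          rcases mem_insert.1 hz with rfl | hz
          · exact mem_inter.2 ⟨hul, hu⟩
          · rw [mem_singleton.1 hz]; exact mem_inter.2 ⟨hvl, hv⟩
        have := card_le_card hsub
        rwa [card_pair huv] at this
      rintro ((⟨hym, hyl⟩ | ⟨hym, hyl⟩) | ⟨hym, hyl⟩)
      · exact ⟨hym, l₁, hl₁, hyl, key l₁ hl₁ b c hbc (by simp) (by simp) hb₁ hc₁⟩
      · exact ⟨hym, l₂, hl₂, hyl, key l₂ hl₂ b d hbd (by simp) (by simp) hb₂ hd₂⟩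
      · exact ⟨hym, l₃, hl₃, hyl, key l₃ hl₃ c d hcd (by simp) (by simp) hc₃ hd₃⟩
  have d12 : Disjoint (m ∩ l₁) (m ∩ l₂) := by
    rw [disjoint_left]
    intro y hy1 hy2
    rw [mem_inter] at hy1 hy2
    have : y = b := eq_of_mem_two_lines hL hl₁ hl₂ h12 hy1.2 hy2.2 hb₁ hb₂
    rw [this] at hy1
    exact hbm hy1.1
  have d13 : Disjoint (m ∩ l₁) (m ∩ l₃) := by
    rw [disjoint_left]
    intro y hy1 hy2
    rw [mem_inter] at hy1 hy2
    have : y = c := eq_of_mem_two_lines hL hl₁ hl₃ h13 hy1.2 hy2.2 hc₁ hc₃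
    rw [this] at hy1
    exact hcm hy1.1
  have d23 : Disjoint (m ∩ l₂) (m ∩ l₃) := by
    rw [disjoint_left]
    intro y hy1 hy2
    rw [mem_inter] at hy1 hy2
    have : y = d := eq_of_mem_two_lines hL hl₂ hl₃ h23 hy1.2 hy2.2 hd₂ hd₃
    rw [this] at hy1
    exact hdm hy1.1
  rw [e, card_union_of_disjoint (disjoint_union_left.2 ⟨d13, d23⟩), card_union_of_disjoint d12,
    inter_card_eq_one hα hL hm hl₁ hm1, inter_card_eq_one hα hL hm hl₂ hm2,
    inter_card_eq_one hα hL hm hl₃ hm3]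

theorem free_line_avoids {S : Finset α} {s : α} (hs : s ∈ S) {m : Finset α} (hsm : s ∈ m)
    (hfree : (m ∩ S).card = 1) : ∀ t ∈ S.erase s, t ∉ m := by
  intro t ht htm
  rw [mem_erase] at ht
  obtain ⟨a, ha⟩ := card_eq_one.1 hfree
  have h1 : s ∈ m ∩ S := mem_inter.2 ⟨hsm, hs⟩
  have h2 : t ∈ m ∩ S := mem_inter.2 ⟨htm, ht.2⟩
  rw [ha, mem_singleton] at h1 h2
  exact ht.1 (h2.trans h1.symm)

theorem card_ext_aux (hα : Fintype.card α = 21) {L : Set (Finset α)}
    (hL : IsSteinerSystem 2 5 L) {S : Finset α} (hS : Indep L S) {s : α} (hs : s ∈ S) (c : ℕ)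
    (hc : ∀ m ∈ L, s ∈ m → (m ∩ S).card = 1 → (badPts L (S.erase s) m).card = c) :
    (extPts L S).card = (6 - S.card) * (4 - c) := by
  rw [card_ext_eq_sum hL hS hs, sum_const_nat (m := 4 - c)]
  · have := card_free_lines hα hL hS hs
    congr 1
    omega
  · intro m hm
    rw [mem_filter, mem_blocksFinset] at hm
    have h1 := ext_on_free_line hL hS hs hm.1 hm.2.1 hm.2.2
    have h2 := hc m hm.1 hm.2.1 hm.2.2
    omega

theorem card_ext_two (hα : Fintype.card α = 21) {L : Set (Finset α)}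
    (hL : IsSteinerSystem 2 5 L) {S : Finset α} (hS : Indep L S) (h2 : S.card = 2) :
    (extPts L S).card = 16 := by
  obtain ⟨s, hs⟩ := card_pos.1 (by omega : 0 < S.card)
  rw [card_ext_aux hα hL hS hs 0, h2]
  intro m _ _ _
  rw [badPts_of_card_le_one (by rw [card_erase_of_mem hs]; omega)]
  rfl

theorem card_ext_three (hα : Fintype.card α = 21) {L : Set (Finset α)}
    (hL : IsSteinerSystem 2 5 L) {S : Finset α} (hS : Indep L S) (h3 : S.card = 3) :
    (extPts L S).card = 9 := by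
  obtain ⟨s, hs⟩ := card_pos.1 (by omega : 0 < S.card)
  rw [card_ext_aux hα hL hS hs 1, h3]
  intro m hm hsm hfree
  exact badPts_card_two hα hL (by rw [card_erase_of_mem hs]; omega) hm
    (free_line_avoids hs hsm hfree)

theorem bad_four (hα : Fintype.card α = 21) {L : Set (Finset α)}
    (hL : IsSteinerSystem 2 5 L) {S : Finset α} (hS : Indep L S) (h4 : S.card = 4) {s : α}
    (hs : s ∈ S) {m : Finset α} (hm : m ∈ L) (hsm : s ∈ m) (hfree : (m ∩ S).card = 1) :
    (badPts L (S.erase s) m).card = 3 :=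
  badPts_card_three hα hL (by rw [card_erase_of_mem hs]; omega) (hS.mono (erase_subset _ _)) hm
    (free_line_avoids hs hsm hfree)

theorem card_ext_four (hα : Fintype.card α = 21) {L : Set (Finset α)}
    (hL : IsSteinerSystem 2 5 L) {S : Finset α} (hS : Indep L S) (h4 : S.card = 4) :
    (extPts L S).card = 2 := by
  obtain ⟨s, hs⟩ := card_pos.1 (by omega : 0 < S.card)
  rw [card_ext_aux hα hL hS hs 3, h4]
  intro m hm hsm hfree
  exact bad_four hα hL hS h4 hs hm hsm hfree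

theorem ext_on_free_line_four (hα : Fintype.card α = 21) {L : Set (Finset α)}
    (hL : IsSteinerSystem 2 5 L) {S : Finset α} (hS : Indep L S) (h4 : S.card = 4) {s : α}
    (hs : s ∈ S) {m : Finset α} (hm : m ∈ L) (hsm : s ∈ m) (hfree : (m ∩ S).card = 1) :
    ((extPts L S).filter (· ∈ m)).card = 1 := by
  have h1 := ext_on_free_line hL hS hs hm hsm hfree
  have h2 := bad_four hα hL hS h4 hs hm hsm hfree
  omega

end Cfsg.Agent.Lib.Helper18.Plane4
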