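import Mathlib
import Cfsg.Prelude.Def_Sporadic_a
import Cfsg.Agent.Lib.Helper18.Plane4d

/-!
Projective plane of order 4 as S(2,5,21): numbers of independent sets and hyperovals.
-/

set_option autoImplicit false

namespace Cfsg.Agent.Lib.Helper18.Plane4

open Cfsg Finset Cfsg.Agent.Lib.Helper21

variable {α : Type*} [Fintype α] [DecidableEq α]

theorem card_indep_two (hα : Fintype.card α = 21) (L : Set (Finset α)) :
    (indepSets L 2).card = 210 := by
  have e : indepSets L 2 = powersetCard 2 univ := by
    ext S
    rw [mem_indepSets, mem_powersetCard]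
    constructor
    · rintro ⟨h, _⟩
      exact ⟨subset_univ _, h⟩
    · rintro ⟨_, h⟩
      refine ⟨h, fun l _ => ?_⟩
      rw [← h]
      exact card_le_card inter_subset_right
  rw [e, card_powersetCard, card_univ, hα]
  decide

theorem card_indep_three (hα : Fintype.card α = 21) {L : Set (Finset α)}
    (hL : IsSteinerSystem 2 5 L) : (indepSets L 3).card = 1120 := by
  have h := sum_ext_card L 2
  rw [sum_const_nat (m := 16), card_indep_two hα L] at h
  · norm_num at h
    omega
  · intro S hS
    rw [mem_indepSets] at hS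
    exact card_ext_two hα hL hS.2 hS.1

theorem card_indep_four (hα : Fintype.card α = 21) {L : Set (Finset α)}
    (hL : IsSteinerSystem 2 5 L) : (indepSets L 4).card = 2520 := by
  have h := sum_ext_card L 3
  rw [sum_const_nat (m := 9), card_indep_three hα hL] at h
  · norm_num at h
    omega
  · intro S hS
    rw [mem_indepSets] at hS
    exact card_ext_three hα hL hS.2 hS.1

theorem hyperoval_indep (hα : Fintype.card α = 21) {L : Set (Finset α)}
    (hL : IsSteinerSystem 2 5 L) {S : Finset α} (hS : Indep L S) (h4 : S.card = 4) :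
    Indep L (S ∪ extPts L S) := by
  intro l hl
  have hE : (extPts L S).card = 2 := card_ext_four hα hL hS h4
  have hle : (l ∩ (S ∪ extPts L S)).card ≤ (l ∩ S).card + (l ∩ extPts L S).card := by
    rw [inter_union_distrib_left]
    exact card_union_le _ _
  have h2 := hS l hl
  rcases (l ∩ extPts L S).eq_empty_or_nonempty with he | ⟨x, hx⟩
  · rw [he, card_empty] at hle
    omega
  · rw [mem_inter, mem_extPts] at hx
    have h1 := ((isExt_iff hS).1 hx.2).2 l hl hx.1
    rcases (l ∩ S).eq_empty_or_nonempty with hs | ⟨t, ht⟩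
    · rw [hs, card_empty] at hle
      have := card_le_card (inter_subset_right (s₁ := l) (s₂ := extPts L S))
      omega
    · have ht' := mem_inter.1 ht
      have h0 : 0 < (l ∩ S).card := card_pos.2 ⟨t, ht⟩
      have hfree : (l ∩ S).card = 1 := by omega
      have h3 := ext_on_free_line_four hα hL hS h4 ht'.2 hl ht'.1 hfree
      have e : l ∩ extPts L S = (extPts L S).filter (· ∈ l) := by
        ext y
        simp only [mem_inter, mem_filter]
        tauto
      rw [e, h3] at hle
      omega

theorem hyperoval_exists_unique (hα : Fintype.card α = 21) {L : Set (Finset α)}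
    (hL : IsSteinerSystem 2 5 L) {S : Finset α} (hS : Indep L S) (h4 : S.card = 4) :
    ∃! H : Finset α, (H.card = 6 ∧ Indep L H) ∧ S ⊆ H := by
  have hE : (extPts L S).card = 2 := card_ext_four hα hL hS h4
  have hdisj : Disjoint S (extPts L S) := by
    rw [disjoint_left]
    intro x hxS hxE
    exact (mem_extPts.1 hxE).1 hxS
  have hcard : (S ∪ extPts L S).card = 6 := by
    rw [card_union_of_disjoint hdisj, h4, hE]
  refine ⟨S ∪ extPts L S, ⟨⟨hcard, hyperoval_indep hα hL hS h4⟩, subset_union_left⟩, ?_⟩
  rintro H ⟨⟨hH6, hHi⟩, hSH⟩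
  apply eq_of_subset_of_card_le
  · intro x hxH
    by_cases hxS : x ∈ S
    · exact mem_union_left _ hxS
    · apply mem_union_right
      rw [mem_extPts]
      refine ⟨hxS, hHi.mono ?_⟩
      intro z hz
      rcases mem_insert.1 hz with rfl | hz
      · exact hxH
      · exact hSH hz
  · rw [hcard, hH6]

theorem card_indep_six (hα : Fintype.card α = 21) {L : Set (Finset α)}
    (hL : IsSteinerSystem 2 5 L) : (indepSets L 6).card = 168 := by
  have hdc := sum_card_bipartiteAbove_eq_sum_card_bipartiteBelow (s := indepSets L 4)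
    (t := indepSets L 6) (fun S H => S ⊆ H)
  rw [sum_const_nat (m := 1), sum_const_nat (m := 15), card_indep_four hα hL] at hdc
  · omega
  · intro H hH
    rw [mem_indepSets] at hH
    have e : bipartiteBelow (fun S H => S ⊆ H) (indepSets L 4) H = powersetCard 4 H := by
      ext S
      simp only [bipartiteBelow, mem_filter, mem_indepSets, mem_powersetCard]
      constructor
      · rintro ⟨⟨h4, _⟩, hSH⟩
        exact ⟨hSH, h4⟩
      · rintro ⟨hSH, h4⟩
        exact ⟨⟨h4, hH.2.mono hSH⟩, hSH⟩
    rw [e, card_powersetCard, hH.1]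
    decide
  · intro S hS
    rw [mem_indepSets] at hS
    obtain ⟨H₀, hH₀, huniq⟩ := hyperoval_exists_unique hα hL hS.2 hS.1
    rw [card_eq_one]
    refine ⟨H₀, ?_⟩
    ext H
    simp only [bipartiteAbove, mem_filter, mem_indepSets, mem_singleton]
    constructor
    · intro h
      exact huniq H h
    · rintro rfl
      exact hH₀

theorem ncard_indep (L : Set (Finset α)) (k : ℕ) :
    {S : Finset α | S.card = k ∧ ∀ l ∈ L, (l ∩ S).card ≤ 2}.ncard = (indepSets L k).card := by
  rw [← Set.ncard_coe_finset]
  congr 1
  ext S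
  simp only [Set.mem_ofPred_eq, mem_coe, mem_indepSets]
  rfl

end Cfsg.Agent.Lib.Helper18.Plane4
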