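import Mathlib
import Cfsg.Prelude.Def_Sporadic_a
import Cfsg.Agent.Lib.Helper18.Plane4e

/-!
Hyperovals in a projective plane of order 4 given as S(2,5,21): secants, external lines, the
matching induced on the hyperoval by a point off it, and the "star" lemma for external lines.
-/

set_option autoImplicit false

namespace Cfsg.Agent.Lib.Helper18.Plane4

open Cfsg Finset Cfsg.Agent.Lib.Helper21

variable {α : Type*} [Fintype α] [DecidableEq α]

/-- A hyperoval: an independent 6-set. -/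
structure IsHyperoval (L : Set (Finset α)) (H : Finset α) : Prop where
  card : H.card = 6
  indep : Indep L H

theorem IsHyperoval.inter_card (hα : Fintype.card α = 21) {L : Set (Finset α)}
    (hL : IsSteinerSystem 2 5 L) {H : Finset α} (hH : IsHyperoval L H) {l : Finset α}
    (hl : l ∈ L) : (l ∩ H).card = 0 ∨ (l ∩ H).card = 2 := by
  rcases (l ∩ H).eq_empty_or_nonempty with he | ⟨a, ha⟩
  · left
    rw [he, card_empty]
  · right
    have ha' := mem_inter.1 ha
    have h := card_free_lines hα hL hH.indep ha'.2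
    rw [hH.card] at h
    have h0 : ((blocksFinset L).filter (fun m => a ∈ m ∧ (m ∩ H).card = 1)).card = 0 := by omega
    rw [card_eq_zero] at h0
    have hnot : l ∉ (blocksFinset L).filter (fun m => a ∈ m ∧ (m ∩ H).card = 1) := by
      rw [h0]
      exact notMem_empty _
    rw [mem_filter, mem_blocksFinset] at hnot
    have h1 : (l ∩ H).card ≠ 1 := fun h1 => hnot ⟨hl, ha'.1, h1⟩
    have h2 := hH.indep l hl
    have h3 : 0 < (l ∩ H).card := card_pos.2 ⟨a, ha⟩
    omega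

/-- `a`, `b` are distinct points of `H` collinear with `x`. -/
def Mate (L : Set (Finset α)) (H : Finset α) (x a b : α) : Prop :=
  a ∈ H ∧ b ∈ H ∧ a ≠ b ∧ ∃ l ∈ L, x ∈ l ∧ a ∈ l ∧ b ∈ l

theorem Mate.symm {L : Set (Finset α)} {H : Finset α} {x a b : α} (h : Mate L H x a b) :
    Mate L H x b a := by
  obtain ⟨ha, hb, hab, l, hl, hxl, hal, hbl⟩ := h
  exact ⟨hb, ha, hab.symm, l, hl, hxl, hbl, hal⟩

theorem IsHyperoval.mate_total (hα : Fintype.card α = 21) {L : Set (Finset α)}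
    (hL : IsSteinerSystem 2 5 L) {H : Finset α} (hH : IsHyperoval L H) {x : α} (hx : x ∉ H)
    {a : α} (ha : a ∈ H) : ∃ b, Mate L H x a b := by
  have hxa : x ≠ a := by
    rintro rfl
    exact hx ha
  obtain ⟨l, hl, hxl, hal⟩ := exists_line hL hxa
  have h2 : (l ∩ H).card = 2 := by
    rcases hH.inter_card hα hL hl with h0 | h2
    · rw [card_eq_zero] at h0
      have : a ∈ l ∩ H := mem_inter.2 ⟨hal, ha⟩
      rw [h0] at this
      exact absurd this (notMem_empty _)
    · exact h2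
  obtain ⟨u, v, huv, he⟩ := card_eq_two.1 h2
  have hu : u ∈ l ∩ H := by rw [he]; simp
  have hv : v ∈ l ∩ H := by rw [he]; simp
  rw [mem_inter] at hu hv
  by_cases hau : a = u
  · exact ⟨v, ha, hv.2, by rw [hau]; exact huv, l, hl, hxl, hal, hv.1⟩
  · exact ⟨u, ha, hu.2, hau, l, hl, hxl, hal, hu.1⟩

theorem IsHyperoval.mate_func {L : Set (Finset α)} (hL : IsSteinerSystem 2 5 L) {H : Finset α}
    (hH : IsHyperoval L H) {x : α} (hx : x ∉ H) {a b c : α} (h1 : Mate L H x a b)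
    (h2 : Mate L H x a c) : b = c := by
  obtain ⟨ha, hb, hab, l, hl, hxl, hal, hbl⟩ := h1
  obtain ⟨_, hc, hac, l', hl', hxl', hal', hcl'⟩ := h2
  have hxa : x ≠ a := by
    rintro rfl
    exact hx ha
  have : l' = l := line_unique hL hxa hl' hl hxl' hal' hxl hal
  rw [this] at hcl'
  by_contra hbc
  exact hH.indep.not_three hl ha hb hc hal hbl hcl' hab hac hbc

/-- Through a point off a hyperoval there are exactly two external lines. -/
theorem IsHyperoval.card_external_through (hα : Fintype.card α = 21) {L : Set (Finset α)}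
    (hL : IsSteinerSystem 2 5 L) {H : Finset α} (hH : IsHyperoval L H) {y : α} (hy : y ∉ H) :
    ((blocksFinset L).filter (fun l => y ∈ l ∧ l ∩ H = ∅)).card = 2 := by
  have h5 : ((blocksFinset L).filter (y ∈ ·)).card = 5 := lines_through hα hL y
  have hdc := sum_card_bipartiteAbove_eq_sum_card_bipartiteBelow (s := H)
    (t := (blocksFinset L).filter (y ∈ ·)) (fun a l => a ∈ l)
  have hl : ∑ a ∈ H, (bipartiteAbove (fun a l => a ∈ l)
      ((blocksFinset L).filter (y ∈ ·)) a).card = 6 := by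
    rw [sum_const_nat (m := 1), mul_one, hH.card]
    intro a ha
    have hya : y ≠ a := by
      rintro rfl
      exact hy ha
    refine Eq.trans ?_ (unique_line_through hL hya)
    congr 1
    ext m
    simp [bipartiteAbove, and_assoc]
  have hr : ∑ l ∈ (blocksFinset L).filter (y ∈ ·), (bipartiteBelow (fun a l => a ∈ l) H l).card
      = 2 * (((blocksFinset L).filter (y ∈ ·)).filter (fun l => ¬ l ∩ H = ∅)).card := by
    rw [card_filter, mul_sum]
    apply sum_congr rfl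
    intro l hl
    rw [mem_filter, mem_blocksFinset] at hl
    have e : bipartiteBelow (fun a l => a ∈ l) H l = l ∩ H := by
      ext t
      simp only [bipartiteBelow, mem_filter, mem_inter]
      tauto
    rw [e]
    rcases hH.inter_card hα hL hl.1 with h0 | h2
    · rw [h0]
      rw [card_eq_zero] at h0
      simp [h0]
    · rw [h2]
      have : l ∩ H ≠ ∅ := by
        intro h
        rw [h, card_empty] at h2
        omega
      simp [this]
  have hsplit := card_filter_add_card_filter_not (s := (blocksFinset L).filter (y ∈ ·))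
    (fun l => l ∩ H = ∅)
  have e2 : ((blocksFinset L).filter (y ∈ ·)).filter (fun l => l ∩ H = ∅)
      = (blocksFinset L).filter (fun l => y ∈ l ∧ l ∩ H = ∅) := by
    rw [filter_filter]
  rw [e2] at hsplit
  rw [hl, hr] at hdc
  omega

theorem IsHyperoval.ext_lines_three (hα : Fintype.card α = 21) {L : Set (Finset α)}
    (hL : IsSteinerSystem 2 5 L) {H : Finset α} (hH : IsHyperoval L H) {y : α} (hy : y ∉ H)
    {l₁ l₂ l₃ : Finset α} (h₁ : l₁ ∈ L) (h₂ : l₂ ∈ L) (h₃ : l₃ ∈ L) (hy₁ : y ∈ l₁) (hy₂ : y ∈ l₂)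
    (hy₃ : y ∈ l₃) (he₁ : l₁ ∩ H = ∅) (he₂ : l₂ ∩ H = ∅) (he₃ : l₃ ∩ H = ∅) :
    l₁ = l₂ ∨ l₁ = l₃ ∨ l₂ = l₃ := by
  by_contra hcon
  push Not at hcon
  obtain ⟨h12, h13, h23⟩ := hcon
  have hsub : ({l₁, l₂, l₃} : Finset (Finset α))
      ⊆ (blocksFinset L).filter (fun l => y ∈ l ∧ l ∩ H = ∅) := by
    intro z hz
    simp only [mem_insert, mem_singleton] at hz
    rw [mem_filter, mem_blocksFinset]
    rcases hz with rfl | rfl | rfl
    · exact ⟨h₁, hy₁, he₁⟩
    · exact ⟨h₂, hy₂, he₂⟩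
    · exact ⟨h₃, hy₃, he₃⟩
  have h := card_le_card hsub
  rw [hH.card_external_through hα hL hy, card_eq_three.2 ⟨l₁, l₂, l₃, h12, h13, h23, rfl⟩] at h
  omega

/-- Five points off the hyperoval that are pairwise joined by external lines form a line. -/
theorem IsHyperoval.star (hα : Fintype.card α = 21) {L : Set (Finset α)}
    (hL : IsSteinerSystem 2 5 L) {H : Finset α} (hH : IsHyperoval L H) {Y : Finset α}
    (hY5 : Y.card = 5) (hYH : ∀ y ∈ Y, y ∉ H)
    (hext : ∀ y ∈ Y, ∀ y' ∈ Y, y ≠ y' → ∀ l ∈ L, y ∈ l → y' ∈ l → l ∩ H = ∅) : Y ∈ L := by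
  obtain ⟨y₁, hy₁⟩ := card_pos.1 (by omega : 0 < Y.card)
  obtain ⟨n, n', hnn', hE⟩ := card_eq_two.1 (hH.card_external_through hα hL (hYH y₁ hy₁))
  have hn : n ∈ (blocksFinset L).filter (fun l => y₁ ∈ l ∧ l ∩ H = ∅) := by rw [hE]; simp
  have hn' : n' ∈ (blocksFinset L).filter (fun l => y₁ ∈ l ∧ l ∩ H = ∅) := by rw [hE]; simp
  rw [mem_filter, mem_blocksFinset] at hn hn'
  have hcover : ∀ y ∈ Y, y ∈ n ∨ y ∈ n' := by
    intro y hy
    by_cases hyy : y₁ = y
    · left
      rw [← hyy]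
      exact hn.2.1
    · obtain ⟨l, hl, h1l, hyl⟩ := exists_line hL hyy
      have hle := hext y₁ hy₁ y hy hyy l hl h1l hyl
      have : l ∈ (blocksFinset L).filter (fun l => y₁ ∈ l ∧ l ∩ H = ∅) := by
        rw [mem_filter, mem_blocksFinset]
        exact ⟨hl, h1l, hle⟩
      rw [hE, mem_insert, mem_singleton] at this
      rcases this with rfl | rfl
      · exact Or.inl hyl
      · exact Or.inr hyl
  by_cases h1 : Y ⊆ n
  · have : Y = n := eq_of_subset_of_card_le h1 (by rw [hL.1 n hn.1, hY5])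
    rw [this]
    exact hn.1
  by_cases h2 : Y ⊆ n'
  · have : Y = n' := eq_of_subset_of_card_le h2 (by rw [hL.1 n' hn'.1, hY5])
    rw [this]
    exact hn'.1
  exfalso
  obtain ⟨y₂, hy₂, hy₂n⟩ := not_subset.1 h1
  obtain ⟨y₃, hy₃, hy₃n'⟩ := not_subset.1 h2
  have hy₂n' : y₂ ∈ n' := (hcover y₂ hy₂).resolve_left hy₂n
  have hy₃n : y₃ ∈ n := (hcover y₃ hy₃).resolve_right hy₃n'
  have h21 : y₂ ≠ y₁ := by
    rintro rfl
    exact hy₂n hn.2.1
  have h31 : y₃ ≠ y₁ := by
    rintro rfl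
    exact hy₃n' hn'.2.1
  have h23 : y₂ ≠ y₃ := by
    rintro rfl
    exact hy₂n hy₃n
  obtain ⟨k, hk, h2k, h3k⟩ := exists_line hL h23
  have hke := hext y₂ hy₂ y₃ hy₃ h23 k hk h2k h3k
  have hkn : k ≠ n := by
    rintro rfl
    exact hy₂n h2k
  have hkn' : k ≠ n' := by
    rintro rfl
    exact hy₃n' h3k
  obtain ⟨y₄, hy₄, hy₄n⟩ := exists_mem_notMem_of_card_lt_card
    (s := ({y₁, y₂, y₃} : Finset α)) (t := Y) (by
      have := card_le_three (a := y₁) (b := y₂) (c := y₃)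
      omega)
  simp only [mem_insert, mem_singleton, not_or] at hy₄n
  obtain ⟨h41, h42, h43⟩ := hy₄n
  -- lines through y₂
  obtain ⟨j₂, hj₂, h2j₂, h4j₂⟩ := exists_line hL (Ne.symm h42)
  have hj₂e := hext y₂ hy₂ y₄ hy₄ (Ne.symm h42) j₂ hj₂ h2j₂ h4j₂
  have hA : y₄ ∈ n' ∨ y₄ ∈ k := by
    rcases hH.ext_lines_three hα hL (hYH y₂ hy₂) hn'.1 hk hj₂ hy₂n' h2k h2j₂ hn'.2.2 hke hj₂e
      with h | h | h
    · exact absurd h.symm hkn'
    · left; rw [h]; exact h4j₂
    · right; rw [h]; exact h4j₂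
  obtain ⟨j₃, hj₃, h3j₃, h4j₃⟩ := exists_line hL (Ne.symm h43)
  have hj₃e := hext y₃ hy₃ y₄ hy₄ (Ne.symm h43) j₃ hj₃ h3j₃ h4j₃
  have hB : y₄ ∈ n ∨ y₄ ∈ k := by
    rcases hH.ext_lines_three hα hL (hYH y₃ hy₃) hn.1 hk hj₃ hy₃n h3k h3j₃ hn.2.2 hke hj₃e
      with h | h | h
    · exact absurd h.symm hkn
    · left; rw [h]; exact h4j₃
    · right; rw [h]; exact h4j₃
  rcases hcover y₄ hy₄ with h4n | h4n'
  · rcases hA with h | h
    · exact h41 (eq_of_mem_two_lines hL hn.1 hn'.1 hnn' h4n h hn.2.1 hn'.2.1)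
    · exact h43 (eq_of_mem_two_lines hL hn.1 hk (Ne.symm hkn) h4n h hy₃n h3k)
  · rcases hB with h | h
    · exact h41 (eq_of_mem_two_lines hL hn.1 hn'.1 hnn' h h4n' hn.2.1 hn'.2.1)
    · exact h42 (eq_of_mem_two_lines hL hn'.1 hk (Ne.symm hkn') h4n' h hy₂n' h2k)

end Cfsg.Agent.Lib.Helper18.Plane4
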