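import Mathlib
import Cfsg.Prelude.Def_Sporadic_a
import Cfsg.Agent.Lib.Helper18.Plane4f

/-!
A bijection between hyperovals of two projective planes of order 4 extends to an isomorphism
of the planes.  Part 1: matchings on a 6-set and existence of the image point.
-/

set_option autoImplicit false

namespace Cfsg.Agent.Lib.Helper18.Plane4

open Cfsg Finset Cfsg.Agent.Lib.Helper21

variable {α : Type*} [Fintype α] [DecidableEq α] {β : Type*} [Fintype β] [DecidableEq β]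

omit [Fintype α] [Fintype β] in
/-- Two perfect matchings on corresponding 6-sets which agree on two disjoint pairs agree. -/
theorem pm_ext {H : Finset α} {H' : Finset β} (hH : H.card = 6) {s : α → β}
    (hs : Set.BijOn s H H') {R : α → α → Prop} {R' : β → β → Prop}
    (Rsymm : ∀ a b, R a b → R b a) (Rmem : ∀ a b, R a b → a ∈ H) (Rirr : ∀ a, ¬ R a a)
    (Rfunc : ∀ a b c, R a b → R a c → b = c)
    (R'symm : ∀ a b, R' a b → R' b a) (R'mem : ∀ a b, R' a b → a ∈ H') (R'irr : ∀ a, ¬ R' a a)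
    (R'func : ∀ a b c, R' a b → R' a c → b = c) (R'total : ∀ a ∈ H', ∃ b, R' a b)
    {a₁ b₁ a₂ b₂ : α} (h1 : R a₁ b₁) (h1' : R' (s a₁) (s b₁)) (h2 : R a₂ b₂)
    (h2' : R' (s a₂) (s b₂)) (hne : a₂ ≠ a₁) (hne' : a₂ ≠ b₁) :
    ∀ a b, R a b → R' (s a) (s b) := by
  intro a b hab
  have ha : a ∈ H := Rmem a b hab
  have hb : b ∈ H := Rmem b a (Rsymm a b hab)
  have key : ∀ p q, R p q → R' (s p) (s q) → a = p → R' (s a) (s b) := by
    intro p q hpq hpq' hap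
    subst hap
    rw [Rfunc a b q hab hpq]
    exact hpq'
  by_cases e1 : a = a₁
  · exact key a₁ b₁ h1 h1' e1
  by_cases e2 : a = b₁
  · exact key b₁ a₁ (Rsymm _ _ h1) (R'symm _ _ h1') e2
  by_cases e3 : a = a₂
  · exact key a₂ b₂ h2 h2' e3
  by_cases e4 : a = b₂
  · exact key b₂ a₂ (Rsymm _ _ h2) (R'symm _ _ h2') e4
  have keyb : ∀ p q, R p q → a ≠ q → b ≠ p := by
    intro p q hpq haq hbp
    subst hbp
    exact haq (Rfunc b a q (Rsymm _ _ hab) hpq)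
  have f1 : b ≠ a₁ := keyb a₁ b₁ h1 e2
  have f2 : b ≠ b₁ := keyb b₁ a₁ (Rsymm _ _ h1) e1
  have f3 : b ≠ a₂ := keyb a₂ b₂ h2 e4
  have f4 : b ≠ b₂ := keyb b₂ a₂ (Rsymm _ _ h2) e3
  obtain ⟨c', hc'⟩ := R'total (s a) (hs.mapsTo ha)
  have hc'H : c' ∈ H' := R'mem c' (s a) (R'symm _ _ hc')
  obtain ⟨c, hc, rfl⟩ := hs.surjOn hc'H
  rw [mem_coe] at hc
  have hca : c ≠ a := by
    rintro rfl
    exact R'irr _ hc'
  have keyc : ∀ p q, R' (s p) (s q) → q ∈ H → a ≠ q → c ≠ p := by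
    intro p q hpq hq haq hcp
    subst hcp
    have := R'func (s c) (s a) (s q) (R'symm _ _ hc') hpq
    exact haq (hs.injOn ha hq this)
  have ha₁ : a₁ ∈ H := Rmem _ _ h1
  have hb₁ : b₁ ∈ H := Rmem _ _ (Rsymm _ _ h1)
  have ha₂ : a₂ ∈ H := Rmem _ _ h2
  have hb₂ : b₂ ∈ H := Rmem _ _ (Rsymm _ _ h2)
  have g1 : c ≠ a₁ := keyc a₁ b₁ h1' hb₁ e2
  have g2 : c ≠ b₁ := keyc b₁ a₁ (R'symm _ _ h1') ha₁ e1
  have g3 : c ≠ a₂ := keyc a₂ b₂ h2' hb₂ e4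
  have g4 : c ≠ b₂ := keyc b₂ a₂ (R'symm _ _ h2') ha₂ e3
  -- distinctness of the four points
  have d1 : a₁ ≠ b₁ := by
    rintro rfl
    exact Rirr _ h1
  have d2 : a₂ ≠ b₂ := by
    rintro rfl
    exact Rirr _ h2
  have d3 : b₂ ≠ a₁ := by
    rintro rfl
    exact hne' (Rfunc _ _ _ (Rsymm _ _ h2) h1)
  have d4 : b₂ ≠ b₁ := by
    rintro rfl
    exact hne (Rfunc _ _ _ (Rsymm _ _ h2) (Rsymm _ _ h1))
  have hD : ({a₁, b₁, a₂, b₂} : Finset α).card = 4 := by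
    rw [card_insert_of_notMem, card_insert_of_notMem, card_insert_of_notMem, card_singleton]
    · simp [d2]
    · simp [hne'.symm, d4.symm]
    · simp [d1, hne.symm, d3.symm]
  have hDH : ({a₁, b₁, a₂, b₂} : Finset α) ⊆ H := by
    intro z hz
    simp only [mem_insert, mem_singleton] at hz
    rcases hz with rfl | rfl | rfl | rfl <;> assumption
  have hcomp : (H \ {a₁, b₁, a₂, b₂}).card = 2 := by
    rw [card_sdiff_of_subset hDH, hH, hD]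
  have hab' : a ≠ b := by
    rintro rfl
    exact Rirr _ hab
  by_cases hbc : b = c
  · rw [hbc]
    exact hc'
  · exfalso
    have hsub : ({a, b, c} : Finset α) ⊆ H \ {a₁, b₁, a₂, b₂} := by
      intro z hz
      simp only [mem_insert, mem_singleton] at hz
      rw [mem_sdiff]
      simp only [mem_insert, mem_singleton, not_or]
      rcases hz with rfl | rfl | rfl
      · exact ⟨ha, e1, e2, e3, e4⟩
      · exact ⟨hb, f1, f2, f3, f4⟩
      · exact ⟨hc, g1, g2, g3, g4⟩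
    have := card_le_card hsub
    rw [hcomp, card_eq_three.2 ⟨a, b, c, hab', hca.symm, hbc, rfl⟩] at this
    omega

/-- Through a point off a hyperoval there are two secants meeting the hyperoval in disjoint
pairs. -/
theorem IsHyperoval.two_secants (hα : Fintype.card α = 21) {L : Set (Finset α)}
    (hL : IsSteinerSystem 2 5 L) {H : Finset α} (hH : IsHyperoval L H) {x : α} (hx : x ∉ H) :
    ∃ a₁ b₁ a₂ b₂, Mate L H x a₁ b₁ ∧ Mate L H x a₂ b₂ ∧ a₂ ≠ a₁ ∧ a₂ ≠ b₁ ∧ b₂ ≠ a₁ ∧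
      b₂ ≠ b₁ := by
  obtain ⟨a₁, ha₁⟩ := card_pos.1 (by rw [hH.card]; decide : 0 < H.card)
  obtain ⟨b₁, h1⟩ := hH.mate_total hα hL hx ha₁
  obtain ⟨a₂, ha₂, hn⟩ := exists_mem_notMem_of_card_lt_card
    (s := ({a₁, b₁} : Finset α)) (t := H) (by
      have := card_le_two (a := a₁) (b := b₁)
      rw [hH.card]
      omega)
  simp only [mem_insert, mem_singleton, not_or] at hn
  obtain ⟨b₂, h2⟩ := hH.mate_total hα hL hx ha₂
  refine ⟨a₁, b₁, a₂, b₂, h1, h2, hn.1, hn.2, ?_, ?_⟩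
  · rintro rfl
    exact hn.2 (hH.mate_func hL hx h2.symm h1)
  · rintro rfl
    exact hn.1 (hH.mate_func hL hx h2.symm h1.symm)

/-- A point off the hyperoval is determined by two of its secants. -/
theorem IsHyperoval.eq_of_mates {L : Set (Finset α)}
    (hL : IsSteinerSystem 2 5 L) {H : Finset α} (hH : IsHyperoval L H) {x x' : α}
    {a₁ b₁ a₂ b₂ : α} (h1 : Mate L H x a₁ b₁) (h1' : Mate L H x' a₁ b₁) (h2 : Mate L H x a₂ b₂)
    (h2' : Mate L H x' a₂ b₂) (hne : a₂ ≠ a₁) (hne' : a₂ ≠ b₁) : x = x' := by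
  obtain ⟨ha₁, hb₁, hab₁, l₁, hl₁, hxl₁, hal₁, hbl₁⟩ := h1
  obtain ⟨_, _, _, m₁, hm₁, hxm₁, ham₁, hbm₁⟩ := h1'
  obtain ⟨ha₂, hb₂, hab₂, l₂, hl₂, hxl₂, hal₂, hbl₂⟩ := h2
  obtain ⟨_, _, _, m₂, hm₂, hxm₂, ham₂, hbm₂⟩ := h2'
  have e1 : m₁ = l₁ := line_unique hL hab₁ hm₁ hl₁ ham₁ hbm₁ hal₁ hbl₁
  have e2 : m₂ = l₂ := line_unique hL hab₂ hm₂ hl₂ ham₂ hbm₂ hal₂ hbl₂
  rw [e1] at hxm₁
  rw [e2] at hxm₂
  have hne12 : l₁ ≠ l₂ := by
    rintro rfl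
    exact hH.indep.not_three hl₁ ha₁ hb₁ ha₂ hal₁ hbl₁ hal₂ hab₁ hne.symm hne'.symm
  exact eq_of_mem_two_lines hL hl₁ hl₂ hne12 hxl₁ hxl₂ hxm₁ hxm₂

/-- The data: two planes of order 4 with hyperovals and a bijection between the hyperovals. -/
structure Setup (L : Set (Finset α)) (L' : Set (Finset β)) (H : Finset α) (H' : Finset β)
    (s : α → β) : Prop where
  hα : Fintype.card α = 21
  hβ : Fintype.card β = 21
  hL : IsSteinerSystem 2 5 L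
  hL' : IsSteinerSystem 2 5 L'
  hH : IsHyperoval L H
  hH' : IsHyperoval L' H'
  hs : Set.BijOn s H H'

variable {L : Set (Finset α)} {L' : Set (Finset β)} {H : Finset α} {H' : Finset β} {s : α → β}

theorem Setup.ext_exists (S : Setup L L' H H' s) {x : α} (hx : x ∉ H) :
    ∃ y, y ∉ H' ∧ ∀ a b, Mate L H x a b → Mate L' H' y (s a) (s b) := by
  obtain ⟨a₁, b₁, a₂, b₂, h1, h2, hne, hne', hne2, hne2'⟩ := S.hH.two_secants S.hα S.hL hx
  have ha₁ := h1.1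
  have hb₁ := h1.2.1
  have ha₂ := h2.1
  have hb₂ := h2.2.1
  have sa₁ : s a₁ ∈ H' := S.hs.mapsTo ha₁
  have sb₁ : s b₁ ∈ H' := S.hs.mapsTo hb₁
  have sa₂ : s a₂ ∈ H' := S.hs.mapsTo ha₂
  have sb₂ : s b₂ ∈ H' := S.hs.mapsTo hb₂
  have inj : ∀ {p q : α}, p ∈ H → q ∈ H → p ≠ q → s p ≠ s q := by
    intro p q hp hq hpq h
    exact hpq (S.hs.injOn hp hq h)
  have n1 : s a₁ ≠ s b₁ := inj ha₁ hb₁ h1.2.2.1
  have n2 : s a₂ ≠ s b₂ := inj ha₂ hb₂ h2.2.2.1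
  obtain ⟨l₁, hl₁, ha₁l, hb₁l⟩ := exists_line S.hL' n1
  obtain ⟨l₂, hl₂, ha₂l, hb₂l⟩ := exists_line S.hL' n2
  have hl12 : l₁ ≠ l₂ := by
    rintro rfl
    exact S.hH'.indep.not_three hl₁ sa₁ sb₁ sa₂ ha₁l hb₁l ha₂l n1 (inj ha₁ ha₂ hne.symm)
      (inj hb₁ ha₂ hne'.symm)
  obtain ⟨y, hy⟩ := exists_inter_point S.hβ S.hL' hl₁ hl₂ hl12
  have hyl : y ∈ l₁ ∩ l₂ := by rw [hy]; simp
  rw [mem_inter] at hyl
  have hyH : y ∉ H' := by
    intro hyH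
    by_cases e1 : y = s a₁
    · rw [e1] at hyl
      exact S.hH'.indep.not_three hl₂ sa₁ sa₂ sb₂ hyl.2 ha₂l hb₂l (inj ha₁ ha₂ hne.symm)
        (inj ha₁ hb₂ hne2.symm) n2
    by_cases e2 : y = s b₁
    · rw [e2] at hyl
      exact S.hH'.indep.not_three hl₂ sb₁ sa₂ sb₂ hyl.2 ha₂l hb₂l (inj hb₁ ha₂ hne'.symm)
        (inj hb₁ hb₂ hne2'.symm) n2
    exact S.hH'.indep.not_three hl₁ hyH sa₁ sb₁ hyl.1 ha₁l hb₁l e1 e2 n1
  refine ⟨y, hyH, ?_⟩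
  have m1 : Mate L' H' y (s a₁) (s b₁) := ⟨sa₁, sb₁, n1, l₁, hl₁, hyl.1, ha₁l, hb₁l⟩
  have m2 : Mate L' H' y (s a₂) (s b₂) := ⟨sa₂, sb₂, n2, l₂, hl₂, hyl.2, ha₂l, hb₂l⟩
  exact pm_ext S.hH.card S.hs (fun _ _ h => h.symm) (fun _ _ h => h.1) (fun _ h => h.2.2.1 rfl)
    (fun _ _ _ h h' => S.hH.mate_func S.hL hx h h')
    (fun _ _ h => h.symm) (fun _ _ h => h.1) (fun _ h => h.2.2.1 rfl)
    (fun _ _ _ h h' => S.hH'.mate_func S.hL' hyH h h')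
    (fun _ ha => S.hH'.mate_total S.hβ S.hL' hyH ha) h1 m1 h2 m2 hne hne'

end Cfsg.Agent.Lib.Helper18.Plane4
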