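import Mathlib
import Cfsg.Prelude.Def_Sporadic_a
import Cfsg.Agent.Lib.Helper18.Plane4g

/-!
A bijection between hyperovals of two projective planes of order 4 extends to an isomorphism
of the planes.  Part 2: the extension map.
-/

set_option autoImplicit false

namespace Cfsg.Agent.Lib.Helper18.Plane4

open Cfsg Finset Cfsg.Agent.Lib.Helper21

variable {α : Type*} [Fintype α] [DecidableEq α] {β : Type*} [Fintype β] [DecidableEq β]
variable {L : Set (Finset α)} {L' : Set (Finset β)} {H : Finset α} {H' : Finset β} {s : α → β}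

open Classical in
/-- The extension of `s` to all points. -/
noncomputable def Setup.extMap (S : Setup L L' H H' s) (x : α) : β :=
  if hx : x ∈ H then s x else Classical.choose (S.ext_exists hx)

theorem Setup.extMap_of_mem (S : Setup L L' H H' s) {x : α} (hx : x ∈ H) :
    S.extMap x = s x := by
  simp [Setup.extMap, hx]

theorem Setup.extMap_spec (S : Setup L L' H H' s) {x : α} (hx : x ∉ H) :
    S.extMap x ∉ H' ∧ ∀ a b, Mate L H x a b → Mate L' H' (S.extMap x) (s a) (s b) := by
  have h := Classical.choose_spec (S.ext_exists hx)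
  simp only [Setup.extMap, hx, dite_false]
  exact h

theorem Setup.mate_of_extMap (S : Setup L L' H H' s) {x : α} (hx : x ∉ H) {a b : α}
    (ha : a ∈ H) (hb : b ∈ H) (h : Mate L' H' (S.extMap x) (s a) (s b)) : Mate L H x a b := by
  obtain ⟨b₀, hb₀⟩ := S.hH.mate_total S.hα S.hL hx ha
  have h' := (S.extMap_spec hx).2 a b₀ hb₀
  have e := S.hH'.mate_func S.hL' (S.extMap_spec hx).1 h h'
  have : b = b₀ := S.hs.injOn hb hb₀.2.1 e
  rw [this]
  exact hb₀

theorem Setup.extMap_injective (S : Setup L L' H H' s) : Function.Injective S.extMap := by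
  intro x x' hxx
  by_cases hx : x ∈ H
  · by_cases hx' : x' ∈ H
    · rw [S.extMap_of_mem hx, S.extMap_of_mem hx'] at hxx
      exact S.hs.injOn hx hx' hxx
    · exfalso
      rw [S.extMap_of_mem hx] at hxx
      apply (S.extMap_spec hx').1
      rw [← hxx]
      exact S.hs.mapsTo hx
  · by_cases hx' : x' ∈ H
    · exfalso
      rw [S.extMap_of_mem hx'] at hxx
      apply (S.extMap_spec hx).1
      rw [hxx]
      exact S.hs.mapsTo hx'
    · obtain ⟨a₁, b₁, a₂, b₂, h1, h2, hne, hne', _, _⟩ := S.hH.two_secants S.hα S.hL hx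
      have k1 := (S.extMap_spec hx).2 a₁ b₁ h1
      have k2 := (S.extMap_spec hx).2 a₂ b₂ h2
      rw [hxx] at k1 k2
      exact S.hH.eq_of_mates S.hL h1 (S.mate_of_extMap hx' h1.1 h1.2.1 k1) h2
        (S.mate_of_extMap hx' h2.1 h2.2.1 k2) hne hne'

theorem Setup.extMap_bijective (S : Setup L L' H H' s) : Function.Bijective S.extMap := by
  rw [Fintype.bijective_iff_injective_and_card]
  exact ⟨S.extMap_injective, by rw [S.hα, S.hβ]⟩

theorem Setup.extMap_mem_iff (S : Setup L L' H H' s) {x : α} : S.extMap x ∈ H' ↔ x ∈ H := by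
  constructor
  · intro h
    by_contra hx
    exact (S.extMap_spec hx).1 h
  · intro hx
    rw [S.extMap_of_mem hx]
    exact S.hs.mapsTo hx

theorem Setup.image_line (S : Setup L L' H H' s) {l : Finset α} (hl : l ∈ L) :
    l.image S.extMap ∈ L' := by
  have hcard : (l.image S.extMap).card = 5 := by
    rw [card_image_of_injective _ S.extMap_injective, S.hL.1 l hl]
  rcases S.hH.inter_card S.hα S.hL hl with h0 | h2
  · -- external line
    rw [card_eq_zero] at h0
    have hoff : ∀ x ∈ l, x ∉ H := by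
      intro x hxl hxH
      have : x ∈ l ∩ H := mem_inter.2 ⟨hxl, hxH⟩
      rw [h0] at this
      exact notMem_empty _ this
    apply S.hH'.star S.hβ S.hL' hcard
    · intro y hy
      obtain ⟨x, hxl, rfl⟩ := mem_image.1 hy
      exact (S.extMap_spec (hoff x hxl)).1
    · intro y hy y' hy' hyy' l' hl' hyl' hy'l'
      obtain ⟨x, hxl, rfl⟩ := mem_image.1 hy
      obtain ⟨x', hx'l, rfl⟩ := mem_image.1 hy'
      have hxx' : x ≠ x' := by
        rintro rfl
        exact hyy' rfl
      by_contra hne
      have h2' : (l' ∩ H').card = 2 := by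
        rcases S.hH'.inter_card S.hβ S.hL' hl' with h | h
        · exact absurd (card_eq_zero.1 h) hne
        · exact h
      obtain ⟨u, v, huv, he⟩ := card_eq_two.1 h2'
      have hu : u ∈ l' ∩ H' := by rw [he]; simp
      have hv : v ∈ l' ∩ H' := by rw [he]; simp
      rw [mem_inter] at hu hv
      obtain ⟨a, ha, rfl⟩ := S.hs.surjOn hu.2
      obtain ⟨b, hb, rfl⟩ := S.hs.surjOn hv.2
      rw [mem_coe] at ha hb
      have m1 : Mate L' H' (S.extMap x) (s a) (s b) :=
        ⟨hu.2, hv.2, huv, l', hl', hyl', hu.1, hv.1⟩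
      have m2 : Mate L' H' (S.extMap x') (s a) (s b) :=
        ⟨hu.2, hv.2, huv, l', hl', hy'l', hu.1, hv.1⟩
      obtain ⟨_, _, hab, l₀, hl₀, hxl₀, hal₀, hbl₀⟩ := S.mate_of_extMap (hoff x hxl) ha hb m1
      obtain ⟨_, _, _, l₁, hl₁, hxl₁, hal₁, hbl₁⟩ := S.mate_of_extMap (hoff x' hx'l) ha hb m2
      have e1 : l₁ = l₀ := line_unique S.hL hab hl₁ hl₀ hal₁ hbl₁ hal₀ hbl₀
      rw [e1] at hxl₁
      have e2 : l₀ = l := line_unique S.hL hxx' hl₀ hl hxl₀ hxl₁ hxl hx'l
      rw [e2] at hal₀
      exact hoff a hal₀ ha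
  · -- secant
    obtain ⟨a, b, hab, he⟩ := card_eq_two.1 h2
    have ha : a ∈ l ∩ H := by rw [he]; simp
    have hb : b ∈ l ∩ H := by rw [he]; simp
    rw [mem_inter] at ha hb
    have hsab : s a ≠ s b := fun h => hab (S.hs.injOn ha.2 hb.2 h)
    obtain ⟨l', hl', hal', hbl'⟩ := exists_line S.hL' hsab
    have hsub : l.image S.extMap ⊆ l' := by
      intro y hy
      obtain ⟨x, hxl, rfl⟩ := mem_image.1 hy
      by_cases hx : x ∈ H
      · have : x ∈ l ∩ H := mem_inter.2 ⟨hxl, hx⟩
        rw [he, mem_insert, mem_singleton] at this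
        rw [S.extMap_of_mem hx]
        rcases this with rfl | rfl
        · exact hal'
        · exact hbl'
      · have m : Mate L H x a b := ⟨ha.2, hb.2, hab, l, hl, hxl, ha.1, hb.1⟩
        obtain ⟨_, _, _, l'', hl'', hyl'', hal'', hbl''⟩ := (S.extMap_spec hx).2 a b m
        have : l'' = l' := line_unique S.hL' hsab hl'' hl' hal'' hbl'' hal' hbl'
        rw [← this]
        exact hyl''
    have : l.image S.extMap = l' :=
      eq_of_subset_of_card_le hsub (by rw [hcard, S.hL'.1 l' hl'])
    rw [this]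
    exact hl'

omit [Fintype α] [Fintype β] [DecidableEq α] in
theorem ncard_lines_aux {α' : Type*} [Fintype α'] [DecidableEq α']
    (hα : Fintype.card α' = 21) {L₀ : Set (Finset α')} (hL₀ : IsSteinerSystem 2 5 L₀) :
    L₀.ncard = 21 := by
  rw [ncard_blocks, card_lines hα hL₀]

/-- The main extension theorem. -/
theorem Setup.exists_iso (S : Setup L L' H H' s) :
    ∃ e : α ≃ β, (∀ a ∈ H, e a = s a) ∧ (fun b : Finset α => b.image e) '' L = L' := by
  refine ⟨Equiv.ofBijective S.extMap S.extMap_bijective, ?_, ?_⟩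
  · intro a ha
    exact S.extMap_of_mem ha
  · apply Set.eq_of_subset_of_ncard_le
    · rintro _ ⟨l, hl, rfl⟩
      exact S.image_line hl
    · rw [Set.ncard_image_of_injective _
        (Finset.image_injective (Equiv.ofBijective S.extMap S.extMap_bijective).injective),
        ncard_lines_aux S.hα S.hL, ncard_lines_aux S.hβ S.hL']
    · exact Set.toFinite _

end Cfsg.Agent.Lib.Helper18.Plane4
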