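import Mathlib
import Cfsg.Prelude.Def_Sporadic_a
import Cfsg.Agent.Lib.Helper18.Plane4h

/-!
Projective plane of order 4: uniqueness, and the extension of permutations of a hyperoval to
collineations.
-/

set_option autoImplicit false

namespace Cfsg.Agent.Lib.Helper18.Plane4

open Cfsg Finset Cfsg.Agent.Lib.Helper21
open scoped Pointwise

variable {α : Type*} [Fintype α] [DecidableEq α] {β : Type*} [Fintype β] [DecidableEq β]

omit [Fintype α] [Fintype β] [DecidableEq β] in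
theorem bijOn_of_equiv {H : Finset α} {H' : Finset β} (e : ↥H ≃ ↥H') (d : β) :
    Set.BijOn (fun x => if h : x ∈ H then (e ⟨x, h⟩ : β) else d) H H' := by
  refine ⟨?_, ?_, ?_⟩
  · intro x hx
    rw [mem_coe] at hx
    simp only [hx, dite_true]
    exact (e ⟨x, hx⟩).2
  · intro x hx y hy hxy
    rw [mem_coe] at hx hy
    simp only [hx, hy, dite_true] at hxy
    have := e.injective (Subtype.ext hxy)
    exact congrArg Subtype.val this
  · intro y hy
    rw [mem_coe] at hy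
    refine ⟨(e.symm ⟨y, hy⟩ : α), (e.symm ⟨y, hy⟩).2, ?_⟩
    have h : ((e.symm ⟨y, hy⟩ : ↥H) : α) ∈ H := (e.symm ⟨y, hy⟩).2
    simp only [h, dite_true, Subtype.coe_eta, Equiv.apply_symm_apply]

theorem exists_hyperoval (hα : Fintype.card α = 21) {L : Set (Finset α)}
    (hL : IsSteinerSystem 2 5 L) : ∃ H, IsHyperoval L H := by
  have h6 := card_indep_six hα hL
  obtain ⟨H, hH⟩ : (indepSets L 6).Nonempty := card_pos.1 (by rw [h6]; decide)
  rw [mem_indepSets] at hH
  exact ⟨H, hH.1, hH.2⟩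

/-- All projective planes of order 4 are isomorphic. -/
theorem plane_unique (hα : Fintype.card α = 21) (hβ : Fintype.card β = 21)
    {L : Set (Finset α)} {L' : Set (Finset β)} (hL : IsSteinerSystem 2 5 L)
    (hL' : IsSteinerSystem 2 5 L') : SetSystemIso L L' := by
  obtain ⟨H, hH⟩ := exists_hyperoval hα hL
  obtain ⟨H', hH'⟩ := exists_hyperoval hβ hL'
  obtain ⟨d, _⟩ := card_pos.1 (by rw [hH'.card]; decide : 0 < H'.card)
  have e : ↥H ≃ ↥H' := Finset.equivOfCardEq (hH.card.trans hH'.card.symm)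
  have S : Setup L L' H H' (fun x => if h : x ∈ H then (e ⟨x, h⟩ : β) else d) :=
    ⟨hα, hβ, hL, hL', hH, hH', bijOn_of_equiv e d⟩
  obtain ⟨f, _, hf⟩ := S.exists_iso
  exact ⟨f, hf⟩

omit [Fintype α] in
theorem mem_aut_iff {L : Set (Finset α)} {g : Equiv.Perm α} :
    g ∈ Cfsg.setSystemAut L ↔ (fun b : Finset α => b.image g) '' L = L := by
  rw [MulAction.mem_stabilizer_iff]
  have : g • L = (fun b : Finset α => b.image g) '' L := by
    rw [← Set.image_smul]
    congr 1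
  rw [this]

/-- A collineation is determined by its restriction to a hyperoval. -/
theorem aut_eq_of_eq_on_hyperoval (hα : Fintype.card α = 21) {L : Set (Finset α)}
    (hL : IsSteinerSystem 2 5 L) {H : Finset α} (hH : IsHyperoval L H) {g g' : Equiv.Perm α}
    (hg : ∀ l ∈ L, l.image g ∈ L) (hg' : ∀ l ∈ L, l.image g' ∈ L)
    (heq : ∀ a ∈ H, g a = g' a) : g = g' := by
  ext x
  by_cases hx : x ∈ H
  · exact heq x hx
  obtain ⟨a₁, b₁, a₂, b₂, h1, h2, hne, hne', _, _⟩ := hH.two_secants hα hL hx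
  obtain ⟨ha₁, hb₁, hab₁, l₁, hl₁, hxl₁, hal₁, hbl₁⟩ := h1
  obtain ⟨ha₂, hb₂, hab₂, l₂, hl₂, hxl₂, hal₂, hbl₂⟩ := h2
  have hne12 : l₁ ≠ l₂ := by
    rintro rfl
    exact hH.indep.not_three hl₁ ha₁ hb₁ ha₂ hal₁ hbl₁ hal₂ hab₁ hne.symm hne'.symm
  have k1 : l₁.image g' = l₁.image g := by
    apply line_unique hL (a := g a₁) (b := g b₁) (fun h => hab₁ (g.injective h))
      (hg' l₁ hl₁) (hg l₁ hl₁)
    · rw [heq a₁ ha₁]; exact mem_image_of_mem _ hal₁
    · rw [heq b₁ hb₁]; exact mem_image_of_mem _ hbl₁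
    · exact mem_image_of_mem _ hal₁
    · exact mem_image_of_mem _ hbl₁
  have k2 : l₂.image g' = l₂.image g := by
    apply line_unique hL (a := g a₂) (b := g b₂) (fun h => hab₂ (g.injective h))
      (hg' l₂ hl₂) (hg l₂ hl₂)
    · rw [heq a₂ ha₂]; exact mem_image_of_mem _ hal₂
    · rw [heq b₂ hb₂]; exact mem_image_of_mem _ hbl₂
    · exact mem_image_of_mem _ hal₂
    · exact mem_image_of_mem _ hbl₂
  have hk12 : l₁.image g ≠ l₂.image g := fun h => hne12 (Finset.image_injective g.injective h)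
  apply eq_of_mem_two_lines hL (hg l₁ hl₁) (hg l₂ hl₂) hk12
  · exact mem_image_of_mem _ hxl₁
  · exact mem_image_of_mem _ hxl₂
  · rw [← k1]; exact mem_image_of_mem _ hxl₁
  · rw [← k2]; exact mem_image_of_mem _ hxl₂

/-- Every permutation of a hyperoval extends to a unique collineation. -/
theorem hyperoval_perm_extends (hα : Fintype.card α = 21) {L : Set (Finset α)}
    (hL : IsSteinerSystem 2 5 L) {H : Finset α} (hH : IsHyperoval L H) (σ : Equiv.Perm ↥H) :
    ∃! g : Equiv.Perm α, g ∈ Cfsg.setSystemAut L ∧ ∀ p : ↥H, g p = σ p := by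
  obtain ⟨d, _⟩ := card_pos.1 (by rw [hH.card]; decide : 0 < H.card)
  have S : Setup L L H H (fun x => if h : x ∈ H then (σ ⟨x, h⟩ : α) else d) :=
    ⟨hα, hα, hL, hL, hH, hH, bijOn_of_equiv σ d⟩
  obtain ⟨f, hf1, hf2⟩ := S.exists_iso
  have aux : ∀ {g : Equiv.Perm α}, g ∈ Cfsg.setSystemAut L → ∀ l ∈ L, l.image g ∈ L := by
    intro g hg l hl
    rw [mem_aut_iff] at hg
    rw [← hg]
    exact ⟨l, hl, rfl⟩
  refine ⟨f, ⟨mem_aut_iff.2 hf2, ?_⟩, ?_⟩
  · intro p
    rw [hf1 p.1 p.2]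
    simp
  · rintro g ⟨hg1, hg2⟩
    apply aut_eq_of_eq_on_hyperoval hα hL hH (aux hg1) (aux (mem_aut_iff.2 hf2))
    intro a ha
    rw [hg2 ⟨a, ha⟩, hf1 a ha]
    simp [ha]

end Cfsg.Agent.Lib.Helper18.Plane4
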