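import Mathlib
import Cfsg.Prelude.Def_Sporadic_a
import Cfsg.Agent.Lib.Helper18.Plane4i

/-!
Projective plane of order 4: the number of hyperovals through an independent set, and the
number (56) of hyperovals meeting a given hyperoval evenly.
-/

set_option autoImplicit false

namespace Cfsg.Agent.Lib.Helper18.Plane4

open Cfsg Finset Cfsg.Agent.Lib.Helper21

variable {α : Type*} [Fintype α] [DecidableEq α]

theorem hyp_through_step {L : Set (Finset α)} {S : Finset α} (lam : ℕ)
    (hlam : ∀ x ∈ extPts L S, ((indepSets L 6).filter (insert x S ⊆ ·)).card = lam) :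
    (6 - S.card) * ((indepSets L 6).filter (S ⊆ ·)).card = (extPts L S).card * lam := by
  have hdc := sum_card_bipartiteAbove_eq_sum_card_bipartiteBelow (s := extPts L S)
    (t := (indepSets L 6).filter (S ⊆ ·)) (fun x O => x ∈ O)
  rw [sum_const_nat (m := lam), sum_const_nat (m := 6 - S.card)] at hdc
  · rw [mul_comm, ← hdc]
  · intro O hO
    rw [mem_filter, mem_indepSets] at hO
    have e : bipartiteBelow (fun x O => x ∈ O) (extPts L S) O = O \ S := by
      ext x
      simp only [bipartiteBelow, mem_filter, mem_extPts, mem_sdiff]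
      constructor
      · rintro ⟨hx, hxO⟩
        exact ⟨hxO, hx.1⟩
      · rintro ⟨hxO, hxS⟩
        refine ⟨⟨hxS, hO.1.2.mono ?_⟩, hxO⟩
        intro z hz
        rcases mem_insert.1 hz with rfl | hz
        · exact hxO
        · exact hO.2 hz
    rw [e, card_sdiff_of_subset hO.2, hO.1.1]
  · intro x hx
    rw [← hlam x hx]
    congr 1
    ext O
    simp only [bipartiteAbove, mem_filter, insert_subset_iff]
    tauto

theorem hyp_through_four (hα : Fintype.card α = 21) {L : Set (Finset α)}
    (hL : IsSteinerSystem 2 5 L) {S : Finset α} (hS : Indep L S) (h4 : S.card = 4) :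
    ((indepSets L 6).filter (S ⊆ ·)).card = 1 := by
  obtain ⟨H₀, hH₀, huniq⟩ := hyperoval_exists_unique hα hL hS h4
  rw [card_eq_one]
  refine ⟨H₀, ?_⟩
  ext H
  simp only [mem_filter, mem_indepSets, mem_singleton]
  constructor
  · intro h
    exact huniq H h
  · rintro rfl
    exact hH₀

theorem isExt_insert {L : Set (Finset α)} {S : Finset α} {x : α} (hx : x ∈ extPts L S) :
    Indep L (insert x S) ∧ (insert x S).card = S.card + 1 := by
  rw [mem_extPts] at hx
  exact ⟨hx.2, card_insert_of_notMem hx.1⟩

theorem hyp_through_three (hα : Fintype.card α = 21) {L : Set (Finset α)}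
    (hL : IsSteinerSystem 2 5 L) {S : Finset α} (hS : Indep L S) (h3 : S.card = 3) :
    ((indepSets L 6).filter (S ⊆ ·)).card = 3 := by
  have h := hyp_through_step (L := L) (S := S) 1 (fun x hx =>
    hyp_through_four hα hL (isExt_insert hx).1 (by rw [(isExt_insert hx).2, h3]))
  rw [card_ext_three hα hL hS h3, h3] at h
  omega

theorem hyp_through_two (hα : Fintype.card α = 21) {L : Set (Finset α)}
    (hL : IsSteinerSystem 2 5 L) {S : Finset α} (hS : Indep L S) (h2 : S.card = 2) :
    ((indepSets L 6).filter (S ⊆ ·)).card = 12 := by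
  have h := hyp_through_step (L := L) (S := S) 3 (fun x hx =>
    hyp_through_three hα hL (isExt_insert hx).1 (by rw [(isExt_insert hx).2, h2]))
  rw [card_ext_two hα hL hS h2, h2] at h
  omega

theorem card_ext_one (hα : Fintype.card α = 21) {L : Set (Finset α)}
    (hL : IsSteinerSystem 2 5 L) {S : Finset α} (hS : Indep L S) (h1 : S.card = 1) :
    (extPts L S).card = 20 := by
  obtain ⟨s, hs⟩ := card_pos.1 (by omega : 0 < S.card)
  rw [card_ext_aux hα hL hS hs 0, h1]
  intro m _ _ _
  rw [badPts_of_card_le_one (by rw [card_erase_of_mem hs]; omega)]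
  rfl

theorem hyp_through_one (hα : Fintype.card α = 21) {L : Set (Finset α)}
    (hL : IsSteinerSystem 2 5 L) {S : Finset α} (hS : Indep L S) (h1 : S.card = 1) :
    ((indepSets L 6).filter (S ⊆ ·)).card = 48 := by
  have h := hyp_through_step (L := L) (S := S) 12 (fun x hx =>
    hyp_through_two hα hL (isExt_insert hx).1 (by rw [(isExt_insert hx).2, h1]))
  rw [card_ext_one hα hL hS h1, h1] at h
  omega

theorem sum_choose_inter {L : Set (Finset α)} {H : Finset α} (j : ℕ) (lam : ℕ)
    (hlam : ∀ T ∈ powersetCard j H, ((indepSets L 6).filter (T ⊆ ·)).card = lam) :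
    ∑ O ∈ indepSets L 6, ((O ∩ H).card.choose j) = (H.card.choose j) * lam := by
  have hdc := sum_card_bipartiteAbove_eq_sum_card_bipartiteBelow (s := powersetCard j H)
    (t := indepSets L 6) (fun T O => T ⊆ O)
  rw [sum_const_nat (m := lam), card_powersetCard] at hdc
  · rw [hdc]
    apply sum_congr rfl
    intro O _
    rw [← card_powersetCard]
    congr 1
    ext T
    simp only [bipartiteBelow, mem_filter, mem_powersetCard, subset_inter_iff]
    tauto
  · intro T hT
    rw [← hlam T hT]
    rfl

theorem inter_le_three_of_ne (hα : Fintype.card α = 21) {L : Set (Finset α)}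
    (hL : IsSteinerSystem 2 5 L) {H O : Finset α} (hH : H ∈ indepSets L 6)
    (hO : O ∈ indepSets L 6) (hne : O ≠ H) : (O ∩ H).card ≤ 3 := by
  by_contra hcon
  push Not at hcon
  obtain ⟨S, hS, h4⟩ := exists_subset_card_eq (s := O ∩ H) (n := 4) (by omega)
  rw [mem_indepSets] at hH hO
  have hSO : S ⊆ O := hS.trans inter_subset_left
  have hSH : S ⊆ H := hS.trans inter_subset_right
  obtain ⟨H₀, _, huniq⟩ := hyperoval_exists_unique hα hL (hH.2.mono hSH) h4
  exact hne ((huniq O ⟨hO, hSO⟩).trans (huniq H ⟨hH, hSH⟩).symm)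

/-- Exactly 56 hyperovals (including `H` itself) meet the hyperoval `H` in an even number of
points. -/
theorem card_evenClass (hα : Fintype.card α = 21) {L : Set (Finset α)}
    (hL : IsSteinerSystem 2 5 L) {H : Finset α} (hH : H ∈ indepSets L 6) :
    ((indepSets L 6).filter
      (fun O => (O ∩ H).card = 0 ∨ (O ∩ H).card = 2 ∨ O = H)).card = 56 := by
  have hH' := mem_indepSets.1 hH
  have f1 := sum_choose_inter (L := L) (H := H) 1 48 (fun T hT => by
    rw [mem_powersetCard] at hT
    exact hyp_through_one hα hL (hH'.2.mono hT.1) hT.2)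
  have f2 := sum_choose_inter (L := L) (H := H) 2 12 (fun T hT => by
    rw [mem_powersetCard] at hT
    exact hyp_through_two hα hL (hH'.2.mono hT.1) hT.2)
  have f3 := sum_choose_inter (L := L) (H := H) 3 3 (fun T hT => by
    rw [mem_powersetCard] at hT
    exact hyp_through_three hα hL (hH'.2.mono hT.1) hT.2)
  rw [hH'.1] at f1 f2 f3
  have hpt : ∀ O ∈ indepSets L 6, (O ∩ H).card.choose 1 + 4 * (O ∩ H).card.choose 3
      = 2 * (O ∩ H).card.choose 2
        + (if ¬ ((O ∩ H).card = 0 ∨ (O ∩ H).card = 2 ∨ O = H) then 1 else 0)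
        + (if O = H then 56 else 0) := by
    intro O hO
    by_cases hOH : O = H
    · subst hOH
      rw [inter_self, hH'.1]
      simp
      decide
    · have h3 := inter_le_three_of_ne hα hL hH hO hOH
      have h3' : (O ∩ H).card = 0 ∨ (O ∩ H).card = 1 ∨ (O ∩ H).card = 2 ∨ (O ∩ H).card = 3 := by
        omega
      rcases h3' with h | h | h | h <;> simp [h, hOH] <;> decide
  have hsum := sum_congr rfl hpt
  rw [sum_add_distrib, sum_add_distrib, sum_add_distrib, ← mul_sum, ← mul_sum, f1, f2, f3,
    sum_ite_eq' (indepSets L 6) H (fun _ => 56), if_pos hH, ← card_filter] at hsum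
  have hsplit := card_filter_add_card_filter_not (s := indepSets L 6)
    (fun O => (O ∩ H).card = 0 ∨ (O ∩ H).card = 2 ∨ O = H)
  rw [card_indep_six hα hL] at hsplit
  have c1 : Nat.choose 6 1 = 6 := by decide
  have c2 : Nat.choose 6 2 = 15 := by decide
  have c3 : Nat.choose 6 3 = 20 := by decide
  rw [c1, c2, c3] at hsum
  omega

end Cfsg.Agent.Lib.Helper18.Plane4
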