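import Mathlib
import Cfsg.Prelude.Def_Sporadic_a
import Cfsg.Agent.Lib.Helper18.Plane4j
import Cfsg.Agent.Lib.Helper18.S22Counts

/-!
The derived plane of a Steiner system S(3,6,22) on `Option α`, and uniqueness of S(3,6,22).
-/

set_option autoImplicit false

namespace Cfsg.Agent.Lib.Helper18.S22Plane

open Cfsg Finset Cfsg.Agent.Lib.Helper21 Cfsg.Agent.Lib.Helper18.Plane4

variable {α : Type*} [Fintype α] [DecidableEq α]

/-- Lines of the derived design at `none`. -/
def lines (D : Set (Finset (Option α))) : Set (Finset α) := {l | insertNone l ∈ D}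

/-- The blocks missing `none`. -/
def ovals (D : Set (Finset (Option α))) : Set (Finset α) :=
  {Q | Q.map Function.Embedding.some ∈ D}

omit [Fintype α] in
theorem derived_steiner {D : Set (Finset (Option α))} (hD : IsSteinerSystem 3 6 D) :
    IsSteinerSystem 2 5 (lines D) := by
  constructor
  · intro l hl
    have := hD.1 _ hl
    rw [card_insertNone] at this
    omega
  · intro s hs
    obtain ⟨b, ⟨hb, hsub⟩, huniq⟩ := hD.2 (insertNone s) (by rw [card_insertNone, hs])
    have hnone : none ∈ b := hsub none_mem_insertNone
    have hb' : insertNone (eraseNone b) = b := by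
      rw [insertNone_eraseNone, insert_eq_of_mem hnone]
    refine ⟨eraseNone b, ⟨?_, ?_⟩, ?_⟩
    · show insertNone (eraseNone b) ∈ D
      rw [hb']
      exact hb
    · intro a ha
      rw [mem_eraseNone]
      exact hsub (some_mem_insertNone.2 ha)
    · rintro l' ⟨hl', hsl'⟩
      have : insertNone l' = b := by
        apply huniq
        refine ⟨hl', ?_⟩
        intro o ho
        cases o with
        | none => exact none_mem_insertNone
        | some a => exact some_mem_insertNone.2 (hsl' (some_mem_insertNone.1 ho))
      rw [← this, eraseNone_insertNone]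

theorem card_option_eq (hα : Fintype.card α = 21) : Fintype.card (Option α) = 22 := by
  rw [Fintype.card_option, hα]

theorem oval_hyperoval (hα : Fintype.card α = 21) {D : Set (Finset (Option α))}
    (hD : IsSteinerSystem 3 6 D) {Q : Finset α} (hQ : Q ∈ ovals D) :
    IsHyperoval (lines D) Q := by
  constructor
  · have := hD.1 _ hQ
    rwa [card_map] at this
  · intro l hl
    have hne : insertNone l ≠ Q.map Function.Embedding.some := by
      intro h
      have : none ∈ Q.map Function.Embedding.some := by
        rw [← h]
        exact none_mem_insertNone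
      simp at this
    have h := S22.inter_zero_or_two (card_option_eq hα) hD hl hQ hne
    have e : insertNone l ∩ Q.map Function.Embedding.some
        = (l ∩ Q).map Function.Embedding.some := by
      ext o
      cases o with
      | none => simp
      | some a => simp
    rw [e, card_map] at h
    omega

theorem ovals_inter (hα : Fintype.card α = 21) {D : Set (Finset (Option α))}
    (hD : IsSteinerSystem 3 6 D) {Q Q' : Finset α} (hQ : Q ∈ ovals D) (hQ' : Q' ∈ ovals D)
    (hne : Q ≠ Q') : (Q ∩ Q').card = 0 ∨ (Q ∩ Q').card = 2 := by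
  have hne' : Q.map Function.Embedding.some ≠ Q'.map Function.Embedding.some :=
    fun h => hne (map_injective _ h)
  have h := S22.inter_zero_or_two (card_option_eq hα) hD hQ hQ' hne'
  rw [← map_inter, card_map] at h
  exact h

omit [Fintype α] in
theorem block_cases {D : Set (Finset (Option α))} {b : Finset (Option α)} (hb : b ∈ D) :
    (none ∈ b ∧ eraseNone b ∈ lines D ∧ b = insertNone (eraseNone b)) ∨
      (none ∉ b ∧ eraseNone b ∈ ovals D ∧ b = (eraseNone b).map Function.Embedding.some) := by
  by_cases hn : none ∈ b
  · left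
    have e : insertNone (eraseNone b) = b := by
      rw [insertNone_eraseNone, insert_eq_of_mem hn]
    refine ⟨hn, ?_, e.symm⟩
    show insertNone (eraseNone b) ∈ D
    rw [e]
    exact hb
  · right
    have e : (eraseNone b).map Function.Embedding.some = b := by
      rw [map_some_eraseNone, erase_eq_of_notMem hn]
    refine ⟨hn, ?_, e.symm⟩
    show (eraseNone b).map Function.Embedding.some ∈ D
    rw [e]
    exact hb

theorem ncard_ovals (hα : Fintype.card α = 21) {D : Set (Finset (Option α))}
    (hD : IsSteinerSystem 3 6 D) : (ovals D).ncard = 56 := by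
  have h1 : (Finset.map Function.Embedding.some) '' (ovals D) = {b | b ∈ D ∧ none ∉ b} := by
    ext b
    constructor
    · rintro ⟨Q, hQ, rfl⟩
      exact ⟨hQ, by simp⟩
    · rintro ⟨hb, hn⟩
      rcases block_cases hb with h | h
      · exact absurd h.1 hn
      · exact ⟨eraseNone b, h.2.1, h.2.2.symm⟩
  rw [← Set.ncard_image_of_injective _ (map_injective Function.Embedding.some), h1,
    ncard_blocks_filter]
  have h77 := S22.card_blocks (card_option_eq hα) hD
  have h21 := S22.through_point (card_option_eq hα) hD none
  have := card_filter_add_card_filter_not (s := blocksFinset D) (fun b => none ∈ b)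
  omega

/-- The blocks missing `none` are exactly the hyperovals meeting a fixed one of them evenly. -/
theorem mem_ovals_iff (hα : Fintype.card α = 21) {D : Set (Finset (Option α))}
    (hD : IsSteinerSystem 3 6 D) {Q₀ : Finset α} (hQ₀ : Q₀ ∈ ovals D) (O : Finset α) :
    O ∈ ovals D ↔ (IsHyperoval (lines D) O ∧
      ((O ∩ Q₀).card = 0 ∨ (O ∩ Q₀).card = 2 ∨ O = Q₀)) := by
  have hL := derived_steiner hD
  have hQ₀' : Q₀ ∈ indepSets (lines D) 6 := by
    rw [mem_indepSets]
    have := oval_hyperoval hα hD hQ₀
    exact ⟨this.card, this.indep⟩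
  have hsub : ovals D ⊆ ↑((indepSets (lines D) 6).filter
      (fun O => (O ∩ Q₀).card = 0 ∨ (O ∩ Q₀).card = 2 ∨ O = Q₀)) := by
    intro O hO
    rw [mem_coe, mem_filter, mem_indepSets]
    have := oval_hyperoval hα hD hO
    refine ⟨⟨this.card, this.indep⟩, ?_⟩
    by_cases h : O = Q₀
    · exact Or.inr (Or.inr h)
    · rcases ovals_inter hα hD hO hQ₀ h with h0 | h2
      · exact Or.inl h0
      · exact Or.inr (Or.inl h2)
  have heq := Set.eq_of_subset_of_ncard_le hsub (by
    rw [Set.ncard_coe_finset, card_evenClass hα hL hQ₀', ncard_ovals hα hD]) (Set.toFinite _)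
  rw [heq, mem_coe, mem_filter, mem_indepSets]
  constructor
  · rintro ⟨⟨h6, hi⟩, h⟩
    exact ⟨⟨h6, hi⟩, h⟩
  · rintro ⟨⟨h6, hi⟩, h⟩
    exact ⟨⟨h6, hi⟩, h⟩

end Cfsg.Agent.Lib.Helper18.S22Plane
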