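import Mathlib
import Cfsg.Prelude.Def_Sporadic_a
import Cfsg.Agent.Lib.Helper18.S22Plane

/-!
Uniqueness of the Steiner system S(3,6,22).
-/

set_option autoImplicit false

namespace Cfsg.Agent.Lib.Helper18.S22Plane

open Cfsg Finset Cfsg.Agent.Lib.Helper21 Cfsg.Agent.Lib.Helper18.Plane4

section iso

variable {α : Type*} [DecidableEq α] {β : Type*} [DecidableEq β] {γ : Type*} [DecidableEq γ]

theorem setSystemIso_symm {B : Set (Finset α)} {B' : Set (Finset β)} (h : SetSystemIso B B') :
    SetSystemIso B' B := by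
  obtain ⟨e, he⟩ := h
  refine ⟨e.symm, ?_⟩
  rw [← he, Set.image_image]
  convert Set.image_id B using 2
  ext b : 1
  rw [image_image]
  simp

theorem setSystemIso_trans {B : Set (Finset α)} {B' : Set (Finset β)} {B'' : Set (Finset γ)}
    (h : SetSystemIso B B') (h' : SetSystemIso B' B'') : SetSystemIso B B'' := by
  obtain ⟨e, he⟩ := h
  obtain ⟨f, hf⟩ := h'
  refine ⟨e.trans f, ?_⟩
  rw [← hf, ← he, Set.image_image]
  congr 1
  ext b : 1
  rw [image_image]
  rfl

theorem steiner_image_equiv {t k : ℕ} {B : Set (Finset α)} (hB : IsSteinerSystem t k B)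
    (φ : α ≃ β) : IsSteinerSystem t k ((fun b : Finset α => b.image φ) '' B) := by
  constructor
  · rintro _ ⟨b, hb, rfl⟩
    rw [card_image_of_injective _ φ.injective]
    exact hB.1 b hb
  · intro s hs
    obtain ⟨b, ⟨hb, hsub⟩, huniq⟩ := hB.2 (s.image φ.symm) (by
      rw [card_image_of_injective _ φ.symm.injective, hs])
    refine ⟨b.image φ, ⟨⟨b, hb, rfl⟩, ?_⟩, ?_⟩
    · intro x hx
      rw [mem_image]
      exact ⟨φ.symm x, hsub (mem_image_of_mem _ hx), by simp⟩
    · rintro _ ⟨⟨c, hc, rfl⟩, hsc⟩
      have : c = b := by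
        apply huniq
        refine ⟨hc, ?_⟩
        intro y hy
        obtain ⟨x, hx, rfl⟩ := mem_image.1 hy
        obtain ⟨z, hz, hzx⟩ := mem_image.1 (hsc hx)
        have : φ.symm x = z := by rw [← hzx]; simp
        rw [this]
        exact hz
      rw [this]

theorem image_insertNone (e : α ≃ β) (l : Finset α) :
    (insertNone l).image (e.optionCongr) = insertNone (l.image e) := by
  ext o
  cases o with
  | none => simp
  | some a =>
    simp only [mem_image, some_mem_insertNone]
    constructor
    · rintro ⟨o', ho', h⟩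
      cases o' with
      | none => simp at h
      | some a' =>
        simp at h
        exact ⟨a', by simpa using ho', h⟩
    · rintro ⟨a', ha', rfl⟩
      exact ⟨some a', by simpa using ha', by simp⟩

theorem image_map_some (e : α ≃ β) (Q : Finset α) :
    (Q.map Function.Embedding.some).image (e.optionCongr)
      = (Q.image e).map Function.Embedding.some := by
  ext o
  cases o with
  | none => simp
  | some a => simp

end iso

variable {α : Type*} [Fintype α] [DecidableEq α] {β : Type*} [Fintype β] [DecidableEq β]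

/-- Uniqueness of S(3,6,22) for systems on `Option α`, `Option β`. -/
theorem unique_option (hα : Fintype.card α = 21) (hβ : Fintype.card β = 21)
    {D : Set (Finset (Option α))} {D' : Set (Finset (Option β))}
    (hD : IsSteinerSystem 3 6 D) (hD' : IsSteinerSystem 3 6 D') : SetSystemIso D D' := by
  have hL := derived_steiner hD
  have hL' := derived_steiner hD'
  obtain ⟨Q₀, hQ₀⟩ : (ovals D).Nonempty := by
    rw [← Set.ncard_pos (Set.toFinite _), ncard_ovals hα hD]
    decide
  obtain ⟨Q₀', hQ₀'⟩ : (ovals D').Nonempty := by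
    rw [← Set.ncard_pos (Set.toFinite _), ncard_ovals hβ hD']
    decide
  have hH := oval_hyperoval hα hD hQ₀
  have hH' := oval_hyperoval hβ hD' hQ₀'
  obtain ⟨d, _⟩ := card_pos.1 (by rw [hH'.card]; decide : 0 < Q₀'.card)
  have σ : ↥Q₀ ≃ ↥Q₀' := Finset.equivOfCardEq (hH.card.trans hH'.card.symm)
  have S : Setup (lines D) (lines D') Q₀ Q₀'
      (fun x => if h : x ∈ Q₀ then (σ ⟨x, h⟩ : β) else d) :=
    ⟨hα, hβ, hL, hL', hH, hH', bijOn_of_equiv σ d⟩
  obtain ⟨e, he1, he2⟩ := S.exists_iso
  have hQimg : Q₀.image e = Q₀' := by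
    apply eq_of_subset_of_card_le
    · intro y hy
      obtain ⟨x, hx, rfl⟩ := mem_image.1 hy
      rw [he1 x hx]
      exact S.hs.mapsTo hx
    · rw [card_image_of_injective _ e.injective, hH.card, hH'.card]
  refine ⟨e.optionCongr, ?_⟩
  apply Set.eq_of_subset_of_ncard_le
  · rintro _ ⟨b, hb, rfl⟩
    rcases block_cases hb with ⟨_, hl, hbe⟩ | ⟨_, hQ, hbe⟩
    · show b.image e.optionCongr ∈ D'
      rw [hbe, image_insertNone]
      show (eraseNone b).image e ∈ lines D'
      rw [← he2]
      exact ⟨eraseNone b, hl, rfl⟩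
    · show b.image e.optionCongr ∈ D'
      rw [hbe, image_map_some]
      show (eraseNone b).image e ∈ ovals D'
      rw [mem_ovals_iff hβ hD' hQ₀']
      have hO := oval_hyperoval hα hD hQ
      refine ⟨⟨?_, ?_⟩, ?_⟩
      · rw [card_image_of_injective _ e.injective, hO.card]
      · intro l' hl'
        rw [← he2] at hl'
        obtain ⟨l, hl, rfl⟩ := hl'
        show (l.image e ∩ (eraseNone b).image e).card ≤ 2
        rw [← image_inter _ _ e.injective, card_image_of_injective _ e.injective]
        exact hO.indep l hl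
      · rw [← hQimg, ← image_inter _ _ e.injective, card_image_of_injective _ e.injective]
        rcases (mem_ovals_iff hα hD hQ₀ (eraseNone b)).1 hQ with ⟨_, h0 | h2 | heq⟩
        · exact Or.inl h0
        · exact Or.inr (Or.inl h2)
        · exact Or.inr (Or.inr (by rw [heq]))
  · rw [Set.ncard_image_of_injective _ (Finset.image_injective e.optionCongr.injective),
      ncard_blocks, ncard_blocks, S22.card_blocks (card_option_eq hα) hD,
      S22.card_blocks (card_option_eq hβ) hD']
  · exact Set.toFinite _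

/-- Any two Steiner systems S(3,6,22) are isomorphic. -/
theorem unique_s22 {Ω Ω' : Type*} [Fintype Ω] [DecidableEq Ω] [Fintype Ω'] [DecidableEq Ω']
    (hΩ : Fintype.card Ω = 22) (hΩ' : Fintype.card Ω' = 22) {B : Set (Finset Ω)}
    {B' : Set (Finset Ω')} (hB : IsSteinerSystem 3 6 B) (hB' : IsSteinerSystem 3 6 B') :
    SetSystemIso B B' := by
  have h21 : Fintype.card (Fin 21) = 21 := Fintype.card_fin 21
  have c22 : Fintype.card (Option (Fin 21)) = 22 := card_option_eq h21
  have φ : Ω ≃ Option (Fin 21) := Fintype.equivOfCardEq (hΩ.trans c22.symm)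
  have φ' : Ω' ≃ Option (Fin 21) := Fintype.equivOfCardEq (hΩ'.trans c22.symm)
  have i1 : SetSystemIso B ((fun b : Finset Ω => b.image φ) '' B) := ⟨φ, rfl⟩
  have i2 : SetSystemIso B' ((fun b : Finset Ω' => b.image φ') '' B') := ⟨φ', rfl⟩
  have i3 := unique_option h21 h21 (steiner_image_equiv hB φ) (steiner_image_equiv hB' φ')
  exact setSystemIso_trans (setSystemIso_trans i1 i3) (setSystemIso_symm i2)

end Cfsg.Agent.Lib.Helper18.S22Plane
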