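import Mathlib
import Cfsg.Prelude.Def_Sporadic_a
import Cfsg.Agent.Lib.Helper18.HS3
import Cfsg.Agent.Lib.Helper18.S22Unique

/-!
Isomorphic set systems have isomorphic point-block graphs; uniqueness of the strongly regular
graph with parameters (100, 22, 0, 6).
-/

set_option autoImplicit false

namespace Cfsg.Agent.Lib.Helper18.HS

open Cfsg Finset

section pb

variable {α : Type*} [DecidableEq α] {β : Type*} [DecidableEq β]

/-- The bijection on blocks induced by an isomorphism of set systems. -/
def blockEquiv {B : Set (Finset α)} {B' : Set (Finset β)} (e : α ≃ β)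
    (he : (fun b : Finset α => b.image e) '' B = B') : ↥B ≃ ↥B' where
  toFun b := ⟨b.1.image e, by rw [← he]; exact ⟨b.1, b.2, rfl⟩⟩
  invFun c := ⟨c.1.image e.symm, by
    have hc : c.1 ∈ (fun b : Finset α => b.image e) '' B := he ▸ c.2
    obtain ⟨b₀, hb₀, hb₀c⟩ := hc
    rw [← hb₀c]
    show (b₀.image e).image e.symm ∈ B
    rw [image_image]
    have : (e.symm ∘ e : α → α) = id := by funext x; simp
    rw [this, image_id]
    exact hb₀⟩
  left_inv b := by
    apply Subtype.ext
    show (b.1.image e).image e.symm = b.1
    rw [image_image]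
    have : (e.symm ∘ e : α → α) = id := by funext x; simp
    rw [this, image_id]
  right_inv c := by
    apply Subtype.ext
    show (c.1.image e.symm).image e = c.1
    rw [image_image]
    have : (e ∘ e.symm : β → β) = id := by funext x; simp
    rw [this, image_id]

theorem rel_iff {B : Set (Finset α)} {B' : Set (Finset β)} (e : α ≃ β)
    (he : (fun b : Finset α => b.image e) '' B = B') (x y : Option (α ⊕ ↥B)) :
    pointBlockRel B' ((Equiv.optionCongr (Equiv.sumCongr e (blockEquiv e he))) x)
      ((Equiv.optionCongr (Equiv.sumCongr e (blockEquiv e he))) y) ↔ pointBlockRel B x y := by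
  rcases x with _ | (a | b) <;> rcases y with _ | (a' | b') <;>
    simp only [Equiv.optionCongr_apply, Option.map_none, Option.map_some, Equiv.sumCongr_apply,
      Sum.map_inl, Sum.map_inr, pointBlockRel]
  · show e a ∈ b'.1.image e ↔ a ∈ b'.1
    exact e.injective.mem_finset_image
  · show Disjoint (b.1.image e) (b'.1.image e) ↔ Disjoint b.1 b'.1
    exact disjoint_image e.injective

/-- Isomorphic set systems have isomorphic point-block graphs. -/
def pbIso {B : Set (Finset α)} {B' : Set (Finset β)} (e : α ≃ β)
    (he : (fun b : Finset α => b.image e) '' B = B') :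
    pointBlockGraph B ≃g pointBlockGraph B' where
  toEquiv := Equiv.optionCongr (Equiv.sumCongr e (blockEquiv e he))
  map_rel_iff' := by
    intro x y
    simp only [pointBlockGraph, SimpleGraph.fromRel_adj]
    rw [rel_iff e he x y, rel_iff e he y x]
    simp only [ne_eq, EmbeddingLike.apply_eq_iff_eq]

theorem pbIso_none {B : Set (Finset α)} {B' : Set (Finset β)} (e : α ≃ β)
    (he : (fun b : Finset α => b.image e) '' B = B') : pbIso e he none = none := rfl

end pb

/-- Any two strongly regular graphs with parameters (100, 22, 0, 6) are isomorphic. -/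
theorem srg_unique {V W : Type*} [Fintype V] [Fintype W] {G : SimpleGraph V}
    {H : SimpleGraph W} [DecidableRel G.Adj] [DecidableRel H.Adj]
    (hG : G.IsSRGWith 100 22 0 6) (hH : H.IsSRGWith 100 22 0 6) : Nonempty (G ≃g H) := by
  classical
  obtain ⟨v⟩ : Nonempty V := Fintype.card_pos_iff.1 (by rw [hG.card]; decide)
  obtain ⟨v'⟩ : Nonempty W := Fintype.card_pos_iff.1 (by rw [hH.card]; decide)
  obtain ⟨e, he⟩ := Cfsg.Agent.Lib.Helper18.S22Plane.unique_s22 (card_points hG v)
    (card_points hH v') (localDesign_steiner hG v) (localDesign_steiner hH v')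
  exact ⟨(isoPB hG v).trans ((pbIso e he).trans (isoPB hH v').symm)⟩

end Cfsg.Agent.Lib.Helper18.HS
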