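import Mathlib
import Cfsg.Prelude.Def_Sporadic_a
import Cfsg.Agent.Lib.Helper18.S22Unique

/-!
Steiner systems S(3,6,22): a bijection between two blocks, together with a choice of a point off
each, extends to a unique isomorphism.
-/

set_option autoImplicit false

namespace Cfsg.Agent.Lib.Helper18.S22Plane

open Cfsg Finset Cfsg.Agent.Lib.Helper21 Cfsg.Agent.Lib.Helper18.Plane4

section option

variable {α : Type*} [Fintype α] [DecidableEq α] {β : Type*} [Fintype β] [DecidableEq β]

omit [Fintype α] [Fintype β] in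
theorem bijOn_getD {c : Finset (Option α)} {c' : Finset (Option β)} (hc : none ∉ c)
    (hc' : none ∉ c') {t : Option α → Option β} (ht : Set.BijOn t c c') (d : β) :
    Set.BijOn (fun a => (t (some a)).getD d) (eraseNone c) (eraseNone c') ∧
      ∀ a ∈ eraseNone c, some ((t (some a)).getD d) = t (some a) := by
  have key : ∀ a ∈ eraseNone c, ∃ a', t (some a) = some a' ∧ a' ∈ eraseNone c' := by
    intro a ha
    rw [mem_eraseNone] at ha
    have h1 : t (some a) ∈ c' := ht.mapsTo ha
    cases h : t (some a) with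
    | none => rw [h] at h1; exact absurd h1 hc'
    | some a' =>
      rw [h] at h1
      exact ⟨a', rfl, mem_eraseNone.2 h1⟩
  have key2 : ∀ a ∈ eraseNone c, some ((t (some a)).getD d) = t (some a) := by
    intro a ha
    obtain ⟨a', h, _⟩ := key a ha
    rw [h]
    rfl
  refine ⟨⟨?_, ?_, ?_⟩, key2⟩
  · intro a ha
    rw [mem_coe] at ha ⊢
    obtain ⟨a', h, ha'⟩ := key a ha
    show (t (some a)).getD d ∈ eraseNone c'
    rw [h]
    exact ha'
  · intro a₁ h₁ a₂ h₂ h
    rw [mem_coe] at h₁ h₂
    have h' : some ((t (some a₁)).getD d) = some ((t (some a₂)).getD d) := congrArg some h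
    rw [key2 a₁ h₁, key2 a₂ h₂] at h'
    have := ht.injOn (mem_eraseNone.1 h₁) (mem_eraseNone.1 h₂) h'
    exact Option.some_injective _ this
  · intro a' ha'
    rw [mem_coe, mem_eraseNone] at ha'
    obtain ⟨o, ho, hto⟩ := ht.surjOn ha'
    rw [mem_coe] at ho
    cases o with
    | none => exact absurd ho hc
    | some a =>
      refine ⟨a, mem_eraseNone.2 ho, ?_⟩
      show (t (some a)).getD d = a'
      rw [hto]
      rfl

/-- The extension theorem on `Option` types. -/
theorem strong_option (hα : Fintype.card α = 21) (hβ : Fintype.card β = 21)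
    {D : Set (Finset (Option α))} {D' : Set (Finset (Option β))}
    (hD : IsSteinerSystem 3 6 D) (hD' : IsSteinerSystem 3 6 D') {c : Finset (Option α)}
    {c' : Finset (Option β)} (hc : c ∈ D) (hc' : c' ∈ D') (hnc : none ∉ c) (hnc' : none ∉ c')
    {t : Option α → Option β} (ht : Set.BijOn t c c') :
    ∃ E : Option α ≃ Option β, E none = none ∧ (∀ o ∈ c, E o = t o) ∧
      (fun b : Finset (Option α) => b.image E) '' D = D' := by
  have hL := derived_steiner hD
  have hL' := derived_steiner hD'
  have hQ₀ : eraseNone c ∈ ovals D := by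
    rcases block_cases hc with h | h
    · exact absurd h.1 hnc
    · exact h.2.1
  have hQ₀' : eraseNone c' ∈ ovals D' := by
    rcases block_cases hc' with h | h
    · exact absurd h.1 hnc'
    · exact h.2.1
  have hH := oval_hyperoval hα hD hQ₀
  have hH' := oval_hyperoval hβ hD' hQ₀'
  obtain ⟨d, _⟩ := card_pos.1 (by rw [hH'.card]; decide : 0 < (eraseNone c').card)
  obtain ⟨hbij, hsome⟩ := bijOn_getD hnc hnc' ht d
  have S : Setup (lines D) (lines D') (eraseNone c) (eraseNone c')
      (fun a => (t (some a)).getD d) := ⟨hα, hβ, hL, hL', hH, hH', hbij⟩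
  obtain ⟨e, he1, he2⟩ := S.exists_iso
  have hQimg : (eraseNone c).image e = eraseNone c' := by
    apply eq_of_subset_of_card_le
    · intro y hy
      obtain ⟨x, hx, rfl⟩ := mem_image.1 hy
      rw [he1 x hx]
      exact S.hs.mapsTo hx
    · rw [card_image_of_injective _ e.injective, hH.card, hH'.card]
  refine ⟨e.optionCongr, rfl, ?_, ?_⟩
  · intro o ho
    cases o with
    | none => exact absurd ho hnc
    | some a =>
      have ha : a ∈ eraseNone c := mem_eraseNone.2 ho
      rw [← hsome a ha, ← he1 a ha]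
      rfl
  apply Set.eq_of_subset_of_ncard_le
  · rintro _ ⟨b, hb, rfl⟩
    rcases block_cases hb with ⟨_, hl, hbe⟩ | ⟨_, hQ, hbe⟩
    · show b.image e.optionCongr ∈ D'
      rw [hbe, image_insertNone]
      show (eraseNone b).image e ∈ lines D'
      rw [← he2]
      exact ⟨eraseNone b, hl, rfl⟩
    · show b.image e.optionCongr ∈ D'
      rw [hbe, image_map_some]
      show (eraseNone b).image e ∈ ovals D'
      rw [mem_ovals_iff hβ hD' hQ₀']
      have hO := oval_hyperoval hα hD hQ
      refine ⟨⟨?_, ?_⟩, ?_⟩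
      · rw [card_image_of_injective _ e.injective, hO.card]
      · intro l' hl'
        rw [← he2] at hl'
        obtain ⟨l, hl, rfl⟩ := hl'
        show (l.image e ∩ (eraseNone b).image e).card ≤ 2
        rw [← image_inter _ _ e.injective, card_image_of_injective _ e.injective]
        exact hO.indep l hl
      · rw [← hQimg, ← image_inter _ _ e.injective, card_image_of_injective _ e.injective]
        rcases (mem_ovals_iff hα hD hQ₀ (eraseNone b)).1 hQ with ⟨_, h0 | h2 | heq⟩
        · exact Or.inl h0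
        · exact Or.inr (Or.inl h2)
        · exact Or.inr (Or.inr (by rw [heq]))
  · rw [Set.ncard_image_of_injective _ (Finset.image_injective e.optionCongr.injective),
      ncard_blocks, ncard_blocks, S22.card_blocks (card_option_eq hα) hD,
      S22.card_blocks (card_option_eq hβ) hD']
  · exact Set.toFinite _

end option

variable {Ω : Type*} [Fintype Ω] [DecidableEq Ω] {Ω' : Type*} [Fintype Ω'] [DecidableEq Ω']

theorem exists_equiv_option (hΩ : Fintype.card Ω = 22) (p : Ω) :
    ∃ φ : Ω ≃ Option (Fin 21), φ p = none := by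
  have c22 : Fintype.card (Option (Fin 21)) = 22 := card_option_eq (Fintype.card_fin 21)
  have φ₀ : Ω ≃ Option (Fin 21) := Fintype.equivOfCardEq (hΩ.trans c22.symm)
  refine ⟨φ₀.trans (Equiv.swap (φ₀ p) none), ?_⟩
  simp

/-- The extension theorem: a bijection between blocks `b`, `b'` and points `p ∉ b`, `p' ∉ b'`
determine an isomorphism. -/
theorem strong_ext (hΩ : Fintype.card Ω = 22) (hΩ' : Fintype.card Ω' = 22)
    {B : Set (Finset Ω)} {B' : Set (Finset Ω')} (hB : IsSteinerSystem 3 6 B)
    (hB' : IsSteinerSystem 3 6 B') {p : Ω} {p' : Ω'} {b : Finset Ω} {b' : Finset Ω'}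
    (hb : b ∈ B) (hb' : b' ∈ B') (hpb : p ∉ b) (hpb' : p' ∉ b') {s : Ω → Ω'}
    (hs : Set.BijOn s b b') :
    ∃ e : Ω ≃ Ω', e p = p' ∧ (∀ a ∈ b, e a = s a) ∧
      (fun c : Finset Ω => c.image e) '' B = B' := by
  obtain ⟨φ, hφ⟩ := exists_equiv_option hΩ p
  obtain ⟨φ', hφ'⟩ := exists_equiv_option hΩ' p'
  have h21 : Fintype.card (Fin 21) = 21 := Fintype.card_fin 21
  have hD := steiner_image_equiv hB φ
  have hD' := steiner_image_equiv hB' φ'
  have hc : b.image φ ∈ (fun c : Finset Ω => c.image φ) '' B := ⟨b, hb, rfl⟩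
  have hc' : b'.image φ' ∈ (fun c : Finset Ω' => c.image φ') '' B' := ⟨b', hb', rfl⟩
  have hnc : none ∉ b.image φ := by
    intro h
    obtain ⟨a, ha, hpa⟩ := mem_image.1 h
    rw [← hφ] at hpa
    rw [φ.injective hpa] at ha
    exact hpb ha
  have hnc' : none ∉ b'.image φ' := by
    intro h
    obtain ⟨a, ha, hpa⟩ := mem_image.1 h
    rw [← hφ'] at hpa
    rw [φ'.injective hpa] at ha
    exact hpb' ha
  have ht : Set.BijOn (fun o => φ' (s (φ.symm o))) (b.image φ) (b'.image φ') := by
    refine ⟨?_, ?_, ?_⟩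
    · intro o ho
      rw [mem_coe] at ho
      obtain ⟨a, ha, rfl⟩ := mem_image.1 ho
      rw [mem_coe]
      simp only [Equiv.symm_apply_apply]
      exact mem_image_of_mem _ (hs.mapsTo ha)
    · intro o₁ h₁ o₂ h₂ h
      rw [mem_coe] at h₁ h₂
      obtain ⟨a₁, ha₁, rfl⟩ := mem_image.1 h₁
      obtain ⟨a₂, ha₂, rfl⟩ := mem_image.1 h₂
      simp only [Equiv.symm_apply_apply] at h
      rw [hs.injOn ha₁ ha₂ (φ'.injective h)]
    · intro o' ho'
      rw [mem_coe] at ho'
      obtain ⟨a', ha', rfl⟩ := mem_image.1 ho'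
      obtain ⟨a, ha, rfl⟩ := hs.surjOn ha'
      exact ⟨φ a, mem_coe.2 (mem_image_of_mem _ ha), by simp⟩
  obtain ⟨E, hE0, hE1, hE2⟩ := strong_option h21 h21 hD hD' hc hc' hnc hnc' ht
  refine ⟨φ.trans (E.trans φ'.symm), ?_, ?_, ?_⟩
  · show φ'.symm (E (φ p)) = p'
    rw [hφ, hE0, ← hφ', Equiv.symm_apply_apply]
  · intro a ha
    have := hE1 (φ a) (mem_image_of_mem _ ha)
    simp only [Equiv.symm_apply_apply] at this
    simp [this]
  · have e1 : (fun c : Finset Ω => c.image (φ.trans (E.trans φ'.symm)))
        = (fun c : Finset (Option (Fin 21)) => c.image φ'.symm) ∘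
          (fun c : Finset (Option (Fin 21)) => c.image E) ∘ (fun c : Finset Ω => c.image φ) := by
      funext c
      simp only [Function.comp_apply, image_image]
      rfl
    rw [e1, Set.image_comp, Set.image_comp, hE2, Set.image_image]
    convert Set.image_id B' using 2
    ext c : 1
    rw [image_image]
    simp

end Cfsg.Agent.Lib.Helper18.S22Plane
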