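import Mathlib
import Cfsg.Prelude.Def_Sporadic_a
import Cfsg.Agent.Lib.Helper18.S22Ext

/-!
The automorphism group of a Steiner system S(3,6,22): rigidity, 3-transitivity, and its order.
-/

set_option autoImplicit false

namespace Cfsg.Agent.Lib.Helper18.S22Plane

open Cfsg Finset Cfsg.Agent.Lib.Helper21 Cfsg.Agent.Lib.Helper18.Plane4

variable {Ω : Type*} [Fintype Ω] [DecidableEq Ω]

omit [Fintype Ω] in
theorem block_through {B : Set (Finset Ω)} (hB : IsSteinerSystem 3 6 B) {x y z : Ω}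
    (hxy : x ≠ y) (hxz : x ≠ z) (hyz : y ≠ z) : ∃ c ∈ B, x ∈ c ∧ y ∈ c ∧ z ∈ c := by
  obtain ⟨c, ⟨hc, hsub⟩, _⟩ := hB.2 {x, y, z} (card_eq_three.2 ⟨x, y, z, hxy, hxz, hyz, rfl⟩)
  exact ⟨c, hc, hsub (by simp), hsub (by simp), hsub (by simp)⟩

omit [Fintype Ω] in
theorem block_unique3 {B : Set (Finset Ω)} (hB : IsSteinerSystem 3 6 B) {x y z : Ω}
    (hxy : x ≠ y) (hxz : x ≠ z) (hyz : y ≠ z) {c c' : Finset Ω} (hc : c ∈ B) (hc' : c' ∈ B)
    (hx : x ∈ c) (hy : y ∈ c) (hz : z ∈ c) (hx' : x ∈ c') (hy' : y ∈ c') (hz' : z ∈ c') :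
    c = c' := by
  obtain ⟨k, _, huniq⟩ := hB.2 {x, y, z} (card_eq_three.2 ⟨x, y, z, hxy, hxz, hyz, rfl⟩)
  have h1 := huniq c ⟨hc, by
    intro w hw
    simp only [mem_insert, mem_singleton] at hw
    rcases hw with rfl | rfl | rfl <;> assumption⟩
  have h2 := huniq c' ⟨hc', by
    intro w hw
    simp only [mem_insert, mem_singleton] at hw
    rcases hw with rfl | rfl | rfl <;> assumption⟩
  rw [h1, h2]

/-- An automorphism is determined by its values on a block and at a point off the block. -/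
theorem aut_unique (hΩ : Fintype.card Ω = 22) {B : Set (Finset Ω)} (hB : IsSteinerSystem 3 6 B)
    {p : Ω} {b : Finset Ω} (hb : b ∈ B) (hpb : p ∉ b) {g g' : Equiv.Perm Ω}
    (hg : ∀ c ∈ B, c.image g ∈ B) (hg' : ∀ c ∈ B, c.image g' ∈ B) (hp : g p = g' p)
    (hgb : ∀ a ∈ b, g a = g' a) : g = g' := by
  ext x
  by_cases hxp : x = p
  · rw [hxp]; exact hp
  by_cases hxb : x ∈ b
  · exact hgb x hxb
  have hb6 : b.card = 6 := hB.1 b hb
  have key : ∀ a ∈ b, ∃ c ∈ B, p ∈ c ∧ x ∈ c ∧ a ∈ c ∧ (c ∩ b).card = 2 ∧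
      ∃ a' ∈ b, a' ≠ a ∧ a' ∈ c := by
    intro a ha
    have hpa : p ≠ a := by
      rintro rfl
      exact hpb ha
    have hxa : x ≠ a := by
      rintro rfl
      exact hxb ha
    obtain ⟨c, hc, hpc, hxc, hac⟩ := block_through hB (Ne.symm hxp) hpa hxa
    have hcb : c ≠ b := by
      rintro rfl
      exact hpb hpc
    have h2 : (c ∩ b).card = 2 := by
      rcases S22.inter_zero_or_two hΩ hB hc hb hcb with h0 | h2
      · rw [card_eq_zero] at h0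
        have : a ∈ c ∩ b := mem_inter.2 ⟨hac, ha⟩
        rw [h0] at this
        exact absurd this (notMem_empty _)
      · exact h2
    refine ⟨c, hc, hpc, hxc, hac, h2, ?_⟩
    obtain ⟨u, v, huv, he⟩ := card_eq_two.1 h2
    have hu : u ∈ c ∩ b := by rw [he]; simp
    have hv : v ∈ c ∩ b := by rw [he]; simp
    rw [mem_inter] at hu hv
    by_cases hau : a = u
    · exact ⟨v, hv.2, by rw [hau]; exact huv.symm, hv.1⟩
    · exact ⟨u, hu.2, Ne.symm hau, hu.1⟩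
  obtain ⟨a₁, ha₁⟩ := card_pos.1 (by rw [hb6]; decide : 0 < b.card)
  obtain ⟨c₁, hc₁, hpc₁, hxc₁, hac₁, h2c₁, a₁', ha₁', hne₁, ha₁'c⟩ := key a₁ ha₁
  obtain ⟨a₂, ha₂, hn⟩ := exists_mem_notMem_of_card_lt_card (s := c₁ ∩ b) (t := b) (by
    rw [h2c₁, hb6]; decide)
  have ha₂c₁ : a₂ ∉ c₁ := fun h => hn (mem_inter.2 ⟨h, ha₂⟩)
  obtain ⟨c₂, hc₂, hpc₂, hxc₂, hac₂, _, a₂', ha₂', hne₂, ha₂'c⟩ := key a₂ ha₂
  have hc12 : c₁ ≠ c₂ := by
    rintro rfl
    exact ha₂c₁ hac₂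
  have hp_ne : ∀ a ∈ b, p ≠ a := by
    rintro a ha rfl
    exact hpb ha
  have k1 : c₁.image g' = c₁.image g := by
    apply block_unique3 hB (x := g p) (y := g a₁) (z := g a₁')
      (fun h => hp_ne a₁ ha₁ (g.injective h)) (fun h => hp_ne a₁' ha₁' (g.injective h))
      (fun h => hne₁ (g.injective h).symm) (hg' c₁ hc₁) (hg c₁ hc₁)
    · rw [hp]; exact mem_image_of_mem _ hpc₁
    · rw [hgb a₁ ha₁]; exact mem_image_of_mem _ hac₁
    · rw [hgb a₁' ha₁']; exact mem_image_of_mem _ ha₁'c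
    · exact mem_image_of_mem _ hpc₁
    · exact mem_image_of_mem _ hac₁
    · exact mem_image_of_mem _ ha₁'c
  have k2 : c₂.image g' = c₂.image g := by
    apply block_unique3 hB (x := g p) (y := g a₂) (z := g a₂')
      (fun h => hp_ne a₂ ha₂ (g.injective h)) (fun h => hp_ne a₂' ha₂' (g.injective h))
      (fun h => hne₂ (g.injective h).symm) (hg' c₂ hc₂) (hg c₂ hc₂)
    · rw [hp]; exact mem_image_of_mem _ hpc₂
    · rw [hgb a₂ ha₂]; exact mem_image_of_mem _ hac₂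
    · rw [hgb a₂' ha₂']; exact mem_image_of_mem _ ha₂'c
    · exact mem_image_of_mem _ hpc₂
    · exact mem_image_of_mem _ hac₂
    · exact mem_image_of_mem _ ha₂'c
  have hk12 : c₁.image g ≠ c₂.image g := fun h => hc12 (Finset.image_injective g.injective h)
  have hint := S22.inter_zero_or_two hΩ hB (hg c₁ hc₁) (hg c₂ hc₂) hk12
  by_contra hgx
  have hsub : ({g p, g x, g' x} : Finset Ω) ⊆ c₁.image g ∩ c₂.image g := by
    intro w hw
    simp only [mem_insert, mem_singleton] at hw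
    rw [mem_inter]
    rcases hw with rfl | rfl | rfl
    · exact ⟨mem_image_of_mem _ hpc₁, mem_image_of_mem _ hpc₂⟩
    · exact ⟨mem_image_of_mem _ hxc₁, mem_image_of_mem _ hxc₂⟩
    · exact ⟨by rw [← k1]; exact mem_image_of_mem _ hxc₁,
        by rw [← k2]; exact mem_image_of_mem _ hxc₂⟩
  have h3 := card_le_card hsub
  rw [card_eq_three.2 ⟨g p, g x, g' x, fun h => hxp (g.injective h).symm,
    fun h => hxp (g'.injective (hp.symm.trans h)).symm, hgx, rfl⟩] at h3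
  omega

theorem exists_block_avoiding (hΩ : Fintype.card Ω = 22) {B : Set (Finset Ω)}
    (hB : IsSteinerSystem 3 6 B) {x y z : Ω} (hxy : x ≠ y) (hxz : x ≠ z) (hyz : y ≠ z) :
    ∃ b ∈ B, y ∈ b ∧ z ∈ b ∧ x ∉ b := by
  obtain ⟨c₀, hc₀, hx₀, hy₀, hz₀⟩ := block_through hB hxy hxz hyz
  have h5 := S22.through_two hΩ hB hyz
  obtain ⟨b, hb, hne⟩ := exists_mem_ne (s := (blocksFinset B).filter (fun d => y ∈ d ∧ z ∈ d))
    (by rw [h5]; decide) c₀
  rw [mem_filter, mem_blocksFinset] at hb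
  refine ⟨b, hb.1, hb.2.1, hb.2.2, ?_⟩
  intro hxb
  exact hne (block_unique3 hB hxy hxz hyz hb.1 hc₀ hxb hb.2.1 hb.2.2 hx₀ hy₀ hz₀)

omit [Fintype Ω] in
theorem exists_bijOn_two {Ω' : Type*} [DecidableEq Ω'] {b : Finset Ω} {b' : Finset Ω'}
    (hcard : b.card = b'.card) {u v : Ω} {u' v' : Ω'} (hu : u ∈ b) (hv : v ∈ b) (huv : u ≠ v)
    (hu' : u' ∈ b') (hv' : v' ∈ b') (huv' : u' ≠ v') :
    ∃ s : Ω → Ω', Set.BijOn s b b' ∧ s u = u' ∧ s v = v' := by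
  have σ₀ : ↥b ≃ ↥b' := Finset.equivOfCardEq hcard
  have hne : σ₀ ⟨u, hu⟩ ≠ σ₀ ⟨v, hv⟩ := fun h => huv (congrArg Subtype.val (σ₀.injective h))
  have hne' : (⟨u', hu'⟩ : ↥b') ≠ ⟨v', hv'⟩ := fun h => huv' (congrArg Subtype.val h)
  let e1 : Fin 2 ↪ ↥b' := ⟨![σ₀ ⟨u, hu⟩, σ₀ ⟨v, hv⟩], by
    intro i j h
    fin_cases i <;> fin_cases j <;> simp_all⟩
  let e2 : Fin 2 ↪ ↥b' := ⟨![⟨u', hu'⟩, ⟨v', hv'⟩], by
    intro i j h
    fin_cases i <;> fin_cases j <;> simp_all⟩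
  obtain ⟨π, hπ⟩ := (MulAction.isMultiplyPretransitive_iff.1
    (Equiv.Perm.isMultiplyPretransitive ↥b' 2)) e1 e2
  have h0 : π (σ₀ ⟨u, hu⟩) = ⟨u', hu'⟩ := by
    have := congrArg (fun f : Fin 2 ↪ ↥b' => f 0) hπ
    exact this
  have h1 : π (σ₀ ⟨v, hv⟩) = ⟨v', hv'⟩ := by
    have := congrArg (fun f : Fin 2 ↪ ↥b' => f 1) hπ
    exact this
  refine ⟨_, bijOn_of_equiv (σ₀.trans π) u', ?_, ?_⟩
  · simp [hu, h0]
  · simp [hv, h1]

theorem three_transitive (hΩ : Fintype.card Ω = 22) {B : Set (Finset Ω)}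
    (hB : IsSteinerSystem 3 6 B) :
    MulAction.IsMultiplyPretransitive (Cfsg.setSystemAut B) Ω 3 := by
  rw [MulAction.isMultiplyPretransitive_iff]
  intro x y
  have hx : ∀ {i j : Fin 3}, i ≠ j → x i ≠ x j := fun h h' => h (x.injective h')
  have hy : ∀ {i j : Fin 3}, i ≠ j → y i ≠ y j := fun h h' => h (y.injective h')
  obtain ⟨b, hb, h1b, h2b, h0b⟩ := exists_block_avoiding hΩ hB (hx (by decide : (0 : Fin 3) ≠ 1))
    (hx (by decide : (0 : Fin 3) ≠ 2)) (hx (by decide : (1 : Fin 3) ≠ 2))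
  obtain ⟨b', hb', h1b', h2b', h0b'⟩ := exists_block_avoiding hΩ hB
    (hy (by decide : (0 : Fin 3) ≠ 1)) (hy (by decide : (0 : Fin 3) ≠ 2))
    (hy (by decide : (1 : Fin 3) ≠ 2))
  obtain ⟨s, hs, hs1, hs2⟩ := exists_bijOn_two ((hB.1 b hb).trans (hB.1 b' hb').symm) h1b h2b
    (hx (by decide : (1 : Fin 3) ≠ 2)) h1b' h2b' (hy (by decide : (1 : Fin 3) ≠ 2))
  obtain ⟨e, he0, he1, he2⟩ := strong_ext hΩ hΩ hB hB hb hb' h0b h0b' hs
  refine ⟨⟨e, mem_aut_iff.2 he2⟩, ?_⟩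
  ext i
  show e (x i) = y i
  fin_cases i
  · exact he0
  · exact (he1 _ h1b).trans hs1
  · exact (he1 _ h2b).trans hs2

end Cfsg.Agent.Lib.Helper18.S22Plane
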