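import Mathlib
import Cfsg.Prelude.Def_Sporadic_a
import Cfsg.Agent.Lib.Helper18.S22Aut

/-!
The order of the automorphism group of a Steiner system S(3,6,22) is 887040.
-/

set_option autoImplicit false

namespace Cfsg.Agent.Lib.Helper18.S22Plane

open Cfsg Finset Cfsg.Agent.Lib.Helper21 Cfsg.Agent.Lib.Helper18.Plane4

variable {Ω : Type*} [Fintype Ω] [DecidableEq Ω]

/-- Enumerations of a given 6-set. -/
noncomputable def enums (b : Finset Ω) : Finset (Fin 6 → Ω) :=
  univ.filter (fun f : Fin 6 → Ω => Function.Injective f ∧ univ.image f = b)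

theorem mem_enums {b : Finset Ω} {f : Fin 6 → Ω} :
    f ∈ enums b ↔ Function.Injective f ∧ univ.image f = b := by
  simp [enums]

theorem card_enums {b : Finset Ω} (hb : b.card = 6) : (enums b).card = 720 := by
  have e : enums b = (univ : Finset (Fin 6 ↪ ↥b)).image (fun emb i => (emb i : Ω)) := by
    ext f
    rw [mem_enums, mem_image]
    constructor
    · rintro ⟨hinj, himg⟩
      have hmem : ∀ i, f i ∈ b := fun i => by
        rw [← himg]
        exact mem_image_of_mem _ (mem_univ i)
      refine ⟨⟨fun i => ⟨f i, hmem i⟩, ?_⟩, mem_univ _, rfl⟩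
      intro i j h
      exact hinj (congrArg Subtype.val h)
    · rintro ⟨emb, _, rfl⟩
      have hinj : Function.Injective (fun i => (emb i : Ω)) := by
        intro i j h
        exact emb.injective (Subtype.ext h)
      refine ⟨hinj, ?_⟩
      apply eq_of_subset_of_card_le
      · intro y hy
        obtain ⟨i, _, rfl⟩ := mem_image.1 hy
        exact (emb i).2
      · rw [card_image_of_injective _ hinj, hb]
        simp
  rw [e, card_image_of_injective]
  · rw [card_univ, Fintype.card_embedding_eq, Fintype.card_coe, hb, Fintype.card_fin]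
    decide
  · intro emb emb' h
    ext i
    exact congrFun h i

/-- The frames: a point and an enumeration of a block missing it. -/
noncomputable def frames (B : Set (Finset Ω)) : Finset (Ω × (Fin 6 → Ω)) :=
  (blocksFinset B).biUnion (fun b => bᶜ ×ˢ enums b)

theorem mem_frames {B : Set (Finset Ω)} {t : Ω × (Fin 6 → Ω)} :
    t ∈ frames B ↔ ∃ b ∈ B, t.1 ∉ b ∧ Function.Injective t.2 ∧ univ.image t.2 = b := by
  simp only [frames, mem_biUnion, mem_blocksFinset, mem_product, mem_compl, mem_enums]

theorem card_frames (hΩ : Fintype.card Ω = 22) {B : Set (Finset Ω)}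
    (hB : IsSteinerSystem 3 6 B) : (frames B).card = 887040 := by
  rw [frames, card_biUnion]
  · rw [sum_const_nat (m := 16 * 720), S22.card_blocks hΩ hB]
    intro b hb
    rw [mem_blocksFinset] at hb
    rw [card_product, card_enums (hB.1 b hb), card_compl, hΩ, hB.1 b hb]
  · intro b _ b' _ hbb'
    rw [Function.onFun, disjoint_left]
    rintro ⟨x, f⟩ h1 h2
    rw [mem_product, mem_enums] at h1 h2
    exact hbb' (h1.2.2.symm.trans h2.2.2)

theorem card_aut (hΩ : Fintype.card Ω = 22) {B : Set (Finset Ω)}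
    (hB : IsSteinerSystem 3 6 B) : Nat.card (Cfsg.setSystemAut B) = 887040 := by
  -- a base frame
  obtain ⟨b₀, hb₀⟩ : (blocksFinset B).Nonempty := card_pos.1 (by
    rw [S22.card_blocks hΩ hB]; decide)
  rw [mem_blocksFinset] at hb₀
  have h6 : b₀.card = 6 := hB.1 b₀ hb₀
  obtain ⟨p, hp⟩ : (b₀ᶜ).Nonempty := card_pos.1 (by rw [card_compl, hΩ, h6]; decide)
  rw [mem_compl] at hp
  let e₀ : ↥b₀ ≃ Fin 6 := b₀.equivFinOfCardEq h6
  let f₀ : Fin 6 → Ω := fun i => (e₀.symm i : Ω)
  have hf₀ : ∀ i, f₀ i ∈ b₀ := fun i => (e₀.symm i).2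
  have hf₀e : ∀ a (ha : a ∈ b₀), f₀ (e₀ ⟨a, ha⟩) = a := by
    intro a ha
    show ((e₀.symm (e₀ ⟨a, ha⟩) : ↥b₀) : Ω) = a
    rw [Equiv.symm_apply_apply]
  have hf₀inj : Function.Injective f₀ := by
    intro i j h
    exact e₀.symm.injective (Subtype.ext h)
  have himg₀ : univ.image f₀ = b₀ := by
    apply eq_of_subset_of_card_le
    · intro y hy
      obtain ⟨i, _, rfl⟩ := mem_image.1 hy
      exact hf₀ i
    · rw [card_image_of_injective _ hf₀inj, h6]
      simp
  have aux : ∀ {g : Equiv.Perm Ω}, g ∈ Cfsg.setSystemAut B → ∀ c ∈ B, c.image g ∈ B := by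
    intro g hg c hc
    rw [mem_aut_iff] at hg
    rw [← hg]
    exact ⟨c, hc, rfl⟩
  let Φ : ↥(Cfsg.setSystemAut B) → Ω × (Fin 6 → Ω) := fun g => (g.1 p, fun i => g.1 (f₀ i))
  have hinj : Function.Injective Φ := by
    intro g g' h
    have h1 : g.1 p = g'.1 p := congrArg Prod.fst h
    have h2 : ∀ i, g.1 (f₀ i) = g'.1 (f₀ i) := fun i => congrFun (congrArg Prod.snd h) i
    apply Subtype.ext
    apply aut_unique hΩ hB hb₀ hp (aux g.2) (aux g'.2) h1
    intro a ha
    rw [← hf₀e a ha]
    exact h2 _
  have hrange : Set.range Φ = ↑(frames B) := by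
    ext t
    rw [mem_coe, mem_frames]
    constructor
    · rintro ⟨g, rfl⟩
      refine ⟨b₀.image g.1, aux g.2 b₀ hb₀, ?_, ?_, ?_⟩
      · show g.1 p ∉ b₀.image g.1
        intro h
        obtain ⟨a, ha, hap⟩ := mem_image.1 h
        rw [g.1.injective hap] at ha
        exact hp ha
      · intro i j h
        exact hf₀inj (g.1.injective h)
      · show univ.image (fun i => g.1 (f₀ i)) = b₀.image g.1
        rw [← himg₀, image_image]
        rfl
    · rintro ⟨b, hb, hxb, hfinj, hfimg⟩
      obtain ⟨x, f⟩ := t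
      simp only at hxb hfinj hfimg
      have hs : Set.BijOn (fun a => if h : a ∈ b₀ then f (e₀ ⟨a, h⟩) else x) b₀ b := by
        refine ⟨?_, ?_, ?_⟩
        · intro a ha
          rw [mem_coe] at ha ⊢
          simp only [ha, dite_true]
          rw [← hfimg]
          exact mem_image_of_mem _ (mem_univ _)
        · intro a ha a' ha' h
          rw [mem_coe] at ha ha'
          simp only [ha, ha', dite_true] at h
          exact congrArg Subtype.val (e₀.injective (hfinj h))
        · intro y hy
          rw [mem_coe, ← hfimg] at hy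
          obtain ⟨i, _, rfl⟩ := mem_image.1 hy
          refine ⟨f₀ i, mem_coe.2 (hf₀ i), ?_⟩
          simp only [hf₀ i, dite_true]
          congr 1
          show e₀ (e₀.symm i) = i
          rw [Equiv.apply_symm_apply]
      obtain ⟨e, he0, he1, he2⟩ := strong_ext hΩ hΩ hB hB hb₀ hb hp hxb hs
      refine ⟨⟨e, mem_aut_iff.2 he2⟩, ?_⟩
      show (e p, fun i => e (f₀ i)) = (x, f)
      rw [he0]
      congr 1
      funext i
      rw [he1 _ (hf₀ i)]
      simp only [hf₀ i, dite_true]
      congr 1
      show e₀ (e₀.symm i) = i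
      rw [Equiv.apply_symm_apply]
  rw [← Nat.card_range_of_injective hinj, hrange, Nat.card_coe_set_eq, Set.ncard_coe_finset,
    card_frames hΩ hB]

end Cfsg.Agent.Lib.Helper18.S22Plane
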