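import Mathlib
import Cfsg.Prelude.Def_Sporadic_a
import Cfsg.Prelude.Def_Sporadic
import Cfsg.Agent.Lib.Helper18.S22Card
import Cfsg.Agent.Lib.Helper18.GolayS22
import Cfsg.Agent.S0378
import Cfsg.Agent.S0379

/-!
The automorphism group of any S(3,6,22) contains a simple subgroup of index 2 (a copy of the
two-point stabiliser of `M24`).
-/

set_option autoImplicit false

namespace Cfsg.Agent.Lib.Helper18.S22Plane

open Cfsg Finset Cfsg.Agent.Lib.Helper21 Cfsg.Agent.Lib.Helper18.Plane4
open Cfsg.Agent.Lib.Helper18.GolayS22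

variable {Ω : Type*} [Fintype Ω] [DecidableEq Ω]

theorem mem_aut_of_maps {B : Set (Finset Ω)} {g : Equiv.Perm Ω}
    (h : ∀ b ∈ B, b.image g ∈ B) : g ∈ Cfsg.setSystemAut B := by
  rw [mem_aut_iff]
  apply Set.eq_of_subset_of_ncard_le
  · rintro _ ⟨b, hb, rfl⟩
    exact h b hb
  · rw [Set.ncard_image_of_injective _ (Finset.image_injective g.injective)]
  · exact Set.toFinite _

theorem exists_M22 (hΩ : Fintype.card Ω = 22) {B : Set (Finset Ω)}
    (hB : IsSteinerSystem 3 6 B) :
    ∃ H : Subgroup (Cfsg.setSystemAut B), H.index = 2 ∧ Cfsg.IsM22 H := by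
  obtain ⟨e, he⟩ := unique_s22 card_pt22 hΩ steiner_D22 hB
  have hmem : ∀ k : ↥K22, e.permCongr (rho k) ∈ Cfsg.setSystemAut B := by
    intro k
    apply mem_aut_of_maps
    intro b hb
    rw [← he] at hb ⊢
    obtain ⟨b₀, hb₀, rfl⟩ := hb
    refine ⟨b₀.image (rho k), rho_mem k hb₀, ?_⟩
    show (b₀.image (rho k)).image e = (b₀.image e).image (e.permCongr (rho k))
    rw [image_image, image_image]
    apply image_congr
    intro x _
    simp [Equiv.permCongr_apply]
  let ψ : ↥K22 →* ↥(Cfsg.setSystemAut B) := MonoidHom.mk'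
    (fun k => ⟨e.permCongr (rho k), hmem k⟩) (by
      intro k k'
      apply Subtype.ext
      show e.permCongr (rho (k * k')) = e.permCongr (rho k) * e.permCongr (rho k')
      rw [rho_mul]
      ext x
      simp [Equiv.permCongr_apply])
  have hinj : Function.Injective ψ := by
    intro k k' h
    have h1 : e.permCongr (rho k) = e.permCongr (rho k') := congrArg Subtype.val h
    exact rho_injective (e.permCongr.injective h1)
  have hK : Nat.card ↥K22 = 443520 := Cfsg.Agent.S0378.result none (some 0) (by decide)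
  haveI hsimp : IsSimpleGroup ↥K22 := Cfsg.Agent.S0379.result none (some 0) (by decide)
  have hcardH : Nat.card ↥ψ.range = 443520 := by
    rw [← Nat.card_congr (MonoidHom.ofInjective hinj).toEquiv, hK]
  refine ⟨ψ.range, ?_, (MonoidHom.ofInjective hinj).symm.isSimpleGroup, hcardH⟩
  have h := Subgroup.card_mul_index ψ.range
  rw [hcardH, card_aut hΩ hB] at h
  omega

end Cfsg.Agent.Lib.Helper18.S22Plane
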