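import Mathlib
import Cfsg.Prelude.Def_Sporadic_a
import Cfsg.Agent.Lib.Helper18.HS4
import Cfsg.Agent.Lib.Helper18.S22M22

/-!
The automorphism group of the point-block graph of a Steiner system S(3,6,22) has order
88704000 = 100 * 887040.
-/

set_option autoImplicit false

namespace Cfsg.Agent.Lib.Helper18.HS

open Cfsg Finset Cfsg.Agent.Lib.Helper18.S22Plane Cfsg.Agent.Lib.Helper18.Plane4

variable {α : Type*} [Fintype α] [DecidableEq α] {B : Set (Finset α)}

theorem card_vertices (hα : Fintype.card α = 22) (hB : IsSteinerSystem 3 6 B) :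
    Nat.card (Option (α ⊕ ↥B)) = 100 := by
  rw [Finite.card_option, Nat.card_sum, Nat.card_eq_fintype_card, hα, Nat.card_coe_set_eq,
    Cfsg.Agent.Lib.Helper21.ncard_blocks, Cfsg.Agent.Lib.Helper18.S22.card_blocks hα hB]

theorem exists_aut_to_none (hα : Fintype.card α = 22) (hB : IsSteinerSystem 3 6 B)
    (u : Option (α ⊕ ↥B)) : ∃ g : pointBlockGraph B ≃g pointBlockGraph B, g u = none := by
  classical
  haveI : Fintype ↥B := Fintype.ofFinite _
  have hΓ : (pointBlockGraph B).IsSRGWith 100 22 0 6 := Cfsg.Agent.S0428.result hα hB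
  obtain ⟨e, he⟩ := unique_s22 (card_points hΓ u) hα (localDesign_steiner hΓ u) hB
  refine ⟨(isoPB hΓ u).trans (pbIso e he), ?_⟩
  show pbIso e he (isoPB hΓ u u) = none
  rw [isoPB_apply_self]
  rfl

omit [Fintype α] [DecidableEq α] in
theorem adj_none_iff (x : Option (α ⊕ ↥B)) :
    (pointBlockGraph B).Adj none x ↔ ∃ a, x = some (Sum.inl a) := by
  rcases x with _ | (a | b)
  · exact iff_of_false Cfsg.Agent.S0428.adj_none_none (by simp)
  · exact iff_of_true (Cfsg.Agent.S0428.adj_none_inl a) ⟨a, rfl⟩
  · exact iff_of_false (Cfsg.Agent.S0428.adj_none_inr b) (by simp)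

omit [Fintype α] [DecidableEq α] in
theorem iso_inl {g : pointBlockGraph B ≃g pointBlockGraph B} (hg : g none = none) (a : α) :
    ∃ a', g (some (Sum.inl a)) = some (Sum.inl a') := by
  rw [← adj_none_iff, ← hg, g.map_rel_iff]
  exact Cfsg.Agent.S0428.adj_none_inl a

omit [Fintype α] [DecidableEq α] in
theorem iso_inr {g : pointBlockGraph B ≃g pointBlockGraph B} (hg : g none = none) (b : ↥B) :
    ∃ b', g (some (Sum.inr b)) = some (Sum.inr b') := by
  have h1 : ¬ (pointBlockGraph B).Adj none (g (some (Sum.inr b))) := by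
    rw [← hg, g.map_rel_iff]
    exact Cfsg.Agent.S0428.adj_none_inr b
  have h2 : g (some (Sum.inr b)) ≠ none := by
    intro h
    rw [← hg] at h
    exact absurd (g.injective h) (by simp)
  rcases hx : g (some (Sum.inr b)) with _ | (a' | b')
  · exact absurd hx h2
  · rw [hx] at h1
    exact absurd (Cfsg.Agent.S0428.adj_none_inl a') h1
  · exact ⟨b', rfl⟩

/-- An automorphism of the graph fixing the extra vertex comes from an automorphism of the
design. -/
theorem stab_surj {g : pointBlockGraph B ≃g pointBlockGraph B} (hg : g none = none) :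
    ∃ π : Equiv.Perm α, ∃ hπ : (fun b : Finset α => b.image π) '' B = B, pbIso π hπ = g := by
  classical
  have hg' : g.symm none = none := by
    have := g.symm_apply_apply none
    rw [hg] at this
    exact this
  choose p hp using iso_inl hg
  choose q hq using iso_inl hg'
  have hpq : ∀ a, p (q a) = a := by
    intro a
    have h1 := hp (q a)
    rw [← hq a, RelIso.apply_symm_apply] at h1
    exact (Sum.inl_injective (Option.some_injective _ h1)).symm
  have hqp : ∀ a, q (p a) = a := by
    intro a
    have h1 := hq (p a)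
    rw [← hp a, RelIso.symm_apply_apply] at h1
    exact (Sum.inl_injective (Option.some_injective _ h1)).symm
  let π : Equiv.Perm α := ⟨p, q, hqp, hpq⟩
  choose β hβ using iso_inr hg
  have hblock : ∀ b : ↥B, b.1.image π = (β b).1 := by
    intro b
    ext x
    rw [mem_image]
    have key : ∀ a, a ∈ b.1 ↔ p a ∈ (β b).1 := by
      intro a
      rw [← Cfsg.Agent.S0428.adj_inl_inr a b, ← g.map_rel_iff, hp a, hβ b,
        Cfsg.Agent.S0428.adj_inl_inr]
    constructor
    · rintro ⟨a, ha, rfl⟩
      exact (key a).1 ha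
    · intro hx
      refine ⟨q x, (key (q x)).2 ?_, hpq x⟩
      rw [hpq]
      exact hx
  have hπ : (fun b : Finset α => b.image π) '' B = B := by
    apply mem_aut_iff.1
    apply mem_aut_of_maps
    intro b hb
    rw [hblock ⟨b, hb⟩]
    exact (β ⟨b, hb⟩).2
  refine ⟨π, hπ, ?_⟩
  apply RelIso.ext
  intro x
  rcases x with _ | (a | b)
  · rw [hg]
    rfl
  · rw [hp a]
    rfl
  · rw [hβ b]
    show some (Sum.inr (blockEquiv π hπ b)) = some (Sum.inr (β b))
    congr 2
    exact Subtype.ext (hblock b)

theorem card_stabilizer (hα : Fintype.card α = 22) (hB : IsSteinerSystem 3 6 B) :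
    Nat.card (MulAction.stabilizer (pointBlockGraph B ≃g pointBlockGraph B)
      (none : Option (α ⊕ ↥B))) = 887040 := by
  rw [← card_aut hα hB]
  symm
  apply Nat.card_congr
  refine Equiv.ofBijective
    (fun π : ↥(Cfsg.setSystemAut B) => (⟨pbIso π.1 (mem_aut_iff.1 π.2), by
      rw [MulAction.mem_stabilizer_iff]
      rfl⟩ : ↥(MulAction.stabilizer (pointBlockGraph B ≃g pointBlockGraph B)
        (none : Option (α ⊕ ↥B))))) ⟨?_, ?_⟩
  · intro π π' h
    apply Subtype.ext
    ext a
    have h1 : pbIso π.1 (mem_aut_iff.1 π.2) = pbIso π'.1 (mem_aut_iff.1 π'.2) :=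
      congrArg Subtype.val h
    have h2 := congrArg (fun f : pointBlockGraph B ≃g pointBlockGraph B =>
      f (some (Sum.inl a))) h1
    exact Sum.inl_injective (Option.some_injective _ h2)
  · rintro ⟨g, hg⟩
    rw [MulAction.mem_stabilizer_iff] at hg
    obtain ⟨π, hπ, h⟩ := stab_surj (g := g) hg
    exact ⟨⟨π, mem_aut_iff.2 hπ⟩, Subtype.ext h⟩

/-- The order of the automorphism group of the point-block graph. -/
theorem card_aut_graph (hα : Fintype.card α = 22) (hB : IsSteinerSystem 3 6 B) :
    Nat.card (pointBlockGraph B ≃g pointBlockGraph B) = 88704000 := by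
  have horb : MulAction.orbit (pointBlockGraph B ≃g pointBlockGraph B)
      (none : Option (α ⊕ ↥B)) = Set.univ := by
    rw [Set.eq_univ_iff_forall]
    intro u
    obtain ⟨g, hg⟩ := exists_aut_to_none hα hB u
    rw [MulAction.mem_orbit_iff]
    refine ⟨g.symm, ?_⟩
    show g.symm none = u
    rw [← hg, RelIso.symm_apply_apply]
  rw [← Nat.card_congr (MulAction.orbitProdStabilizerEquivGroup
    (pointBlockGraph B ≃g pointBlockGraph B) (none : Option (α ⊕ ↥B))), Nat.card_prod, horb,
    Nat.card_univ, card_vertices hα hB, card_stabilizer hα hB]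

end Cfsg.Agent.Lib.Helper18.HS
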