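import Mathlib

/-!
An abstract simplicity criterion: a group of order 88704000 acting faithfully and transitively
on 100 points, with a point stabiliser having orbits of sizes 1, 22, 77 and only large normal
subgroups, has only simple subgroups of index 2.
-/

set_option autoImplicit false

namespace Cfsg.Agent.Lib.Helper18.RankThree

open MulAction

/-- The hypotheses of the criterion. -/
structure Hyp (G V : Type*) [Group G] [MulAction G V] (o : V) (P Q : Set V) : Prop where
  hV : Nat.card V = 100
  hoP : o ∉ P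
  hoQ : o ∉ Q
  hPQ : ∀ v ∈ P, v ∉ Q
  hP : P.ncard = 22
  hQ : Q.ncard = 77
  hcov : ∀ v, v = o ∨ v ∈ P ∨ v ∈ Q
  htr : ∀ v, ∃ g : G, g • o = v
  hPtr : ∀ x ∈ P, ∀ y ∈ P, ∃ s : G, s • o = o ∧ s • x = y
  hQtr : ∀ x ∈ Q, ∀ y ∈ Q, ∃ s : G, s • o = o ∧ s • x = y
  hS : ∀ K : Subgroup (stabilizer G o), K.Normal →
    K = ⊥ ∨ Nat.card (stabilizer G o) ≤ 2 * Nat.card K
  hG : Nat.card G = 88704000

section

variable {G V : Type*} [Group G] [MulAction G V] {o : V} {P Q : Set V}

theorem Hyp.finiteV (h : Hyp G V o P Q) : Finite V :=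
  Nat.finite_of_card_ne_zero (by rw [h.hV]; decide)

theorem Hyp.finiteG (h : Hyp G V o P Q) : Finite G :=
  Nat.finite_of_card_ne_zero (by rw [h.hG]; decide)

/-- Sets invariant under the point stabiliser. -/
theorem inv_set (h : Hyp G V o P Q) (T : Set V)
    (hT : ∀ s : G, s • o = o → ∀ t ∈ T, s • t ∈ T) (hoT : o ∈ T) :
    T = {o} ∨ T = insert o P ∨ T = insert o Q ∨ T = Set.univ := by
  have hPT : (∃ x ∈ P, x ∈ T) → ∀ y ∈ P, y ∈ T := by
    rintro ⟨x, hxP, hxT⟩ y hy
    obtain ⟨s, hs, rfl⟩ := h.hPtr x hxP y hy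
    exact hT s hs x hxT
  have hQT : (∃ x ∈ Q, x ∈ T) → ∀ y ∈ Q, y ∈ T := by
    rintro ⟨x, hxQ, hxT⟩ y hy
    obtain ⟨s, hs, rfl⟩ := h.hQtr x hxQ y hy
    exact hT s hs x hxT
  by_cases hp : ∃ x ∈ P, x ∈ T <;> by_cases hq : ∃ x ∈ Q, x ∈ T
  · right; right; right
    ext v
    simp only [Set.mem_univ, iff_true]
    rcases h.hcov v with rfl | hv | hv
    · exact hoT
    · exact hPT hp v hv
    · exact hQT hq v hv
  · right; left
    ext v
    rw [Set.mem_insert_iff]
    rcases h.hcov v with rfl | hv | hv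
    · exact iff_of_true hoT (Or.inl rfl)
    · exact iff_of_true (hPT hp v hv) (Or.inr hv)
    · refine iff_of_false (fun hvT => hq ⟨v, hv, hvT⟩) ?_
      rintro (rfl | hvP)
      · exact h.hoQ hv
      · exact h.hPQ v hvP hv
  · right; right; left
    ext v
    rw [Set.mem_insert_iff]
    rcases h.hcov v with rfl | hv | hv
    · exact iff_of_true hoT (Or.inl rfl)
    · refine iff_of_false (fun hvT => hp ⟨v, hv, hvT⟩) ?_
      rintro (rfl | hvQ)
      · exact h.hoP hv
      · exact h.hPQ v hv hvQ
    · exact iff_of_true (hQT hq v hv) (Or.inr hv)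
  · left
    ext v
    rw [Set.mem_singleton_iff]
    rcases h.hcov v with rfl | hv | hv
    · exact iff_of_true hoT rfl
    · refine iff_of_false (fun hvT => hp ⟨v, hv, hvT⟩) ?_
      rintro rfl
      exact h.hoP hv
    · refine iff_of_false (fun hvT => hq ⟨v, hv, hvT⟩) ?_
      rintro rfl
      exact h.hoQ hv

/-- A nontrivial normal subgroup is transitive. -/
theorem normal_transitive [FaithfulSMul G V] (h : Hyp G V o P Q) (N : Subgroup G) [hN : N.Normal]
    (hne : N ≠ ⊥) : orbit N o = Set.univ := by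
  haveI := h.finiteV
  haveI := h.finiteG
  have hoT : o ∈ orbit N o := mem_orbit_self o
  have hT : ∀ s : G, s • o = o → ∀ t ∈ orbit N o, s • t ∈ orbit N o := by
    rintro s hs t ⟨n, rfl⟩
    refine ⟨⟨s * n.1 * s⁻¹, hN.conj_mem n.1 n.2 s⟩, ?_⟩
    show (s * n.1 * s⁻¹) • o = s • (n.1 • o)
    rw [mul_smul, mul_smul]
    congr 2
    rw [inv_smul_eq_iff, hs]
  have hdvd : (orbit N o).ncard ∣ 88704000 := by
    rw [← h.hG, ← index_stabilizer]
    exact (Subgroup.index_dvd_card _).trans (Subgroup.card_subgroup_dvd_card N)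
  rcases inv_set h _ hT hoT with hc | hc | hc | hc
  · exfalso
    apply hne
    rw [Subgroup.eq_bot_iff_forall]
    intro n hn
    apply FaithfulSMul.eq_of_smul_eq_smul (α := V)
    intro v
    rw [one_smul]
    obtain ⟨g, rfl⟩ := h.htr v
    have h1 : (g⁻¹ * n * g) • o ∈ orbit N o := by
      refine ⟨⟨g⁻¹ * n * g, ?_⟩, rfl⟩
      have := hN.conj_mem n hn g⁻¹
      rwa [inv_inv] at this
    rw [hc, Set.mem_singleton_iff] at h1
    rw [← mul_smul]
    have : n * g = g * (g⁻¹ * n * g) := by group
    rw [this, mul_smul, h1]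
  · exfalso
    rw [hc, Set.ncard_insert_of_notMem h.hoP, h.hP] at hdvd
    revert hdvd
    decide
  · exfalso
    rw [hc, Set.ncard_insert_of_notMem h.hoQ, h.hQ] at hdvd
    revert hdvd
    decide
  · exact hc

/-- The order of a nontrivial normal subgroup. -/
theorem card_normal [FaithfulSMul G V] (h : Hyp G V o P Q) (N : Subgroup G) [hN : N.Normal]
    (hne : N ≠ ⊥) : Nat.card N = Nat.card ((stabilizer G o).subgroupOf N) * 100 := by
  haveI := h.finiteV
  have key : (stabilizer G o).subgroupOf N = stabilizer N o := by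
    ext; rfl
  rw [key, ← Subgroup.card_mul_index (stabilizer N o), index_stabilizer,
    normal_transitive h N hne, Set.ncard_univ, h.hV]

theorem card_group (h : Hyp G V o P Q) : Nat.card G = Nat.card (stabilizer G o) * 100 := by
  haveI := h.finiteV
  have horb : orbit G o = Set.univ := by
    rw [Set.eq_univ_iff_forall]
    intro v
    obtain ⟨g, hg⟩ := h.htr v
    exact ⟨g, hg⟩
  rw [← Subgroup.card_mul_index (stabilizer G o), index_stabilizer, horb, Set.ncard_univ, h.hV]

/-- There is no normal subgroup of order 100. -/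
theorem no_normal_100 [FaithfulSMul G V] (h : Hyp G V o P Q) (N : Subgroup G) [hN : N.Normal]
    (hc : Nat.card N = 100) : False := by
  haveI := h.finiteG
  haveI : Fact (Nat.Prime 5) := ⟨by norm_num⟩
  obtain ⟨S⟩ : Nonempty (Sylow 5 N) := inferInstance
  have hS25 : Nat.card S = 25 := by
    obtain ⟨n, hn⟩ := IsPGroup.exists_card_eq S.2
    have h1 : 5 ^ 2 ∣ Nat.card S := S.pow_dvd_card_of_pow_dvd_card (by rw [hc]; decide)
    have h2 : Nat.card S ∣ 100 := hc ▸ Subgroup.card_subgroup_dvd_card (S : Subgroup N)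
    have hn3 : n < 3 := by
      by_contra hge
      have : 5 ^ 3 ∣ 5 ^ n := Nat.pow_dvd_pow 5 (by omega)
      rw [← hn] at this
      have := this.trans h2
      revert this
      decide
    rw [hn] at h1 h2 ⊢
    interval_cases n
    · revert h1; decide
    · revert h1; decide
    · rfl
  have hidx : (S : Subgroup N).index = 4 := by
    have := Subgroup.card_mul_index (S : Subgroup N)
    rw [hS25, hc] at this
    omega
  have hone : Nat.card (Sylow 5 N) = 1 := by
    have h1 := S.card_dvd_index
    have h2 := card_sylow_modEq_one 5 N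
    rw [hidx] at h1
    have h3 : Nat.card (Sylow 5 N) ≤ 4 := Nat.le_of_dvd (by decide) h1
    unfold Nat.ModEq at h2
    interval_cases hk : Nat.card (Sylow 5 N) <;> simp_all
  haveI : Subsingleton (Sylow 5 N) := (Nat.card_eq_one_iff_unique.1 hone).1
  haveI : (S : Subgroup N).Characteristic := Sylow.characteristic_of_subsingleton S
  haveI hRn : ((S : Subgroup N).map N.subtype).Normal := ConjAct.normal_of_characteristic_of_normal
  have hR25 : Nat.card ((S : Subgroup N).map N.subtype) = 25 := by
    rw [Subgroup.card_map_of_injective N.subtype_injective]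
    exact hS25
  have hRne : (S : Subgroup N).map N.subtype ≠ ⊥ := by
    intro hbot
    rw [hbot, Subgroup.card_bot] at hR25
    omega
  have := card_normal h _ hRne
  omega

/-- A nontrivial normal subgroup has index at most two. -/
theorem card_le_of_normal [FaithfulSMul G V] (h : Hyp G V o P Q) (N : Subgroup G) [hN : N.Normal]
    (hne : N ≠ ⊥) : Nat.card G ≤ 2 * Nat.card N := by
  have hcN := card_normal h N hne
  have hcG := card_group h
  have hcard : Nat.card (N.subgroupOf (stabilizer G o)) =
      Nat.card ((stabilizer G o).subgroupOf N) :=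
    Nat.card_congr ⟨fun x => ⟨⟨x.1.1, x.2⟩, x.1.2⟩, fun y => ⟨⟨y.1.1, y.2⟩, y.1.2⟩,
      fun _ => rfl, fun _ => rfl⟩
  rcases h.hS (N.subgroupOf (stabilizer G o)) inferInstance with hb | hb
  · exfalso
    rw [hb, Subgroup.card_bot] at hcard
    rw [← hcard] at hcN
    exact no_normal_100 h N (by omega)
  · rw [hcard] at hb
    omega

/-- A subgroup of the index-two subgroup `H` which is normal in `H` and invariant under an
element outside `H` is normal in the whole group. -/
theorem normal_map_of_invariant {H : Subgroup G} (hH : H.index = 2) [H.Normal] {τ : G}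
    (hτ : τ ∉ H) (X : Subgroup H) [hX : X.Normal]
    (hφ : ∀ x ∈ X, MulAut.conjNormal τ x ∈ X) : (X.map H.subtype).Normal := by
  constructor
  rintro _ ⟨x, hx, rfl⟩ g
  have hall : ∀ k : G, k ∈ H → ∀ y ∈ X, MulAut.conjNormal k y ∈ X := by
    intro k hk y hy
    have : MulAut.conjNormal k y = ⟨k, hk⟩ * y * ⟨k, hk⟩⁻¹ := by
      apply Subtype.ext
      rw [MulAut.conjNormal_apply]
      rfl
    rw [this]
    exact hX.conj_mem y hy _
  have hmem : MulAut.conjNormal g x ∈ X := by
    by_cases hg : g ∈ H
    · exact hall g hg x hx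
    · have hk : τ⁻¹ * g ∈ H := by
        rw [Subgroup.mul_mem_iff_of_index_two hH, inv_mem_iff]
        exact iff_of_false hτ hg
      have : g = τ * (τ⁻¹ * g) := by group
      rw [this, map_mul, MulAut.mul_apply]
      exact hφ _ (hall _ hk x hx)
  exact ⟨MulAut.conjNormal g x, hmem, MulAut.conjNormal_apply g x⟩

/-- The simplicity criterion. -/
theorem isSimpleGroup_of_index_two [FaithfulSMul G V] (h : Hyp G V o P Q) (H : Subgroup G)
    (hH : H.index = 2) : IsSimpleGroup H := by
  have := h.finiteG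
  have hHn : H.Normal := Subgroup.normal_of_index_eq_two hH
  have hcH : Nat.card H = 44352000 := by
    have := Subgroup.card_mul_index H
    rw [hH, h.hG] at this
    omega
  haveI : Nontrivial H := by
    rw [← Finite.one_lt_card_iff_nontrivial, hcH]
    decide
  obtain ⟨τ, hτ⟩ : ∃ τ : G, τ ∉ H := by
    by_contra hall
    push Not at hall
    have : H = ⊤ := by
      rw [Subgroup.eq_top_iff']
      exact hall
    rw [← Subgroup.index_eq_one, hH] at this
    omega
  have hττ : τ * τ ∈ H := by
    rw [Subgroup.mul_mem_iff_of_index_two hH]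
  refine ⟨fun K hK => ?_⟩
  by_contra hcon
  push Not at hcon
  obtain ⟨hKbot, hKtop⟩ := hcon
  set φ : H ≃* H := MulAut.conjNormal τ with hφdef
  set K₂ : Subgroup H := K.map φ.toMonoidHom with hK₂
  haveI hK₂n : K₂.Normal := hK.map _ φ.surjective
  have hφφ : ∀ k ∈ K, φ (φ k) ∈ K := by
    intro k hk
    have : φ (φ k) = ⟨τ * τ, hττ⟩ * k * ⟨τ * τ, hττ⟩⁻¹ := by
      apply Subtype.ext
      rw [hφdef, MulAut.conjNormal_apply, MulAut.conjNormal_apply]
      show τ * (τ * k * τ⁻¹) * τ⁻¹ = τ * τ * k * (τ * τ)⁻¹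
      group
    rw [this]
    exact hK.conj_mem k hk _
  have hmemK₂ : ∀ k ∈ K, φ k ∈ K₂ := fun k hk => ⟨k, hk, rfl⟩
  -- general consequence for invariant normal subgroups
  have hbig : ∀ X : Subgroup H, X.Normal → (∀ x ∈ X, φ x ∈ X) → X ≠ ⊥ → X = ⊤ := by
    intro X hXn hXφ hXne
    haveI := hXn
    haveI : (X.map H.subtype).Normal := normal_map_of_invariant hH hτ X hXφ
    have hne : X.map H.subtype ≠ ⊥ := by
      intro hb
      exact hXne ((Subgroup.map_eq_bot_iff_of_injective X H.subtype_injective).1 hb)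
    have hle := card_le_of_normal h _ hne
    rw [Subgroup.card_map_of_injective H.subtype_injective, h.hG] at hle
    apply Subgroup.eq_top_of_le_card
    rw [hcH]
    omega
  have hI : K ⊓ K₂ = ⊥ := by
    by_contra hne
    have := hbig (K ⊓ K₂) inferInstance (by
      rintro x ⟨hx1, hx2⟩
      refine ⟨?_, hmemK₂ x hx1⟩
      obtain ⟨k, hk, rfl⟩ := hx2
      exact hφφ k hk) hne
    apply hKtop
    rw [eq_top_iff, ← this]
    exact inf_le_left
  have hJ : K ⊔ K₂ = ⊤ := by
    apply hbig (K ⊔ K₂) inferInstance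
    · intro x hx
      have hle : K ⊔ K₂ ≤ (K ⊔ K₂).comap φ.toMonoidHom := by
        apply sup_le
        · intro k hk
          exact Subgroup.mem_sup_right (hmemK₂ k hk)
        · rintro _ ⟨k, hk, rfl⟩
          exact Subgroup.mem_sup_left (hφφ k hk)
      exact hle hx
    · intro hb
      apply hKbot
      rw [eq_bot_iff, ← hb]
      exact le_sup_left
  have hcompl : Subgroup.IsComplement' K K₂ := by
    apply Subgroup.isComplement'_of_disjoint_and_mul_eq_univ (disjoint_iff.2 hI)
    rw [← Subgroup.mul_normal, hJ, Subgroup.coe_top]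
  have hcard := hcompl.card_mul_card
  have hc2 : Nat.card K₂ = Nat.card K :=
    Subgroup.card_map_of_injective (f := φ.toMonoidHom) φ.injective
  rw [hc2, hcH] at hcard
  have hk : Nat.card K < 6660 := by
    by_contra hge
    push Not at hge
    have := Nat.mul_le_mul hge hge
    omega
  have hk' : 6659 < Nat.card K := by
    by_contra hle
    push Not at hle
    have : Nat.card K ≤ 6659 := hle
    have := Nat.mul_le_mul this this
    omega
  omega

end

end Cfsg.Agent.Lib.Helper18.RankThree
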