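import Mathlib
import Cfsg.Prelude.Def_Sporadic_a
import Cfsg.Agent.Lib.Helper18.HS5
import Cfsg.Agent.Lib.Helper18.HS6

/-!
The automorphism group of the point-block graph of an S(3,6,22) satisfies the hypotheses of the
simplicity criterion of `HS6`.
-/

set_option autoImplicit false

namespace Cfsg.Agent.Lib.Helper18.HS

open Cfsg Finset Cfsg.Agent.Lib.Helper18.S22Plane Cfsg.Agent.Lib.Helper18.Plane4 MulAction

/-- Normal subgroups of a group with trivial centre and a simple subgroup of index two. -/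
theorem normal_large {A : Type*} [Group A] [Finite A] (M : Subgroup A) (hM : M.index = 2)
    [hMs : IsSimpleGroup M] (hc : ∀ z : A, (∀ g, g * z = z * g) → z = 1)
    (K : Subgroup A) [hK : K.Normal] : K = ⊥ ∨ Nat.card A ≤ 2 * Nat.card K := by
  have hMn : M.Normal := Subgroup.normal_of_index_eq_two hM
  have hcM := Subgroup.card_mul_index M
  rw [hM] at hcM
  rcases (inferInstance : (K.subgroupOf M).Normal).eq_bot_or_eq_top with hb | ht
  · left
    rw [Subgroup.subgroupOf_eq_bot, disjoint_iff] at hb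
    rw [Subgroup.eq_bot_iff_forall]
    intro z hz
    apply hc
    intro g
    by_cases hzM : z ∈ M
    · have : z ∈ K ⊓ M := ⟨hz, hzM⟩
      rw [hb, Subgroup.mem_bot] at this
      rw [this, mul_one, one_mul]
    · have hw : g * z * g⁻¹ ∈ K := hK.conj_mem z hz g
      have hwM : g * z * g⁻¹ ∉ M := by
        intro hw
        apply hzM
        have := hMn.conj_mem _ hw g⁻¹
        rw [inv_inv] at this
        have e : g⁻¹ * (g * z * g⁻¹) * g = z := by group
        rwa [e] at this
      have h1 : z⁻¹ * (g * z * g⁻¹) ∈ M := by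
        rw [Subgroup.mul_mem_iff_of_index_two hM, inv_mem_iff]
        exact iff_of_false hzM hwM
      have h2 : z⁻¹ * (g * z * g⁻¹) ∈ K ⊓ M := ⟨K.mul_mem (K.inv_mem hz) hw, h1⟩
      rw [hb, Subgroup.mem_bot] at h2
      have h3 : g * z * g⁻¹ = z := by
        have := congrArg (fun t => z * t) h2
        simpa using this
      have := congrArg (fun t => t * g) h3
      simpa using this
  · right
    rw [Subgroup.subgroupOf_eq_top] at ht
    have := Subgroup.card_le_of_le ht
    omega

/-- Three distinct elements as an embedding. -/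
def emb3 {α : Type*} (x y z : α) (hxy : x ≠ y) (hxz : x ≠ z) (hyz : y ≠ z) : Fin 3 ↪ α :=
  ⟨![x, y, z], by
    intro i j h
    fin_cases i <;> fin_cases j <;>
      first
      | rfl
      | (exfalso
         simp at h
         first
         | exact hxy h
         | exact hxy h.symm
         | exact hxz h
         | exact hxz h.symm
         | exact hyz h
         | exact hyz h.symm)⟩

section aut

variable {α : Type*} [Fintype α] [DecidableEq α] {B : Set (Finset α)}

theorem exists_aut_fix_move (hα : Fintype.card α = 22) (hB : IsSteinerSystem 3 6 B) {x y w : α}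
    (hxy : x ≠ y) (hxw : x ≠ w) (hyw : y ≠ w) :
    ∃ g : ↥(Cfsg.setSystemAut B), g.1 x = x ∧ g.1 y = w := by
  let e1 : Fin 3 ↪ α := emb3 x y w hxy hxw hyw
  let e2 : Fin 3 ↪ α := emb3 x w y hxw hxy hyw.symm
  obtain ⟨g, hg⟩ := (MulAction.isMultiplyPretransitive_iff.1 (three_transitive hα hB)) e1 e2
  refine ⟨g, ?_, ?_⟩
  · exact congrArg (fun f : Fin 3 ↪ α => f 0) hg
  · exact congrArg (fun f : Fin 3 ↪ α => f 1) hg

theorem exists_aut_point (hα : Fintype.card α = 22) (hB : IsSteinerSystem 3 6 B) (a a' : α) :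
    ∃ g : ↥(Cfsg.setSystemAut B), g.1 a = a' := by
  by_cases haa : a = a'
  · exact ⟨1, haa⟩
  obtain ⟨w, hw⟩ : ∃ w, w ∉ ({a, a'} : Finset α) := by
    by_contra hcon
    push Not at hcon
    have hsub : (Finset.univ : Finset α) ⊆ {a, a'} := fun c _ => hcon c
    have h1 := Finset.card_le_card hsub
    rw [Finset.card_univ, hα] at h1
    have h2 := Finset.card_le_two (a := a) (b := a')
    omega
  rw [mem_insert, mem_singleton, not_or] at hw
  let e1 : Fin 3 ↪ α := emb3 a a' w haa (fun h => hw.1 h.symm) (fun h => hw.2 h.symm)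
  let e2 : Fin 3 ↪ α := emb3 a' a w (fun h => haa h.symm) (fun h => hw.2 h.symm)
    (fun h => hw.1 h.symm)
  obtain ⟨g, hg⟩ := (MulAction.isMultiplyPretransitive_iff.1 (three_transitive hα hB)) e1 e2
  exact ⟨g, congrArg (fun f : Fin 3 ↪ α => f 0) hg⟩

theorem center_trivial (hα : Fintype.card α = 22) (hB : IsSteinerSystem 3 6 B)
    (z : ↥(Cfsg.setSystemAut B)) (hz : ∀ g, g * z = z * g) : z = 1 := by
  by_contra hne
  have hne' : z.1 ≠ 1 := fun h => hne (Subtype.ext h)
  obtain ⟨x, hx⟩ : ∃ x, z.1 x ≠ x := by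
    by_contra hcon
    push Not at hcon
    exact hne' (Equiv.ext hcon)
  obtain ⟨w, hw⟩ : ∃ w, w ∉ ({x, z.1 x} : Finset α) := by
    by_contra hcon
    push Not at hcon
    have hsub : (Finset.univ : Finset α) ⊆ {x, z.1 x} := fun c _ => hcon c
    have h1 := Finset.card_le_card hsub
    rw [Finset.card_univ, hα] at h1
    have h2 := Finset.card_le_two (a := x) (b := z.1 x)
    omega
  rw [mem_insert, mem_singleton, not_or] at hw
  obtain ⟨g, hgx, hgy⟩ := exists_aut_fix_move hα hB (x := x) (y := z.1 x) (w := w)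
    (fun h => hx h.symm) (fun h => hw.1 h.symm) (fun h => hw.2 h.symm)
  have h1 := congrArg (fun t : ↥(Cfsg.setSystemAut B) => t.1 x) (hz g)
  have h2 : g.1 (z.1 x) = z.1 (g.1 x) := h1
  rw [hgx, hgy] at h2
  exact hw.2 h2

theorem exists_aut_block (hα : Fintype.card α = 22) (hB : IsSteinerSystem 3 6 B)
    {b b' : Finset α} (hb : b ∈ B) (hb' : b' ∈ B) :
    ∃ g : ↥(Cfsg.setSystemAut B), b.image g.1 = b' := by
  have hex : ∀ c ∈ B, ∃ p, p ∉ c := by
    intro c hc
    by_contra hcon
    push Not at hcon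
    have hsub : (Finset.univ : Finset α) ⊆ c := fun a _ => hcon a
    have h1 := Finset.card_le_card hsub
    rw [Finset.card_univ, hα, hB.1 c hc] at h1
    omega
  obtain ⟨p, hp⟩ := hex b hb
  obtain ⟨p', hp'⟩ := hex b' hb'
  have σ₀ : ↥b ≃ ↥b' := Finset.equivOfCardEq ((hB.1 b hb).trans (hB.1 b' hb').symm)
  obtain ⟨e, _, he1, he2⟩ := strong_ext hα hα hB hB hb hb' hp hp' (bijOn_of_equiv σ₀ p')
  refine ⟨⟨e, mem_aut_iff.2 he2⟩, ?_⟩
  show b.image e = b'
  have hbij := bijOn_of_equiv σ₀ p'
  rw [← Finset.coe_inj, Finset.coe_image, ← hbij.image_eq]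
  apply Set.image_congr
  intro a ha
  exact he1 a ha

/-- The homomorphism from the automorphism group of the design onto the stabiliser of the extra
vertex. -/
noncomputable def stabHom (B : Set (Finset α)) :
    ↥(Cfsg.setSystemAut B) →* ↥(stabilizer (pointBlockGraph B ≃g pointBlockGraph B)
      (none : Option (α ⊕ ↥B))) :=
  MonoidHom.mk' (fun π => ⟨pbIso π.1 (mem_aut_iff.1 π.2), by
      rw [MulAction.mem_stabilizer_iff]
      rfl⟩) (by
    intro π π'
    apply Subtype.ext
    apply RelIso.ext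
    intro x
    rcases x with _ | (a | b)
    · rfl
    · rfl
    · show some (Sum.inr (blockEquiv (π * π').1 _ b)) =
        some (Sum.inr (blockEquiv π.1 _ (blockEquiv π'.1 _ b)))
      congr 2
      apply Subtype.ext
      show b.1.image (π.1 * π'.1) = (b.1.image π'.1).image π.1
      rw [image_image]
      rfl)

theorem stabHom_bijective (B : Set (Finset α)) : Function.Bijective (stabHom B) := by
  constructor
  · intro π π' h
    apply Subtype.ext
    ext a
    have h1 : pbIso π.1 (mem_aut_iff.1 π.2) = pbIso π'.1 (mem_aut_iff.1 π'.2) :=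
      congrArg Subtype.val h
    have h2 := congrArg (fun f : pointBlockGraph B ≃g pointBlockGraph B =>
      f (some (Sum.inl a))) h1
    exact Sum.inl_injective (Option.some_injective _ h2)
  · rintro ⟨g, hg⟩
    rw [MulAction.mem_stabilizer_iff] at hg
    obtain ⟨π, hπ, h⟩ := stab_surj (g := g) hg
    exact ⟨⟨π, mem_aut_iff.2 hπ⟩, Subtype.ext h⟩

theorem stab_normal (hα : Fintype.card α = 22) (hB : IsSteinerSystem 3 6 B)
    (K : Subgroup ↥(stabilizer (pointBlockGraph B ≃g pointBlockGraph B)
      (none : Option (α ⊕ ↥B)))) (hK : K.Normal) :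
    K = ⊥ ∨ Nat.card ↥(stabilizer (pointBlockGraph B ≃g pointBlockGraph B)
      (none : Option (α ⊕ ↥B))) ≤ 2 * Nat.card K := by
  let Φ := MulEquiv.ofBijective (stabHom B) (stabHom_bijective B)
  obtain ⟨M, hM2, hMs, _⟩ := exists_M22 hα hB
  haveI := hMs
  haveI : Finite ↥(Cfsg.setSystemAut B) := inferInstance
  haveI hKn : (K.map Φ.symm.toMonoidHom).Normal := hK.map _ Φ.symm.surjective
  rcases normal_large M hM2 (center_trivial hα hB) (K.map Φ.symm.toMonoidHom) with hb | hb
  · left
    exact (Subgroup.map_eq_bot_iff_of_injective K Φ.symm.injective).1 hb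
  · right
    rw [Subgroup.card_map_of_injective Φ.symm.injective, Nat.card_congr Φ.toEquiv] at hb
    exact hb

end aut

end Cfsg.Agent.Lib.Helper18.HS
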