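import Mathlib
import Cfsg.Prelude.Def_Sporadic_a
import Cfsg.Prelude.Def_Sporadic
import Cfsg.Agent.Lib.Helper18.HS7

/-!
If the point-block graph of an S(3,6,22) has an automorphism acting as an odd permutation of
the 100 vertices, then its automorphism group has a simple subgroup of order 44352000.
-/

set_option autoImplicit false

namespace Cfsg.Agent.Lib.Helper18.HS

open Cfsg Finset Cfsg.Agent.Lib.Helper18.S22Plane Cfsg.Agent.Lib.Helper18.Plane4 MulAction

variable {α : Type*} [Fintype α] [DecidableEq α] {B : Set (Finset α)}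

theorem hyp_aut (hα : Fintype.card α = 22) (hB : IsSteinerSystem 3 6 B) :
    RankThree.Hyp (pointBlockGraph B ≃g pointBlockGraph B) (Option (α ⊕ ↥B)) none
      (Set.range fun a : α => some (Sum.inl a)) (Set.range fun b : ↥B => some (Sum.inr b)) where
  hV := card_vertices hα hB
  hoP := by
    rintro ⟨a, ha⟩
    exact absurd ha (by simp)
  hoQ := by
    rintro ⟨a, ha⟩
    exact absurd ha (by simp)
  hPQ := by
    rintro _ ⟨a, rfl⟩ ⟨b, hb⟩
    exact absurd hb (by simp)
  hP := by
    rw [Set.ncard_range_of_injective, Nat.card_eq_fintype_card, hα]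
    intro a a' h
    exact Sum.inl_injective (Option.some_injective _ h)
  hQ := by
    rw [Set.ncard_range_of_injective, Nat.card_coe_set_eq,
      Cfsg.Agent.Lib.Helper21.ncard_blocks, Cfsg.Agent.Lib.Helper18.S22.card_blocks hα hB]
    intro a a' h
    exact Sum.inr_injective (Option.some_injective _ h)
  hcov := by
    intro v
    rcases v with _ | (a | b)
    · exact Or.inl rfl
    · exact Or.inr (Or.inl ⟨a, rfl⟩)
    · exact Or.inr (Or.inr ⟨b, rfl⟩)
  htr := by
    intro v
    obtain ⟨g, hg⟩ := exists_aut_to_none hα hB v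
    refine ⟨g.symm, ?_⟩
    show g.symm none = v
    rw [← hg, RelIso.symm_apply_apply]
  hPtr := by
    rintro _ ⟨a, rfl⟩ _ ⟨a', rfl⟩
    obtain ⟨π, hπ⟩ := exists_aut_point hα hB a a'
    refine ⟨pbIso π.1 (mem_aut_iff.1 π.2), rfl, ?_⟩
    show some (Sum.inl (π.1 a)) = some (Sum.inl a')
    rw [hπ]
  hQtr := by
    rintro _ ⟨b, rfl⟩ _ ⟨b', rfl⟩
    obtain ⟨π, hπ⟩ := exists_aut_block hα hB b.2 b'.2
    refine ⟨pbIso π.1 (mem_aut_iff.1 π.2), rfl, ?_⟩
    show some (Sum.inr (blockEquiv π.1 _ b)) = some (Sum.inr b')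
    congr 2
    exact Subtype.ext hπ
  hS := stab_normal hα hB
  hG := card_aut_graph hα hB

/-- Given an odd automorphism, the even automorphisms form a simple group of order 44352000. -/
theorem exists_HS_of_odd [Fintype ↥B] (hα : Fintype.card α = 22) (hB : IsSteinerSystem 3 6 B)
    (g : pointBlockGraph B ≃g pointBlockGraph B) (hg : Equiv.Perm.sign g.toEquiv = -1) :
    ∃ H : Subgroup (pointBlockGraph B ≃g pointBlockGraph B), Cfsg.IsHS H := by
  let signHom : (pointBlockGraph B ≃g pointBlockGraph B) →* ℤˣ :=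
    Equiv.Perm.sign.comp (MulAction.toPermHom (pointBlockGraph B ≃g pointBlockGraph B)
      (Option (α ⊕ ↥B)))
  have hsurj : Function.Surjective signHom := by
    intro u
    rcases Int.units_eq_one_or u with rfl | rfl
    · exact ⟨1, map_one _⟩
    · refine ⟨g, ?_⟩
      rw [← hg]
      show Equiv.Perm.sign (MulAction.toPerm g) = Equiv.Perm.sign g.toEquiv
      congr 1
  have hidx : signHom.ker.index = 2 := by
    rw [Subgroup.index_ker, MonoidHom.range_eq_top.2 hsurj, Subgroup.card_top,
      Nat.card_eq_fintype_card, Fintype.card_units_int]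
  have hyp := hyp_aut hα hB
  refine ⟨signHom.ker, RankThree.isSimpleGroup_of_index_two hyp _ hidx, ?_⟩
  have := Subgroup.card_mul_index signHom.ker
  rw [hidx, hyp.hG] at this
  omega

end Cfsg.Agent.Lib.Helper18.HS
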