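import Mathlib
import Cfsg.Prelude.Def_Sporadic_a
import Cfsg.Agent.Lib.Helper18.GolayS22
import Cfsg.Agent.Lib.Helper18.HS8
import Cfsg.Agent.Lib.Helper21.GolayPerm
import Cfsg.Agent.Lib.Helper21.GolayCount

/-!
An odd automorphism of the point-block graph of the S(3,6,22) derived from the octads: it is
induced by the map `x ↦ -1/x`, which interchanges the two base points.
-/

set_option autoImplicit false

namespace Cfsg.Agent.Lib.Helper18.HSOdd

open Cfsg Finset Cfsg.Agent.Lib.Helper21 Cfsg.Agent.Lib.Helper18.GolayS22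
open Cfsg.Agent.Lib.Helper18.HS Cfsg.Agent.Lib.Helper18.S22Plane Cfsg.Agent.Lib.Helper18.Plane4
open scoped Pointwise

/-- The packed table of `x ↦ -1/x`. -/
def tabT : ℕ := 1795248432537898728475572672376535

theorem tabT_inv : TabInv tabT tabT := by decide +kernel

/-- The involution `x ↦ -1/x`. -/
def tau : Equiv.Perm GolayPt := permOfTab tabT tabT tabT_inv

theorem tau_mem : tau ∈ M24 := permOfTab_mem _ _ _ (by decide +kernel)

theorem tau_ne : ∀ x : GolayPt, tau x ≠ x := by
  unfold tau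
  decide +kernel

theorem tau_tau (x : GolayPt) : tau (tau x) = x := tabMap_tabMap tabT_inv x

theorem P22_tau : ∀ x : GolayPt, P22 (tau x) ↔ P22 x := by
  unfold tau
  decide +kernel

theorem mem_up_of_P22 {b : Finset Pt22} {x : GolayPt} (hx : P22 x) :
    x ∈ up b ↔ (⟨x, hx⟩ : Pt22) ∈ b := by
  rw [mem_up]
  constructor
  · rintro (h | h | ⟨_, h⟩)
    · exact absurd h hx.1
    · exact absurd h hx.2
    · exact h
  · intro h
    exact Or.inr (Or.inr ⟨hx, h⟩)

theorem mem_up_of_not {b : Finset Pt22} {x : GolayPt} (hx : ¬ P22 x) : x ∈ up b := by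
  rw [mem_up]
  by_cases h1 : x = none
  · exact Or.inl h1
  by_cases h2 : x = some 0
  · exact Or.inr (Or.inl h2)
  exact absurd ⟨h1, h2⟩ hx

theorem up_injective : Function.Injective up := by
  intro b b' h
  rw [← down_up b, ← down_up b', h]

theorem up_image' {g : Equiv.Perm GolayPt} (hP : ∀ x, P22 (g x) ↔ P22 x) (b : Finset Pt22) :
    up (b.image (g.subtypePerm hP)) = g • up b := by
  ext x
  rw [← Finset.inv_smul_mem_iff]
  have hx' : P22 (g⁻¹ x) ↔ P22 x := by
    rw [← hP (g⁻¹ x)]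
    simp
  show x ∈ up (b.image (g.subtypePerm hP)) ↔ g⁻¹ x ∈ up b
  by_cases hx : P22 x
  · rw [mem_up_of_P22 hx, mem_up_of_P22 (hx'.2 hx), mem_image]
    constructor
    · rintro ⟨y, hy, hyx⟩
      have h1 : g y.1 = x := congrArg Subtype.val hyx
      have : y = ⟨g⁻¹ x, hx'.2 hx⟩ := by
        apply Subtype.ext
        show y.1 = g⁻¹ x
        rw [← h1]
        simp
      rwa [← this]
    · intro h
      refine ⟨_, h, Subtype.ext ?_⟩
      show g (g⁻¹ x) = x
      simp
  · exact iff_of_true (mem_up_of_not hx) (mem_up_of_not (fun h => hx (hx'.1 h)))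

/-- The induced involution of the 22 points. -/
def tau22 : Equiv.Perm Pt22 := tau.subtypePerm P22_tau

theorem tau22_apply (y : Pt22) : ((tau22 y : Pt22) : GolayPt) = tau y.1 := rfl

theorem tau22_sq : tau22 ^ 2 = 1 := by
  apply Equiv.ext
  intro y
  apply Subtype.ext
  rw [pow_two]
  show tau (tau y.1) = y.1
  exact tau_tau _

theorem tau22_maps {b : Finset Pt22} (hb : b ∈ D22) : b.image tau22 ∈ D22 := by
  show up (b.image tau22) ∈ octads
  rw [tau22, up_image']
  exact smul_mem_octads tau_mem hb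

theorem tau22_aut : (fun b : Finset Pt22 => b.image tau22) '' D22 = D22 :=
  mem_aut_iff.1 (mem_aut_of_maps (fun _ hb => tau22_maps hb))

/-! ### Counting the fixed blocks -/

/-- The mask predicate for a fixed octad through the two base points. -/
def Qfix (m : ℕ) : Prop :=
  popc 24 m = 8 ∧ m.testBit 23 = true ∧ m.testBit 0 = true ∧ gatherMask tabT m = m

instance : DecidablePred Qfix := by
  intro m
  unfold Qfix
  infer_instance

theorem qfix_iff (s : Finset GolayPt) :
    Qfix (fsMask s) ↔ s.card = 8 ∧ none ∈ s ∧ some 0 ∈ s ∧ tau • s = s := by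
  unfold Qfix
  have h1 := testBit_fsMask s none
  have h2 := testBit_fsMask s (some 0)
  have e1 : ((gEquiv none : Fin 24) : ℕ) = 23 := by decide
  have e2 : ((gEquiv (some 0) : Fin 24) : ℕ) = 0 := by decide
  rw [e1] at h1
  rw [e2] at h2
  rw [h1, h2, card_eq_popc, ← fsMask_smul tabT tabT tabT_inv s, fsMask_injective.eq_iff,
    decide_eq_true_eq, decide_eq_true_eq]
  rfl

theorem fixed_set_eq :
    {o : Finset GolayPt | o ∈ octads ∧ none ∈ o ∧ some 0 ∈ o ∧ tau • o = o} =
      support₂ '' {w : GolayPt → ZMod 2 | w ∈ golayCode ∧ Qfix (toMask w)} := by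
  ext o
  constructor
  · rintro ⟨ho, h1, h2, h3⟩
    obtain ⟨v, hv, rfl, hc⟩ := (mem_octads_iff o).1 ho
    refine ⟨v, ⟨hv, ?_⟩, rfl⟩
    rw [← fsMask_support₂]
    exact (qfix_iff _).2 ⟨hc, h1, h2, h3⟩
  · rintro ⟨v, ⟨hv, hq⟩, rfl⟩
    rw [← fsMask_support₂] at hq
    obtain ⟨hc, h1, h2, h3⟩ := (qfix_iff _).1 hq
    exact ⟨(mem_octads_iff _).2 ⟨v, hv, rfl, hc⟩, h1, h2, h3⟩

theorem count_fixed : ((Finset.range 4096).filter (fun c => Qfix (encMask c))).card = 5 := by
  decide +kernel

theorem ncard_fixed_octads :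
    {o : Finset GolayPt | o ∈ octads ∧ none ∈ o ∧ some 0 ∈ o ∧ tau • o = o}.ncard = 5 := by
  rw [fixed_set_eq, Set.ncard_image_of_injective _ support₂_injective, ncard_code_filter,
    count_fixed]

theorem ncard_fixed_blocks : {b : Finset Pt22 | b ∈ D22 ∧ b.image tau22 = b}.ncard = 5 := by
  rw [← ncard_fixed_octads, ← Set.ncard_image_of_injective _ up_injective]
  congr 1
  ext o
  constructor
  · rintro ⟨b, ⟨hb, hfix⟩, rfl⟩
    refine ⟨hb, mem_up.2 (Or.inl rfl), mem_up.2 (Or.inr (Or.inl rfl)), ?_⟩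
    rw [← up_image' P22_tau]
    exact congrArg up hfix
  · rintro ⟨ho, h1, h2, h3⟩
    refine ⟨o.subtype P22, ⟨?_, ?_⟩, up_down h1 h2⟩
    · show up (o.subtype P22) ∈ octads
      rw [up_down h1 h2]
      exact ho
    · apply up_injective
      rw [tau22, up_image' P22_tau, up_down h1 h2, h3]

end Cfsg.Agent.Lib.Helper18.HSOdd
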