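import Mathlib
import Cfsg.Prelude.Def_Sporadic_a
import Cfsg.Agent.Lib.Helper18.HS9

/-!
The sign of the automorphism of the point-block graph induced by `x ↦ -1/x`, and the existence
of an odd automorphism for an arbitrary S(3,6,22).
-/

set_option autoImplicit false

namespace Cfsg.Agent.Lib.Helper18.HSOdd

open Cfsg Finset Cfsg.Agent.Lib.Helper21 Cfsg.Agent.Lib.Helper18.GolayS22
open Cfsg.Agent.Lib.Helper18.HS Cfsg.Agent.Lib.Helper18.S22Plane Cfsg.Agent.Lib.Helper18.Plane4
open scoped Pointwise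

theorem sign_tau22 : Equiv.Perm.sign tau22 = -1 := by
  rw [Equiv.Perm.sign_of_pow_two_eq_one tau22_sq]
  have h0 : Fintype.card ↥(Function.fixedPoints tau22) = 0 := by
    rw [Fintype.card_eq_zero_iff]
    refine ⟨fun y => ?_⟩
    have h : tau22 y.1 = y.1 := y.2
    exact tau_ne y.1.1 (congrArg Subtype.val h)
  rw [h0, card_pt22]
  decide

section block

variable [Fintype ↥D22]

theorem card_D22 : Fintype.card ↥D22 = 77 := by
  rw [← Nat.card_eq_fintype_card, Nat.card_coe_set_eq, Cfsg.Agent.Lib.Helper21.ncard_blocks,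
    Cfsg.Agent.Lib.Helper18.S22.card_blocks card_pt22 steiner_D22]

theorem block_sq : (blockEquiv tau22 tau22_aut : Equiv.Perm ↥D22) ^ 2 = 1 := by
  apply Equiv.ext
  intro b
  apply Subtype.ext
  rw [pow_two]
  show (b.1.image tau22).image tau22 = b.1
  rw [image_image]
  have : (tau22 ∘ tau22 : Pt22 → Pt22) = id := by
    funext y
    have := congrArg (fun f : Equiv.Perm Pt22 => f y) tau22_sq
    rw [pow_two] at this
    exact this
  rw [this, image_id]

theorem ncard_fixed_blockEquiv :
    (Function.fixedPoints (blockEquiv tau22 tau22_aut : Equiv.Perm ↥D22)).ncard = 5 := by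
  rw [← ncard_fixed_blocks, ← Set.ncard_image_of_injective _ Subtype.val_injective]
  congr 1
  ext b
  constructor
  · rintro ⟨⟨b, hb⟩, hfix, rfl⟩
    exact ⟨hb, congrArg Subtype.val hfix⟩
  · rintro ⟨hb, hfix⟩
    exact ⟨⟨b, hb⟩, Subtype.ext hfix, rfl⟩

theorem sign_block : Equiv.Perm.sign (blockEquiv tau22 tau22_aut : Equiv.Perm ↥D22) = 1 := by
  rw [Equiv.Perm.sign_of_pow_two_eq_one block_sq,
    ← Nat.card_eq_fintype_card
      (α := ↥(Function.fixedPoints (blockEquiv tau22 tau22_aut : Equiv.Perm ↥D22))),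
    Nat.card_coe_set_eq, ncard_fixed_blockEquiv, card_D22]
  decide

theorem sign_g0 : Equiv.Perm.sign (pbIso tau22 tau22_aut).toEquiv = -1 := by
  show Equiv.Perm.sign (Equiv.optionCongr (Equiv.Perm.sumCongr tau22
    (blockEquiv tau22 tau22_aut))) = -1
  rw [Equiv.optionCongr_sign, Equiv.Perm.sign_sumCongr, sign_tau22, sign_block]
  decide

end block

theorem exists_odd {α : Type*} [Fintype α] [DecidableEq α] {B : Set (Finset α)} [Fintype ↥B]
    (hα : Fintype.card α = 22) (hB : IsSteinerSystem 3 6 B) :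
    ∃ g : pointBlockGraph B ≃g pointBlockGraph B, Equiv.Perm.sign g.toEquiv = -1 := by
  obtain ⟨e, he⟩ := unique_s22 card_pt22 hα steiner_D22 hB
  haveI : Fintype ↥D22 := Fintype.ofFinite _
  refine ⟨(pbIso e he).symm.trans ((pbIso tau22 tau22_aut).trans (pbIso e he)), ?_⟩
  have : ((pbIso e he).symm.trans ((pbIso tau22 tau22_aut).trans (pbIso e he))).toEquiv =
      (pbIso e he).toEquiv.permCongr (pbIso tau22 tau22_aut).toEquiv := by
    apply Equiv.ext
    intro x
    rfl
  rw [this, Equiv.Perm.sign_permCongr, sign_g0]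

end Cfsg.Agent.Lib.Helper18.HSOdd
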