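import Cfsg.Prelude.Def_TwoFusion
import Cfsg.Agent.Lib.Helper18.Dihedral

/-!
Isolated involutions (`Cfsg.IsIsolatedInvolution`): the product of `z` with any conjugate has odd
order, and an explicit power of that product conjugates `z` to the conjugate.
-/

set_option autoImplicit false

namespace Cfsg.Agent.Lib.Helper18

variable {G : Type*} [Group G]

theorem conj_mul_self {z : G} (hz : z * z = 1) (g : G) :
    (g * z * g⁻¹) * (g * z * g⁻¹) = 1 := by
  have : (g * z * g⁻¹) * (g * z * g⁻¹) = g * (z * z) * g⁻¹ := by group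
  rw [this, hz]; group

theorem isolated_mul_self {z : G} (hz : Cfsg.IsIsolatedInvolution z) : z * z = 1 :=
  mul_self_of_orderOf_two hz.1

/-- A conjugate of an isolated involution is an isolated involution. -/
theorem isolated_conj {z : G} (hz : Cfsg.IsIsolatedInvolution z) (g : G) :
    Cfsg.IsIsolatedInvolution (g * z * g⁻¹) := by
  refine ⟨?_, ?_⟩
  · have := MulEquiv.orderOf_eq (MulAut.conj g) z
    rw [MulAut.conj_apply] at this
    rw [this, hz.1]
  · intro a ha
    have h1 : Commute z ((g⁻¹ * a * g) * z * (g⁻¹ * a * g)⁻¹) := by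
      have h2 : (g⁻¹ * a * g) * z * (g⁻¹ * a * g)⁻¹ = g⁻¹ * (a * (g * z * g⁻¹) * a⁻¹) * g := by
        group
      have h3 : z = g⁻¹ * (g * z * g⁻¹) * g := by group
      rw [h2]
      have h4 : g⁻¹ * (g * z * g⁻¹) * g * (g⁻¹ * (a * (g * z * g⁻¹) * a⁻¹) * g)
          = g⁻¹ * (a * (g * z * g⁻¹) * a⁻¹) * g * (g⁻¹ * (g * z * g⁻¹) * g) := by
        have h5 := ha.eq
        calc g⁻¹ * (g * z * g⁻¹) * g * (g⁻¹ * (a * (g * z * g⁻¹) * a⁻¹) * g)
            = g⁻¹ * ((g * z * g⁻¹) * (a * (g * z * g⁻¹) * a⁻¹)) * g := by group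
          _ = g⁻¹ * ((a * (g * z * g⁻¹) * a⁻¹) * (g * z * g⁻¹)) * g := by rw [h5]
          _ = _ := by group
      show z * _ = _ * z
      calc z * (g⁻¹ * (a * (g * z * g⁻¹) * a⁻¹) * g)
          = g⁻¹ * (g * z * g⁻¹) * g * (g⁻¹ * (a * (g * z * g⁻¹) * a⁻¹) * g) := by rw [← h3]
        _ = g⁻¹ * (a * (g * z * g⁻¹) * a⁻¹) * g * (g⁻¹ * (g * z * g⁻¹) * g) := h4
        _ = (g⁻¹ * (a * (g * z * g⁻¹) * a⁻¹) * g) * z := by rw [← h3]
    have h6 := hz.2 _ h1
    calc a * (g * z * g⁻¹) * a⁻¹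
        = g * ((g⁻¹ * a * g) * z * (g⁻¹ * a * g)⁻¹) * g⁻¹ := by group
      _ = g * z * g⁻¹ := by rw [h6]

/-- For an isolated involution `z` of a finite group, `z * (g z g⁻¹)` has odd order. -/
theorem isolated_odd_order [Finite G] {z : G} (hz : Cfsg.IsIsolatedInvolution z) (g : G) :
    Odd (orderOf (z * (g * z * g⁻¹))) := by
  have hzz := isolated_mul_self hz
  have huu := conj_mul_self hzz g
  by_contra hodd
  rw [Nat.not_odd_iff_even] at hodd
  obtain ⟨m, hm⟩ := hodd
  have hm' : orderOf (z * (g * z * g⁻¹)) = 2 * m := by omega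
  have hpos : 0 < orderOf (z * (g * z * g⁻¹)) := orderOf_pos _
  have hm0 : 0 < m := by omega
  obtain ⟨hw2, hw1, hcz, hcu, hconj⟩ := central_involution hzz huu m hm' hm0
  have key : ∀ a : G, a * z * a⁻¹ = z * (z * (g * z * g⁻¹)) ^ m → False := by
    intro a ha
    have hc : Commute z (a * z * a⁻¹) := by
      rw [ha]
      exact (Commute.refl z).mul_right hcz
    have h1 := hz.2 a hc
    rw [ha] at h1
    exact hw1 (by simpa using h1)
  rcases hconj with ⟨a, ha⟩ | ⟨a, ha⟩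
  · exact key a ha
  · apply key (a * g)
    rw [← ha]; group

/-- For an isolated involution `z`, an explicit power of `z * u` conjugates `z` to `u = g z g⁻¹`. -/
theorem isolated_conj_pow [Finite G] {z : G} (hz : Cfsg.IsIsolatedInvolution z) (g : G) :
    ∃ k : ℕ, orderOf (z * (g * z * g⁻¹)) = 2 * k + 1 ∧
      (z * (g * z * g⁻¹)) ^ k * z * ((z * (g * z * g⁻¹)) ^ k)⁻¹ = g * z * g⁻¹ := by
  obtain ⟨k, hk⟩ := isolated_odd_order hz g
  refine ⟨k, hk, ?_⟩
  apply conj_of_odd_order (isolated_mul_self hz) (conj_mul_self (isolated_mul_self hz) g)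
  rw [← hk, pow_orderOf_eq_one]

/-- Two elements of odd order with the same square are equal. -/
theorem eq_of_sq_eq_of_odd {a b : G} (ha : Odd (orderOf a)) (hb : Odd (orderOf b))
    (h : a * a = b * b) : a = b := by
  obtain ⟨f, hf⟩ := ha.mul hb
  have h1 : a ^ (orderOf a * orderOf b) = 1 := by rw [pow_mul, pow_orderOf_eq_one, one_pow]
  have h2 : b ^ (orderOf a * orderOf b) = 1 := by
    rw [mul_comm, pow_mul, pow_orderOf_eq_one, one_pow]
  rw [hf] at h1 h2
  have h3 : a = (a * a) ^ (f + 1) := by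
    rw [← pow_two, ← pow_mul]
    have : 2 * (f + 1) = (2 * f + 1) + 1 := by ring
    rw [this, pow_succ, h1, one_mul]
  have h4 : b = (b * b) ^ (f + 1) := by
    rw [← pow_two, ← pow_mul]
    have : 2 * (f + 1) = (2 * f + 1) + 1 := by ring
    rw [this, pow_succ, h2, one_mul]
  rw [h3, h4, h]

/-- If `a` inverts `r` then any power of `a` centralizes or inverts `r`. -/
theorem pow_conj_of_inverts {a r : G} (h : a * r * a⁻¹ = r⁻¹) (k : ℕ) :
    a ^ k * r * (a ^ k)⁻¹ = r ∨ a ^ k * r * (a ^ k)⁻¹ = r⁻¹ := by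
  induction k with
  | zero => left; simp
  | succ k ih =>
    have h2 : a ^ (k + 1) * r * (a ^ (k + 1))⁻¹ = a * (a ^ k * r * (a ^ k)⁻¹) * a⁻¹ := by
      rw [pow_succ']; group
    rcases ih with ih | ih
    · right; rw [h2, ih, h]
    · left
      rw [h2, ih]
      have : a * r⁻¹ * a⁻¹ = (a * r * a⁻¹)⁻¹ := by group
      rw [this, h, inv_inv]

end Cfsg.Agent.Lib.Helper18
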