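import Mathlib
import Cfsg.Agent.Lib.Helper18.J2Data

/-! Kernel evaluation of the certificate checks for the Hall–Janko group. -/

namespace Cfsg.Agent.Lib.Helper18.J2
open Cfsg.Agent.Lib.Helper18.SS

theorem chk_powA : pow5OK 7 100 cA = true := by decide +kernel
theorem chk_powB : pow5OK 7 100 cB = true := by decide +kernel
theorem chk_id : idOK 7 100 idc = true := by decide +kernel
theorem chk_slp : slpOK 7 100 [cA, cB] slpD = true := by decide +kernel
theorem chk_strong :
    (cgens chainD).all (fun c => c == cA || c == cB || slpD.any (fun e => e.1 == c)) = true := by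
  decide +kernel
theorem chk_chain : chainOK 7 100 idc chainD = true := by decide +kernel
theorem chk_orb : slpOK 7 100 (cgens chainR ++ [idc])
    (orbD.map (fun e => (e.2.1, e.2.2.1, e.2.2.2))) = true := by decide +kernel
theorem chk_orbx : orbD.all (fun e => lk 7 100 e.2.1 c0 == e.1) = true := by decide +kernel
theorem chk_card : (chainD.map (fun l => l.U.length)).prod = 604800 := by decide +kernel

end Cfsg.Agent.Lib.Helper18.J2
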