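import Mathlib
import Cfsg.Agent.Lib.Helper18.J2Check

/-! The Hall–Janko group on 100 points: order and simplicity from the verified certificate. -/

namespace Cfsg.Agent.Lib.Helper18.J2
open Cfsg.Agent.Lib.Helper18.SS

abbrev P := Equiv.Perm (Fin 100)

noncomputable def pA : P := toPerm 7 100 cA
noncomputable def pB : P := toPerm 7 100 cB
noncomputable def G : Subgroup P := Subgroup.closure {pA, pB}

theorem vA : Valid 7 100 cA := (valid_pow5 chk_powA).1
theorem vB : Valid 7 100 cB := (valid_pow5 chk_powB).1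
theorem pA_pow : pA ^ 5 = 1 := (valid_pow5 chk_powA).2
theorem pB_pow : pB ^ 5 = 1 := (valid_pow5 chk_powB).2
theorem pA_mem : pA ∈ G := Subgroup.subset_closure (by simp)
theorem pB_mem : pB ∈ G := Subgroup.subset_closure (by simp)

theorem slp_mem : ∀ e ∈ slpD, Valid 7 100 e.1 ∧ toPerm 7 100 e.1 ∈ G :=
  slpOK_sound G slpD [cA, cB] (by
    intro c hc
    simp only [List.mem_cons, List.not_mem_nil, or_false] at hc
    rcases hc with rfl | rfl
    · exact ⟨vA, pA_mem⟩
    · exact ⟨vB, pB_mem⟩) chk_slp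

theorem gens_mem : ∀ c ∈ cgens chainD, Valid 7 100 c ∧ toPerm 7 100 c ∈ G := by
  intro c hc
  have h := chk_strong
  rw [List.all_eq_true] at h
  have h := h c hc
  simp only [Bool.or_eq_true, beq_iff_eq, List.any_eq_true] at h
  rcases h with (rfl | rfl) | ⟨e, he, rfl⟩
  · exact ⟨vA, pA_mem⟩
  · exact ⟨vB, pB_mem⟩
  · exact slp_mem e he

theorem good : Good (absC 7 100 chainD) :=
  chainOK_sound chk_id chainD (fun c hc => (gens_mem c hc).1) chk_chain

theorem goodR : Good (absC 7 100 chainR) := good.1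

theorem cA_mem : cA ∈ cgens chainD := by
  show cA ∈ [cA, cB] ++ cgens chainR
  simp

theorem cB_mem : cB ∈ cgens chainD := by
  show cB ∈ [cA, cB] ++ cgens chainR
  simp

theorem grp_eq : grp (absC 7 100 chainD) = G := by
  apply le_antisymm
  · rw [grp, Subgroup.closure_le]
    intro g hg
    have hg' : g ∈ gensOf (absC 7 100 chainD) := hg
    rw [gensOf_abs, List.mem_map] at hg'
    obtain ⟨c, hc, rfl⟩ := hg'
    exact (gens_mem c hc).2
  · rw [G, Subgroup.closure_le]
    intro g hg
    apply Subgroup.subset_closure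
    show g ∈ gensOf (absC 7 100 chainD)
    rw [gensOf_abs, List.mem_map]
    rcases hg with rfl | rfl
    · exact ⟨cA, cA_mem, rfl⟩
    · exact ⟨cB, cB_mem, rfl⟩

theorem abs_lengths (ch : List CLvl) :
    (absC 7 100 ch).map (fun l => l.U.length) = ch.map (fun l => l.U.length) := by
  simp [absC, absL, List.map_map, Function.comp_def]

theorem card_G : Nat.card G = 604800 := by
  rw [← grp_eq, card_grp good, abs_lengths, chk_card]

/-- the subgroup fixing the first base point -/
noncomputable def H : Subgroup P := grp (absC 7 100 chainR)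

theorem H_le : H ≤ G := by
  rw [← grp_eq]
  exact grp_mono _ _

def b1 : Fin 100 := Fin.ofNat 100 lvl1.b
def b2 : Fin 100 := Fin.ofNat 100 lvl2.b
def c0' : Fin 100 := Fin.ofNat 100 c0

theorem H_fix {h : P} (hh : h ∈ H) : h • b1 = b1 :=
  grp_fixes (l := absL 7 100 lvl1) (r := absC 7 100 chainR) good hh

theorem H_stab {g : P} (hg : g ∈ G) (hb : g • b1 = b1) : g ∈ H := by
  rw [← grp_eq] at hg
  exact stab_mem (l := absL 7 100 lvl1) (r := absC 7 100 chainR) good hg hb

theorem covers {α : Type*} [Fintype α] [DecidableEq α] (L : List α) (hnd : L.Nodup)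
    (hlen : L.length = Fintype.card α) : ∀ x, x ∈ L := by
  intro x
  have : L.toFinset = Finset.univ :=
    Finset.eq_univ_of_card _ (by rw [List.toFinset_card_of_nodup hnd, hlen])
  have hx : x ∈ L.toFinset := this ▸ Finset.mem_univ x
  exact List.mem_toFinset.mp hx

theorem len1 : lvl1.U.length = 100 := by decide +kernel

theorem G_trans : ∀ x : Fin 100, ∃ g ∈ G, g • b1 = x := by
  intro x
  have hnd := good.2.2.2.2.1
  have hx := covers _ hnd (by
    show (((absL 7 100 lvl1).U.map _).length = Fintype.card (Fin 100))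
    simp [absL, len1]) x
  rw [List.mem_map] at hx
  obtain ⟨u, hu, rfl⟩ := hx
  refine ⟨u, ?_, rfl⟩
  rw [← grp_eq]
  exact good.2.2.1 u hu

/-- points of the first suborbit -/
def L1 : List ℕ := lvl2.U.map (fun e => e.x)
/-- points of the second suborbit -/
def L2 : List ℕ := c0 :: orbD.map (fun e => e.1)

theorem chk_part : ∀ x : Fin 100, x.val = lvl1.b ∨ x.val ∈ L1 ∨ x.val ∈ L2 := by decide +kernel
theorem chk_c37 : (Finset.univ.filter (fun x : Fin 100 => x.val = lvl1.b ∨ x.val ∈ L1)).card = 37 := by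
  decide +kernel
theorem chk_c64 : (Finset.univ.filter (fun x : Fin 100 => x.val = lvl1.b ∨ x.val ∈ L2)).card = 64 := by
  decide +kernel
theorem chk_b2 : lvl2.b < 100 := by decide +kernel
theorem chk_c0 : c0 < 100 := by decide +kernel

theorem lvl2_img : lvl2.U.all (fun e => lk 7 100 e.cu lvl2.b == e.x) = true := by decide +kernel
theorem lvl2_inv : lvl2.U.all (fun e => invOK 7 100 e.cu e.cv) = true := by decide +kernel

theorem orb1 : ∀ x : Fin 100, x.val ∈ L1 → ∃ h ∈ H, h • b2 = x := by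
  intro x hx
  rw [L1, List.mem_map] at hx
  obtain ⟨e, he, hex⟩ := hx
  have hmem : toPerm 7 100 e.cu ∈ H :=
    goodR.2.2.1 (toPerm 7 100 e.cu) (List.mem_map.mpr ⟨e, he, rfl⟩)
  refine ⟨_, hmem, ?_⟩
  apply Fin.ext
  have h1 := lvl2_img
  have h2 := lvl2_inv
  rw [List.all_eq_true] at h1 h2
  have h1 := h1 e he
  simp only [beq_iff_eq] at h1
  show ((toPerm 7 100 e.cu • (Fin.ofNat 100 lvl2.b : Fin 100) : Fin 100) : ℕ) = x.val
  rw [smul_ofNat (valid_inv (h2 e he)).1 chk_b2, h1, hex]

theorem orb_mem : ∀ e ∈ orbD.map (fun e => (e.2.1, e.2.2.1, e.2.2.2)),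
    Valid 7 100 e.1 ∧ toPerm 7 100 e.1 ∈ H := by
  refine slpOK_sound H _ (cgens chainR ++ [idc]) ?_ chk_orb
  intro c hc
  rw [List.mem_append, List.mem_singleton] at hc
  rcases hc with hc | rfl
  · refine ⟨(gens_mem c ?_).1, Subgroup.subset_closure ?_⟩
    · show c ∈ lvl1.S ++ cgens chainR
      exact List.mem_append_right _ hc
    · show toPerm 7 100 c ∈ gensOf (absC 7 100 chainR)
      rw [gensOf_abs]
      exact List.mem_map.mpr ⟨c, hc, rfl⟩
  · have := valid_id chk_id
    exact ⟨this.1, this.2 ▸ one_mem _⟩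

theorem orb2 : ∀ x : Fin 100, x.val ∈ L2 → ∃ h ∈ H, h • c0' = x := by
  intro x hx
  rw [L2, List.mem_cons] at hx
  rcases hx with hx | hx
  · refine ⟨1, one_mem _, ?_⟩
    rw [one_smul]
    apply Fin.ext
    rw [hx]
    exact Nat.mod_eq_of_lt chk_c0
  · rw [List.mem_map] at hx
    obtain ⟨e, he, hex⟩ := hx
    have hm := orb_mem (e.2.1, e.2.2.1, e.2.2.2) (List.mem_map.mpr ⟨e, he, rfl⟩)
    refine ⟨_, hm.2, ?_⟩
    apply Fin.ext
    have h1 := chk_orbx
    rw [List.all_eq_true] at h1
    have h1 := h1 e he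
    simp only [beq_iff_eq] at h1
    show ((toPerm 7 100 e.2.1 • (Fin.ofNat 100 c0 : Fin 100) : Fin 100) : ℕ) = x.val
    rw [smul_ofNat hm.1 chk_c0, h1, hex]

end Cfsg.Agent.Lib.Helper18.J2
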