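import Mathlib
import Cfsg.Agent.Lib.Helper18.J2Main

/-! Simplicity of the Hall–Janko group on 100 points. -/

namespace Cfsg.Agent.Lib.Helper18.J2
open Cfsg.Agent.Lib.Helper18.SS
open scoped Pointwise

instance G_pretrans : MulAction.IsPretransitive G (Fin 100) := by
  constructor
  intro x y
  obtain ⟨gx, hgx, hx⟩ := G_trans x
  obtain ⟨gy, hgy, hy⟩ := G_trans y
  refine ⟨⟨gy * gx⁻¹, mul_mem hgy (inv_mem hgx)⟩, ?_⟩
  show (gy * gx⁻¹) • x = y
  rw [← hx, ← hy, smul_smul, inv_mul_cancel_right]

/-- the key lemma: a nontrivial normal subgroup is transitive -/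
theorem normal_trans (N : Subgroup G) [hN : N.Normal] (hne : N ≠ ⊥) :
    MulAction.orbit N b1 = Set.univ := by
  classical
  set O : Set (Fin 100) := MulAction.orbit N b1 with hO
  have hblock : MulAction.IsBlock G O := MulAction.IsBlock.orbit_of_normal b1
  have hb1 : b1 ∈ O := MulAction.mem_orbit_self b1
  have hdvd : O.ncard ∣ 100 := by
    have := hblock.ncard_dvd_card ⟨b1, hb1⟩
    simpa using this
  have hstab := hblock.stabilizer_le hb1
  -- invariance under H
  have hinv : ∀ h ∈ H, ∀ x ∈ O, h • x ∈ O := by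
    intro h hh x hx
    have hG : h ∈ G := H_le hh
    have h1 : (⟨h, hG⟩ : G) ∈ MulAction.stabilizer G b1 := by
      rw [MulAction.mem_stabilizer_iff]
      exact H_fix hh
    have h2 := hstab h1
    rw [MulAction.mem_stabilizer_iff] at h2
    have : (⟨h, hG⟩ : G) • x ∈ (⟨h, hG⟩ : G) • O := Set.smul_mem_smul_set hx
    rw [h2] at this
    exact this
  -- a point other than b1 in O
  have hex : ∃ y ∈ O, y ≠ b1 := by
    by_contra hcon
    push Not at hcon
    apply hne
    rw [Subgroup.eq_bot_iff_forall]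
    intro n hn
    have hfix : ∀ m ∈ N, m • b1 = b1 := by
      intro m hm
      exact hcon _ ⟨⟨m, hm⟩, rfl⟩
    apply Subtype.ext
    apply Equiv.ext
    intro x
    obtain ⟨g, hg, rfl⟩ := G_trans x
    have hc : (⟨g, hg⟩ : G)⁻¹ * n * ⟨g, hg⟩ ∈ N := by
      have := hN.conj_mem n hn (⟨g, hg⟩ : G)⁻¹
      simpa using this
    have := hfix _ hc
    have h3 : (g⁻¹ * n.1 * g) • b1 = b1 := this
    show n.1 • (g • b1) = g • b1
    rw [mul_smul, mul_smul, inv_smul_eq_iff] at h3
    exact h3
  obtain ⟨y, hyO, hyne⟩ := hex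
  -- the two suborbits
  have hL1 : (∃ x ∈ O, x.val ∈ L1) → ∀ x : Fin 100, x.val ∈ L1 → x ∈ O := by
    rintro ⟨x0, hx0, hx0L⟩ x hx
    obtain ⟨h0, hh0, e0⟩ := orb1 x0 hx0L
    obtain ⟨h, hh, e⟩ := orb1 x hx
    have hb2 : b2 ∈ O := by
      have := hinv h0⁻¹ (inv_mem hh0) x0 hx0
      rw [← e0, inv_smul_smul] at this
      exact this
    rw [← e]
    exact hinv h hh b2 hb2
  have hL2 : (∃ x ∈ O, x.val ∈ L2) → ∀ x : Fin 100, x.val ∈ L2 → x ∈ O := by
    rintro ⟨x0, hx0, hx0L⟩ x hx
    obtain ⟨h0, hh0, e0⟩ := orb2 x0 hx0L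
    obtain ⟨h, hh, e⟩ := orb2 x hx
    have hb2 : c0' ∈ O := by
      have := hinv h0⁻¹ (inv_mem hh0) x0 hx0
      rw [← e0, inv_smul_smul] at this
      exact this
    rw [← e]
    exact hinv h hh c0' hb2
  have hb1v : ∀ x : Fin 100, x.val = lvl1.b → x = b1 := by
    intro x hx
    apply Fin.ext
    rw [hx]
    decide +kernel
  by_cases c1 : ∃ x ∈ O, x.val ∈ L1
  · by_cases c2 : ∃ x ∈ O, x.val ∈ L2
    · -- everything
      apply Set.eq_univ_of_forall
      intro x
      rcases chk_part x with h | h | h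
      · rw [hb1v x h]; exact hb1
      · exact hL1 c1 x h
      · exact hL2 c2 x h
    · exfalso
      have hOeq : O = ↑(Finset.univ.filter (fun x : Fin 100 => x.val = lvl1.b ∨ x.val ∈ L1)) := by
        ext x
        simp only [Finset.coe_filter, Finset.mem_univ, true_and, Set.mem_ofPred_eq]
        constructor
        · intro hx
          rcases chk_part x with h | h | h
          · exact Or.inl h
          · exact Or.inr h
          · exact absurd ⟨x, hx, h⟩ c2
        · rintro (h | h)
          · rw [hb1v x h]; exact hb1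
          · exact hL1 c1 x h
      rw [hOeq, Set.ncard_coe_finset, chk_c37] at hdvd
      omega
  · by_cases c2 : ∃ x ∈ O, x.val ∈ L2
    · exfalso
      have hOeq : O = ↑(Finset.univ.filter (fun x : Fin 100 => x.val = lvl1.b ∨ x.val ∈ L2)) := by
        ext x
        simp only [Finset.coe_filter, Finset.mem_univ, true_and, Set.mem_ofPred_eq]
        constructor
        · intro hx
          rcases chk_part x with h | h | h
          · exact Or.inl h
          · exact absurd ⟨x, hx, h⟩ c1
          · exact Or.inr h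
        · rintro (h | h)
          · rw [hb1v x h]; exact hb1
          · exact hL2 c2 x h
      rw [hOeq, Set.ncard_coe_finset, chk_c64] at hdvd
      omega
    · exfalso
      rcases chk_part y with h | h | h
      · exact hyne (hb1v y h)
      · exact c1 ⟨y, hyO, h⟩
      · exact c2 ⟨y, hyO, h⟩

theorem mem_of_pow5 (N : Subgroup G) [hN : N.Normal] (hne : N ≠ ⊥) (a : G) (ha : a ^ 5 = 1) :
    a ∈ N := by
  have horb := normal_trans N hne
  -- 100 divides |N|
  have h100 : 100 ∣ Nat.card N := by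
    have h1 : (MulAction.stabilizer N b1).index = (MulAction.orbit N b1).ncard :=
      MulAction.index_stabilizer N b1
    rw [horb, Set.ncard_univ, Nat.card_fin] at h1
    have h2 := Subgroup.index_dvd_card (MulAction.stabilizer N b1)
    rw [h1] at h2
    exact h2
  have hcard : Nat.card (G ⧸ N) * Nat.card N = 604800 := by
    rw [← card_G]
    exact (Subgroup.card_eq_card_quotient_mul_card_subgroup N).symm
  have hcop : Nat.Coprime (Nat.card (G ⧸ N)) 5 := by
    obtain ⟨m, hm⟩ := h100
    rw [hm] at hcard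
    have h6048 : Nat.card (G ⧸ N) * m = 6048 := by
      have : Nat.card (G ⧸ N) * m * 100 = 6048 * 100 := by
        calc Nat.card (G ⧸ N) * m * 100 = Nat.card (G ⧸ N) * (100 * m) := by ring
          _ = 604800 := hcard
          _ = 6048 * 100 := by norm_num
      exact Nat.eq_of_mul_eq_mul_right (by norm_num) this
    have hd : Nat.card (G ⧸ N) ∣ 6048 := Dvd.intro _ h6048
    exact Nat.Coprime.coprime_dvd_left hd (by norm_num)
  have hq : (QuotientGroup.mk a : G ⧸ N) ^ 5 = 1 := by
    rw [← QuotientGroup.mk_pow, ha]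
    rfl
  have hq2 : (QuotientGroup.mk a : G ⧸ N) ^ Nat.card (G ⧸ N) = 1 := pow_card_eq_one'
  have ho1 := orderOf_dvd_of_pow_eq_one hq
  have ho2 := orderOf_dvd_of_pow_eq_one hq2
  have : orderOf (QuotientGroup.mk a : G ⧸ N) ∣ 1 := by
    have := Nat.dvd_gcd ho2 ho1
    rwa [hcop] at this
  have h1 : (QuotientGroup.mk a : G ⧸ N) = 1 := by
    rw [← orderOf_eq_one_iff]
    exact Nat.dvd_one.mp this
  exact (QuotientGroup.eq_one_iff a).mp h1

theorem G_simple : IsSimpleGroup G := by
  have : Nontrivial G := by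
    rw [← Finite.one_lt_card_iff_nontrivial, card_G]
    norm_num
  refine ⟨?_⟩
  intro N hN
  by_cases hne : N = ⊥
  · exact Or.inl hne
  · right
    have hA : (⟨pA, pA_mem⟩ : G) ∈ N := mem_of_pow5 N hne _ (by
      apply Subtype.ext
      show pA ^ 5 = 1
      exact pA_pow)
    have hB : (⟨pB, pB_mem⟩ : G) ∈ N := mem_of_pow5 N hne _ (by
      apply Subtype.ext
      show pB ^ 5 = 1
      exact pB_pow)
    rw [Subgroup.eq_top_iff']
    rintro ⟨g, hg⟩
    have hg' : g ∈ Subgroup.closure {pA, pB} := hg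
    induction hg' using Subgroup.closure_induction with
    | mem x hx =>
      rcases hx with rfl | rfl
      · exact hA
      · exact hB
    | one => exact one_mem N
    | mul x y hx hy ihx ihy =>
      have : (⟨x * y, hg⟩ : G) = ⟨x, hx⟩ * ⟨y, hy⟩ := rfl
      rw [this]
      exact mul_mem (ihx hx) (ihy hy)
    | inv x hx ih =>
      have : (⟨x⁻¹, hg⟩ : G) = (⟨x, hx⟩ : G)⁻¹ := rfl
      rw [this]
      exact inv_mem (ih hx)

end Cfsg.Agent.Lib.Helper18.J2
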