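import Mathlib
import Cfsg.Agent.Lib.Helper18.J3Data1
import Cfsg.Agent.Lib.Helper18.J3Data3

/-! Kernel checks for the J3 certificate: generator B preserves the graph. -/

set_option Elab.async false

namespace Cfsg.Agent.Lib.Helper18.J3
open Cfsg.Agent.Lib.Helper18.SS

theorem autB_0 : loopAll 513 (fun t => rowQS nbT 85 13 13 6156 cB (Nat.add 0 t)) = true := by
  decide +kernel
theorem autB_1 : loopAll 513 (fun t => rowQS nbT 85 13 13 6156 cB (Nat.add 513 t)) = true := by
  decide +kernel
theorem autB_2 : loopAll 513 (fun t => rowQS nbT 85 13 13 6156 cB (Nat.add 1026 t)) = true := by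
  decide +kernel
theorem autB_3 : loopAll 513 (fun t => rowQS nbT 85 13 13 6156 cB (Nat.add 1539 t)) = true := by
  decide +kernel
theorem autB_4 : loopAll 513 (fun t => rowQS nbT 85 13 13 6156 cB (Nat.add 2052 t)) = true := by
  decide +kernel
theorem autB_5 : loopAll 513 (fun t => rowQS nbT 85 13 13 6156 cB (Nat.add 2565 t)) = true := by
  decide +kernel
theorem autB_6 : loopAll 513 (fun t => rowQS nbT 85 13 13 6156 cB (Nat.add 3078 t)) = true := by
  decide +kernel
theorem autB_7 : loopAll 513 (fun t => rowQS nbT 85 13 13 6156 cB (Nat.add 3591 t)) = true := by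
  decide +kernel
theorem autB_8 : loopAll 513 (fun t => rowQS nbT 85 13 13 6156 cB (Nat.add 4104 t)) = true := by
  decide +kernel
theorem autB_9 : loopAll 513 (fun t => rowQS nbT 85 13 13 6156 cB (Nat.add 4617 t)) = true := by
  decide +kernel
theorem autB_10 : loopAll 513 (fun t => rowQS nbT 85 13 13 6156 cB (Nat.add 5130 t)) = true := by
  decide +kernel
theorem autB_11 : loopAll 513 (fun t => rowQS nbT 85 13 13 6156 cB (Nat.add 5643 t)) = true := by
  decide +kernel

end Cfsg.Agent.Lib.Helper18.J3
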