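import Mathlib
import Cfsg.Agent.Lib.Helper18.J3AutA
import Cfsg.Agent.Lib.Helper18.J3AutB

/-! The generators of J3 preserve the graph (assembly of the pieces). -/

namespace Cfsg.Agent.Lib.Helper18.J3
open Cfsg.Agent.Lib.Helper18.SS

theorem chk_autA : autOKS nbT 85 13 13 6156 cA = true := by
  rw [autOKS, loopAll_iff]
  intro v hv
  rcases Nat.lt_or_ge v 513 with h0 | h0
  · exact range_piece autA_0 v (by omega) (by omega)
  rcases Nat.lt_or_ge v 1026 with h1 | h1
  · exact range_piece autA_1 v (by omega) (by omega)
  rcases Nat.lt_or_ge v 1539 with h2 | h2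
  · exact range_piece autA_2 v (by omega) (by omega)
  rcases Nat.lt_or_ge v 2052 with h3 | h3
  · exact range_piece autA_3 v (by omega) (by omega)
  rcases Nat.lt_or_ge v 2565 with h4 | h4
  · exact range_piece autA_4 v (by omega) (by omega)
  rcases Nat.lt_or_ge v 3078 with h5 | h5
  · exact range_piece autA_5 v (by omega) (by omega)
  rcases Nat.lt_or_ge v 3591 with h6 | h6
  · exact range_piece autA_6 v (by omega) (by omega)
  rcases Nat.lt_or_ge v 4104 with h7 | h7
  · exact range_piece autA_7 v (by omega) (by omega)
  rcases Nat.lt_or_ge v 4617 with h8 | h8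
  · exact range_piece autA_8 v (by omega) (by omega)
  rcases Nat.lt_or_ge v 5130 with h9 | h9
  · exact range_piece autA_9 v (by omega) (by omega)
  rcases Nat.lt_or_ge v 5643 with h10 | h10
  · exact range_piece autA_10 v (by omega) (by omega)
  exact range_piece autA_11 v (by omega) (by omega)

theorem chk_autB : autOKS nbT 85 13 13 6156 cB = true := by
  rw [autOKS, loopAll_iff]
  intro v hv
  rcases Nat.lt_or_ge v 513 with h0 | h0
  · exact range_piece autB_0 v (by omega) (by omega)
  rcases Nat.lt_or_ge v 1026 with h1 | h1
  · exact range_piece autB_1 v (by omega) (by omega)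
  rcases Nat.lt_or_ge v 1539 with h2 | h2
  · exact range_piece autB_2 v (by omega) (by omega)
  rcases Nat.lt_or_ge v 2052 with h3 | h3
  · exact range_piece autB_3 v (by omega) (by omega)
  rcases Nat.lt_or_ge v 2565 with h4 | h4
  · exact range_piece autB_4 v (by omega) (by omega)
  rcases Nat.lt_or_ge v 3078 with h5 | h5
  · exact range_piece autB_5 v (by omega) (by omega)
  rcases Nat.lt_or_ge v 3591 with h6 | h6
  · exact range_piece autB_6 v (by omega) (by omega)
  rcases Nat.lt_or_ge v 4104 with h7 | h7
  · exact range_piece autB_7 v (by omega) (by omega)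
  rcases Nat.lt_or_ge v 4617 with h8 | h8
  · exact range_piece autB_8 v (by omega) (by omega)
  rcases Nat.lt_or_ge v 5130 with h9 | h9
  · exact range_piece autB_9 v (by omega) (by omega)
  rcases Nat.lt_or_ge v 5643 with h10 | h10
  · exact range_piece autB_10 v (by omega) (by omega)
  exact range_piece autB_11 v (by omega) (by omega)


end Cfsg.Agent.Lib.Helper18.J3
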