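import Mathlib
import Cfsg.Agent.Lib.Helper18.J3Data1

/-! Certificate data for J3: the block test. -/

namespace Cfsg.Agent.Lib.Helper18.J3
open Cfsg.Agent.Lib.Helper18.SS

/-- membership of the label of a point in the set of labels coded by `s` -/
def labq (s k : ℕ) : Bool := s.testBit (fld 4 labT k)
/-- the block test for the set of labels coded by `s` -/
def blkQ (s : ℕ) : Bool :=
  !(s.testBit 0) || !(Nat.beq (Nat.mod 6156 ((List.range 6156).filter (labq s)).length) 0) ||
    Nat.beq s 1 || Nat.beq s 255

end Cfsg.Agent.Lib.Helper18.J3
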