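import Mathlib
import Cfsg.Agent.Lib.Helper18.J3Data4

/-! Kernel checks for the J3 certificate: no proper union of suborbits is a block, part 1. -/

set_option Elab.async false

namespace Cfsg.Agent.Lib.Helper18.J3
open Cfsg.Agent.Lib.Helper18.SS

theorem blk_0 : loopAll 16 (fun t => blkQ (Nat.add 0 t)) = true := by
  decide +kernel
theorem blk_1 : loopAll 16 (fun t => blkQ (Nat.add 16 t)) = true := by
  decide +kernel
theorem blk_2 : loopAll 16 (fun t => blkQ (Nat.add 32 t)) = true := by
  decide +kernel
theorem blk_3 : loopAll 16 (fun t => blkQ (Nat.add 48 t)) = true := by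
  decide +kernel
theorem blk_4 : loopAll 16 (fun t => blkQ (Nat.add 64 t)) = true := by
  decide +kernel
theorem blk_5 : loopAll 16 (fun t => blkQ (Nat.add 80 t)) = true := by
  decide +kernel
theorem blk_6 : loopAll 16 (fun t => blkQ (Nat.add 96 t)) = true := by
  decide +kernel
theorem blk_7 : loopAll 16 (fun t => blkQ (Nat.add 112 t)) = true := by
  decide +kernel

end Cfsg.Agent.Lib.Helper18.J3
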