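import Mathlib
import Cfsg.Agent.Lib.Helper18.J3Data4

/-! Kernel checks for the J3 certificate: no proper union of suborbits is a block, part 2. -/

set_option Elab.async false

namespace Cfsg.Agent.Lib.Helper18.J3
open Cfsg.Agent.Lib.Helper18.SS

theorem blk_8 : loopAll 16 (fun t => blkQ (Nat.add 128 t)) = true := by
  decide +kernel
theorem blk_9 : loopAll 16 (fun t => blkQ (Nat.add 144 t)) = true := by
  decide +kernel
theorem blk_10 : loopAll 16 (fun t => blkQ (Nat.add 160 t)) = true := by
  decide +kernel
theorem blk_11 : loopAll 16 (fun t => blkQ (Nat.add 176 t)) = true := by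
  decide +kernel
theorem blk_12 : loopAll 16 (fun t => blkQ (Nat.add 192 t)) = true := by
  decide +kernel
theorem blk_13 : loopAll 16 (fun t => blkQ (Nat.add 208 t)) = true := by
  decide +kernel
theorem blk_14 : loopAll 16 (fun t => blkQ (Nat.add 224 t)) = true := by
  decide +kernel
theorem blk_15 : loopAll 16 (fun t => blkQ (Nat.add 240 t)) = true := by
  decide +kernel

end Cfsg.Agent.Lib.Helper18.J3
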