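import Mathlib
import Cfsg.Agent.Lib.Helper18.J3Blk1
import Cfsg.Agent.Lib.Helper18.J3Blk2

/-! No proper union of suborbits of J3 on 6156 points is a block (assembly of the pieces). -/

namespace Cfsg.Agent.Lib.Helper18.J3
open Cfsg.Agent.Lib.Helper18.SS

theorem chk_blkQ : ∀ s, s < 256 → blkQ s = true := by
  intro s hs
  rcases Nat.lt_or_ge s 16 with h0 | h0
  · exact range_piece blk_0 s (by omega) (by omega)
  rcases Nat.lt_or_ge s 32 with h1 | h1
  · exact range_piece blk_1 s (by omega) (by omega)
  rcases Nat.lt_or_ge s 48 with h2 | h2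
  · exact range_piece blk_2 s (by omega) (by omega)
  rcases Nat.lt_or_ge s 64 with h3 | h3
  · exact range_piece blk_3 s (by omega) (by omega)
  rcases Nat.lt_or_ge s 80 with h4 | h4
  · exact range_piece blk_4 s (by omega) (by omega)
  rcases Nat.lt_or_ge s 96 with h5 | h5
  · exact range_piece blk_5 s (by omega) (by omega)
  rcases Nat.lt_or_ge s 112 with h6 | h6
  · exact range_piece blk_6 s (by omega) (by omega)
  rcases Nat.lt_or_ge s 128 with h7 | h7
  · exact range_piece blk_7 s (by omega) (by omega)
  rcases Nat.lt_or_ge s 144 with h8 | h8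
  · exact range_piece blk_8 s (by omega) (by omega)
  rcases Nat.lt_or_ge s 160 with h9 | h9
  · exact range_piece blk_9 s (by omega) (by omega)
  rcases Nat.lt_or_ge s 176 with h10 | h10
  · exact range_piece blk_10 s (by omega) (by omega)
  rcases Nat.lt_or_ge s 192 with h11 | h11
  · exact range_piece blk_11 s (by omega) (by omega)
  rcases Nat.lt_or_ge s 208 with h12 | h12
  · exact range_piece blk_12 s (by omega) (by omega)
  rcases Nat.lt_or_ge s 224 with h13 | h13
  · exact range_piece blk_13 s (by omega) (by omega)
  rcases Nat.lt_or_ge s 240 with h14 | h14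
  · exact range_piece blk_14 s (by omega) (by omega)
  exact range_piece blk_15 s (by omega) (by omega)

end Cfsg.Agent.Lib.Helper18.J3
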