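import Mathlib
import Cfsg.Agent.Lib.Helper18.J3Data1

/-! Kernel checks for the J3 certificate: Schreier closure at level 1, generator 4. -/

set_option Elab.async false

namespace Cfsg.Agent.Lib.Helper18.J3
open Cfsg.Agent.Lib.Helper18.SS

theorem s1_sg2_2_0 : loopAll 513 (fun t => schQ 13 6156 lvl1 chainR sg2_2 (Nat.add 0 t)) = true := by
  decide +kernel
theorem s1_sg2_2_1 : loopAll 513 (fun t => schQ 13 6156 lvl1 chainR sg2_2 (Nat.add 513 t)) = true := by
  decide +kernel
theorem s1_sg2_2_2 : loopAll 513 (fun t => schQ 13 6156 lvl1 chainR sg2_2 (Nat.add 1026 t)) = true := by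
  decide +kernel
theorem s1_sg2_2_3 : loopAll 513 (fun t => schQ 13 6156 lvl1 chainR sg2_2 (Nat.add 1539 t)) = true := by
  decide +kernel
theorem s1_sg2_2_4 : loopAll 513 (fun t => schQ 13 6156 lvl1 chainR sg2_2 (Nat.add 2052 t)) = true := by
  decide +kernel
theorem s1_sg2_2_5 : loopAll 513 (fun t => schQ 13 6156 lvl1 chainR sg2_2 (Nat.add 2565 t)) = true := by
  decide +kernel
theorem s1_sg2_2_6 : loopAll 513 (fun t => schQ 13 6156 lvl1 chainR sg2_2 (Nat.add 3078 t)) = true := by
  decide +kernel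
theorem s1_sg2_2_7 : loopAll 513 (fun t => schQ 13 6156 lvl1 chainR sg2_2 (Nat.add 3591 t)) = true := by
  decide +kernel
theorem s1_sg2_2_8 : loopAll 513 (fun t => schQ 13 6156 lvl1 chainR sg2_2 (Nat.add 4104 t)) = true := by
  decide +kernel
theorem s1_sg2_2_9 : loopAll 513 (fun t => schQ 13 6156 lvl1 chainR sg2_2 (Nat.add 4617 t)) = true := by
  decide +kernel
theorem s1_sg2_2_10 : loopAll 513 (fun t => schQ 13 6156 lvl1 chainR sg2_2 (Nat.add 5130 t)) = true := by
  decide +kernel
theorem s1_sg2_2_11 : loopAll 513 (fun t => schQ 13 6156 lvl1 chainR sg2_2 (Nat.add 5643 t)) = true := by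
  decide +kernel

end Cfsg.Agent.Lib.Helper18.J3
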