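import Mathlib
import Cfsg.Agent.Lib.Helper18.J3Sch1_1
import Cfsg.Agent.Lib.Helper18.J3Sch1_2
import Cfsg.Agent.Lib.Helper18.J3Sch1_3
import Cfsg.Agent.Lib.Helper18.J3Sch1_4
import Cfsg.Agent.Lib.Helper18.J3Sch1_5
import Cfsg.Agent.Lib.Helper18.J3Sch1_6
import Cfsg.Agent.Lib.Helper18.J3Sch1_7
import Cfsg.Agent.Lib.Helper18.J3Sch2

/-! The stabiliser chain check for J3 (assembly of the pieces). -/

namespace Cfsg.Agent.Lib.Helper18.J3
open Cfsg.Agent.Lib.Helper18.SS

theorem sch1_cA : loopAll 6156 (schQ 13 6156 lvl1 chainR cA) = true := by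
  rw [loopAll_iff]
  intro y hy
  rcases Nat.lt_or_ge y 513 with h0 | h0
  · exact range_piece s1_cA_0 y (by omega) (by omega)
  rcases Nat.lt_or_ge y 1026 with h1 | h1
  · exact range_piece s1_cA_1 y (by omega) (by omega)
  rcases Nat.lt_or_ge y 1539 with h2 | h2
  · exact range_piece s1_cA_2 y (by omega) (by omega)
  rcases Nat.lt_or_ge y 2052 with h3 | h3
  · exact range_piece s1_cA_3 y (by omega) (by omega)
  rcases Nat.lt_or_ge y 2565 with h4 | h4
  · exact range_piece s1_cA_4 y (by omega) (by omega)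
  rcases Nat.lt_or_ge y 3078 with h5 | h5
  · exact range_piece s1_cA_5 y (by omega) (by omega)
  rcases Nat.lt_or_ge y 3591 with h6 | h6
  · exact range_piece s1_cA_6 y (by omega) (by omega)
  rcases Nat.lt_or_ge y 4104 with h7 | h7
  · exact range_piece s1_cA_7 y (by omega) (by omega)
  rcases Nat.lt_or_ge y 4617 with h8 | h8
  · exact range_piece s1_cA_8 y (by omega) (by omega)
  rcases Nat.lt_or_ge y 5130 with h9 | h9
  · exact range_piece s1_cA_9 y (by omega) (by omega)
  rcases Nat.lt_or_ge y 5643 with h10 | h10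
  · exact range_piece s1_cA_10 y (by omega) (by omega)
  exact range_piece s1_cA_11 y (by omega) (by omega)

theorem sch1_cB : loopAll 6156 (schQ 13 6156 lvl1 chainR cB) = true := by
  rw [loopAll_iff]
  intro y hy
  rcases Nat.lt_or_ge y 513 with h0 | h0
  · exact range_piece s1_cB_0 y (by omega) (by omega)
  rcases Nat.lt_or_ge y 1026 with h1 | h1
  · exact range_piece s1_cB_1 y (by omega) (by omega)
  rcases Nat.lt_or_ge y 1539 with h2 | h2
  · exact range_piece s1_cB_2 y (by omega) (by omega)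
  rcases Nat.lt_or_ge y 2052 with h3 | h3
  · exact range_piece s1_cB_3 y (by omega) (by omega)
  rcases Nat.lt_or_ge y 2565 with h4 | h4
  · exact range_piece s1_cB_4 y (by omega) (by omega)
  rcases Nat.lt_or_ge y 3078 with h5 | h5
  · exact range_piece s1_cB_5 y (by omega) (by omega)
  rcases Nat.lt_or_ge y 3591 with h6 | h6
  · exact range_piece s1_cB_6 y (by omega) (by omega)
  rcases Nat.lt_or_ge y 4104 with h7 | h7
  · exact range_piece s1_cB_7 y (by omega) (by omega)
  rcases Nat.lt_or_ge y 4617 with h8 | h8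
  · exact range_piece s1_cB_8 y (by omega) (by omega)
  rcases Nat.lt_or_ge y 5130 with h9 | h9
  · exact range_piece s1_cB_9 y (by omega) (by omega)
  rcases Nat.lt_or_ge y 5643 with h10 | h10
  · exact range_piece s1_cB_10 y (by omega) (by omega)
  exact range_piece s1_cB_11 y (by omega) (by omega)

theorem sch1_sg2_1 : loopAll 6156 (schQ 13 6156 lvl1 chainR sg2_1) = true := by
  rw [loopAll_iff]
  intro y hy
  rcases Nat.lt_or_ge y 513 with h0 | h0
  · exact range_piece s1_sg2_1_0 y (by omega) (by omega)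
  rcases Nat.lt_or_ge y 1026 with h1 | h1
  · exact range_piece s1_sg2_1_1 y (by omega) (by omega)
  rcases Nat.lt_or_ge y 1539 with h2 | h2
  · exact range_piece s1_sg2_1_2 y (by omega) (by omega)
  rcases Nat.lt_or_ge y 2052 with h3 | h3
  · exact range_piece s1_sg2_1_3 y (by omega) (by omega)
  rcases Nat.lt_or_ge y 2565 with h4 | h4
  · exact range_piece s1_sg2_1_4 y (by omega) (by omega)
  rcases Nat.lt_or_ge y 3078 with h5 | h5
  · exact range_piece s1_sg2_1_5 y (by omega) (by omega)
  rcases Nat.lt_or_ge y 3591 with h6 | h6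
  · exact range_piece s1_sg2_1_6 y (by omega) (by omega)
  rcases Nat.lt_or_ge y 4104 with h7 | h7
  · exact range_piece s1_sg2_1_7 y (by omega) (by omega)
  rcases Nat.lt_or_ge y 4617 with h8 | h8
  · exact range_piece s1_sg2_1_8 y (by omega) (by omega)
  rcases Nat.lt_or_ge y 5130 with h9 | h9
  · exact range_piece s1_sg2_1_9 y (by omega) (by omega)
  rcases Nat.lt_or_ge y 5643 with h10 | h10
  · exact range_piece s1_sg2_1_10 y (by omega) (by omega)
  exact range_piece s1_sg2_1_11 y (by omega) (by omega)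

theorem sch1_sg2_2 : loopAll 6156 (schQ 13 6156 lvl1 chainR sg2_2) = true := by
  rw [loopAll_iff]
  intro y hy
  rcases Nat.lt_or_ge y 513 with h0 | h0
  · exact range_piece s1_sg2_2_0 y (by omega) (by omega)
  rcases Nat.lt_or_ge y 1026 with h1 | h1
  · exact range_piece s1_sg2_2_1 y (by omega) (by omega)
  rcases Nat.lt_or_ge y 1539 with h2 | h2
  · exact range_piece s1_sg2_2_2 y (by omega) (by omega)
  rcases Nat.lt_or_ge y 2052 with h3 | h3
  · exact range_piece s1_sg2_2_3 y (by omega) (by omega)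
  rcases Nat.lt_or_ge y 2565 with h4 | h4
  · exact range_piece s1_sg2_2_4 y (by omega) (by omega)
  rcases Nat.lt_or_ge y 3078 with h5 | h5
  · exact range_piece s1_sg2_2_5 y (by omega) (by omega)
  rcases Nat.lt_or_ge y 3591 with h6 | h6
  · exact range_piece s1_sg2_2_6 y (by omega) (by omega)
  rcases Nat.lt_or_ge y 4104 with h7 | h7
  · exact range_piece s1_sg2_2_7 y (by omega) (by omega)
  rcases Nat.lt_or_ge y 4617 with h8 | h8
  · exact range_piece s1_sg2_2_8 y (by omega) (by omega)
  rcases Nat.lt_or_ge y 5130 with h9 | h9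
  · exact range_piece s1_sg2_2_9 y (by omega) (by omega)
  rcases Nat.lt_or_ge y 5643 with h10 | h10
  · exact range_piece s1_sg2_2_10 y (by omega) (by omega)
  exact range_piece s1_sg2_2_11 y (by omega) (by omega)

theorem sch1_sg3_1 : loopAll 6156 (schQ 13 6156 lvl1 chainR sg3_1) = true := by
  rw [loopAll_iff]
  intro y hy
  rcases Nat.lt_or_ge y 513 with h0 | h0
  · exact range_piece s1_sg3_1_0 y (by omega) (by omega)
  rcases Nat.lt_or_ge y 1026 with h1 | h1
  · exact range_piece s1_sg3_1_1 y (by omega) (by omega)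
  rcases Nat.lt_or_ge y 1539 with h2 | h2
  · exact range_piece s1_sg3_1_2 y (by omega) (by omega)
  rcases Nat.lt_or_ge y 2052 with h3 | h3
  · exact range_piece s1_sg3_1_3 y (by omega) (by omega)
  rcases Nat.lt_or_ge y 2565 with h4 | h4
  · exact range_piece s1_sg3_1_4 y (by omega) (by omega)
  rcases Nat.lt_or_ge y 3078 with h5 | h5
  · exact range_piece s1_sg3_1_5 y (by omega) (by omega)
  rcases Nat.lt_or_ge y 3591 with h6 | h6
  · exact range_piece s1_sg3_1_6 y (by omega) (by omega)
  rcases Nat.lt_or_ge y 4104 with h7 | h7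
  · exact range_piece s1_sg3_1_7 y (by omega) (by omega)
  rcases Nat.lt_or_ge y 4617 with h8 | h8
  · exact range_piece s1_sg3_1_8 y (by omega) (by omega)
  rcases Nat.lt_or_ge y 5130 with h9 | h9
  · exact range_piece s1_sg3_1_9 y (by omega) (by omega)
  rcases Nat.lt_or_ge y 5643 with h10 | h10
  · exact range_piece s1_sg3_1_10 y (by omega) (by omega)
  exact range_piece s1_sg3_1_11 y (by omega) (by omega)

theorem sch1_sg3_2 : loopAll 6156 (schQ 13 6156 lvl1 chainR sg3_2) = true := by
  rw [loopAll_iff]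
  intro y hy
  rcases Nat.lt_or_ge y 513 with h0 | h0
  · exact range_piece s1_sg3_2_0 y (by omega) (by omega)
  rcases Nat.lt_or_ge y 1026 with h1 | h1
  · exact range_piece s1_sg3_2_1 y (by omega) (by omega)
  rcases Nat.lt_or_ge y 1539 with h2 | h2
  · exact range_piece s1_sg3_2_2 y (by omega) (by omega)
  rcases Nat.lt_or_ge y 2052 with h3 | h3
  · exact range_piece s1_sg3_2_3 y (by omega) (by omega)
  rcases Nat.lt_or_ge y 2565 with h4 | h4
  · exact range_piece s1_sg3_2_4 y (by omega) (by omega)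
  rcases Nat.lt_or_ge y 3078 with h5 | h5
  · exact range_piece s1_sg3_2_5 y (by omega) (by omega)
  rcases Nat.lt_or_ge y 3591 with h6 | h6
  · exact range_piece s1_sg3_2_6 y (by omega) (by omega)
  rcases Nat.lt_or_ge y 4104 with h7 | h7
  · exact range_piece s1_sg3_2_7 y (by omega) (by omega)
  rcases Nat.lt_or_ge y 4617 with h8 | h8
  · exact range_piece s1_sg3_2_8 y (by omega) (by omega)
  rcases Nat.lt_or_ge y 5130 with h9 | h9
  · exact range_piece s1_sg3_2_9 y (by omega) (by omega)
  rcases Nat.lt_or_ge y 5643 with h10 | h10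
  · exact range_piece s1_sg3_2_10 y (by omega) (by omega)
  exact range_piece s1_sg3_2_11 y (by omega) (by omega)

theorem sch1_sg3_3 : loopAll 6156 (schQ 13 6156 lvl1 chainR sg3_3) = true := by
  rw [loopAll_iff]
  intro y hy
  rcases Nat.lt_or_ge y 513 with h0 | h0
  · exact range_piece s1_sg3_3_0 y (by omega) (by omega)
  rcases Nat.lt_or_ge y 1026 with h1 | h1
  · exact range_piece s1_sg3_3_1 y (by omega) (by omega)
  rcases Nat.lt_or_ge y 1539 with h2 | h2
  · exact range_piece s1_sg3_3_2 y (by omega) (by omega)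
  rcases Nat.lt_or_ge y 2052 with h3 | h3
  · exact range_piece s1_sg3_3_3 y (by omega) (by omega)
  rcases Nat.lt_or_ge y 2565 with h4 | h4
  · exact range_piece s1_sg3_3_4 y (by omega) (by omega)
  rcases Nat.lt_or_ge y 3078 with h5 | h5
  · exact range_piece s1_sg3_3_5 y (by omega) (by omega)
  rcases Nat.lt_or_ge y 3591 with h6 | h6
  · exact range_piece s1_sg3_3_6 y (by omega) (by omega)
  rcases Nat.lt_or_ge y 4104 with h7 | h7
  · exact range_piece s1_sg3_3_7 y (by omega) (by omega)
  rcases Nat.lt_or_ge y 4617 with h8 | h8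
  · exact range_piece s1_sg3_3_8 y (by omega) (by omega)
  rcases Nat.lt_or_ge y 5130 with h9 | h9
  · exact range_piece s1_sg3_3_9 y (by omega) (by omega)
  rcases Nat.lt_or_ge y 5643 with h10 | h10
  · exact range_piece s1_sg3_3_10 y (by omega) (by omega)
  exact range_piece s1_sg3_3_11 y (by omega) (by omega)

theorem chk_l1 : lvlOK2 13 6156 [] lvl1 chainR = true := by
  rw [lvlOK2, chk_l1a, Bool.true_and, List.all_eq_true]
  intro p hp
  have hp' : p ∈ [(cA, cAi), (cB, cBi), (sg2_1, sg2_1i), (sg2_2, sg2_2i), (sg3_1, sg3_1i), (sg3_2, sg3_2i), (sg3_3, sg3_3i)] := hp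
  simp only [List.mem_cons, List.not_mem_nil, or_false] at hp'
  rcases hp' with rfl | rfl | rfl | rfl | rfl | rfl | rfl
  · exact sch1_cA
  · exact sch1_cB
  · exact sch1_sg2_1
  · exact sch1_sg2_2
  · exact sch1_sg3_1
  · exact sch1_sg3_2
  · exact sch1_sg3_3

theorem chk_l2 : lvlOK2 13 6156 [0] lvl2 chainT = true := by
  rw [lvlOK2, chk_l2a, Bool.true_and, List.all_eq_true]
  intro p hp
  have hp' : p ∈ [(sg2_1, sg2_1i), (sg2_2, sg2_2i), (sg3_1, sg3_1i), (sg3_2, sg3_2i), (sg3_3, sg3_3i)] := hp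
  simp only [List.mem_cons, List.not_mem_nil, or_false] at hp'
  rcases hp' with rfl | rfl | rfl | rfl | rfl
  · exact s2_sg2_1
  · exact s2_sg2_2
  · exact s2_sg3_1
  · exact s2_sg3_2
  · exact s2_sg3_3

theorem chk_chainR : chainOK2 13 6156 [0] chainR = true := by
  show (chainOK2 13 6156 [0, 655] chainT && lvlOK2 13 6156 [0] lvl2 chainT) = true
  rw [chk_chainT, chk_l2]
  rfl

theorem chk_chain : chainOK2 13 6156 [] chainS = true := by
  show (chainOK2 13 6156 [0] chainR && lvlOK2 13 6156 [] lvl1 chainR) = true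
  rw [chk_chainR, chk_l1]
  rfl

end Cfsg.Agent.Lib.Helper18.J3
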