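import Mathlib
import Cfsg.Agent.Lib.Helper18.J3Data1
import Cfsg.Agent.Lib.Helper18.J3Data2

/-! Kernel checks for the J3 certificate: the straight-line program, part 2. -/

set_option Elab.async false

namespace Cfsg.Agent.Lib.Helper18.J3
open Cfsg.Agent.Lib.Helper18.SS

theorem chk_slp4 : slpOKf 13 6156 prev4 slpC4 = true := by decide +kernel
theorem chk_slp5 : slpOKf 13 6156 prev5 slpC5 = true := by decide +kernel
theorem chk_slp6 : slpOKf 13 6156 prev6 slpC6 = true := by decide +kernel
theorem chk_slp7 : slpOKf 13 6156 prev7 slpC7 = true := by decide +kernel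

end Cfsg.Agent.Lib.Helper18.J3
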