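import Mathlib
import Cfsg.Agent.Lib.Helper18.J3Data1

/-! Kernel checks for the J3 certificate: suborbits of the point stabiliser and the order. -/

set_option Elab.async false

namespace Cfsg.Agent.Lib.Helper18.J3
open Cfsg.Agent.Lib.Helper18.SS

/-- every point other than the first base point is reached from the representative of its suborbit -/
theorem chk_orb : loopAll 6156 (fun y => Nat.beq y lvl1.b ||
    Nat.beq (evalF 13 6156 (wordTo 13 lvl2.P ogt opt (repOf (fld 4 labT y)) ofuel y)
      (repOf (fld 4 labT y))) y) = true := by
  decide +kernel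

theorem chk_lab : loopAll 6156 (fun y => Nat.blt (fld 4 labT y) 8 &&
    (Nat.beq y lvl1.b || !(Nat.beq (fld 4 labT y) 0))) = true := by
  decide +kernel

theorem chk_lab0 : fld 4 labT lvl1.b = 0 := by decide +kernel

theorem chk_card : (chainS.map (fun l => ((List.range 6156).filter (inOrb 6156 l)).length)).prod
    = 50232960 := by decide +kernel

theorem chk_len1 : ((List.range 6156).filter (inOrb 6156 lvl1)).length = 6156 := by decide +kernel
theorem chk_cover : ∀ d ∈ allB, d ∈ ([] : List ℕ) ∨ d ∈ chainS.map (fun l => l.b) := by
  decide +kernel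
theorem chk_b1 : lvl1.b < 6156 := by decide +kernel
theorem chk_b1z : lvl1.b = 0 := by decide +kernel
theorem chk_reps : ∀ k < 8, repOf k < 6156 := by decide +kernel

end Cfsg.Agent.Lib.Helper18.J3
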