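import Mathlib
import Cfsg.Agent.Lib.Helper18.J3Data1
import Cfsg.Agent.Lib.Helper18.J3Data3

/-! Kernel checks for the J3 certificate: colour refinement of the graph relative to the base, part 1. -/

set_option Elab.async false

namespace Cfsg.Agent.Lib.Helper18.J3
open Cfsg.Agent.Lib.Helper18.SS

theorem nbv_0 : loopAll 513 (fun t => nbValidQ nbT 85 13 6156 (Nat.add 0 t)) = true := by
  decide +kernel
theorem nbv_1 : loopAll 513 (fun t => nbValidQ nbT 85 13 6156 (Nat.add 513 t)) = true := by
  decide +kernel
theorem nbv_2 : loopAll 513 (fun t => nbValidQ nbT 85 13 6156 (Nat.add 1026 t)) = true := by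
  decide +kernel
theorem nbv_3 : loopAll 513 (fun t => nbValidQ nbT 85 13 6156 (Nat.add 1539 t)) = true := by
  decide +kernel
theorem nbv_4 : loopAll 513 (fun t => nbValidQ nbT 85 13 6156 (Nat.add 2052 t)) = true := by
  decide +kernel
theorem nbv_5 : loopAll 513 (fun t => nbValidQ nbT 85 13 6156 (Nat.add 2565 t)) = true := by
  decide +kernel
theorem nbv_6 : loopAll 513 (fun t => nbValidQ nbT 85 13 6156 (Nat.add 3078 t)) = true := by
  decide +kernel
theorem nbv_7 : loopAll 513 (fun t => nbValidQ nbT 85 13 6156 (Nat.add 3591 t)) = true := by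
  decide +kernel
theorem nbv_8 : loopAll 513 (fun t => nbValidQ nbT 85 13 6156 (Nat.add 4104 t)) = true := by
  decide +kernel
theorem nbv_9 : loopAll 513 (fun t => nbValidQ nbT 85 13 6156 (Nat.add 4617 t)) = true := by
  decide +kernel
theorem nbv_10 : loopAll 513 (fun t => nbValidQ nbT 85 13 6156 (Nat.add 5130 t)) = true := by
  decide +kernel
theorem nbv_11 : loopAll 513 (fun t => nbValidQ nbT 85 13 6156 (Nat.add 5643 t)) = true := by
  decide +kernel
theorem ini_0 : loopAll 513 (fun t => initQ 8 allB col0 (Nat.add 0 t)) = true := by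
  decide +kernel
theorem ini_1 : loopAll 513 (fun t => initQ 8 allB col0 (Nat.add 513 t)) = true := by
  decide +kernel
theorem ini_2 : loopAll 513 (fun t => initQ 8 allB col0 (Nat.add 1026 t)) = true := by
  decide +kernel
theorem ini_3 : loopAll 513 (fun t => initQ 8 allB col0 (Nat.add 1539 t)) = true := by
  decide +kernel
theorem ini_4 : loopAll 513 (fun t => initQ 8 allB col0 (Nat.add 2052 t)) = true := by
  decide +kernel
theorem ini_5 : loopAll 513 (fun t => initQ 8 allB col0 (Nat.add 2565 t)) = true := by
  decide +kernel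
theorem ini_6 : loopAll 513 (fun t => initQ 8 allB col0 (Nat.add 3078 t)) = true := by
  decide +kernel
theorem ini_7 : loopAll 513 (fun t => initQ 8 allB col0 (Nat.add 3591 t)) = true := by
  decide +kernel
theorem ini_8 : loopAll 513 (fun t => initQ 8 allB col0 (Nat.add 4104 t)) = true := by
  decide +kernel
theorem ini_9 : loopAll 513 (fun t => initQ 8 allB col0 (Nat.add 4617 t)) = true := by
  decide +kernel
theorem ini_10 : loopAll 513 (fun t => initQ 8 allB col0 (Nat.add 5130 t)) = true := by
  decide +kernel
theorem ini_11 : loopAll 513 (fun t => initQ 8 allB col0 (Nat.add 5643 t)) = true := by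
  decide +kernel
theorem st0_0 : loopAll 513 (fun t => stepQ nbT 85 13 8 251 col0 col1 (Nat.add 0 t)) = true := by
  decide +kernel
theorem st0_1 : loopAll 513 (fun t => stepQ nbT 85 13 8 251 col0 col1 (Nat.add 513 t)) = true := by
  decide +kernel
theorem st0_2 : loopAll 513 (fun t => stepQ nbT 85 13 8 251 col0 col1 (Nat.add 1026 t)) = true := by
  decide +kernel
theorem st0_3 : loopAll 513 (fun t => stepQ nbT 85 13 8 251 col0 col1 (Nat.add 1539 t)) = true := by
  decide +kernel
theorem st0_4 : loopAll 513 (fun t => stepQ nbT 85 13 8 251 col0 col1 (Nat.add 2052 t)) = true := by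
  decide +kernel
theorem st0_5 : loopAll 513 (fun t => stepQ nbT 85 13 8 251 col0 col1 (Nat.add 2565 t)) = true := by
  decide +kernel
theorem st0_6 : loopAll 513 (fun t => stepQ nbT 85 13 8 251 col0 col1 (Nat.add 3078 t)) = true := by
  decide +kernel
theorem st0_7 : loopAll 513 (fun t => stepQ nbT 85 13 8 251 col0 col1 (Nat.add 3591 t)) = true := by
  decide +kernel
theorem st0_8 : loopAll 513 (fun t => stepQ nbT 85 13 8 251 col0 col1 (Nat.add 4104 t)) = true := by
  decide +kernel
theorem st0_9 : loopAll 513 (fun t => stepQ nbT 85 13 8 251 col0 col1 (Nat.add 4617 t)) = true := by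
  decide +kernel
theorem st0_10 : loopAll 513 (fun t => stepQ nbT 85 13 8 251 col0 col1 (Nat.add 5130 t)) = true := by
  decide +kernel
theorem st0_11 : loopAll 513 (fun t => stepQ nbT 85 13 8 251 col0 col1 (Nat.add 5643 t)) = true := by
  decide +kernel

end Cfsg.Agent.Lib.Helper18.J3
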