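import Mathlib
import Cfsg.Agent.Lib.Helper18.J3Data1
import Cfsg.Agent.Lib.Helper18.J3Data3

/-! Kernel checks for the J3 certificate: colour refinement of the graph relative to the base, part 2. -/

set_option Elab.async false

namespace Cfsg.Agent.Lib.Helper18.J3
open Cfsg.Agent.Lib.Helper18.SS

theorem st1_0 : loopAll 513 (fun t => stepQ nbT 85 13 8 251 col1 col2 (Nat.add 0 t)) = true := by
  decide +kernel
theorem st1_1 : loopAll 513 (fun t => stepQ nbT 85 13 8 251 col1 col2 (Nat.add 513 t)) = true := by
  decide +kernel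
theorem st1_2 : loopAll 513 (fun t => stepQ nbT 85 13 8 251 col1 col2 (Nat.add 1026 t)) = true := by
  decide +kernel
theorem st1_3 : loopAll 513 (fun t => stepQ nbT 85 13 8 251 col1 col2 (Nat.add 1539 t)) = true := by
  decide +kernel
theorem st1_4 : loopAll 513 (fun t => stepQ nbT 85 13 8 251 col1 col2 (Nat.add 2052 t)) = true := by
  decide +kernel
theorem st1_5 : loopAll 513 (fun t => stepQ nbT 85 13 8 251 col1 col2 (Nat.add 2565 t)) = true := by
  decide +kernel
theorem st1_6 : loopAll 513 (fun t => stepQ nbT 85 13 8 251 col1 col2 (Nat.add 3078 t)) = true := by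
  decide +kernel
theorem st1_7 : loopAll 513 (fun t => stepQ nbT 85 13 8 251 col1 col2 (Nat.add 3591 t)) = true := by
  decide +kernel
theorem st1_8 : loopAll 513 (fun t => stepQ nbT 85 13 8 251 col1 col2 (Nat.add 4104 t)) = true := by
  decide +kernel
theorem st1_9 : loopAll 513 (fun t => stepQ nbT 85 13 8 251 col1 col2 (Nat.add 4617 t)) = true := by
  decide +kernel
theorem st1_10 : loopAll 513 (fun t => stepQ nbT 85 13 8 251 col1 col2 (Nat.add 5130 t)) = true := by
  decide +kernel
theorem st1_11 : loopAll 513 (fun t => stepQ nbT 85 13 8 251 col1 col2 (Nat.add 5643 t)) = true := by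
  decide +kernel
theorem st2_0 : loopAll 513 (fun t => stepQ nbT 85 13 8 251 col2 col3 (Nat.add 0 t)) = true := by
  decide +kernel
theorem st2_1 : loopAll 513 (fun t => stepQ nbT 85 13 8 251 col2 col3 (Nat.add 513 t)) = true := by
  decide +kernel
theorem st2_2 : loopAll 513 (fun t => stepQ nbT 85 13 8 251 col2 col3 (Nat.add 1026 t)) = true := by
  decide +kernel
theorem st2_3 : loopAll 513 (fun t => stepQ nbT 85 13 8 251 col2 col3 (Nat.add 1539 t)) = true := by
  decide +kernel
theorem st2_4 : loopAll 513 (fun t => stepQ nbT 85 13 8 251 col2 col3 (Nat.add 2052 t)) = true := by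
  decide +kernel
theorem st2_5 : loopAll 513 (fun t => stepQ nbT 85 13 8 251 col2 col3 (Nat.add 2565 t)) = true := by
  decide +kernel
theorem st2_6 : loopAll 513 (fun t => stepQ nbT 85 13 8 251 col2 col3 (Nat.add 3078 t)) = true := by
  decide +kernel
theorem st2_7 : loopAll 513 (fun t => stepQ nbT 85 13 8 251 col2 col3 (Nat.add 3591 t)) = true := by
  decide +kernel
theorem st2_8 : loopAll 513 (fun t => stepQ nbT 85 13 8 251 col2 col3 (Nat.add 4104 t)) = true := by
  decide +kernel
theorem st2_9 : loopAll 513 (fun t => stepQ nbT 85 13 8 251 col2 col3 (Nat.add 4617 t)) = true := by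
  decide +kernel
theorem st2_10 : loopAll 513 (fun t => stepQ nbT 85 13 8 251 col2 col3 (Nat.add 5130 t)) = true := by
  decide +kernel
theorem st2_11 : loopAll 513 (fun t => stepQ nbT 85 13 8 251 col2 col3 (Nat.add 5643 t)) = true := by
  decide +kernel
theorem srt_0 : loopAll 513 (fun t => sortedQ nbT 85 13 6156 13 8 col3 piC (Nat.add 0 t)) = true := by
  decide +kernel
theorem srt_1 : loopAll 513 (fun t => sortedQ nbT 85 13 6156 13 8 col3 piC (Nat.add 513 t)) = true := by
  decide +kernel
theorem srt_2 : loopAll 513 (fun t => sortedQ nbT 85 13 6156 13 8 col3 piC (Nat.add 1026 t)) = true := by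
  decide +kernel
theorem srt_3 : loopAll 513 (fun t => sortedQ nbT 85 13 6156 13 8 col3 piC (Nat.add 1539 t)) = true := by
  decide +kernel
theorem srt_4 : loopAll 513 (fun t => sortedQ nbT 85 13 6156 13 8 col3 piC (Nat.add 2052 t)) = true := by
  decide +kernel
theorem srt_5 : loopAll 513 (fun t => sortedQ nbT 85 13 6156 13 8 col3 piC (Nat.add 2565 t)) = true := by
  decide +kernel
theorem srt_6 : loopAll 513 (fun t => sortedQ nbT 85 13 6156 13 8 col3 piC (Nat.add 3078 t)) = true := by
  decide +kernel
theorem srt_7 : loopAll 513 (fun t => sortedQ nbT 85 13 6156 13 8 col3 piC (Nat.add 3591 t)) = true := by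
  decide +kernel
theorem srt_8 : loopAll 513 (fun t => sortedQ nbT 85 13 6156 13 8 col3 piC (Nat.add 4104 t)) = true := by
  decide +kernel
theorem srt_9 : loopAll 513 (fun t => sortedQ nbT 85 13 6156 13 8 col3 piC (Nat.add 4617 t)) = true := by
  decide +kernel
theorem srt_10 : loopAll 513 (fun t => sortedQ nbT 85 13 6156 13 8 col3 piC (Nat.add 5130 t)) = true := by
  decide +kernel
theorem srt_11 : loopAll 512 (fun t => sortedQ nbT 85 13 6156 13 8 col3 piC (Nat.add 5643 t)) = true := by
  decide +kernel

end Cfsg.Agent.Lib.Helper18.J3
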