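import Mathlib
import Cfsg.Agent.Lib.Helper18.J3Ref1
import Cfsg.Agent.Lib.Helper18.J3Ref2

/-! The colour refinement checks for J3 (assembly of the pieces). -/

namespace Cfsg.Agent.Lib.Helper18.J3
open Cfsg.Agent.Lib.Helper18.SS

theorem chk_nbValid : nbValid nbT 85 13 6156 = true := by
  rw [nbValid, loopAll_iff]
  intro v hv
  rcases Nat.lt_or_ge v 513 with h0 | h0
  · exact range_piece nbv_0 v (by omega) (by omega)
  rcases Nat.lt_or_ge v 1026 with h1 | h1
  · exact range_piece nbv_1 v (by omega) (by omega)
  rcases Nat.lt_or_ge v 1539 with h2 | h2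
  · exact range_piece nbv_2 v (by omega) (by omega)
  rcases Nat.lt_or_ge v 2052 with h3 | h3
  · exact range_piece nbv_3 v (by omega) (by omega)
  rcases Nat.lt_or_ge v 2565 with h4 | h4
  · exact range_piece nbv_4 v (by omega) (by omega)
  rcases Nat.lt_or_ge v 3078 with h5 | h5
  · exact range_piece nbv_5 v (by omega) (by omega)
  rcases Nat.lt_or_ge v 3591 with h6 | h6
  · exact range_piece nbv_6 v (by omega) (by omega)
  rcases Nat.lt_or_ge v 4104 with h7 | h7
  · exact range_piece nbv_7 v (by omega) (by omega)
  rcases Nat.lt_or_ge v 4617 with h8 | h8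
  · exact range_piece nbv_8 v (by omega) (by omega)
  rcases Nat.lt_or_ge v 5130 with h9 | h9
  · exact range_piece nbv_9 v (by omega) (by omega)
  rcases Nat.lt_or_ge v 5643 with h10 | h10
  · exact range_piece nbv_10 v (by omega) (by omega)
  exact range_piece nbv_11 v (by omega) (by omega)

theorem chk_init : initOK 6156 8 allB col0 = true := by
  rw [initOK, loopAll_iff]
  intro v hv
  rcases Nat.lt_or_ge v 513 with h0 | h0
  · exact range_piece ini_0 v (by omega) (by omega)
  rcases Nat.lt_or_ge v 1026 with h1 | h1
  · exact range_piece ini_1 v (by omega) (by omega)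
  rcases Nat.lt_or_ge v 1539 with h2 | h2
  · exact range_piece ini_2 v (by omega) (by omega)
  rcases Nat.lt_or_ge v 2052 with h3 | h3
  · exact range_piece ini_3 v (by omega) (by omega)
  rcases Nat.lt_or_ge v 2565 with h4 | h4
  · exact range_piece ini_4 v (by omega) (by omega)
  rcases Nat.lt_or_ge v 3078 with h5 | h5
  · exact range_piece ini_5 v (by omega) (by omega)
  rcases Nat.lt_or_ge v 3591 with h6 | h6
  · exact range_piece ini_6 v (by omega) (by omega)
  rcases Nat.lt_or_ge v 4104 with h7 | h7
  · exact range_piece ini_7 v (by omega) (by omega)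
  rcases Nat.lt_or_ge v 4617 with h8 | h8
  · exact range_piece ini_8 v (by omega) (by omega)
  rcases Nat.lt_or_ge v 5130 with h9 | h9
  · exact range_piece ini_9 v (by omega) (by omega)
  rcases Nat.lt_or_ge v 5643 with h10 | h10
  · exact range_piece ini_10 v (by omega) (by omega)
  exact range_piece ini_11 v (by omega) (by omega)

theorem chk_step0 : stepOK nbT 85 13 6156 8 251 col0 col1 = true := by
  rw [stepOK, loopAll_iff]
  intro v hv
  rcases Nat.lt_or_ge v 513 with h0 | h0
  · exact range_piece st0_0 v (by omega) (by omega)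
  rcases Nat.lt_or_ge v 1026 with h1 | h1
  · exact range_piece st0_1 v (by omega) (by omega)
  rcases Nat.lt_or_ge v 1539 with h2 | h2
  · exact range_piece st0_2 v (by omega) (by omega)
  rcases Nat.lt_or_ge v 2052 with h3 | h3
  · exact range_piece st0_3 v (by omega) (by omega)
  rcases Nat.lt_or_ge v 2565 with h4 | h4
  · exact range_piece st0_4 v (by omega) (by omega)
  rcases Nat.lt_or_ge v 3078 with h5 | h5
  · exact range_piece st0_5 v (by omega) (by omega)
  rcases Nat.lt_or_ge v 3591 with h6 | h6
  · exact range_piece st0_6 v (by omega) (by omega)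
  rcases Nat.lt_or_ge v 4104 with h7 | h7
  · exact range_piece st0_7 v (by omega) (by omega)
  rcases Nat.lt_or_ge v 4617 with h8 | h8
  · exact range_piece st0_8 v (by omega) (by omega)
  rcases Nat.lt_or_ge v 5130 with h9 | h9
  · exact range_piece st0_9 v (by omega) (by omega)
  rcases Nat.lt_or_ge v 5643 with h10 | h10
  · exact range_piece st0_10 v (by omega) (by omega)
  exact range_piece st0_11 v (by omega) (by omega)

theorem chk_step1 : stepOK nbT 85 13 6156 8 251 col1 col2 = true := by
  rw [stepOK, loopAll_iff]
  intro v hv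
  rcases Nat.lt_or_ge v 513 with h0 | h0
  · exact range_piece st1_0 v (by omega) (by omega)
  rcases Nat.lt_or_ge v 1026 with h1 | h1
  · exact range_piece st1_1 v (by omega) (by omega)
  rcases Nat.lt_or_ge v 1539 with h2 | h2
  · exact range_piece st1_2 v (by omega) (by omega)
  rcases Nat.lt_or_ge v 2052 with h3 | h3
  · exact range_piece st1_3 v (by omega) (by omega)
  rcases Nat.lt_or_ge v 2565 with h4 | h4
  · exact range_piece st1_4 v (by omega) (by omega)
  rcases Nat.lt_or_ge v 3078 with h5 | h5
  · exact range_piece st1_5 v (by omega) (by omega)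
  rcases Nat.lt_or_ge v 3591 with h6 | h6
  · exact range_piece st1_6 v (by omega) (by omega)
  rcases Nat.lt_or_ge v 4104 with h7 | h7
  · exact range_piece st1_7 v (by omega) (by omega)
  rcases Nat.lt_or_ge v 4617 with h8 | h8
  · exact range_piece st1_8 v (by omega) (by omega)
  rcases Nat.lt_or_ge v 5130 with h9 | h9
  · exact range_piece st1_9 v (by omega) (by omega)
  rcases Nat.lt_or_ge v 5643 with h10 | h10
  · exact range_piece st1_10 v (by omega) (by omega)
  exact range_piece st1_11 v (by omega) (by omega)

theorem chk_step2 : stepOK nbT 85 13 6156 8 251 col2 col3 = true := by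
  rw [stepOK, loopAll_iff]
  intro v hv
  rcases Nat.lt_or_ge v 513 with h0 | h0
  · exact range_piece st2_0 v (by omega) (by omega)
  rcases Nat.lt_or_ge v 1026 with h1 | h1
  · exact range_piece st2_1 v (by omega) (by omega)
  rcases Nat.lt_or_ge v 1539 with h2 | h2
  · exact range_piece st2_2 v (by omega) (by omega)
  rcases Nat.lt_or_ge v 2052 with h3 | h3
  · exact range_piece st2_3 v (by omega) (by omega)
  rcases Nat.lt_or_ge v 2565 with h4 | h4
  · exact range_piece st2_4 v (by omega) (by omega)
  rcases Nat.lt_or_ge v 3078 with h5 | h5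
  · exact range_piece st2_5 v (by omega) (by omega)
  rcases Nat.lt_or_ge v 3591 with h6 | h6
  · exact range_piece st2_6 v (by omega) (by omega)
  rcases Nat.lt_or_ge v 4104 with h7 | h7
  · exact range_piece st2_7 v (by omega) (by omega)
  rcases Nat.lt_or_ge v 4617 with h8 | h8
  · exact range_piece st2_8 v (by omega) (by omega)
  rcases Nat.lt_or_ge v 5130 with h9 | h9
  · exact range_piece st2_9 v (by omega) (by omega)
  rcases Nat.lt_or_ge v 5643 with h10 | h10
  · exact range_piece st2_10 v (by omega) (by omega)
  exact range_piece st2_11 v (by omega) (by omega)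

theorem chk_sorted : sortedSig nbT 85 13 6156 13 8 col3 piC = true := by
  rw [sortedSig, loopAll_iff]
  intro v hv
  replace hv : v < 6155 := hv
  rcases Nat.lt_or_ge v 513 with h0 | h0
  · exact range_piece srt_0 v (by omega) (by omega)
  rcases Nat.lt_or_ge v 1026 with h1 | h1
  · exact range_piece srt_1 v (by omega) (by omega)
  rcases Nat.lt_or_ge v 1539 with h2 | h2
  · exact range_piece srt_2 v (by omega) (by omega)
  rcases Nat.lt_or_ge v 2052 with h3 | h3
  · exact range_piece srt_3 v (by omega) (by omega)
  rcases Nat.lt_or_ge v 2565 with h4 | h4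
  · exact range_piece srt_4 v (by omega) (by omega)
  rcases Nat.lt_or_ge v 3078 with h5 | h5
  · exact range_piece srt_5 v (by omega) (by omega)
  rcases Nat.lt_or_ge v 3591 with h6 | h6
  · exact range_piece srt_6 v (by omega) (by omega)
  rcases Nat.lt_or_ge v 4104 with h7 | h7
  · exact range_piece srt_7 v (by omega) (by omega)
  rcases Nat.lt_or_ge v 4617 with h8 | h8
  · exact range_piece srt_8 v (by omega) (by omega)
  rcases Nat.lt_or_ge v 5130 with h9 | h9
  · exact range_piece srt_9 v (by omega) (by omega)
  rcases Nat.lt_or_ge v 5643 with h10 | h10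
  · exact range_piece srt_10 v (by omega) (by omega)
  exact range_piece srt_11 v (by omega) (by omega)


end Cfsg.Agent.Lib.Helper18.J3
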