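import Mathlib

/-!
# A simplicity criterion for rank 3 permutation groups

`G = ⟨a, b⟩` transitive on `Fin n` with `a^p = b^p = 1`, `|G| = n * m` with `m` prime to `p`,
and a point stabiliser with two further orbits whose sizes (plus one) do not divide `n`:
then `G` is simple.
-/

namespace Cfsg.Agent.Lib.Helper18.SimpleCert
open scoped Pointwise

theorem ncard_fin_pred (n : ℕ) (q : ℕ → Bool) :
    Set.ncard {x : Fin n | q x.val = true} = ((List.range n).filter q).length := by
  classical
  have hnd : ((List.range n).filter q).Nodup := List.Nodup.filter _ List.nodup_range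
  rw [← Nat.card_coe_set_eq]
  have e : {x : Fin n | q x.val = true} ≃ {k : ℕ // k ∈ ((List.range n).filter q).toFinset} :=
    { toFun := fun x => ⟨x.1.1, by
        rw [List.mem_toFinset, List.mem_filter, List.mem_range]
        exact ⟨x.1.2, x.2⟩⟩
      invFun := fun k => ⟨⟨k.1, by
        have := k.2
        rw [List.mem_toFinset, List.mem_filter, List.mem_range] at this
        exact this.1⟩, by
        have := k.2
        rw [List.mem_toFinset, List.mem_filter, List.mem_range] at this
        exact this.2⟩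
      left_inv := fun x => rfl
      right_inv := fun k => rfl }
  rw [Nat.card_congr e, Nat.card_eq_fintype_card, Fintype.card_coe,
    List.toFinset_card_of_nodup hnd]

variable {n : ℕ}

theorem normal_trans (G H : Subgroup (Equiv.Perm (Fin n)))
    (b1 x1 x2 : Fin n) (htrans : ∀ x, ∃ g ∈ G, g • b1 = x)
    (hHle : H ≤ G) (hHfix : ∀ h ∈ H, h • b1 = b1)
    (q1 q2 : Fin n → Prop)
    (horb1 : ∀ x, q1 x → ∃ h ∈ H, h • x1 = x) (horb2 : ∀ x, q2 x → ∃ h ∈ H, h • x2 = x)
    (hpart : ∀ x, x = b1 ∨ q1 x ∨ q2 x)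
    (hc1 : ¬ Set.ncard {x | x = b1 ∨ q1 x} ∣ n) (hc2 : ¬ Set.ncard {x | x = b1 ∨ q2 x} ∣ n)
    (N : Subgroup G) [hN : N.Normal] (hne : N ≠ ⊥) :
    MulAction.orbit N b1 = Set.univ := by
  classical
  haveI : MulAction.IsPretransitive G (Fin n) := by
    constructor
    intro x y
    obtain ⟨gx, hgx, hx⟩ := htrans x
    obtain ⟨gy, hgy, hy⟩ := htrans y
    refine ⟨⟨gy * gx⁻¹, mul_mem hgy (inv_mem hgx)⟩, ?_⟩
    show (gy * gx⁻¹) • x = y
    rw [← hx, ← hy, smul_smul, inv_mul_cancel_right]
  set O : Set (Fin n) := MulAction.orbit N b1 with hO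
  have hblock : MulAction.IsBlock G O := MulAction.IsBlock.orbit_of_normal b1
  have hb1 : b1 ∈ O := MulAction.mem_orbit_self b1
  have hdvd : O.ncard ∣ n := by
    have := hblock.ncard_dvd_card ⟨b1, hb1⟩
    simpa using this
  have hstab := hblock.stabilizer_le hb1
  have hinv : ∀ h ∈ H, ∀ x ∈ O, h • x ∈ O := by
    intro h hh x hx
    have hG : h ∈ G := hHle hh
    have h1 : (⟨h, hG⟩ : G) ∈ MulAction.stabilizer G b1 := by
      rw [MulAction.mem_stabilizer_iff]
      exact hHfix h hh
    have h2 := hstab h1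
    rw [MulAction.mem_stabilizer_iff] at h2
    have : (⟨h, hG⟩ : G) • x ∈ (⟨h, hG⟩ : G) • O := Set.smul_mem_smul_set hx
    rw [h2] at this
    exact this
  have hex : ∃ y ∈ O, y ≠ b1 := by
    by_contra hcon
    push Not at hcon
    apply hne
    rw [Subgroup.eq_bot_iff_forall]
    intro k hk
    have hfix : ∀ m ∈ N, m • b1 = b1 := by
      intro m hm
      exact hcon _ ⟨⟨m, hm⟩, rfl⟩
    apply Subtype.ext
    apply Equiv.ext
    intro x
    obtain ⟨g, hg, rfl⟩ := htrans x
    have hc : (⟨g, hg⟩ : G)⁻¹ * k * ⟨g, hg⟩ ∈ N := by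
      have := hN.conj_mem k hk (⟨g, hg⟩ : G)⁻¹
      simpa using this
    have := hfix _ hc
    have h3 : (g⁻¹ * k.1 * g) • b1 = b1 := this
    show k.1 • (g • b1) = g • b1
    rw [mul_smul, mul_smul, inv_smul_eq_iff] at h3
    exact h3
  obtain ⟨y, hyO, hyne⟩ := hex
  have hL1 : (∃ x ∈ O, q1 x) → ∀ x : Fin n, q1 x → x ∈ O := by
    rintro ⟨x0, hx0, hx0L⟩ x hx
    obtain ⟨h0, hh0, e0⟩ := horb1 x0 hx0L
    obtain ⟨h, hh, e⟩ := horb1 x hx
    have hb2 : x1 ∈ O := by
      have := hinv h0⁻¹ (inv_mem hh0) x0 hx0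
      rw [← e0, inv_smul_smul] at this
      exact this
    rw [← e]
    exact hinv h hh x1 hb2
  have hL2 : (∃ x ∈ O, q2 x) → ∀ x : Fin n, q2 x → x ∈ O := by
    rintro ⟨x0, hx0, hx0L⟩ x hx
    obtain ⟨h0, hh0, e0⟩ := horb2 x0 hx0L
    obtain ⟨h, hh, e⟩ := horb2 x hx
    have hb2 : x2 ∈ O := by
      have := hinv h0⁻¹ (inv_mem hh0) x0 hx0
      rw [← e0, inv_smul_smul] at this
      exact this
    rw [← e]
    exact hinv h hh x2 hb2
  by_cases c1 : ∃ x ∈ O, q1 x
  · by_cases c2 : ∃ x ∈ O, q2 x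
    · apply Set.eq_univ_of_forall
      intro x
      rcases hpart x with h | h | h
      · rw [h]; exact hb1
      · exact hL1 c1 x h
      · exact hL2 c2 x h
    · exfalso
      have hOeq : O = {x | x = b1 ∨ q1 x} := by
        ext x
        constructor
        · intro hx
          rcases hpart x with h | h | h
          · exact Or.inl h
          · exact Or.inr h
          · exact absurd ⟨x, hx, h⟩ c2
        · rintro (h | h)
          · rw [h]; exact hb1
          · exact hL1 c1 x h
      rw [hOeq] at hdvd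
      exact hc1 hdvd
  · by_cases c2 : ∃ x ∈ O, q2 x
    · exfalso
      have hOeq : O = {x | x = b1 ∨ q2 x} := by
        ext x
        constructor
        · intro hx
          rcases hpart x with h | h | h
          · exact Or.inl h
          · exact absurd ⟨x, hx, h⟩ c1
          · exact Or.inr h
        · rintro (h | h)
          · rw [h]; exact hb1
          · exact hL2 c2 x h
      rw [hOeq] at hdvd
      exact hc2 hdvd
    · exfalso
      rcases hpart y with h | h | h
      · exact hyne h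
      · exact c1 ⟨y, hyO, h⟩
      · exact c2 ⟨y, hyO, h⟩

theorem simple_of_rank3 [NeZero n] (G H : Subgroup (Equiv.Perm (Fin n)))
    (a b : Equiv.Perm (Fin n)) (p m : ℕ)
    (hG : G = Subgroup.closure {a, b}) (hap : a ^ p = 1) (hbp : b ^ p = 1)
    (hcard : Nat.card G = n * m) (hcop : Nat.Coprime m p) (hbig : 1 < n * m)
    (b1 x1 x2 : Fin n) (htrans : ∀ x, ∃ g ∈ G, g • b1 = x)
    (hHle : H ≤ G) (hHfix : ∀ h ∈ H, h • b1 = b1)
    (q1 q2 : Fin n → Prop)
    (horb1 : ∀ x, q1 x → ∃ h ∈ H, h • x1 = x) (horb2 : ∀ x, q2 x → ∃ h ∈ H, h • x2 = x)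
    (hpart : ∀ x, x = b1 ∨ q1 x ∨ q2 x)
    (hc1 : ¬ Set.ncard {x | x = b1 ∨ q1 x} ∣ n) (hc2 : ¬ Set.ncard {x | x = b1 ∨ q2 x} ∣ n) :
    IsSimpleGroup G := by
  have hnpos : 0 < n := NeZero.pos n
  have hmemp : ∀ (N : Subgroup G) [N.Normal], N ≠ ⊥ → ∀ c : G, c ^ p = 1 → c ∈ N := by
    intro N hN hne c hc
    have horb := normal_trans G H b1 x1 x2 htrans hHle hHfix q1 q2 horb1 horb2 hpart hc1 hc2 N hne
    have hdiv : n ∣ Nat.card N := by
      have h1 : (MulAction.stabilizer N b1).index = (MulAction.orbit N b1).ncard :=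
        MulAction.index_stabilizer N b1
      rw [horb, Set.ncard_univ, Nat.card_fin] at h1
      have h2 := Subgroup.index_dvd_card (MulAction.stabilizer N b1)
      rw [h1] at h2
      exact h2
    have hcardq : Nat.card (G ⧸ N) * Nat.card N = n * m := by
      rw [← hcard]
      exact (Subgroup.card_eq_card_quotient_mul_card_subgroup N).symm
    have hcopq : Nat.Coprime (Nat.card (G ⧸ N)) p := by
      obtain ⟨t, ht⟩ := hdiv
      rw [ht] at hcardq
      have h6 : Nat.card (G ⧸ N) * t = m := by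
        have : n * (Nat.card (G ⧸ N) * t) = n * m := by
          rw [← hcardq]; ring
        exact Nat.eq_of_mul_eq_mul_left hnpos this
      have hd : Nat.card (G ⧸ N) ∣ m := Dvd.intro _ h6
      exact Nat.Coprime.coprime_dvd_left hd hcop
    have hq : (QuotientGroup.mk c : G ⧸ N) ^ p = 1 := by
      rw [← QuotientGroup.mk_pow, hc]
      rfl
    have hq2 : (QuotientGroup.mk c : G ⧸ N) ^ Nat.card (G ⧸ N) = 1 := pow_card_eq_one'
    have ho1 := orderOf_dvd_of_pow_eq_one hq
    have ho2 := orderOf_dvd_of_pow_eq_one hq2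
    have : orderOf (QuotientGroup.mk c : G ⧸ N) ∣ 1 := by
      have := Nat.dvd_gcd ho2 ho1
      rwa [hcopq] at this
    have h1 : (QuotientGroup.mk c : G ⧸ N) = 1 := by
      rw [← orderOf_eq_one_iff]
      exact Nat.dvd_one.mp this
    exact (QuotientGroup.eq_one_iff c).mp h1
  have hnt : Nontrivial G := by
    rw [← Finite.one_lt_card_iff_nontrivial, hcard]
    exact hbig
  refine ⟨?_⟩
  intro N hN
  by_cases hne : N = ⊥
  · exact Or.inl hne
  · right
    have ha_mem : a ∈ G := by rw [hG]; exact Subgroup.subset_closure (by simp)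
    have hb_mem : b ∈ G := by rw [hG]; exact Subgroup.subset_closure (by simp)
    have hA : (⟨a, ha_mem⟩ : G) ∈ N := hmemp N hne _ (by
      apply Subtype.ext
      show a ^ p = 1
      exact hap)
    have hB : (⟨b, hb_mem⟩ : G) ∈ N := hmemp N hne _ (by
      apply Subtype.ext
      show b ^ p = 1
      exact hbp)
    rw [Subgroup.eq_top_iff']
    rintro ⟨g, hg⟩
    have hg' : g ∈ Subgroup.closure {a, b} := hG ▸ hg
    have key : ∀ (g : Equiv.Perm (Fin n)) (hg' : g ∈ Subgroup.closure {a, b}) (hg : g ∈ G),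
        (⟨g, hg⟩ : G) ∈ N := by
      intro g hg'
      induction hg' using Subgroup.closure_induction with
      | mem x hx =>
        intro hg
        rcases hx with rfl | rfl
        · exact hA
        · exact hB
      | one => intro hg; exact one_mem N
      | mul x y hx hy ihx ihy =>
        intro hg
        have hx' : x ∈ G := hG ▸ hx
        have hy' : y ∈ G := hG ▸ hy
        have : (⟨x * y, hg⟩ : G) = ⟨x, hx'⟩ * ⟨y, hy'⟩ := rfl
        rw [this]
        exact mul_mem (ihx hx') (ihy hy')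
      | inv x hx ih =>
        intro hg
        have hx' : x ∈ G := hG ▸ hx
        have : (⟨x⁻¹, hg⟩ : G) = (⟨x, hx'⟩ : G)⁻¹ := rfl
        rw [this]
        exact inv_mem (ih hx')
    exact key g hg' hg

end Cfsg.Agent.Lib.Helper18.SimpleCert
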