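import Mathlib
import Cfsg.Agent.Lib.Helper18.SimpleCert

/-!
# A simplicity criterion for primitive permutation groups of arbitrary rank

`G = ⟨a, b⟩` transitive on `Fin n` with `a^p = b^p = 1`, `|G| = n * m` with `m` prime to `p`;
the orbits of a point stabiliser are given by a labelling, and no proper union of them
containing the fixed point has size dividing `n`: then `G` is simple.
-/

namespace Cfsg.Agent.Lib.Helper18.SimpleCert
open scoped Pointwise

variable {n : ℕ}

theorem exists_bits (r : ℕ) (P : ℕ → Prop) :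
    ∃ s < 2 ^ r, ∀ k, s.testBit k = true ↔ (k < r ∧ P k) := by
  classical
  induction r with
  | zero => exact ⟨0, by norm_num, fun k => by simp⟩
  | succ r ih =>
    obtain ⟨s, hs, hbits⟩ := ih
    by_cases hP : P r
    · refine ⟨s + 2 ^ r, by rw [pow_succ]; omega, ?_⟩
      intro k
      have e : s + 2 ^ r = 2 ^ r + s := Nat.add_comm _ _
      rcases Nat.lt_trichotomy k r with hk | rfl | hk
      · rw [e, Nat.testBit_two_pow_add_gt hk, hbits]
        constructor
        · rintro ⟨h1, h2⟩; exact ⟨Nat.lt_succ_of_lt h1, h2⟩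
        · rintro ⟨_, h2⟩; exact ⟨hk, h2⟩
      · rw [e, Nat.testBit_two_pow_add_eq]
        have : s.testBit k = false := Nat.testBit_lt_two_pow hs
        rw [this]
        simp [hP]
      · have hlt : s + 2 ^ r < 2 ^ k := by
          have : 2 ^ (r + 1) ≤ 2 ^ k := Nat.pow_le_pow_right (by norm_num) hk
          rw [pow_succ] at this
          omega
        rw [Nat.testBit_lt_two_pow hlt]
        constructor
        · intro h; exact absurd h (by simp)
        · rintro ⟨h1, _⟩; omega
    · refine ⟨s, by rw [pow_succ]; omega, ?_⟩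
      intro k
      rw [hbits]
      constructor
      · rintro ⟨h1, h2⟩; exact ⟨Nat.lt_succ_of_lt h1, h2⟩
      · rintro ⟨h1, h2⟩
        rcases Nat.lt_succ_iff_lt_or_eq.mp h1 with h1 | rfl
        · exact ⟨h1, h2⟩
        · exact absurd h2 hP

theorem normal_trans_lab (G H : Subgroup (Equiv.Perm (Fin n)))
    (b1 : Fin n) (htrans : ∀ x, ∃ g ∈ G, g • b1 = x)
    (hHle : H ≤ G) (hHfix : ∀ h ∈ H, h • b1 = b1)
    (r : ℕ) (lab : Fin n → ℕ) (rep : ℕ → Fin n)
    (hb1 : lab b1 = 0) (hlab0 : ∀ x, lab x = 0 → x = b1) (hlt : ∀ x, lab x < r)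
    (horb : ∀ x, x ≠ b1 → ∃ h ∈ H, h • rep (lab x) = x)
    (hblk : ∀ s < 2 ^ r, s.testBit 0 = true →
      Set.ncard {x : Fin n | s.testBit (lab x) = true} ∣ n → s = 1 ∨ s = 2 ^ r - 1)
    (N : Subgroup G) [hN : N.Normal] (hne : N ≠ ⊥) :
    MulAction.orbit N b1 = Set.univ := by
  classical
  haveI : MulAction.IsPretransitive G (Fin n) := by
    constructor
    intro x y
    obtain ⟨gx, hgx, hx⟩ := htrans x
    obtain ⟨gy, hgy, hy⟩ := htrans y
    refine ⟨⟨gy * gx⁻¹, mul_mem hgy (inv_mem hgx)⟩, ?_⟩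
    show (gy * gx⁻¹) • x = y
    rw [← hx, ← hy, smul_smul, inv_mul_cancel_right]
  set O : Set (Fin n) := MulAction.orbit N b1 with hO
  have hblock : MulAction.IsBlock G O := MulAction.IsBlock.orbit_of_normal b1
  have hb1O : b1 ∈ O := MulAction.mem_orbit_self b1
  have hdvd : O.ncard ∣ n := by
    have := hblock.ncard_dvd_card ⟨b1, hb1O⟩
    simpa using this
  have hstab := hblock.stabilizer_le hb1O
  have hinv : ∀ h ∈ H, ∀ x ∈ O, h • x ∈ O := by
    intro h hh x hx
    have hG : h ∈ G := hHle hh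
    have h1 : (⟨h, hG⟩ : G) ∈ MulAction.stabilizer G b1 := by
      rw [MulAction.mem_stabilizer_iff]
      exact hHfix h hh
    have h2 := hstab h1
    rw [MulAction.mem_stabilizer_iff] at h2
    have : (⟨h, hG⟩ : G) • x ∈ (⟨h, hG⟩ : G) • O := Set.smul_mem_smul_set hx
    rw [h2] at this
    exact this
  have hex : ∃ y ∈ O, y ≠ b1 := by
    by_contra hcon
    push Not at hcon
    apply hne
    rw [Subgroup.eq_bot_iff_forall]
    intro k hk
    have hfix : ∀ m ∈ N, m • b1 = b1 := by
      intro m hm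
      exact hcon _ ⟨⟨m, hm⟩, rfl⟩
    apply Subtype.ext
    apply Equiv.ext
    intro x
    obtain ⟨g, hg, rfl⟩ := htrans x
    have hc : (⟨g, hg⟩ : G)⁻¹ * k * ⟨g, hg⟩ ∈ N := by
      have := hN.conj_mem k hk (⟨g, hg⟩ : G)⁻¹
      simpa using this
    have := hfix _ hc
    have h3 : (g⁻¹ * k.1 * g) • b1 = b1 := this
    show k.1 • (g • b1) = g • b1
    rw [mul_smul, mul_smul, inv_smul_eq_iff] at h3
    exact h3
  obtain ⟨s, hs, hbits⟩ := exists_bits r (fun k => ∃ x ∈ O, lab x = k)
  have hOeq : O = {x : Fin n | s.testBit (lab x) = true} := by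
    ext x
    rw [Set.mem_ofPred_eq, hbits]
    constructor
    · intro hx
      exact ⟨hlt x, x, hx, rfl⟩
    · rintro ⟨_, x0, hx0, hlab⟩
      by_cases hxb : x = b1
      · rw [hxb]; exact hb1O
      · have hx0b : x0 ≠ b1 := by
          intro hc
          rw [hc, hb1] at hlab
          exact hxb (hlab0 x hlab.symm)
        obtain ⟨h0, hh0, e0⟩ := horb x0 hx0b
        obtain ⟨h, hh, e⟩ := horb x hxb
        have hrepO : rep (lab x) ∈ O := by
          have := hinv h0⁻¹ (inv_mem hh0) x0 hx0
          rw [← e0, inv_smul_smul, hlab] at this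
          exact this
        rw [← e]
        exact hinv h hh _ hrepO
  have h0bit : s.testBit 0 = true := by
    rw [hbits]
    exact ⟨by have := hlt b1; omega, b1, hb1O, hb1⟩
  rw [hOeq] at hdvd
  rcases hblk s hs h0bit hdvd with h1 | h1
  · exfalso
    obtain ⟨y, hyO, hyne⟩ := hex
    rw [hOeq, Set.mem_ofPred_eq, h1] at hyO
    have : lab y = 0 := by
      by_contra hc
      have : (1 : ℕ).testBit (lab y) = false := by
        rw [show (1 : ℕ) = 2 ^ 0 from rfl, Nat.testBit_two_pow]
        simp
        omega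
      rw [this] at hyO
      exact absurd hyO (by simp)
    exact hyne (hlab0 y this)
  · rw [hOeq]
    apply Set.eq_univ_of_forall
    intro x
    rw [Set.mem_ofPred_eq, h1, Nat.testBit_two_pow_sub_one]
    exact decide_eq_true (hlt x)

theorem simple_of_normal_trans [NeZero n] (G : Subgroup (Equiv.Perm (Fin n)))
    (a b : Equiv.Perm (Fin n)) (p m : ℕ)
    (hG : G = Subgroup.closure {a, b}) (hap : a ^ p = 1) (hbp : b ^ p = 1)
    (hcard : Nat.card G = n * m) (hcop : Nat.Coprime m p) (hbig : 1 < n * m)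
    (b1 : Fin n)
    (horbN : ∀ (N : Subgroup G) [N.Normal], N ≠ ⊥ → MulAction.orbit N b1 = Set.univ) :
    IsSimpleGroup G := by
  have hnpos : 0 < n := NeZero.pos n
  have hmemp : ∀ (N : Subgroup G) [N.Normal], N ≠ ⊥ → ∀ c : G, c ^ p = 1 → c ∈ N := by
    intro N hN hne c hc
    have horb := horbN N hne
    have hdiv : n ∣ Nat.card N := by
      have h1 : (MulAction.stabilizer N b1).index = (MulAction.orbit N b1).ncard :=
        MulAction.index_stabilizer N b1
      rw [horb, Set.ncard_univ, Nat.card_fin] at h1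
      have h2 := Subgroup.index_dvd_card (MulAction.stabilizer N b1)
      rw [h1] at h2
      exact h2
    have hcardq : Nat.card (G ⧸ N) * Nat.card N = n * m := by
      rw [← hcard]
      exact (Subgroup.card_eq_card_quotient_mul_card_subgroup N).symm
    have hcopq : Nat.Coprime (Nat.card (G ⧸ N)) p := by
      obtain ⟨t, ht⟩ := hdiv
      rw [ht] at hcardq
      have h6 : Nat.card (G ⧸ N) * t = m := by
        have : n * (Nat.card (G ⧸ N) * t) = n * m := by
          rw [← hcardq]; ring
        exact Nat.eq_of_mul_eq_mul_left hnpos this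
      have hd : Nat.card (G ⧸ N) ∣ m := Dvd.intro _ h6
      exact Nat.Coprime.coprime_dvd_left hd hcop
    have hq : (QuotientGroup.mk c : G ⧸ N) ^ p = 1 := by
      rw [← QuotientGroup.mk_pow, hc]
      rfl
    have hq2 : (QuotientGroup.mk c : G ⧸ N) ^ Nat.card (G ⧸ N) = 1 := pow_card_eq_one'
    have ho1 := orderOf_dvd_of_pow_eq_one hq
    have ho2 := orderOf_dvd_of_pow_eq_one hq2
    have : orderOf (QuotientGroup.mk c : G ⧸ N) ∣ 1 := by
      have := Nat.dvd_gcd ho2 ho1
      rwa [hcopq] at this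
    have h1 : (QuotientGroup.mk c : G ⧸ N) = 1 := by
      rw [← orderOf_eq_one_iff]
      exact Nat.dvd_one.mp this
    exact (QuotientGroup.eq_one_iff c).mp h1
  have hnt : Nontrivial G := by
    rw [← Finite.one_lt_card_iff_nontrivial, hcard]
    exact hbig
  refine ⟨?_⟩
  intro N hN
  by_cases hne : N = ⊥
  · exact Or.inl hne
  · right
    have ha_mem : a ∈ G := by rw [hG]; exact Subgroup.subset_closure (by simp)
    have hb_mem : b ∈ G := by rw [hG]; exact Subgroup.subset_closure (by simp)
    have hA : (⟨a, ha_mem⟩ : G) ∈ N := hmemp N hne _ (by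
      apply Subtype.ext
      show a ^ p = 1
      exact hap)
    have hB : (⟨b, hb_mem⟩ : G) ∈ N := hmemp N hne _ (by
      apply Subtype.ext
      show b ^ p = 1
      exact hbp)
    rw [Subgroup.eq_top_iff']
    rintro ⟨g, hg⟩
    have hg' : g ∈ Subgroup.closure {a, b} := hG ▸ hg
    have key : ∀ (g : Equiv.Perm (Fin n)) (hg' : g ∈ Subgroup.closure {a, b}) (hg : g ∈ G),
        (⟨g, hg⟩ : G) ∈ N := by
      intro g hg'
      induction hg' using Subgroup.closure_induction with
      | mem x hx =>
        intro hg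
        rcases hx with rfl | rfl
        · exact hA
        · exact hB
      | one => intro hg; exact one_mem N
      | mul x y hx hy ihx ihy =>
        intro hg
        have hx' : x ∈ G := hG ▸ hx
        have hy' : y ∈ G := hG ▸ hy
        have : (⟨x * y, hg⟩ : G) = ⟨x, hx'⟩ * ⟨y, hy'⟩ := rfl
        rw [this]
        exact mul_mem (ihx hx') (ihy hy')
      | inv x hx ih =>
        intro hg
        have hx' : x ∈ G := hG ▸ hx
        have : (⟨x⁻¹, hg⟩ : G) = (⟨x, hx'⟩ : G)⁻¹ := rfl
        rw [this]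
        exact inv_mem (ih hx')
    exact key g hg' hg

end Cfsg.Agent.Lib.Helper18.SimpleCert
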