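import Mathlib
import Cfsg.Agent.Lib.Helper18.SimpleCert2
import Cfsg.Agent.Lib.Helper18.J3Check1
import Cfsg.Agent.Lib.Helper18.J3Check2
import Cfsg.Agent.Lib.Helper18.J3Aut
import Cfsg.Agent.Lib.Helper18.J3Ref
import Cfsg.Agent.Lib.Helper18.J3Chain
import Cfsg.Agent.Lib.Helper18.J3Check4
import Cfsg.Agent.Lib.Helper18.J3Blk

/-! Janko's group J3 on 6156 points: order and simplicity from the verified certificate. -/

namespace Cfsg.Agent.Lib.Helper18.J3
open Cfsg.Agent.Lib.Helper18.SS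

abbrev P := Equiv.Perm (Fin 6156)

noncomputable def pA : P := toPerm 13 6156 cA
noncomputable def pB : P := toPerm 13 6156 cB
noncomputable def G : Subgroup P := Subgroup.closure {pA, pB}
noncomputable def K : Subgroup P := KgrpS nbT 85 13 6156

theorem vA : Valid 13 6156 cA := (powOKf_sound chk_powA).1
theorem vB : Valid 13 6156 cB := (powOKf_sound chk_powB).1
theorem pA_pow : pA ^ 19 = 1 := (powOKf_sound chk_powA).2
theorem pB_pow : pB ^ 19 = 1 := (powOKf_sound chk_powB).2
theorem pA_mem : pA ∈ G := Subgroup.subset_closure (by simp)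
theorem pB_mem : pB ∈ G := Subgroup.subset_closure (by simp)

theorem G_le_K : G ≤ K := by
  rw [G, Subgroup.closure_le]
  intro g hg
  rcases hg with rfl | rfl
  · exact autOKS_sound vA chk_autA
  · exact autOKS_sound vB chk_autB

/-- one piece of the straight-line program -/
theorem slp_step (prev : List ℕ) (es : List (ℕ × ℕ × ℕ))
    (hprev : ∀ c ∈ prev, Valid 13 6156 c ∧ toPerm 13 6156 c ∈ G)
    (h : slpOKf 13 6156 prev es = true) :
    (∀ e ∈ es, Valid 13 6156 e.1 ∧ toPerm 13 6156 e.1 ∈ G) ∧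
    (∀ c ∈ prev ++ es.map (fun e => e.1), Valid 13 6156 c ∧ toPerm 13 6156 c ∈ G) := by
  have h1 := slpOK_sound G es prev hprev (slpOKf_sound _ _ h)
  refine ⟨h1, ?_⟩
  intro c hc
  rcases List.mem_append.mp hc with hc | hc
  · exact hprev c hc
  · obtain ⟨e, he, rfl⟩ := List.mem_map.mp hc
    exact h1 e he

theorem mem0 : ∀ c ∈ prev0, Valid 13 6156 c ∧ toPerm 13 6156 c ∈ G := by
  intro c hc
  have hc' : c ∈ [cA, cB] := hc
  simp only [List.mem_cons, List.not_mem_nil, or_false] at hc'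
  rcases hc' with rfl | rfl
  · exact ⟨vA, pA_mem⟩
  · exact ⟨vB, pB_mem⟩

/-- all codes of a list are valid and lie in `G` -/
def MemAll (l : List ℕ) : Prop := ∀ c ∈ l, Valid 13 6156 c ∧ toPerm 13 6156 c ∈ G
/-- all codes of a program are valid and lie in `G` -/
def MemAllE (es : List (ℕ × ℕ × ℕ)) : Prop := ∀ e ∈ es, Valid 13 6156 e.1 ∧ toPerm 13 6156 e.1 ∈ G

theorem st0 : MemAllE slpC0 ∧ MemAll prev1 := slp_step prev0 slpC0 mem0 chk_slp0
theorem st1 : MemAllE slpC1 ∧ MemAll prev2 := slp_step prev1 slpC1 st0.2 chk_slp1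
theorem st2 : MemAllE slpC2 ∧ MemAll prev3 := slp_step prev2 slpC2 st1.2 chk_slp2
theorem st3 : MemAllE slpC3 ∧ MemAll prev4 := slp_step prev3 slpC3 st2.2 chk_slp3
theorem st4 : MemAllE slpC4 ∧ MemAll prev5 := slp_step prev4 slpC4 st3.2 chk_slp4
theorem st5 : MemAllE slpC5 ∧ MemAll prev6 := slp_step prev5 slpC5 st4.2 chk_slp5
theorem st6 : MemAllE slpC6 ∧ MemAll prev7 := slp_step prev6 slpC6 st5.2 chk_slp6
theorem st7 : MemAllE slpC7 ∧ MemAll prev8 := slp_step prev7 slpC7 st6.2 chk_slp7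

theorem slp_mem : ∀ e ∈ slpAll, Valid 13 6156 e.1 ∧ toPerm 13 6156 e.1 ∈ G := by
  intro e he
  have he' : e ∈ slpC0 ++ slpC1 ++ slpC2 ++ slpC3 ++ slpC4 ++ slpC5 ++ slpC6 ++ slpC7 := he
  simp only [List.mem_append] at he'
  rcases he' with ((((((h | h) | h) | h) | h) | h) | h) | h
  · exact st0.1 e h
  · exact st1.1 e h
  · exact st2.1 e h
  · exact st3.1 e h
  · exact st4.1 e h
  · exact st5.1 e h
  · exact st6.1 e h
  · exact st7.1 e h

theorem gens_mem : ∀ p ∈ cpairs chainS, toPerm 13 6156 p.1 ∈ G := by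
  intro p hp
  have h := chk_strong
  rw [List.all_eq_true] at h
  have h := h p hp
  simp only [Bool.or_eq_true, beq_iff_eq, List.any_eq_true] at h
  rcases h with (h | h) | ⟨e, he, h⟩
  · rw [h]; exact pA_mem
  · rw [h]; exact pB_mem
  · rw [← h]; exact (slp_mem e he).2

theorem hdet : ∀ g ∈ K, FixesL 6156 g allB → g = 1 := by
  intro g hg hF
  have i0 : InvC 6156 8 g col0 := init_inv hF chk_init
  have i1 : InvC 6156 8 g col1 := step_inv hg chk_nbValid i0 chk_step0
  have i2 : InvC 6156 8 g col2 := step_inv hg chk_nbValid i1 chk_step1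
  have i3 : InvC 6156 8 g col3 := step_inv hg chk_nbValid i2 chk_step2
  exact sortedSig_fixed hg chk_nbValid i3 chk_sorted

theorem main : ConsOK chainS ∧ CFacts 13 6156 K [] chainS ∧ Good (absC2 13 6156 chainS) :=
  chainOK2_sound K allB hdet chainS [] chk_cover (fun p hp => G_le_K (gens_mem p hp)) chk_chain

theorem good : Good (absC2 13 6156 chainS) := main.2.2
theorem goodR : Good (absC2 13 6156 chainR) := good.1

theorem grp_eq : grp (absC2 13 6156 chainS) = G := by
  apply le_antisymm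
  · rw [grp, Subgroup.closure_le]
    intro g hg
    have hg' : g ∈ gensOf (absC2 13 6156 chainS) := hg
    rw [gensOf_abs2 main.1, List.mem_map] at hg'
    obtain ⟨p, hp, rfl⟩ := hg'
    exact gens_mem p hp
  · rw [G, Subgroup.closure_le]
    intro g hg
    apply Subgroup.subset_closure
    show g ∈ gensOf (absC2 13 6156 chainS)
    rw [gensOf_abs2 main.1, List.mem_map]
    rcases hg with rfl | rfl
    · refine ⟨(cA, cAi), ?_, rfl⟩
      show (cA, cAi) ∈ lvl1.P
      exact List.mem_cons_self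
    · refine ⟨(cB, cBi), ?_, rfl⟩
      show (cB, cBi) ∈ lvl1.P
      exact List.mem_cons_of_mem _ List.mem_cons_self

theorem abs_lengths (ch : List CLvl2) :
    (absC2 13 6156 ch).map (fun l => l.U.length)
      = ch.map (fun l => ((List.range 6156).filter (inOrb 6156 l)).length) := by
  simp [absC2, absL2, List.map_map, Function.comp_def]

theorem card_G : Nat.card G = 50232960 := by
  rw [← grp_eq, card_grp good, abs_lengths, chk_card]

/-- the subgroup fixing the first base point -/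
noncomputable def H : Subgroup P := grp (absC2 13 6156 chainR)

theorem H_le : H ≤ G := by
  rw [← grp_eq]
  exact grp_mono _ _

def b1 : Fin 6156 := Fin.ofNat 6156 lvl1.b

theorem b1_eq : b1 = 0 := by
  apply Fin.ext
  show lvl1.b % 6156 = 0
  rw [chk_b1z]

theorem H_fix {h : P} (hh : h ∈ H) : h • b1 = b1 :=
  grp_fixes (l := absL2 13 6156 lvl1) (r := absC2 13 6156 chainR) good hh

theorem covers {α : Type*} [Fintype α] [DecidableEq α] (L : List α) (hnd : L.Nodup)
    (hlen : L.length = Fintype.card α) : ∀ x, x ∈ L := by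
  intro x
  have : L.toFinset = Finset.univ :=
    Finset.eq_univ_of_card _ (by rw [List.toFinset_card_of_nodup hnd, hlen])
  have hx : x ∈ L.toFinset := this ▸ Finset.mem_univ x
  exact List.mem_toFinset.mp hx

theorem G_trans : ∀ x : Fin 6156, ∃ g ∈ G, g • b1 = x := by
  intro x
  have hnd := good.2.2.2.2.1
  have hx := covers _ hnd (by
    show (((absL2 13 6156 lvl1).U.map _).length = Fintype.card (Fin 6156))
    simp [absL2, chk_len1]) x
  rw [List.mem_map] at hx
  obtain ⟨u, hu, rfl⟩ := hx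
  refine ⟨u, ?_, rfl⟩
  rw [← grp_eq]
  exact good.2.2.1 u hu

theorem lf2 : LFacts 13 6156 K [lvl1.b] lvl2 := main.2.1.2.1

/-- the label of the suborbit of a point -/
def lab (x : Fin 6156) : ℕ := fld 4 labT x.val

/-- the representative of a suborbit -/
def rep (k : ℕ) : Fin 6156 := Fin.ofNat 6156 (repOf k)

theorem repOf_lt (k : ℕ) : repOf k < 6156 := by
  by_cases hk : k < 8
  · exact chk_reps k hk
  · have : repOf k = 0 := by
      unfold repOf reps
      exact List.getD_eq_default _ _ (by simp; omega)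
    rw [this]
    norm_num

theorem orbAll : ∀ x : Fin 6156, x ≠ b1 → ∃ h ∈ H, h • rep (lab x) = x := by
  intro x hx
  have hcons : ConsOK chainR := main.1.2
  have hcodes : ∀ c ∈ wordTo 13 lvl2.P ogt opt (repOf (lab x)) ofuel x.val, ∃ p ∈ lvl2.P, c = p.1 := by
    intro c hc
    obtain ⟨p, hp, rfl⟩ := wordTo_mem lvl2.P ogt opt (repOf (lab x)) ofuel x.val c hc
    exact ⟨p, hp, rfl⟩
  have hmem : evalP 13 6156 (wordTo 13 lvl2.P ogt opt (repOf (lab x)) ofuel x.val) ∈ H := by
    apply evalP_mem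
    intro c hc
    obtain ⟨p, hp, rfl⟩ := hcodes c hc
    apply Subgroup.subset_closure
    show toPerm 13 6156 p.1 ∈ gensOf (absC2 13 6156 chainR)
    rw [gensOf_abs2 hcons]
    exact List.mem_map.mpr ⟨p, hp, rfl⟩
  refine ⟨_, hmem, ?_⟩
  apply Fin.ext
  show ((evalP 13 6156 (wordTo 13 lvl2.P ogt opt (repOf (lab x)) ofuel x.val)
    (Fin.ofNat 6156 (repOf (lab x)) : Fin 6156) : Fin 6156) : ℕ) = x.val
  have hval : ∀ c ∈ wordTo 13 lvl2.P ogt opt (repOf (lab x)) ofuel x.val, Valid 13 6156 c := by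
    intro c hc
    obtain ⟨p, hp, rfl⟩ := hcodes c hc
    exact (lf2.pairs p hp).1
  rw [ofNat_eq (repOf_lt _), evalP_val hval, ← evalF_eq]
  have h1 := chk_orb
  rw [loopAll_iff] at h1
  have h2 := h1 x.val x.2
  rw [Bool.or_eq_true] at h2
  rcases h2 with h2 | h2
  · exfalso
    apply hx
    apply Fin.ext
    rw [Nat.eq_of_beq_eq_true h2]
    exact (Nat.mod_eq_of_lt chk_b1).symm
  · exact Nat.eq_of_beq_eq_true h2

theorem lab_b1 : lab b1 = 0 := by
  show fld 4 labT (lvl1.b % 6156) = 0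
  rw [Nat.mod_eq_of_lt chk_b1]
  exact chk_lab0

theorem lab_facts (x : Fin 6156) : lab x < 8 ∧ (lab x = 0 → x = b1) := by
  have h1 := chk_lab
  rw [loopAll_iff] at h1
  have h2 := h1 x.val x.2
  rw [Bool.and_eq_true, Nat.blt_eq, Bool.or_eq_true] at h2
  refine ⟨h2.1, ?_⟩
  intro h0
  rcases h2.2 with h3 | h3
  · apply Fin.ext
    rw [Nat.eq_of_beq_eq_true h3]
    exact (Nat.mod_eq_of_lt chk_b1).symm
  · exfalso
    have : Nat.beq (fld 4 labT x.val) 0 = true := by
      show Nat.beq (lab x) 0 = true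
      rw [h0]
      rfl
    rw [this] at h3
    exact absurd h3 (by simp)

theorem blk : ∀ s < 2 ^ 8, s.testBit 0 = true →
    Set.ncard {x : Fin 6156 | s.testBit (lab x) = true} ∣ 6156 → s = 1 ∨ s = 2 ^ 8 - 1 := by
  intro s hs h0 hd
  have e : {x : Fin 6156 | s.testBit (lab x) = true}
      = {x : Fin 6156 | labq s x.val = true} := rfl
  rw [e, SimpleCert.ncard_fin_pred] at hd
  have hs' : s < 256 := by
    have : (2 : ℕ) ^ 8 = 256 := by norm_num
    rw [this] at hs
    exact hs
  have hq := chk_blkQ s hs'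
  have e2 : (2 : ℕ) ^ 8 - 1 = 255 := by norm_num
  rw [e2]
  rw [blkQ, Bool.or_eq_true, Bool.or_eq_true, Bool.or_eq_true] at hq
  rcases hq with ((hq | hq) | hq) | hq
  · rw [h0] at hq
    exact absurd hq (by simp)
  · exfalso
    have hm : Nat.mod 6156 (List.filter (labq s) (List.range 6156)).length = 0 :=
      Nat.mod_eq_zero_of_dvd hd
    rw [hm] at hq
    exact absurd hq (by simp)
  · exact Or.inl (Nat.eq_of_beq_eq_true hq)
  · exact Or.inr (Nat.eq_of_beq_eq_true hq)

theorem G_simple : IsSimpleGroup G := by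
  refine SimpleCert.simple_of_normal_trans G pA pB 19 8160 rfl pA_pow pB_pow
    (by rw [card_G]) (by norm_num) (by norm_num) b1 ?_
  intro N _ hne
  exact SimpleCert.normal_trans_lab G H b1 G_trans H_le (fun h hh => H_fix hh) 8 lab rep
    lab_b1 (fun x => (lab_facts x).2) (fun x => (lab_facts x).1) orbAll blk N hne

theorem G_pretrans : MulAction.IsPretransitive G (Fin 6156) := by
  constructor
  intro x y
  obtain ⟨gx, hgx, hx⟩ := G_trans x
  obtain ⟨gy, hgy, hy⟩ := G_trans y
  refine ⟨⟨gy * gx⁻¹, mul_mem hgy (inv_mem hgx)⟩, ?_⟩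
  show (gy * gx⁻¹) • x = y
  rw [← hx, ← hy, smul_smul, inv_mul_cancel_right]

theorem stab_card : Nat.card (MulAction.stabilizer G (0 : Fin 6156)) = 8160 := by
  have := G_pretrans
  have h1 : (MulAction.stabilizer G (0 : Fin 6156)).index
      = (MulAction.orbit G (0 : Fin 6156)).ncard := MulAction.index_stabilizer G 0
  rw [MulAction.orbit_eq_univ, Set.ncard_univ, Nat.card_fin] at h1
  have h2 := Subgroup.card_mul_index (MulAction.stabilizer G (0 : Fin 6156))
  rw [h1, card_G] at h2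
  have h3 : (50232960 : ℕ) = 8160 * 6156 := by norm_num
  rw [h3] at h2
  exact Nat.eq_of_mul_eq_mul_right (by norm_num) h2

end Cfsg.Agent.Lib.Helper18.J3
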