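import Mathlib
import Cfsg.Prelude.Def_Sporadic_a

/-!
The projective plane over a field with four elements as a Steiner system S(2,5,21), with the
action of `PSL(3, F)` by collineations.
-/

set_option autoImplicit false

namespace Cfsg.Agent.Lib.Helper18.PG2

open Projectivization Matrix
open scoped LinearAlgebra.Projectivization MatrixGroups Classical

variable {F : Type*} [Field F]

/-- The linear functional `v ↦ w ⬝ᵥ v`. -/
def dotLin (w : Fin 3 → F) : (Fin 3 → F) →ₗ[F] F where
  toFun v := w ⬝ᵥ v
  map_add' := dotProduct_add w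
  map_smul' c v := by simp [dotProduct_smul]

theorem dotLin_apply (w v : Fin 3 → F) : dotLin w v = w ⬝ᵥ v := rfl

theorem finrank_ker_dotLin {w : Fin 3 → F} (hw : w ≠ 0) :
    Module.finrank F (LinearMap.ker (dotLin w)) = 2 := by
  obtain ⟨v, hv⟩ : ∃ v, w ⬝ᵥ v ≠ 0 := by
    by_contra hcon
    push Not at hcon
    exact hw ((dotProduct_eq_zero_iff).1 hcon)
  have hsurj : Function.Surjective (dotLin w) := by
    intro c
    refine ⟨(c / (w ⬝ᵥ v)) • v, ?_⟩
    rw [map_smul, dotLin_apply, smul_eq_mul, div_mul_cancel₀ c hv]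
  have h := LinearMap.finrank_range_add_finrank_ker (dotLin w)
  rw [LinearMap.range_eq_top.2 hsurj, finrank_top, Module.finrank_self,
    Module.finrank_fin_fun] at h
  omega

variable [Fintype F]

theorem card_points (hF : Fintype.card F = 4) : Nat.card (ℙ F (Fin 3 → F)) = 21 := by
  rw [Projectivization.card_of_finrank F (Fin 3 → F) (Module.finrank_fin_fun F),
    Nat.card_eq_fintype_card, hF]
  rfl

theorem ncard_line (hF : Fintype.card F = 4) (a : ℙ F (Fin 3 → F)) :
    {x : ℙ F (Fin 3 → F) | orthogonal a x}.ncard = 5 := by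
  induction a using Projectivization.ind with | _ w hw => ?_
  set W := LinearMap.ker (dotLin w) with hW
  have hinj : Function.Injective W.subtype := W.injective_subtype
  have hset : {x : ℙ F (Fin 3 → F) | orthogonal (Projectivization.mk F w hw) x} =
      Set.range (Projectivization.map W.subtype hinj) := by
    ext x
    induction x using Projectivization.ind with | _ v hv => ?_
    rw [Set.mem_ofPred_eq, orthogonal_mk hw hv]
    constructor
    · intro h
      have hvW : v ∈ W := h
      refine ⟨Projectivization.mk F ⟨v, hvW⟩ (fun h0 => hv (congrArg Subtype.val h0)), ?_⟩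
      rw [Projectivization.map_mk]
      rfl
    · rintro ⟨y, hy⟩
      induction y using Projectivization.ind with | _ u hu => ?_
      rw [Projectivization.map_mk, Projectivization.mk_eq_mk_iff'] at hy
      obtain ⟨c, hc⟩ := hy
      have hu' : w ⬝ᵥ u.1 = 0 := u.2
      have : v = c⁻¹ • u.1 := by
        have hc0 : c ≠ 0 := by
          rintro rfl
          rw [zero_smul] at hc
          exact hu (Subtype.ext hc.symm)
        have hc' : c • v = u.1 := hc
        rw [← hc', smul_smul, inv_mul_cancel₀ hc0, one_smul]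
      rw [this, dotProduct_smul, hu', smul_zero]
  rw [hset, Set.ncard_range_of_injective (Projectivization.map_injective _ hinj),
    Projectivization.card_of_finrank_two F W (finrank_ker_dotLin hw), Nat.card_eq_fintype_card,
    hF]

variable [Fintype (ℙ F (Fin 3 → F))]

/-- The line with coordinates `a`. -/
noncomputable def lineOf (a : ℙ F (Fin 3 → F)) : Finset (ℙ F (Fin 3 → F)) :=
  Finset.univ.filter (fun x => orthogonal a x)

theorem mem_lineOf {a x : ℙ F (Fin 3 → F)} : x ∈ lineOf a ↔ orthogonal a x := by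
  simp [lineOf]

theorem card_lineOf (hF : Fintype.card F = 4) (a : ℙ F (Fin 3 → F)) : (lineOf a).card = 5 := by
  rw [← ncard_line hF a, ← Set.ncard_coe_finset]
  congr 1
  ext x
  simp [mem_lineOf]

/-- The lines of the plane. -/
noncomputable def lines (F : Type*) [Field F] [Fintype (ℙ F (Fin 3 → F))] :
    Set (Finset (ℙ F (Fin 3 → F))) :=
  Set.range lineOf

omit [Fintype F] in
theorem eq_cross_of_orthogonal {a x y : ℙ F (Fin 3 → F)} (hxy : x ≠ y) (hax : orthogonal a x)
    (hay : orthogonal a y) : a = cross x y := by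
  induction a using Projectivization.ind with | _ w hw => ?_
  induction x using Projectivization.ind with | _ u hu => ?_
  induction y using Projectivization.ind with | _ v hv => ?_
  rw [orthogonal_mk hw hu] at hax
  rw [orthogonal_mk hw hv] at hay
  rw [cross_mk_of_ne hu hv hxy, mk_eq_mk_iff_crossProduct_eq_zero,
    cross_cross_eq_smul_sub_smul', dotProduct_comm u w, hax, hay, zero_smul, zero_smul, sub_zero]

theorem steiner_lines (hF : Fintype.card F = 4) : IsSteinerSystem 2 5 (lines F) := by
  constructor
  · rintro _ ⟨a, rfl⟩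
    exact card_lineOf hF a
  · intro s hs
    obtain ⟨x, y, hxy, rfl⟩ := Finset.card_eq_two.1 hs
    refine ⟨lineOf (cross x y), ⟨⟨_, rfl⟩, ?_⟩, ?_⟩
    · intro z hz
      rw [Finset.mem_insert, Finset.mem_singleton] at hz
      rw [mem_lineOf]
      rcases hz with rfl | rfl
      · exact cross_orthogonal_left hxy
      · exact cross_orthogonal_right hxy
    · rintro _ ⟨⟨a, rfl⟩, hsub⟩
      have hax : orthogonal a x := mem_lineOf.1 (hsub (Finset.mem_insert_self _ _))
      have hay : orthogonal a y :=
        mem_lineOf.1 (hsub (Finset.mem_insert_of_mem (Finset.mem_singleton_self _)))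
      rw [eq_cross_of_orthogonal hxy hax hay]

omit [Fintype F] [Fintype (ℙ F (Fin 3 → F))] in
theorem dot_smul (g : SL(3, F)) (w v : Fin 3 → F) :
    (SpecialLinearGroup.transpose g⁻¹ • w) ⬝ᵥ (g • v) = w ⬝ᵥ v := by
  have h : (g⁻¹).1 * g.1 = 1 := congrArg Subtype.val (inv_mul_cancel g)
  rw [Matrix.SpecialLinearGroup.smul_def g v, Matrix.SpecialLinearGroup.smul_def,
    Matrix.smul_eq_mulVec, Matrix.smul_eq_mulVec]
  show ((g⁻¹).1ᵀ *ᵥ w) ⬝ᵥ (g.1 *ᵥ v) = w ⬝ᵥ v
  rw [Matrix.mulVec_transpose, Matrix.dotProduct_mulVec, Matrix.vecMul_vecMul, h,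
    Matrix.vecMul_one]

omit [Fintype F] [Fintype (ℙ F (Fin 3 → F))] in
theorem orthogonal_smul (g : SL(3, F)) (a x : ℙ F (Fin 3 → F)) :
    orthogonal (SpecialLinearGroup.transpose g⁻¹ • a) (g • x) ↔ orthogonal a x := by
  induction a using Projectivization.ind with | _ w hw => ?_
  induction x using Projectivization.ind with | _ v hv => ?_
  rw [Projectivization.smul_mk, Projectivization.smul_mk, orthogonal_mk, orthogonal_mk hw hv,
    dot_smul]

theorem image_lineOf (g : SL(3, F)) (a : ℙ F (Fin 3 → F)) :
    (lineOf a).image (fun x => g • x) = lineOf (SpecialLinearGroup.transpose g⁻¹ • a) := by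
  ext y
  rw [Finset.mem_image, mem_lineOf]
  constructor
  · rintro ⟨x, hx, rfl⟩
    exact (orthogonal_smul g a x).2 (mem_lineOf.1 hx)
  · intro hy
    refine ⟨g⁻¹ • y, mem_lineOf.2 ?_, smul_inv_smul g y⟩
    rw [← orthogonal_smul g a (g⁻¹ • y), smul_inv_smul]
    exact hy

end Cfsg.Agent.Lib.Helper18.PG2
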