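import Mathlib
import Cfsg.Prelude.Def_Sporadic_a
import Cfsg.Agent.Lib.Helper18.PG2
import Cfsg.Agent.Lib.Helper18.Plane4i

/-!
`PSL(3, F)` embeds into the collineation group of the projective plane over `F`.
-/

set_option autoImplicit false

namespace Cfsg.Agent.Lib.Helper18.PG2

open Projectivization Matrix Cfsg.Agent.Lib.Helper18.Plane4
open scoped LinearAlgebra.Projectivization MatrixGroups Classical

theorem mem_aut_of_maps' {Ω : Type*} [Fintype Ω] [DecidableEq Ω] {B : Set (Finset Ω)}
    {g : Equiv.Perm Ω} (h : ∀ b ∈ B, b.image g ∈ B) : g ∈ Cfsg.setSystemAut B := by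
  rw [mem_aut_iff]
  apply Set.eq_of_subset_of_ncard_le
  · rintro _ ⟨b, hb, rfl⟩
    exact h b hb
  · rw [Set.ncard_image_of_injective _ (Finset.image_injective g.injective)]
  · exact Set.toFinite _

variable {F : Type*} [Field F] [Fintype F] [Fintype (ℙ F (Fin 3 → F))]

theorem toPerm_mem (g : SL(3, F)) :
    (MulAction.toPerm g : Equiv.Perm (ℙ F (Fin 3 → F))) ∈ Cfsg.setSystemAut (lines F) := by
  apply mem_aut_of_maps'
  rintro _ ⟨a, rfl⟩
  exact ⟨SpecialLinearGroup.transpose g⁻¹ • a, (image_lineOf g a).symm⟩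

/-- The embedding of `PSL(3, F)` into the collineation group. -/
noncomputable def pslHom : PSL(3, F) →* ↥(Cfsg.setSystemAut (lines F)) :=
  MonoidHom.codRestrict (Projectivization.PSLAction.toPermHom (K := F) (ι := Fin 3))
    (Cfsg.setSystemAut (lines F)) (by
      intro x
      obtain ⟨g, rfl⟩ := QuotientGroup.mk_surjective x
      exact toPerm_mem g)

theorem pslHom_injective : Function.Injective (pslHom (F := F)) := by
  intro x y h
  apply Matrix.ProjectiveSpecialLinearGroup.toPermHom_injective
  exact congrArg Subtype.val h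

end Cfsg.Agent.Lib.Helper18.PG2
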