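import Mathlib
import Cfsg.Prelude.Def_Sporadic_a
import Cfsg.Agent.Lib.Helper21.GolayConj
import Cfsg.Agent.Lib.Helper21.GolayFacts
import Cfsg.Agent.Lib.Helper21.GolayTrans5
import Cfsg.Agent.Lib.Helper18.PG2b

/-!
The projective plane of order 4 on the 21 points outside three given points, whose lines come
from the octads through the three points, and the action of the three-point stabiliser of `M24`.
-/

set_option autoImplicit false

namespace Cfsg.Agent.Lib.Helper18.M21

open Cfsg Finset Cfsg.Agent.Lib.Helper21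
open scoped Pointwise

variable (T : Finset GolayPt)

/-- The points outside `T`. -/
abbrev PtOut : Type := {x : GolayPt // x ∉ T}

/-- Add the base points to a set of the remaining points. -/
def upT (b : Finset (PtOut T)) : Finset GolayPt :=
  T ∪ b.map (Function.Embedding.subtype _)

variable {T}

theorem mem_upT {b : Finset (PtOut T)} {x : GolayPt} :
    x ∈ upT T b ↔ x ∈ T ∨ ∃ h : x ∉ T, (⟨x, h⟩ : PtOut T) ∈ b := by
  simp only [upT, mem_union, mem_map, Function.Embedding.coe_subtype]
  constructor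
  · rintro (h | ⟨y, hy, rfl⟩)
    · exact Or.inl h
    · exact Or.inr ⟨y.2, hy⟩
  · rintro (h | ⟨h, hx⟩)
    · exact Or.inl h
    · exact Or.inr ⟨⟨x, h⟩, hx, rfl⟩

theorem card_upT (b : Finset (PtOut T)) : (upT T b).card = T.card + b.card := by
  rw [upT, card_union_of_disjoint, card_map]
  rw [disjoint_left]
  intro x hx hx'
  obtain ⟨y, _, rfl⟩ := mem_map.1 hx'
  exact y.2 hx

theorem upT_subset {s b : Finset (PtOut T)} (h : s ⊆ b) : upT T s ⊆ upT T b := by
  intro x hx
  rw [mem_upT] at hx ⊢
  rcases hx with h1 | ⟨h1, h2⟩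
  · exact Or.inl h1
  · exact Or.inr ⟨h1, h h2⟩

theorem down_upT (b : Finset (PtOut T)) : (upT T b).subtype (· ∉ T) = b := by
  ext y
  rw [mem_subtype, mem_upT]
  constructor
  · rintro (h | ⟨_, h2⟩)
    · exact absurd h y.2
    · exact h2
  · intro h
    exact Or.inr ⟨y.2, h⟩

theorem upT_down {o : Finset GolayPt} (h : T ⊆ o) : upT T (o.subtype (· ∉ T)) = o := by
  ext x
  rw [mem_upT]
  constructor
  · rintro (h1 | ⟨_, h3⟩)
    · exact h h1
    · exact mem_subtype.1 h3
  · intro hx
    by_cases e1 : x ∈ T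
    · exact Or.inl e1
    · exact Or.inr ⟨e1, mem_subtype.2 hx⟩

theorem upT_injective : Function.Injective (upT T) := by
  intro b b' h
  rw [← down_upT b, ← down_upT b', h]

variable (T) in
/-- The derived design. -/
def DT : Set (Finset (PtOut T)) := {b | upT T b ∈ octads}

theorem steiner_DT (hT : T.card = 3) : IsSteinerSystem 2 5 (DT T) := by
  have hO := octads_steiner
  constructor
  · intro b hb
    have := hO.1 _ hb
    rw [card_upT, hT] at this
    omega
  · intro s hs
    obtain ⟨o, ⟨ho, hsub⟩, huniq⟩ := hO.2 (upT T s) (by rw [card_upT, hs, hT])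
    have hTo : T ⊆ o := fun x hx => hsub (mem_upT.2 (Or.inl hx))
    refine ⟨o.subtype (· ∉ T), ⟨?_, ?_⟩, ?_⟩
    · show upT T (o.subtype (· ∉ T)) ∈ octads
      rw [upT_down hTo]
      exact ho
    · intro y hy
      rw [mem_subtype]
      exact hsub (mem_upT.2 (Or.inr ⟨y.2, hy⟩))
    · rintro b' ⟨hb', hsb'⟩
      have : upT T b' = o := huniq _ ⟨hb', upT_subset hsb'⟩
      rw [← this, down_upT]

theorem card_ptOut (hT : T.card = 3) : Fintype.card (PtOut T) = 21 := by
  rw [Fintype.card_subtype_compl, Fintype.card_coe, hT]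
  rfl

theorem notMem_iff {g : Equiv.Perm GolayPt} (hg : ∀ t ∈ T, g t = t) (x : GolayPt) :
    g x ∉ T ↔ x ∉ T := by
  rw [not_iff_not]
  constructor
  · intro h
    have := hg _ h
    rw [g.injective this] at h
    exact h
  · intro h
    rw [hg x h]
    exact h

theorem upT_image {g : Equiv.Perm GolayPt} (hg : ∀ t ∈ T, g t = t) (b : Finset (PtOut T)) :
    upT T (b.image (g.subtypePerm (notMem_iff hg))) = g • upT T b := by
  ext x
  rw [← Finset.inv_smul_mem_iff]
  have hx' : g⁻¹ x ∉ T ↔ x ∉ T := by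
    rw [← notMem_iff hg (g⁻¹ x)]
    simp
  show x ∈ upT T (b.image (g.subtypePerm (notMem_iff hg))) ↔ g⁻¹ x ∈ upT T b
  rw [mem_upT, mem_upT]
  by_cases hx : x ∈ T
  · exact iff_of_true (Or.inl hx) (Or.inl (not_not.1 (fun h => (hx'.1 h) hx)))
  · constructor
    · rintro (h | ⟨_, h⟩)
      · exact absurd h hx
      · right
        refine ⟨hx'.2 hx, ?_⟩
        obtain ⟨y, hy, hyx⟩ := mem_image.1 h
        have h1 : g y.1 = x := congrArg Subtype.val hyx
        have : y = ⟨g⁻¹ x, hx'.2 hx⟩ := by
          apply Subtype.ext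
          show y.1 = g⁻¹ x
          rw [← h1]
          simp
        rwa [← this]
    · rintro (h | ⟨h1, h⟩)
      · exact absurd h (hx'.2 hx)
      · right
        refine ⟨hx, mem_image.2 ⟨_, h, Subtype.ext ?_⟩⟩
        show g (g⁻¹ x) = x
        simp

end Cfsg.Agent.Lib.Helper18.M21
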