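import Mathlib
import Cfsg.Prelude.Def_Sporadic_a
import Cfsg.Agent.Lib.Helper18.M21Plane
import Cfsg.Agent.Lib.Helper21.GolayChain

/-!
The three-point stabiliser of `M24` has order 20160 and embeds into the collineation group of
the plane on the remaining 21 points.
-/

set_option autoImplicit false

namespace Cfsg.Agent.Lib.Helper18.M21

open Cfsg Finset Cfsg.Agent.Lib.Helper21 Cfsg.Agent.Lib.Helper18.PG2
open scoped Pointwise

/-- The three-point stabiliser. -/
abbrev K3 (p q r : GolayPt) : Subgroup ↥M24 :=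
  MulAction.stabilizer M24 p ⊓ MulAction.stabilizer M24 q ⊓ MulAction.stabilizer M24 r

theorem card_K3 {p q r : GolayPt} (hpq : p ≠ q) (hpr : p ≠ r) (hqr : q ≠ r) :
    Nat.card ↥(K3 p q r) = 20160 := by
  have hfix : K3 p q r = fixingSubgroup M24 ({p, q, r} : Set GolayPt) := by
    ext g
    rw [Subgroup.mem_inf, Subgroup.mem_inf, MulAction.mem_stabilizer_iff,
      MulAction.mem_stabilizer_iff, MulAction.mem_stabilizer_iff, mem_fixingSubgroup_iff]
    constructor
    · rintro ⟨⟨h1, h2⟩, h3⟩ y hy
      rcases hy with rfl | rfl | rfl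
      · exact h1
      · exact h2
      · exact h3
    · intro h
      exact ⟨⟨h p (by simp), h q (by simp)⟩, h r (by simp)⟩
  rw [hfix]
  have hn : ({p, q, r} : Set GolayPt).ncard = 3 := by
    rw [Set.ncard_eq_three]
    exact ⟨p, q, r, hpq, hpr, hqr, rfl⟩
  have h2 : Nat.card GolayPt = 24 := by
    rw [Nat.card_eq_fintype_card]; rfl
  have hidx := MulAction.IsMultiplyPretransitive.index_of_fixingSubgroup_eq
    (G := M24) ({p, q, r} : Set GolayPt)
    (by rw [hn]; exact M24_pretransitive_of_le (by norm_num))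
  rw [hn, h2] at hidx
  have h1 := Subgroup.card_mul_index (fixingSubgroup M24 ({p, q, r} : Set GolayPt))
  rw [hidx, card_M24] at h1
  have h3 : Nat.choose 24 3 * Nat.factorial 3 = 12144 := by decide
  rw [h3] at h1
  omega

variable {p q r : GolayPt}

theorem K3_fix (k : ↥(K3 p q r)) : ∀ t ∈ ({p, q, r} : Finset GolayPt), k.1.1 t = t := by
  intro t ht
  rw [mem_insert, mem_insert, mem_singleton] at ht
  rcases ht with rfl | rfl | rfl
  · exact MulAction.mem_stabilizer_iff.1 k.2.1.1
  · exact MulAction.mem_stabilizer_iff.1 k.2.1.2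
  · exact MulAction.mem_stabilizer_iff.1 k.2.2

/-- The action on the 21 remaining points. -/
noncomputable def rho3 (k : ↥(K3 p q r)) : Equiv.Perm (PtOut ({p, q, r} : Finset GolayPt)) :=
  (k.1.1 : Equiv.Perm GolayPt).subtypePerm (notMem_iff (K3_fix k))

theorem rho3_mem (k : ↥(K3 p q r)) :
    rho3 k ∈ Cfsg.setSystemAut (DT ({p, q, r} : Finset GolayPt)) := by
  apply mem_aut_of_maps'
  intro b hb
  show upT _ (b.image (rho3 k)) ∈ octads
  rw [rho3, upT_image (K3_fix k)]
  exact smul_mem_octads k.1.2 hb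

/-- The homomorphism into the collineation group. -/
noncomputable def rhoHom (p q r : GolayPt) :
    ↥(K3 p q r) →* ↥(Cfsg.setSystemAut (DT ({p, q, r} : Finset GolayPt))) :=
  MonoidHom.mk' (fun k => ⟨rho3 k, rho3_mem k⟩) (by
    intro k k'
    apply Subtype.ext
    apply Equiv.ext
    intro y
    rfl)

theorem rhoHom_injective : Function.Injective (rhoHom p q r) := by
  intro k k' h
  apply Subtype.ext
  apply Subtype.ext
  apply Equiv.ext
  intro x
  by_cases hx : x ∈ ({p, q, r} : Finset GolayPt)
  · rw [K3_fix k x hx, K3_fix k' x hx]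
  · have h1 : rho3 k = rho3 k' := congrArg Subtype.val h
    have := congrArg (fun f : Equiv.Perm (PtOut ({p, q, r} : Finset GolayPt)) =>
      ((f ⟨x, hx⟩ : PtOut ({p, q, r} : Finset GolayPt)) : GolayPt)) h1
    exact this

end Cfsg.Agent.Lib.Helper18.M21
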