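import Mathlib

/-!
The order of `PSL(3, F)` for a field `F` with four elements is `20160`.
-/

set_option autoImplicit false

namespace Cfsg.Agent.Lib.Helper18.PSL3

open Matrix Matrix.SpecialLinearGroup
open scoped MatrixGroups

variable {F : Type*} [Field F] [Fintype F]

theorem card_units_four (hF : Fintype.card F = 4) : Nat.card Fˣ = 3 := by
  classical
  rw [Nat.card_eq_fintype_card, Fintype.card_units, hF]

theorem card_GL3 (hF : Fintype.card F = 4) : Nat.card (GL (Fin 3) F) = 181440 := by
  rw [Matrix.card_GL_field, hF, Fin.prod_univ_three]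
  rfl

theorem range_toGL :
    (toGL : SL(3, F) →* GL (Fin 3) F).range = (Matrix.GeneralLinearGroup.det).ker := by
  ext A
  rw [MonoidHom.mem_ker]
  constructor
  · rintro ⟨B, rfl⟩
    exact coeToGL_det B
  · intro hA
    have hdet : A.1.det = 1 := by
      have := congrArg Units.val hA
      simpa using this
    refine ⟨⟨A.1, hdet⟩, ?_⟩
    apply Units.ext
    rfl

theorem card_SL3 (hF : Fintype.card F = 4) : Nat.card SL(3, F) = 60480 := by
  classical
  have h1 : Nat.card SL(3, F) = Nat.card (toGL : SL(3, F) →* GL (Fin 3) F).range :=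
    Nat.card_congr (MonoidHom.ofInjective toGL_injective).toEquiv
  have h2 := Subgroup.card_mul_index (Matrix.GeneralLinearGroup.det (n := Fin 3) (R := F)).ker
  rw [Subgroup.index_ker, MonoidHom.range_eq_top.2 Matrix.GeneralLinearGroup.det_surjective,
    Subgroup.card_top, card_units_four hF, card_GL3 hF, ← range_toGL, ← h1] at h2
  omega

theorem card_center_SL3 (hF : Fintype.card F = 4) :
    Nat.card (Subgroup.center SL(3, F)) = 3 := by
  classical
  rw [Nat.card_congr (center_equiv_rootsOfUnity' (0 : Fin 3)).toEquiv]
  have htop : rootsOfUnity (Fintype.card (Fin 3)) F = ⊤ := by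
    rw [eq_top_iff]
    intro u _
    rw [mem_rootsOfUnity, Fintype.card_fin]
    have := pow_card_eq_one' (G := Fˣ) (x := u)
    rwa [card_units_four hF] at this
  rw [htop, Subgroup.card_top, card_units_four hF]

theorem card_PSL3 (hF : Fintype.card F = 4) : Nat.card PSL(3, F) = 20160 := by
  have h := Subgroup.card_eq_card_quotient_mul_card_subgroup (Subgroup.center SL(3, F))
  rw [card_SL3 hF, card_center_SL3 hF] at h
  have h' : Nat.card PSL(3, F) = Nat.card (SL(3, F) ⧸ Subgroup.center SL(3, F)) := rfl
  omega

end Cfsg.Agent.Lib.Helper18.PSL3
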