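import Mathlib

/-!
The projective special linear group of degree three over a field is simple (Iwasawa criterion).
-/

set_option autoImplicit false

namespace Cfsg.Agent.Lib.Helper18.PSL3

open Matrix Matrix.SpecialLinearGroup
open scoped MatrixGroups LinearAlgebra.Projectivization commutatorElement

variable {F : Type*} [Field F]

/-- A diagonal matrix `diag2n` is a product of transvections. -/
theorem diag2n_decompose {i j : Fin 3} (hij : i ≠ j) (a : F) (ha : a ≠ 0) :
    diag2n hij a ha = transvection hij a * transvection hij.symm (- a⁻¹) * transvection hij a *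
      transvection hij (-1) * transvection hij.symm 1 * transvection hij (-1) := by
  apply Subtype.ext
  simp only [coe_mul, diag2n_coe, transvection_coe]
  ext k l
  fin_cases i <;> fin_cases j <;> first | exact absurd rfl hij | skip
  all_goals
    fin_cases k <;> fin_cases l <;>
      simp [Matrix.mul_apply, Fin.sum_univ_three, Matrix.one_apply, Matrix.single_apply,
        Matrix.diagonal_apply, mul_inv_cancel₀ ha, inv_mul_cancel₀ ha, mul_add, add_mul]

/-- For distinct indices, a transvection is a commutator of transvections. -/
theorem transvection_eq_commutator {i j k : Fin 3} (hij : i ≠ j) (hik : i ≠ k) (hkj : k ≠ j)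
    (c : F) : transvection hij c = ⁅transvection hik c, transvection hkj (1 : F)⁆ := by
  rw [commutatorElement_def, transvection_inv, transvection_inv]
  apply Subtype.ext
  simp only [coe_mul, transvection_coe]
  ext r s
  fin_cases i <;> fin_cases j <;> first | exact absurd rfl hij | skip
  all_goals
    fin_cases k <;> first | exact absurd rfl hik | exact absurd rfl hkj | skip
  all_goals
    fin_cases r <;> fin_cases s <;>
      simp [Matrix.mul_apply, Fin.sum_univ_three, Matrix.one_apply, Matrix.single_apply]

theorem exists_third {i j : Fin 3} (hij : i ≠ j) : ∃ k : Fin 3, i ≠ k ∧ k ≠ j := by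
  fin_cases i <;> fin_cases j <;> first | exact absurd rfl hij | skip
  · exact ⟨2, by decide, by decide⟩
  · exact ⟨1, by decide, by decide⟩
  · exact ⟨2, by decide, by decide⟩
  · exact ⟨0, by decide, by decide⟩
  · exact ⟨1, by decide, by decide⟩
  · exact ⟨0, by decide, by decide⟩

theorem transvection_mem_commutator {i j : Fin 3} (hij : i ≠ j) (c : F) :
    transvection hij c ∈ commutator SL(3, F) := by
  obtain ⟨k, hik, hkj⟩ := exists_third hij
  rw [transvection_eq_commutator hij hik hkj]
  exact Subgroup.commutator_mem_commutator (Subgroup.mem_top _) (Subgroup.mem_top _)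

/-- Induction on transvections for `SL(3, F)`. -/
theorem transvection_induction (P : SL(3, F) → Prop)
    (htransvec : ∀ (i j : Fin 3) (h : i ≠ j) (c : F), P (transvection h c))
    (hmul : ∀ A B, P A → P B → P (A * B)) (A : SL(3, F)) : P A := by
  refine diagonal_transvection_induction' P _ (fun i j hij c hc => ?_) htransvec hmul
  rw [diag2n_decompose hij c hc]
  refine hmul _ _ (hmul _ _ (hmul _ _ (hmul _ _ (hmul _ _ ?_ ?_) ?_) ?_) ?_) ?_
  all_goals exact htransvec _ _ _ _

theorem commutator_SL3_eq_top : commutator SL(3, F) = ⊤ :=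
  le_antisymm le_top (fun A _ => transvection_induction _
    (fun _ _ h c => transvection_mem_commutator h c) (fun _ _ => mul_mem) A)

theorem commutator_PSL3_eq_top : commutator PSL(3, F) = ⊤ := by
  have : Group.IsPerfect SL(3, F) := ⟨commutator_SL3_eq_top⟩
  have : Group.IsPerfect (Matrix.ProjectiveSpecialLinearGroup (Fin 3) F) := inferInstance
  exact this.commutator_eq_top

theorem iSup_lineStab_eq_top :
    (⨆ p : ℙ F (Fin 3 → F), lineStab p.submodule) = (⊤ : Subgroup SL(3, F)) := by
  refine le_antisymm le_top (fun A _ => ?_)
  refine transvection_induction (fun A => A ∈ ⨆ p : ℙ F (Fin 3 → F), lineStab p.submodule)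
    (fun i j hij c => ?_) (fun _ _ => mul_mem) A
  have h := SL2Gen.transvection_mem_lineStab (F := F) hij c
  rw [← Projectivization.submodule_mk (K := F) _ (Pi.single_ne_zero_iff.2 one_ne_zero)] at h
  exact (le_iSup (fun p : ℙ F (Fin 3 → F) => lineStab p.submodule) _) h

theorem iSup_iwasawaT_eq_top : iSup (PSL.iwasawaT (F := F) (ι := Fin 3)) = ⊤ := by
  have step1 : iSup (PSL.iwasawaT (F := F) (ι := Fin 3)) =
      Subgroup.map (QuotientGroup.mk' (Subgroup.center (Matrix.SpecialLinearGroup (Fin 3) F)))
        (⨆ p : ℙ F (Fin 3 → F),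
          Matrix.SpecialLinearGroup.lineStab (F := F) (ι := Fin 3) p.submodule) := by
    rw [Subgroup.map_iSup]
  rw [step1, iSup_lineStab_eq_top]
  exact Subgroup.map_top_of_surjective _ (QuotientGroup.mk'_surjective _)

/-- The Iwasawa structure on `PSL(3, F)`. -/
noncomputable def iwasawa : MulAction.IwasawaStructure PSL(3, F) (ℙ F (Fin 3 → F)) where
  T := PSL.iwasawaT
  is_comm p := by
    have hSL : IsMulCommutative (lineStab (F := F) (ι := Fin 3) p.submodule) := by
      rw [← Projectivization.mk_rep p, Projectivization.submodule_mk]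
      exact lineStab_isMulCommutative_of_span p.rep p.rep_nonzero
    exact Subgroup.map_isMulCommutative _ _
  is_conj g p := by
    obtain ⟨g_SL, rfl⟩ := QuotientGroup.mk_surjective g
    rw [Matrix.ProjectiveSpecialLinearGroup.smul_proj_mk]
    change Subgroup.map _ _ = _
    rw [PSL.smul_submodule, Matrix.SpecialLinearGroup.lineStab_smul,
      PSL.iwasawaT_map_conj]
  is_generator := iSup_iwasawaT_eq_top

/-- `PSL(3, F)` is simple. -/
theorem isSimpleGroup_PSL3 : IsSimpleGroup PSL(3, F) :=
  MulAction.IwasawaStructure.isSimpleGroup commutator_PSL3_eq_top iwasawa inferInstance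

end Cfsg.Agent.Lib.Helper18.PSL3
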