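import Mathlib
import Cfsg.Prelude.Def_Sporadic_a
import Cfsg.Agent.Lib.Helper18.Plane4i
import Cfsg.Agent.Lib.Helper18.S22Card

/-!
The collineation group of a projective plane of order 4 has order 120960.
-/

set_option autoImplicit false

namespace Cfsg.Agent.Lib.Helper18.Plane4

open Cfsg Finset Cfsg.Agent.Lib.Helper18.S22Plane

variable {α : Type*} [Fintype α] [DecidableEq α]

/-- Enumerations of hyperovals. -/
noncomputable def hypFrames (L : Set (Finset α)) : Finset (Fin 6 → α) :=
  (indepSets L 6).biUnion enums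

theorem mem_hypFrames {L : Set (Finset α)} {f : Fin 6 → α} :
    f ∈ hypFrames L ↔ ∃ H, IsHyperoval L H ∧ Function.Injective f ∧ univ.image f = H := by
  simp only [hypFrames, mem_biUnion, mem_indepSets, mem_enums]
  constructor
  · rintro ⟨H, ⟨h1, h2⟩, h3⟩
    exact ⟨H, ⟨h1, h2⟩, h3⟩
  · rintro ⟨H, ⟨h1, h2⟩, h3⟩
    exact ⟨H, ⟨h1, h2⟩, h3⟩

theorem card_hypFrames (hα : Fintype.card α = 21) {L : Set (Finset α)}
    (hL : IsSteinerSystem 2 5 L) : (hypFrames L).card = 120960 := by
  rw [hypFrames, card_biUnion]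
  · rw [sum_const_nat (m := 720), card_indep_six hα hL]
    intro H hH
    rw [mem_indepSets] at hH
    exact card_enums hH.1
  · intro H _ H' _ hHH'
    rw [Function.onFun, disjoint_left]
    intro f h1 h2
    rw [mem_enums] at h1 h2
    exact hHH' (h1.2.symm.trans h2.2)

omit [Fintype α] in
theorem aut_maps {L : Set (Finset α)} {g : Equiv.Perm α} (hg : g ∈ Cfsg.setSystemAut L) :
    ∀ l ∈ L, l.image g ∈ L := by
  intro l hl
  rw [mem_aut_iff] at hg
  rw [← hg]
  exact ⟨l, hl, rfl⟩

omit [Fintype α] in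
theorem indep_image {L : Set (Finset α)} {g : Equiv.Perm α} (hg : g ∈ Cfsg.setSystemAut L)
    {H : Finset α} (hH : Indep L H) : Indep L (H.image g) := by
  intro l hl
  have hl' : l.image (g⁻¹ : Equiv.Perm α) ∈ L := aut_maps (inv_mem hg) l hl
  have h := hH _ hl'
  have e : l ∩ H.image g = (l.image (g⁻¹ : Equiv.Perm α) ∩ H).image g := by
    ext x
    simp only [mem_inter, mem_image]
    constructor
    · rintro ⟨hxl, y, hy, rfl⟩
      exact ⟨y, ⟨⟨g y, hxl, by simp⟩, hy⟩, rfl⟩
    · rintro ⟨y, ⟨⟨z, hz, rfl⟩, hy⟩, rfl⟩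
      refine ⟨by simpa using hz, (g⁻¹ : Equiv.Perm α) z, hy, rfl⟩
  rw [e, card_image_of_injective _ g.injective]
  exact h

theorem card_aut_plane (hα : Fintype.card α = 21) {L : Set (Finset α)}
    (hL : IsSteinerSystem 2 5 L) : Nat.card (Cfsg.setSystemAut L) = 120960 := by
  obtain ⟨H₀, hH₀⟩ := exists_hyperoval hα hL
  have h6 : H₀.card = 6 := hH₀.card
  let e₀ : ↥H₀ ≃ Fin 6 := H₀.equivFinOfCardEq h6
  let f₀ : Fin 6 → α := fun i => (e₀.symm i : α)
  have hf₀ : ∀ i, f₀ i ∈ H₀ := fun i => (e₀.symm i).2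
  have hf₀e : ∀ a (ha : a ∈ H₀), f₀ (e₀ ⟨a, ha⟩) = a := by
    intro a ha
    show ((e₀.symm (e₀ ⟨a, ha⟩) : ↥H₀) : α) = a
    rw [Equiv.symm_apply_apply]
  have hf₀inj : Function.Injective f₀ := by
    intro i j h
    exact e₀.symm.injective (Subtype.ext h)
  have himg₀ : univ.image f₀ = H₀ := by
    apply eq_of_subset_of_card_le
    · intro y hy
      obtain ⟨i, _, rfl⟩ := mem_image.1 hy
      exact hf₀ i
    · rw [card_image_of_injective _ hf₀inj, h6]
      simp
  let Φ : ↥(Cfsg.setSystemAut L) → (Fin 6 → α) := fun g i => g.1 (f₀ i)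
  have hinj : Function.Injective Φ := by
    intro g g' h
    apply Subtype.ext
    apply aut_eq_of_eq_on_hyperoval hα hL hH₀ (aut_maps g.2) (aut_maps g'.2)
    intro a ha
    rw [← hf₀e a ha]
    exact congrFun h _
  have hrange : Set.range Φ = ↑(hypFrames L) := by
    ext t
    rw [mem_coe, mem_hypFrames]
    constructor
    · rintro ⟨g, rfl⟩
      refine ⟨H₀.image g.1, ⟨?_, indep_image g.2 hH₀.indep⟩, ?_, ?_⟩
      · rw [card_image_of_injective _ g.1.injective, h6]
      · intro i j h
        exact hf₀inj (g.1.injective h)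
      · show univ.image (fun i => g.1 (f₀ i)) = H₀.image g.1
        rw [← himg₀, image_image]
        rfl
    · rintro ⟨H, hH, hfinj, hfimg⟩
      obtain ⟨d, _⟩ := card_pos.1 (by rw [hH.card]; decide : 0 < H.card)
      have hs : Set.BijOn (fun a => if h : a ∈ H₀ then t (e₀ ⟨a, h⟩) else d) H₀ H := by
        refine ⟨?_, ?_, ?_⟩
        · intro a ha
          rw [mem_coe] at ha ⊢
          simp only [ha, dite_true]
          rw [← hfimg]
          exact mem_image_of_mem _ (mem_univ _)
        · intro a ha a' ha' h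
          rw [mem_coe] at ha ha'
          simp only [ha, ha', dite_true] at h
          exact congrArg Subtype.val (e₀.injective (hfinj h))
        · intro y hy
          rw [mem_coe, ← hfimg] at hy
          obtain ⟨i, _, rfl⟩ := mem_image.1 hy
          refine ⟨f₀ i, mem_coe.2 (hf₀ i), ?_⟩
          simp only [hf₀ i, dite_true]
          congr 1
          show e₀ (e₀.symm i) = i
          rw [Equiv.apply_symm_apply]
      have S : Setup L L H₀ H (fun a => if h : a ∈ H₀ then t (e₀ ⟨a, h⟩) else d) :=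
        ⟨hα, hα, hL, hL, hH₀, hH, hs⟩
      obtain ⟨e, he1, he2⟩ := S.exists_iso
      refine ⟨⟨e, mem_aut_iff.2 he2⟩, ?_⟩
      funext i
      show e (f₀ i) = t i
      rw [he1 _ (hf₀ i)]
      simp only [hf₀ i, dite_true]
      congr 1
      show e₀ (e₀.symm i) = i
      rw [Equiv.apply_symm_apply]
  rw [← Nat.card_range_of_injective hinj, hrange, Nat.card_coe_set_eq, Set.ncard_coe_finset,
    card_hypFrames hα hL]

end Cfsg.Agent.Lib.Helper18.Plane4
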