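import Mathlib
import Cfsg.Prelude.Def_Sporadic_a
import Cfsg.Agent.Lib.Helper18.M21Group
import Cfsg.Agent.Lib.Helper18.PlaneAut
import Cfsg.Agent.Lib.Helper18.PSL3Simple
import Cfsg.Agent.Lib.Helper18.PSL3Card

/-!
The three-point stabiliser of `M24` is isomorphic to `PSL(3, F)` for a field `F` with four
elements.
-/

set_option autoImplicit false

namespace Cfsg.Agent.Lib.Helper18.M21

open Cfsg Finset Cfsg.Agent.Lib.Helper21 Cfsg.Agent.Lib.Helper18.PG2
open Cfsg.Agent.Lib.Helper18.Plane4 Cfsg.Agent.Lib.Helper18.PSL3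
open scoped Pointwise LinearAlgebra.Projectivization MatrixGroups

/-- A simple subgroup of order more than 720 lies in every subgroup of index 6. -/
theorem le_of_simple_of_index {A : Type*} [Group A] [Finite A] (K L : Subgroup A)
    (hLs : IsSimpleGroup L) (hK : K.index = 6) (hL : 720 < Nat.card L) : L ≤ K := by
  classical
  let f : L →* Equiv.Perm (A ⧸ K) := (MulAction.toPermHom A (A ⧸ K)).comp L.subtype
  rcases hLs.eq_bot_or_eq_top_of_normal f.ker inferInstance with hb | ht
  · exfalso
    have hinj : Function.Injective f := (MonoidHom.ker_eq_bot_iff f).1 hb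
    haveI : Fintype (A ⧸ K) := Fintype.ofFinite _
    have h1 := Nat.card_le_card_of_injective f hinj
    have h2 : Nat.card (Equiv.Perm (A ⧸ K)) = 720 := by
      rw [Nat.card_eq_fintype_card, Fintype.card_perm, ← Nat.card_eq_fintype_card]
      have : Nat.card (A ⧸ K) = 6 := hK
      rw [this]
      decide
    omega
  · intro l hl
    have hmem : (⟨l, hl⟩ : L) ∈ f.ker := by
      rw [ht]
      trivial
    rw [MonoidHom.mem_ker] at hmem
    have h2 := congrArg (fun σ : Equiv.Perm (A ⧸ K) => σ ((1 : A) : A ⧸ K)) hmem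
    have h3 : ((l * 1 : A) : A ⧸ K) = ((1 : A) : A ⧸ K) := h2
    rw [QuotientGroup.eq] at h3
    simpa using h3

theorem m21_iso (p q r : GolayPt) (hpq : p ≠ q) (hpr : p ≠ r) (hqr : q ≠ r) (F : Type)
    [Field F] [Fintype F] (hF : Fintype.card F = 4) :
    Nonempty (↥(K3 p q r) ≃* Matrix.ProjectiveSpecialLinearGroup (Fin 3) F) := by
  classical
  haveI : Fintype (ℙ F (Fin 3 → F)) := Fintype.ofFinite _
  have hT3 : ({p, q, r} : Finset GolayPt).card = 3 := card_eq_three.2 ⟨p, q, r, hpq, hpr, hqr, rfl⟩
  have hPt : Fintype.card (PtOut ({p, q, r} : Finset GolayPt)) = 21 := card_ptOut hT3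
  have hPF : Fintype.card (ℙ F (Fin 3 → F)) = 21 := by
    rw [← Nat.card_eq_fintype_card]
    exact card_points hF
  have hD := steiner_DT hT3
  have hLF : IsSteinerSystem 2 5 (lines F) := steiner_lines hF
  obtain ⟨e, he⟩ := plane_unique hPF hPt hLF hD
  have hmem : ∀ x : PSL(3, F),
      e.permCongr (pslHom x).1 ∈ Cfsg.setSystemAut (DT ({p, q, r} : Finset GolayPt)) := by
    intro x
    apply mem_aut_of_maps'
    intro b hb
    rw [← he] at hb ⊢
    obtain ⟨b₀, hb₀, rfl⟩ := hb
    refine ⟨b₀.image (pslHom x).1, aut_maps (pslHom x).2 b₀ hb₀, ?_⟩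
    show (b₀.image (pslHom x).1).image e = (b₀.image e).image (e.permCongr (pslHom x).1)
    rw [image_image, image_image]
    apply image_congr
    intro y _
    simp [Equiv.permCongr_apply]
  let φ : PSL(3, F) →* ↥(Cfsg.setSystemAut (DT ({p, q, r} : Finset GolayPt))) := MonoidHom.mk'
    (fun x => ⟨e.permCongr (pslHom x).1, hmem x⟩) (by
      intro x y
      apply Subtype.ext
      show e.permCongr (pslHom (x * y)).1 = e.permCongr (pslHom x).1 * e.permCongr (pslHom y).1
      rw [map_mul]
      ext z
      simp [Equiv.permCongr_apply])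
  have hφinj : Function.Injective φ := by
    intro x y h
    have h1 : e.permCongr (pslHom x).1 = e.permCongr (pslHom y).1 := congrArg Subtype.val h
    exact pslHom_injective (Subtype.ext (e.permCongr.injective h1))
  have hA : Nat.card ↥(Cfsg.setSystemAut (DT ({p, q, r} : Finset GolayPt))) = 120960 :=
    card_aut_plane hPt hD
  have hK' : Nat.card ↥(rhoHom p q r).range = 20160 := by
    rw [← Nat.card_congr (MonoidHom.ofInjective rhoHom_injective).toEquiv, card_K3 hpq hpr hqr]
  have hL' : Nat.card ↥φ.range = 20160 := by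
    rw [← Nat.card_congr (MonoidHom.ofInjective hφinj).toEquiv, card_PSL3 hF]
  have hidx : (rhoHom p q r).range.index = 6 := by
    have h := Subgroup.card_mul_index (rhoHom p q r).range
    rw [hK', hA] at h
    omega
  haveI : IsSimpleGroup PSL(3, F) := isSimpleGroup_PSL3
  have hLs : IsSimpleGroup ↥φ.range := (MonoidHom.ofInjective hφinj).symm.isSimpleGroup
  have hle : φ.range ≤ (rhoHom p q r).range :=
    le_of_simple_of_index _ _ hLs hidx (by rw [hL']; decide)
  have heq : φ.range = (rhoHom p q r).range :=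
    Subgroup.eq_of_le_of_card_ge hle (by rw [hK', hL'])
  exact ⟨(MonoidHom.ofInjective rhoHom_injective).trans
    ((MulEquiv.subgroupCongr heq.symm).trans (MonoidHom.ofInjective hφinj).symm)⟩

end Cfsg.Agent.Lib.Helper18.M21
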