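import Mathlib
import Cfsg.Agent.Lib.Helper18.FpfAbelian

/-!
Linear groups over the prime field that are regular on the non-zero vectors: maximal normal
abelian subgroups are cyclic and (if no cyclic normal subgroup is irreducible) reducible.
-/

set_option autoImplicit false

namespace Cfsg.Agent.Lib.Helper18.NearField

open Cfsg.Agent.Lib.Helper18.FpfAbelian

variable {p : ℕ} [Fact p.Prime] {V : Type*} [AddCommGroup V] [Module (ZMod p) V]

/-- the representation of a subgroup `A` of `H` -/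
def rep (H : Subgroup (V ≃ₗ[ZMod p] V)) (A : Subgroup H) : A →* Module.End (ZMod p) V :=
  (LinearEquiv.automorphismGroup.toLinearMapMonoidHom).comp (H.subtype.comp A.subtype)

theorem rep_apply (H : Subgroup (V ≃ₗ[ZMod p] V)) (A : Subgroup H) (a : A) (v : V) :
    rep H A a v = ((a : H) : V ≃ₗ[ZMod p] V) v := rfl

theorem fpf_of_reg (H : Subgroup (V ≃ₗ[ZMod p] V))
    (hreg : ∀ v w : V, v ≠ 0 → w ≠ 0 → ∃! h : H, (h : V ≃ₗ[ZMod p] V) v = w) :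
    ∀ h : H, ∀ v : V, v ≠ 0 → (h : V ≃ₗ[ZMod p] V) v = v → h = 1 := by
  intro h v hv hfix
  obtain ⟨g, _, hg⟩ := hreg v v hv hv
  have h1 := hg h hfix
  have h2 := hg 1 (by simp)
  rw [h1, h2]

theorem exists_min_invariant [Finite V] (H : Subgroup (V ≃ₗ[ZMod p] V)) (A : Subgroup H)
    (hV : ∃ v : V, v ≠ 0) :
    ∃ W : Submodule (ZMod p) V, W ≠ ⊥ ∧
      (∀ a ∈ A, ∀ v ∈ W, ((a : H) : V ≃ₗ[ZMod p] V) v ∈ W) ∧
      (∀ W' : Submodule (ZMod p) V, W' ≤ W →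
        (∀ a ∈ A, ∀ v ∈ W', ((a : H) : V ≃ₗ[ZMod p] V) v ∈ W') → W' = ⊥ ∨ W' = W) := by
  classical
  let S : Set (Submodule (ZMod p) V) :=
    {W | W ≠ ⊥ ∧ ∀ a ∈ A, ∀ v ∈ W, ((a : H) : V ≃ₗ[ZMod p] V) v ∈ W}
  have hSfin : S.Finite := Set.toFinite S
  have hSne : S.Nonempty := by
    refine ⟨⊤, ?_, fun _ _ _ _ => Submodule.mem_top⟩
    obtain ⟨v, hv⟩ := hV
    intro h
    apply hv
    have : v ∈ (⊤ : Submodule (ZMod p) V) := Submodule.mem_top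
    rw [h] at this
    exact (Submodule.mem_bot _).1 this
  obtain ⟨W, hW⟩ := hSfin.exists_minimal hSne
  refine ⟨W, hW.1.1, hW.1.2, ?_⟩
  intro W' hle hinv
  by_cases h0 : W' = ⊥
  · exact Or.inl h0
  · right
    exact le_antisymm hle (hW.2 ⟨h0, hinv⟩ hle)

theorem finite_H [Finite V] (H : Subgroup (V ≃ₗ[ZMod p] V)) : Finite H := by
  have : Finite (V ≃ₗ[ZMod p] V) :=
    Finite.of_injective (fun f : V ≃ₗ[ZMod p] V => (f : V → V)) DFunLike.coe_injective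
  infer_instance

theorem main684 [Finite V] (H : Subgroup (V ≃ₗ[ZMod p] V))
    (hreg : ∀ v w : V, v ≠ 0 → w ≠ 0 → ∃! h : H, (h : V ≃ₗ[ZMod p] V) v = w)
    (hI : ∀ A : Subgroup H, A.Normal → IsCyclic A → ∃ W : Submodule (ZMod p) V, W ≠ ⊥ ∧ W ≠ ⊤ ∧
      ∀ a ∈ A, ∀ v ∈ W, ((a : H) : V ≃ₗ[ZMod p] V) v ∈ W)
    (A : Subgroup H) (hAn : A.Normal) (hAc : IsMulCommutative A) :
    IsCyclic A ∧ ∃ W : Submodule (ZMod p) V, W ≠ ⊥ ∧ W ≠ ⊤ ∧
      (∀ a ∈ A, ∀ v ∈ W, ((a : H) : V ≃ₗ[ZMod p] V) v ∈ W) ∧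
      (∀ W' : Submodule (ZMod p) V, W' ≤ W →
        (∀ a ∈ A, ∀ v ∈ W', ((a : H) : V ≃ₗ[ZMod p] V) v ∈ W') → W' = ⊥ ∨ W' = W) ∧
      Nat.card A ∣ p ^ Module.finrank (ZMod p) W - 1 := by
  have hfin : Finite H := finite_H H
  have hV : ∃ v : V, v ≠ 0 := by
    obtain ⟨W, hW0, _, _⟩ := hI ⊥ inferInstance inferInstance
    obtain ⟨v, _, hv⟩ := (Submodule.ne_bot_iff W).1 hW0
    exact ⟨v, hv⟩
  obtain ⟨W, hW0, hinv, hmin⟩ := exists_min_invariant H A hV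
  have hfpf := fpf_of_reg H hreg
  have hcomm : ∀ a b : A, a * b = b * a := fun a b => hAc.is_comm.comm a b
  have inv' : ∀ a : A, ∀ v ∈ W, rep H A a v ∈ W := fun a v hv => hinv a.1 a.2 v hv
  have min' : ∀ W' : Submodule (ZMod p) V, W' ≤ W → (∀ a : A, ∀ v ∈ W', rep H A a v ∈ W') →
      W' = ⊥ ∨ W' = W :=
    fun W' hle h => hmin W' hle (fun a ha v hv => h ⟨a, ha⟩ v hv)
  have fpf' : ∀ a : A, ∀ v : V, v ≠ 0 → rep H A a v = v → a = 1 := by
    intro a v hv h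
    have := hfpf a.1 v hv h
    exact Subtype.ext this
  have hcyc : IsCyclic A := isCyclic_of_fpf hcomm (rep H A) W hW0 inv' min' fpf'
  refine ⟨hcyc, W, hW0, ?_, hinv, hmin, ?_⟩
  · intro htop
    obtain ⟨W', hW'0, hW'1, hW'inv⟩ := hI A hAn hcyc
    rcases hmin W' (by rw [htop]; exact le_top) hW'inv with h | h
    · exact hW'0 h
    · exact hW'1 (h.trans htop)
  · have h1 := card_dvd_of_fpf (rep H A) W inv' fpf'
    have h2 := Module.natCard_eq_pow_finrank (K := ZMod p) (V := W)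
    rw [Nat.card_zmod] at h2
    rw [h2] at h1
    exact h1

end Cfsg.Agent.Lib.Helper18.NearField
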