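import Mathlib
import Cfsg.Agent.Lib.Helper18.NearFieldAux

/-!
Regular linear groups over the prime field: a maximal normal abelian subgroup is properly
contained in its centraliser (counting argument).
-/

set_option autoImplicit false

namespace Cfsg.Agent.Lib.Helper18.NearField

open Cfsg.Agent.Lib.Helper18.FpfAbelian

variable {p : ℕ} [Fact p.Prime] {V : Type*} [AddCommGroup V] [Module (ZMod p) V]

theorem card_H [Finite V] (H : Subgroup (V ≃ₗ[ZMod p] V))
    (hreg : ∀ v w : V, v ≠ 0 → w ≠ 0 → ∃! h : H, (h : V ≃ₗ[ZMod p] V) v = w)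
    (v₀ : V) (hv₀ : v₀ ≠ 0) : Nat.card H = Nat.card V - 1 := by
  classical
  have hne : ∀ h : H, (h : V ≃ₗ[ZMod p] V) v₀ ≠ 0 := by
    intro h h0
    apply hv₀
    have := (h : V ≃ₗ[ZMod p] V).injective (h0.trans (map_zero _).symm)
    exact this
  let f : H → {v : V // v ≠ 0} := fun h => ⟨(h : V ≃ₗ[ZMod p] V) v₀, hne h⟩
  have hbij : Function.Bijective f := by
    constructor
    · intro h h' hh
      have h1 : (h : V ≃ₗ[ZMod p] V) v₀ = (h' : V ≃ₗ[ZMod p] V) v₀ := congrArg Subtype.val hh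
      obtain ⟨g, _, hg⟩ := hreg v₀ _ hv₀ (hne h')
      rw [hg h h1, hg h' rfl]
    · intro ⟨w, hw⟩
      obtain ⟨g, hg, _⟩ := hreg v₀ w hv₀ hw
      exact ⟨g, Subtype.ext hg⟩
  rw [Nat.card_congr (Equiv.ofBijective f hbij)]
  have : Nat.card {v : V // v ≠ 0} = (({0} : Set V)ᶜ).ncard := by
    rw [← Nat.card_coe_set_eq]
    rfl
  rw [this, Set.ncard_compl, Set.ncard_singleton]

/-- A conjugate of an irreducible invariant subspace meeting it trivially. -/
theorem two_finrank_le [Finite V] (H : Subgroup (V ≃ₗ[ZMod p] V))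
    (hreg : ∀ v w : V, v ≠ 0 → w ≠ 0 → ∃! h : H, (h : V ≃ₗ[ZMod p] V) v = w)
    (A : Subgroup H) (hAn : A.Normal) (W : Submodule (ZMod p) V) (hW0 : W ≠ ⊥) (hW1 : W ≠ ⊤)
    (hinv : ∀ a ∈ A, ∀ v ∈ W, ((a : H) : V ≃ₗ[ZMod p] V) v ∈ W)
    (hmin : ∀ W' : Submodule (ZMod p) V, W' ≤ W →
        (∀ a ∈ A, ∀ v ∈ W', ((a : H) : V ≃ₗ[ZMod p] V) v ∈ W') → W' = ⊥ ∨ W' = W) :
    2 * Module.finrank (ZMod p) W ≤ Module.finrank (ZMod p) V := by
  obtain ⟨w, hwW, hw0⟩ := (Submodule.ne_bot_iff W).1 hW0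
  obtain ⟨v, hvW⟩ : ∃ v : V, v ∉ W := by
    by_contra hcon
    push Not at hcon
    exact hW1 (eq_top_iff.2 (fun v _ => hcon v))
  have hv0 : v ≠ 0 := by
    rintro rfl; exact hvW W.zero_mem
  obtain ⟨h₀, hh₀, _⟩ := hreg w v hw0 hv0
  obtain ⟨W₂, hW₂⟩ : ∃ W₂ : Submodule (ZMod p) V,
      W₂ = W.map ((h₀ : V ≃ₗ[ZMod p] V) : V →ₗ[ZMod p] V) := ⟨_, rfl⟩
  have hvW₂ : v ∈ W₂ := by
    rw [hW₂]; exact ⟨w, hwW, hh₀⟩
  have hinv₂ : ∀ a ∈ A, ∀ u ∈ W₂, ((a : H) : V ≃ₗ[ZMod p] V) u ∈ W₂ := by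
    intro a ha u hu
    rw [hW₂] at hu ⊢
    obtain ⟨x, hx, rfl⟩ := hu
    have hconj : h₀⁻¹ * a * h₀ ∈ A := by
      have := hAn.conj_mem a ha h₀⁻¹
      simpa using this
    refine ⟨((h₀⁻¹ * a * h₀ : H) : V ≃ₗ[ZMod p] V) x, hinv _ hconj x hx, ?_⟩
    have h1 : (h₀ * (h₀⁻¹ * a * h₀) : H) = a * h₀ := by group
    have h2 : ((h₀ : V ≃ₗ[ZMod p] V) : V →ₗ[ZMod p] V)
        (((h₀⁻¹ * a * h₀ : H) : V ≃ₗ[ZMod p] V) x)
        = ((h₀ * (h₀⁻¹ * a * h₀) : H) : V ≃ₗ[ZMod p] V) x := rfl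
    rw [h2, h1]
    rfl
  have hdisj : Disjoint W W₂ := by
    rw [disjoint_iff]
    rcases hmin (W ⊓ W₂) inf_le_left (fun a ha u hu =>
      ⟨hinv a ha u hu.1, hinv₂ a ha u hu.2⟩) with h | h
    · exact h
    · exfalso
      have hle : W ≤ W₂ := by rw [← h]; exact inf_le_right
      have hfr : Module.finrank (ZMod p) W₂ = Module.finrank (ZMod p) W := by
        rw [hW₂]
        exact LinearEquiv.finrank_map_eq (h₀ : V ≃ₗ[ZMod p] V) W
      have heq : W = W₂ := Submodule.eq_of_le_of_finrank_eq hle hfr.symm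
      exact hvW (heq ▸ hvW₂)
  have h1 := Submodule.finrank_add_finrank_le_of_disjoint hdisj
  have hfr : Module.finrank (ZMod p) W₂ = Module.finrank (ZMod p) W := by
    rw [hW₂]
    exact LinearEquiv.finrank_map_eq (h₀ : V ≃ₗ[ZMod p] V) W
  omega

theorem card_le_sq_of_centralizer_eq {G : Type*} [Group G] [Finite G] (A : Subgroup G)
    (hAn : A.Normal) (hcyc : IsCyclic A) (hC : Subgroup.centralizer (A : Set G) = A) :
    Nat.card G ≤ Nat.card A * Nat.card A := by
  haveI := hAn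
  let φ : G →* MulAut A := MulAut.conjNormal
  have hker : φ.ker = Subgroup.centralizer (A : Set G) := by
    ext g
    rw [MonoidHom.mem_ker, Subgroup.mem_centralizer_iff]
    constructor
    · intro h a ha
      have h1 : φ g ⟨a, ha⟩ = ⟨a, ha⟩ := by rw [h]; rfl
      have h2 : g * a * g⁻¹ = a := by
        have := congrArg Subtype.val h1
        simpa [φ, MulAut.conjNormal_apply] using this
      calc a * g = (g * a * g⁻¹) * g := by rw [h2]
        _ = g * a := by group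
    · intro h
      ext a
      simp only [φ, MulAut.conjNormal_apply, MulAut.one_apply]
      have := h a.1 a.2
      rw [← this, mul_inv_cancel_right]
  have h1 := Subgroup.card_mul_index φ.ker
  rw [Subgroup.index_ker, hker, hC] at h1
  have h2 : Nat.card φ.range ≤ Nat.card (MulAut A) := by
    have : Finite (MulAut A) := by
      have : Finite (A → A) := inferInstance
      exact Finite.of_injective (fun f : MulAut A => (f : A → A)) DFunLike.coe_injective
    exact Nat.card_le_card_of_injective _ Subtype.val_injective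
  have h3 : Nat.card (MulAut A) ≤ Nat.card A := by
    rw [IsCyclic.card_mulAut]
    exact Nat.totient_le _
  rw [← h1]
  exact Nat.mul_le_mul_left _ (h2.trans h3)

theorem main685 [Finite V] (H : Subgroup (V ≃ₗ[ZMod p] V))
    (hreg : ∀ v w : V, v ≠ 0 → w ≠ 0 → ∃! h : H, (h : V ≃ₗ[ZMod p] V) v = w)
    (hI : ∀ A : Subgroup H, A.Normal → IsCyclic A → ∃ W : Submodule (ZMod p) V, W ≠ ⊥ ∧ W ≠ ⊤ ∧
      ∀ a ∈ A, ∀ v ∈ W, ((a : H) : V ≃ₗ[ZMod p] V) v ∈ W)
    (A : Subgroup H) (hAn : A.Normal) (hAc : IsMulCommutative A)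
    (hAmax : ∀ B : Subgroup H, B.Normal → IsMulCommutative B → A ≤ B → B = A) :
    A < Subgroup.centralizer (A : Set H) ∧
      ¬ IsMulCommutative (Subgroup.centralizer (A : Set H)) := by
  have hfin : Finite H := finite_H H
  obtain ⟨hcyc, W, hW0, hW1, hinv, hmin, hdvd⟩ := main684 H hreg hI A hAn hAc
  have hAle : A ≤ Subgroup.centralizer (A : Set H) := by
    intro a ha
    rw [Subgroup.mem_centralizer_iff]
    intro b hb
    have := hAc.is_comm.comm ⟨b, hb⟩ ⟨a, ha⟩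
    exact congrArg Subtype.val this
  have hCn : (Subgroup.centralizer (A : Set H)).Normal := by
    have := hAn
    infer_instance
  have hlt : A < Subgroup.centralizer (A : Set H) := by
    rw [lt_iff_le_and_ne]
    refine ⟨hAle, ?_⟩
    intro heq
    obtain ⟨w, hwW, hw0⟩ := (Submodule.ne_bot_iff W).1 hW0
    have hcardH := card_H H hreg w hw0
    have hcardV := Module.natCard_eq_pow_finrank (K := ZMod p) (V := V)
    rw [Nat.card_zmod] at hcardV
    have h2k := two_finrank_le H hreg A hAn W hW0 hW1 hinv hmin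
    have hsq := card_le_sq_of_centralizer_eq A hAn hcyc heq.symm
    have hp2 : 2 ≤ p := (Fact.out : p.Prime).two_le
    obtain ⟨k, hk⟩ : ∃ k, k = Module.finrank (ZMod p) W := ⟨_, rfl⟩
    obtain ⟨n, hn⟩ : ∃ n, n = Module.finrank (ZMod p) V := ⟨_, rfl⟩
    rw [← hk] at hdvd h2k
    rw [← hn] at hcardV h2k
    have hkpos : 0 < k := by
      rw [hk, Module.finrank_pos_iff_exists_ne_zero]
      exact ⟨⟨w, hwW⟩, fun h => hw0 (congrArg Subtype.val h)⟩
    have hx : 2 ≤ p ^ k := by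
      calc 2 ≤ p := hp2
        _ = p ^ 1 := (pow_one p).symm
        _ ≤ p ^ k := Nat.pow_le_pow_right (by omega) hkpos
    have hApos : 0 < Nat.card A := Nat.card_pos
    · have hAle' : Nat.card A ≤ p ^ k - 1 := Nat.le_of_dvd (by omega) hdvd
      have hpow : p ^ k * p ^ k ≤ p ^ n := by
        rw [← pow_add]
        exact Nat.pow_le_pow_right (by omega) (by omega)
      have h5 : Nat.card A * Nat.card A ≤ (p ^ k - 1) * (p ^ k - 1) :=
        Nat.mul_le_mul hAle' hAle'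
      obtain ⟨x, hxx⟩ : ∃ x, x = p ^ k := ⟨_, rfl⟩
      rw [← hxx] at h5 hpow hx
      have h6 : (x - 1) * (x - 1) + 2 * x = x * x + 1 := by
        obtain ⟨y, rfl⟩ : ∃ y, x = y + 1 := ⟨x - 1, by omega⟩
        simp only [Nat.add_sub_cancel]
        ring
      rw [hcardV] at hcardH
      omega
  refine ⟨hlt, fun hC => ?_⟩
  have := hAmax _ hCn hC hAle
  exact hlt.ne this.symm

end Cfsg.Agent.Lib.Helper18.NearField
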