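import Mathlib
import Cfsg.Agent.S0673
import Cfsg.Prelude.Def_Perm

/-! # Transitive groups of prime degree: invariant subspaces force affine (solvable) groups -/

set_option autoImplicit false
set_option linter.style.haveILetI false
set_option linter.unusedSectionVars false

namespace Cfsg.Agent.Lib.Helper18.PrimeDegree

open Polynomial Module

section affine

variable {p : ℕ} [hp : Fact p.Prime] {K : Type*} [Field K] [CharP K p]

/-- If the space of polynomial functions of degree `< r` (with `2 ≤ r`, `2 (r - 1) < p`) is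
invariant under composition with the permutation `σ` of `ZMod p`, then `σ` is affine. -/
theorem affine_of_invariant (W : Submodule K (ZMod p → K)) (r : ℕ) (hr2 : 2 ≤ r)
    (hrp : 2 * (r - 1) < p)
    (hW : ∀ f : ZMod p → K, f ∈ W ↔ ∃ P : K[X], P.degree < r ∧
      ∀ j : ZMod p, f j = P.eval (ZMod.cast j : K))
    (σ : Equiv.Perm (ZMod p)) (hσ : ∀ f ∈ W, (fun j => f (σ j)) ∈ W) :
    ∀ j, σ j = (σ 1 - σ 0) * j + σ 0 := by
  classical
  have hpP : p.Prime := hp.out
  set φ : ZMod p →+* K := ZMod.castHom (dvd_refl p) K with hφ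
  have hφa : ∀ j : ZMod p, (ZMod.cast j : K) = φ j := fun j => rfl
  have hφinj : Function.Injective φ := ZMod.castHom_injective K
  -- the identity function is in `W`
  have hι : (fun j : ZMod p => (ZMod.cast j : K)) ∈ W := by
    rw [hW]
    refine ⟨X, ?_, fun j => by simp⟩
    rw [degree_X]
    exact_mod_cast hr2
  obtain ⟨γ, hγdeg, hγ⟩ := (hW _).mp (hσ _ hι)
  -- γ is not constant
  have hγ0 : γ ≠ 0 := by
    intro h0
    have h1 := hγ 0
    have h2 := hγ 1
    rw [h0, eval_zero] at h1 h2
    have : σ 0 = σ 1 := hφinj (by rw [← hφa, ← hφa, h1, h2])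
    exact zero_ne_one (σ.injective this)
  have he1 : 1 ≤ γ.natDegree := by
    by_contra hlt
    have h0 : γ.natDegree = 0 := by omega
    obtain ⟨c, hc⟩ := natDegree_eq_zero.mp h0
    have h1 := hγ 0
    have h2 := hγ 1
    rw [← hc, eval_C] at h1 h2
    have : σ 0 = σ 1 := hφinj (by rw [← hφa, ← hφa, h1, h2])
    exact zero_ne_one (σ.injective this)
  have her : γ.natDegree < r := (natDegree_lt_iff_degree_lt hγ0).mpr hγdeg
  set e := γ.natDegree with he
  have hrp' : r ≤ p := by omega
  -- e = 1
  have he_one : e = 1 := by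
    by_contra hne
    have he2 : 2 ≤ e := by omega
    set q := (r - 1) / e with hq
    have hqe : q * e ≤ r - 1 := Nat.div_mul_le_self _ _
    have hlt : r - 1 < e * (q + 1) := Nat.lt_mul_div_succ (r - 1) (by omega)
    set i := q + 1 with hi
    have h2q : 2 * q ≤ r - 1 := by nlinarith
    have hir : i < r := by omega
    have hei_r : r ≤ e * i := by omega
    have hei_p : e * i < p := by
      have : e * i = q * e + e := by rw [hi]; ring
      omega
    -- `X ^ i` is in `W`
    have hXi : (fun j : ZMod p => (ZMod.cast j : K) ^ i) ∈ W := by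
      rw [hW]
      refine ⟨X ^ i, ?_, fun j => by simp⟩
      rw [degree_X_pow]
      exact_mod_cast hir
    obtain ⟨Q, hQdeg, hQ⟩ := (hW _).mp (hσ _ hXi)
    have hγi0 : γ ^ i ≠ 0 := pow_ne_zero _ hγ0
    have hγideg : (γ ^ i).natDegree = i * e := by rw [natDegree_pow]
    have hQeq : Q = γ ^ i := by
      apply Cfsg.Agent.S0673.ev_injective (p := p)
      · exact lt_of_lt_of_le hQdeg (by exact_mod_cast hrp')
      · rw [← natDegree_lt_iff_degree_lt hγi0, hγideg]
        rw [mul_comm]; exact hei_p
      · ext j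
        rw [Cfsg.Agent.S0673.ev_apply, Cfsg.Agent.S0673.ev_apply, ← hQ j, eval_pow, ← hγ j]
    have : (γ ^ i).natDegree < r := by
      rw [← hQeq]
      exact (natDegree_lt_iff_degree_lt (hQeq ▸ hγi0)).mpr hQdeg
    rw [hγideg, mul_comm] at this
    omega
  -- γ = a X + b
  have hγlin : γ = C (γ.coeff 1) * X + C (γ.coeff 0) :=
    eq_X_add_C_of_natDegree_le_one (by omega)
  set a := γ.coeff 1
  set b := γ.coeff 0
  have hval : ∀ j : ZMod p, φ (σ j) = a * φ j + b := by
    intro j
    rw [← hφa, hγ j, hγlin, hφa]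
    simp
  have hb : b = φ (σ 0) := by
    have := hval 0
    rw [φ.map_zero, mul_zero, zero_add] at this
    exact this.symm
  have ha : a = φ (σ 1) - φ (σ 0) := by
    have := hval 1
    rw [φ.map_one, mul_one] at this
    rw [this, hb]; ring
  intro j
  apply hφinj
  rw [hval j, ha, hb, map_add, map_mul, map_sub]

/-- A group of affine permutations of `ZMod p` is solvable. -/
theorem solvable_of_affine (H : Subgroup (Equiv.Perm (ZMod p)))
    (hH : ∀ σ ∈ H, ∀ j, σ j = (σ 1 - σ 0) * j + σ 0) : Group.IsSolvable H := by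
  classical
  let slope : H →* ZMod p :=
    { toFun := fun σ => σ.1 1 - σ.1 0
      map_one' := by simp
      map_mul' := by
        intro σ τ
        show σ.1 (τ.1 1) - σ.1 (τ.1 0) = (σ.1 1 - σ.1 0) * (τ.1 1 - τ.1 0)
        rw [hH σ.1 σ.2 (τ.1 1), hH σ.1 σ.2 (τ.1 0)]
        ring }
  let ψ : H →* (ZMod p)ˣ := slope.toHomUnits
  have hψ : ∀ σ : H, ((ψ σ : (ZMod p)ˣ) : ZMod p) = σ.1 1 - σ.1 0 := fun σ => rfl
  have hker : ∀ σ τ : ψ.ker, σ * τ = τ * σ := by
    intro σ τ
    have hσ1 : σ.1.1 1 - σ.1.1 0 = 1 := by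
      have := MonoidHom.mem_ker.mp σ.2
      rw [← hψ, this]; rfl
    have hτ1 : τ.1.1 1 - τ.1.1 0 = 1 := by
      have := MonoidHom.mem_ker.mp τ.2
      rw [← hψ, this]; rfl
    apply Subtype.ext
    apply Subtype.ext
    ext j
    show σ.1.1 (τ.1.1 j) = τ.1.1 (σ.1.1 j)
    rw [hH σ.1.1 σ.1.2 (τ.1.1 j), hH τ.1.1 τ.1.2 (σ.1.1 j), hH τ.1.1 τ.1.2 j, hH σ.1.1 σ.1.2 j,
      hσ1, hτ1]
    ring
  haveI : Group.IsSolvable ψ.ker := Group.isSolvable_of_comm hker
  exact Group.isSolvable_of_ker_le_range ψ.ker.subtype ψ (by rw [Subgroup.range_subtype])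

end affine

section perp

variable {K : Type*} [Field K] {ι : Type*} [Fintype ι] [DecidableEq ι]

/-- The orthogonal complement for the standard dot product. -/
noncomputable def perp (W : Submodule K (ι → K)) : Submodule K (ι → K) :=
  W.dualAnnihilator.comap (dotProductEquiv K ι).toLinearMap

theorem mem_perp (W : Submodule K (ι → K)) (h : ι → K) :
    h ∈ perp W ↔ ∀ f ∈ W, ∑ x, h x * f x = 0 := by
  unfold perp
  rw [Submodule.mem_comap, Submodule.mem_dualAnnihilator]
  rfl

theorem finrank_perp (W : Submodule K (ι → K)) :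
    finrank K (perp W) + finrank K W = Fintype.card ι := by
  have h1 : perp W = W.dualAnnihilator.map (dotProductEquiv K ι).symm.toLinearMap := by
    unfold perp
    exact (Submodule.map_equiv_eq_comap_symm (dotProductEquiv K ι).symm _).symm
  rw [h1, LinearEquiv.finrank_map_eq, add_comm, Subspace.finrank_add_finrank_dualAnnihilator_eq,
    Module.finrank_fintype_fun_eq_card]

theorem perp_invariant (W : Submodule K (ι → K)) (σ : Equiv.Perm ι)
    (hσ : ∀ f ∈ W, (fun j => f (σ.symm j)) ∈ W) :
    ∀ h ∈ perp W, (fun j => h (σ j)) ∈ perp W := by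
  intro h hh
  rw [mem_perp] at hh ⊢
  intro f hf
  have := hh _ (hσ f hf)
  rw [← this]
  refine Fintype.sum_equiv σ _ _ (fun x => ?_)
  simp

end perp

section main

variable {p : ℕ} [hp : Fact p.Prime] {K : Type*} [Field K] [CharP K p]

/-- A permutation group of `ZMod p` containing the translation and leaving invariant a
subspace of functions of dimension strictly between `1` and `p - 1` is solvable. -/
theorem solvable_of_invariant_submodule (H : Subgroup (Equiv.Perm (ZMod p)))
    (hadd : Equiv.addRight (1 : ZMod p) ∈ H) (W : Submodule K (ZMod p → K))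
    (hinv : ∀ σ ∈ H, ∀ f ∈ W, (fun j => f (σ j)) ∈ W)
    (h2 : 2 ≤ finrank K W) (hp2 : finrank K W + 2 ≤ p ∨ 2 * (finrank K W - 1) < p) :
    Group.IsSolvable H := by
  classical
  have hsub : (Equiv.addRight (1 : ZMod p))⁻¹ ∈ H := H.inv_mem hadd
  have hsubapp : ∀ j : ZMod p, (Equiv.addRight (1 : ZMod p))⁻¹ j = j - 1 := by
    intro j
    rw [Equiv.Perm.inv_eq_iff_eq]
    simp
  have htransW : ∀ f ∈ W, (fun j : ZMod p => f (j - 1)) ∈ W := by
    intro f hf
    have := hinv _ hsub f hf
    simpa only [hsubapp] using this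
  obtain ⟨r, hrp, hrank, hchar⟩ := Cfsg.Agent.S0673.result W htransW
  by_cases hcase : 2 * (r - 1) < p
  · apply solvable_of_affine H
    intro σ hσ
    exact affine_of_invariant W r (by omega) hcase hchar σ (hinv σ hσ)
  · -- use the orthogonal complement
    have hp2' : finrank K W + 2 ≤ p := by
      rcases hp2 with h | h
      · exact h
      · rw [hrank] at h; exact absurd h hcase
    have hinvP : ∀ σ ∈ H, ∀ h ∈ perp W, (fun j => h (σ j)) ∈ perp W := by
      intro σ hσ
      apply perp_invariant W σ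
      intro f hf
      exact hinv σ⁻¹ (H.inv_mem hσ) f hf
    have htransP : ∀ f ∈ perp W, (fun j : ZMod p => f (j - 1)) ∈ perp W := by
      intro f hf
      have := hinvP _ hsub f hf
      simpa only [hsubapp] using this
    obtain ⟨r', hrp', hrank', hchar'⟩ := Cfsg.Agent.S0673.result (perp W) htransP
    have hsum := finrank_perp W
    rw [ZMod.card] at hsum
    apply solvable_of_affine H
    intro σ hσ
    exact affine_of_invariant (perp W) r' (by omega) (by omega) hchar' σ (hinvP σ hσ)

end main

section transport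

variable {p : ℕ} [hp : Fact p.Prime] {K : Type*} [Field K] [CharP K p]
variable {α : Type*} [Fintype α] [DecidableEq α]

/-- A permutation of order `p` of a set with `p` elements gives a coordinatization by `ZMod p`
in which it is the translation by `1`. -/
theorem exists_coord (hα : Fintype.card α = p) (c : Equiv.Perm α) (hc : orderOf c = p) :
    ∃ e : ZMod p ≃ α, ∀ j, e (j + 1) = c (e j) := by
  classical
  have hpP := hp.out
  have hcyc : c.IsCycle :=
    Equiv.Perm.isCycle_of_prime_order'' (hα.symm ▸ hpP) (hc.trans hα.symm)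
  haveI : Nonempty α := Fintype.card_pos_iff.mp (hα.symm ▸ hpP.pos)
  obtain ⟨a₀⟩ := ‹Nonempty α›
  have hsupp : c.support = Finset.univ := by
    apply Finset.eq_univ_of_card
    rw [← hcyc.orderOf, hc, hα]
  have hmove : c a₀ ≠ a₀ := by
    rw [← Equiv.Perm.mem_support, hsupp]; exact Finset.mem_univ _
  let e₀ : ZMod p → α := fun j => (c ^ j.val) a₀
  have hstep : ∀ j, e₀ (j + 1) = c (e₀ j) := by
    intro j
    show (c ^ (j + 1).val) a₀ = c ((c ^ j.val) a₀)
    have : c ^ (j + 1).val = c ^ (j.val + 1) := by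
      rw [pow_eq_pow_iff_modEq, hc, ZMod.val_add, ZMod.val_one]
      exact Nat.mod_modEq _ _
    rw [this, pow_succ', Equiv.Perm.mul_apply]
  have hinj : Function.Injective e₀ := by
    have key : ∀ i j : ZMod p, i.val ≤ j.val → e₀ i = e₀ j → i = j := by
      intro i j hij h
      have h1 : (c ^ (j.val - i.val)) a₀ = a₀ := by
        have hsplit : c ^ j.val = c ^ i.val * c ^ (j.val - i.val) := by
          rw [← pow_add]; congr 1; omega
        have h' : (c ^ i.val) a₀ = (c ^ i.val) ((c ^ (j.val - i.val)) a₀) := by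
          rw [← Equiv.Perm.mul_apply, ← hsplit]; exact h
        exact ((c ^ i.val).injective h').symm
      have h2 : c ^ (j.val - i.val) = 1 := (hcyc.pow_eq_one_iff' hmove).mpr h1
      have h3 : p ∣ j.val - i.val := by
        have h3' : orderOf c ∣ j.val - i.val := orderOf_dvd_of_pow_eq_one h2
        exact (congrArg (· ∣ j.val - i.val) hc).mp h3'
      have h4 : j.val < p := ZMod.val_lt j
      have h5 : j.val - i.val = 0 := Nat.eq_zero_of_dvd_of_lt h3 (by omega)
      exact ZMod.val_injective p (by omega)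
    intro i j h
    rcases le_total i.val j.val with hij | hij
    · exact key i j hij h
    · exact (key j i hij h.symm).symm
  have hbij : Function.Bijective e₀ := by
    rw [Fintype.bijective_iff_injective_and_card]
    exact ⟨hinj, by rw [ZMod.card, hα]⟩
  exact ⟨Equiv.ofBijective e₀ hbij, hstep⟩

/-- A transitive permutation group of prime degree `p` whose permutation module in
characteristic `p` has an invariant subspace of dimension strictly between `1` and `p - 1`
is solvable. -/
theorem solvable_of_subrep (hα : Fintype.card α = p) (G : Subgroup (Equiv.Perm α))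
    [MulAction.IsPretransitive G α] (W : Subrepresentation (Cfsg.permRep K G α))
    (h2 : 2 ≤ finrank K W.toSubmodule)
    (hp2 : finrank K W.toSubmodule + 2 ≤ p ∨ 2 * (finrank K W.toSubmodule - 1) < p) :
    Group.IsSolvable G := by
  classical
  have hpP := hp.out
  haveI : Nonempty α := Fintype.card_pos_iff.mp (hα.symm ▸ hpP.pos)
  obtain ⟨a₀⟩ := ‹Nonempty α›
  have hdvd : p ∣ Nat.card G := by
    rw [← Subgroup.index_mul_card (MulAction.stabilizer G a₀), MulAction.index_stabilizer,
      MulAction.orbit_eq_univ, Set.ncard_univ, Nat.card_eq_fintype_card, hα]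
    exact dvd_mul_right _ _
  obtain ⟨c, hc⟩ := exists_prime_orderOf_dvd_card' p hdvd
  have hc' : orderOf (c : Equiv.Perm α) = p := by rw [Subgroup.orderOf_coe]; exact hc
  obtain ⟨e, he⟩ := exists_coord hα (c : Equiv.Perm α) hc'
  let Φ : Equiv.Perm α ≃* Equiv.Perm (ZMod p) := e.symm.permCongrHom
  let ψ : G →* Equiv.Perm (ZMod p) := Φ.toMonoidHom.comp G.subtype
  have hψapp : ∀ (g : G) (j : ZMod p), ψ g j = e.symm ((g : Equiv.Perm α) (e j)) :=
    fun g j => rfl
  have hψinj : Function.Injective ψ := Φ.injective.comp G.subtype_injective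
  let H : Subgroup (Equiv.Perm (ZMod p)) := ψ.range
  let T : (α → K) ≃ₗ[K] (ZMod p → K) := LinearEquiv.funCongrLeft K K e
  have hT : ∀ (v : α → K) (j : ZMod p), T v j = v (e j) := fun v j => rfl
  let W₀ : Submodule K (ZMod p → K) := W.toSubmodule.map T.toLinearMap
  have hrank : finrank K W₀ = finrank K W.toSubmodule := LinearEquiv.finrank_map_eq T _
  have hadd : Equiv.addRight (1 : ZMod p) ∈ H := by
    refine ⟨c, ?_⟩
    ext j
    rw [hψapp, Equiv.coe_addRight, ← he j, Equiv.symm_apply_apply]
  have hinv : ∀ σ ∈ H, ∀ f ∈ W₀, (fun j => f (σ j)) ∈ W₀ := by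
    rintro _ ⟨g, rfl⟩ _ ⟨v, hv, rfl⟩
    refine ⟨Cfsg.permRep K G α g⁻¹ v, W.apply_mem_toSubmodule g⁻¹ hv, ?_⟩
    ext j
    show (Cfsg.permRep K G α g⁻¹ v) (e j) = v (e (ψ g j))
    rw [hψapp, Equiv.apply_symm_apply]
    show v ((g⁻¹)⁻¹ • (e j)) = v ((g : Equiv.Perm α) (e j))
    rw [inv_inv]; rfl
  haveI : Group.IsSolvable H :=
    solvable_of_invariant_submodule H hadd W₀ hinv (by omega) (by rw [hrank]; exact hp2)
  exact Group.isSolvable_of_isSolvable_injective (f := ψ.rangeRestrict)
    (MonoidHom.rangeRestrict_injective_iff.mpr hψinj)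

/-- Powers of `c` in the coordinates of `exists_coord`. -/
theorem coord_pow (c : Equiv.Perm α) (e : ZMod p ≃ α) (he : ∀ j, e (j + 1) = c (e j)) (n : ℕ)
    (j : ZMod p) : (c ^ n) (e j) = e (j + n) := by
  induction n with
  | zero => simp
  | succ n ih =>
    rw [pow_succ', Equiv.Perm.mul_apply, ih, ← he, Nat.cast_succ, add_assoc]

/-- Coordinates in which `c` is the translation by `1` and an involution `t` normalizing
`⟨c⟩` is the negation. -/
theorem exists_coord_neg (hp2 : p ≠ 2) (hα : Fintype.card α = p) (c t : Equiv.Perm α)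
    (hc : orderOf c = p) (ht : orderOf t = 2) (htc : t * c * t⁻¹ ∈ Subgroup.zpowers c) :
    ∃ e : ZMod p ≃ α, (∀ j, e (j + 1) = c (e j)) ∧ (∀ j, e (-j) = t (e j)) := by
  classical
  have hpP := hp.out
  obtain ⟨e₀, he₀⟩ := exists_coord hα c hc
  rw [← mem_powers_iff_mem_zpowers, Submonoid.mem_powers_iff] at htc
  obtain ⟨n, hn⟩ := htc
  set a : ZMod p := (n : ZMod p) with ha
  let τ : ZMod p → ZMod p := fun j => e₀.symm (t (e₀ j))
  have hτ : ∀ j, e₀ (τ j) = t (e₀ j) := fun j => Equiv.apply_symm_apply _ _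
  have htt : t * t = 1 := by rw [← pow_two, ← ht]; exact pow_orderOf_eq_one t
  have hstep : ∀ j, τ (j + 1) = τ j + a := by
    intro j
    apply e₀.injective
    rw [hτ, he₀, ← coord_pow c e₀ he₀ n (τ j), hn, hτ]
    simp
  have hlin : ∀ j, τ j = a * j + τ 0 := by
    have hnat : ∀ k : ℕ, τ (k : ZMod p) = a * k + τ 0 := by
      intro k
      induction k with
      | zero => simp
      | succ k ih => rw [Nat.cast_succ, hstep, ih]; ring
    intro j
    have := hnat j.val
    rwa [ZMod.natCast_zmod_val] at this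
  set b := τ 0 with hb
  have hinv : ∀ j, τ (τ j) = j := by
    intro j
    apply e₀.injective
    rw [hτ, hτ, ← Equiv.Perm.mul_apply, htt, Equiv.Perm.one_apply]
  have h0 := hinv 0
  have h1 := hinv 1
  rw [hlin (τ 0), hlin 0] at h0
  rw [hlin (τ 1), hlin 1] at h1
  have ha2 : (a - 1) * (a + 1) = 0 := by
    have : a * a = 1 := by linear_combination h1 - h0
    linear_combination this
  have h2ne : (2 : ZMod p) ≠ 0 := by
    intro h2
    have : ((2 : ℕ) : ZMod p) = 0 := by exact_mod_cast h2
    rw [ZMod.natCast_eq_zero_iff] at this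
    exact hp2 ((Nat.prime_dvd_prime_iff_eq hpP Nat.prime_two).mp this)
  rcases mul_eq_zero.mp ha2 with ha1 | ha1
  · -- a = 1 : impossible
    exfalso
    have ha1' : a = 1 := by linear_combination ha1
    have hb0 : b = 0 := by
      have : (2 : ZMod p) * b = 0 := by
        rw [ha1'] at h0
        linear_combination h0
      rcases mul_eq_zero.mp this with h | h
      · exact absurd h h2ne
      · exact h
    have : t = 1 := by
      ext x
      obtain ⟨j, rfl⟩ := e₀.surjective x
      rw [← hτ, hlin, ha1', hb0]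
      simp
    rw [this, orderOf_one] at ht
    omega
  · have ha1' : a = -1 := by linear_combination ha1
    obtain ⟨j₀, h2j₀⟩ : ∃ j₀ : ZMod p, 2 * j₀ = b := ⟨b * 2⁻¹, by field_simp⟩
    refine ⟨(Equiv.addRight j₀).trans e₀, ?_, ?_⟩
    · intro j
      simp only [Equiv.trans_apply, Equiv.coe_addRight]
      rw [add_right_comm, he₀]
    · intro j
      simp only [Equiv.trans_apply, Equiv.coe_addRight]
      rw [← hτ, hlin, ha1']
      congr 1
      linear_combination h2j₀

/-- Transitive groups of degree two are solvable. -/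
theorem solvable_of_card_two (hα : Fintype.card α = 2) (G : Subgroup (Equiv.Perm α)) :
    Group.IsSolvable G := by
  classical
  haveI : Fact (Nat.Prime 2) := ⟨Nat.prime_two⟩
  have hcard : Nat.card (Equiv.Perm α) = 2 := by
    rw [Nat.card_eq_fintype_card, Fintype.card_perm, hα]; rfl
  haveI : IsCyclic (Equiv.Perm α) := isCyclic_of_prime_card hcard
  apply Group.isSolvable_of_comm
  intro a b
  apply Subtype.ext
  exact (IsCyclic.isMulCommutative (α := Equiv.Perm α)).is_comm.comm a.1 b.1

/-- The constants have dimension one. -/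
theorem finrank_constants [Nonempty α] (G : Subgroup (Equiv.Perm α)) :
    finrank K (Cfsg.permConstants K G α).toSubmodule = 1 := by
  obtain ⟨a₀⟩ := ‹Nonempty α›
  show finrank K (Submodule.span K {fun _ : α => (1 : K)}) = 1
  apply finrank_span_singleton
  intro h0
  exact one_ne_zero (congrFun h0 a₀)

/-- The sum-zero functions form a proper subspace. -/
theorem finrank_sumZero_lt [Nonempty α] (G : Subgroup (Equiv.Perm α)) :
    finrank K (Cfsg.permSumZero K G α).toSubmodule < Fintype.card α := by
  classical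
  obtain ⟨a₀⟩ := ‹Nonempty α›
  have hlt : (Cfsg.permSumZero K G α).toSubmodule < ⊤ := by
    rw [lt_top_iff_ne_top]
    intro htop
    have hmem : (Pi.single a₀ (1 : K) : α → K) ∈ (Cfsg.permSumZero K G α).toSubmodule := by
      rw [htop]; exact Submodule.mem_top
    have hsum : (∑ x, (Pi.single a₀ (1 : K) : α → K) x) = 0 := hmem
    rw [Finset.sum_pi_single' a₀ (1 : K) Finset.univ] at hsum
    simp at hsum
  have := Submodule.finrank_lt_finrank_of_lt hlt
  rwa [finrank_top, Module.finrank_fintype_fun_eq_card] at this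

end transport

end Cfsg.Agent.Lib.Helper18.PrimeDegree
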