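import Mathlib
import Cfsg.Agent.S0671
import Cfsg.Agent.Lib.Helper18.PrimeDegree

/-! # Transitive groups of prime degree, part 2: affine structure and coordinates -/

set_option autoImplicit false
set_option linter.style.haveILetI false
set_option linter.unusedSectionVars false

namespace Cfsg.Agent.Lib.Helper18.PrimeDegree

open Polynomial Module

section main2

variable {p : ℕ} [hp : Fact p.Prime] {K : Type*} [Field K] [CharP K p]

/-- Affine version of `solvable_of_invariant_submodule`. -/
theorem affine_of_invariant_submodule (H : Subgroup (Equiv.Perm (ZMod p)))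
    (hadd : Equiv.addRight (1 : ZMod p) ∈ H) (W : Submodule K (ZMod p → K))
    (hinv : ∀ σ ∈ H, ∀ f ∈ W, (fun j => f (σ j)) ∈ W)
    (h2 : 2 ≤ finrank K W) (hp2 : finrank K W + 2 ≤ p ∨ 2 * (finrank K W - 1) < p) :
    ∀ σ ∈ H, ∀ j, σ j = (σ 1 - σ 0) * j + σ 0 := by
  classical
  have hsub : (Equiv.addRight (1 : ZMod p))⁻¹ ∈ H := H.inv_mem hadd
  have hsubapp : ∀ j : ZMod p, (Equiv.addRight (1 : ZMod p))⁻¹ j = j - 1 := by
    intro j
    rw [Equiv.Perm.inv_eq_iff_eq]
    simp
  have htransW : ∀ f ∈ W, (fun j : ZMod p => f (j - 1)) ∈ W := by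
    intro f hf
    have := hinv _ hsub f hf
    simpa only [hsubapp] using this
  obtain ⟨r, hrp, hrank, hchar⟩ := Cfsg.Agent.S0673.result W htransW
  by_cases hcase : 2 * (r - 1) < p
  · intro σ hσ
    exact affine_of_invariant W r (by omega) hcase hchar σ (hinv σ hσ)
  · have hp2' : finrank K W + 2 ≤ p := by
      rcases hp2 with h | h
      · exact h
      · rw [hrank] at h; exact absurd h hcase
    have hinvP : ∀ σ ∈ H, ∀ h ∈ perp W, (fun j => h (σ j)) ∈ perp W := by
      intro σ hσ
      apply perp_invariant W σ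
      intro f hf
      exact hinv σ⁻¹ (H.inv_mem hσ) f hf
    have htransP : ∀ f ∈ perp W, (fun j : ZMod p => f (j - 1)) ∈ perp W := by
      intro f hf
      have := hinvP _ hsub f hf
      simpa only [hsubapp] using this
    obtain ⟨r', hrp', hrank', hchar'⟩ := Cfsg.Agent.S0673.result (perp W) htransP
    have hsum := finrank_perp W
    rw [ZMod.card] at hsum
    intro σ hσ
    exact affine_of_invariant (perp W) r' (by omega) (by omega) hchar' σ (hinvP σ hσ)

variable {α : Type*} [Fintype α] [DecidableEq α]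

/-- Affine structure in given coordinates. -/
theorem affine_of_subrep_coord (G : Subgroup (Equiv.Perm α))
    (W : Subrepresentation (Cfsg.permRep K G α))
    (h2 : 2 ≤ finrank K W.toSubmodule)
    (hp2 : finrank K W.toSubmodule + 2 ≤ p ∨ 2 * (finrank K W.toSubmodule - 1) < p)
    (c : G) (e : ZMod p ≃ α) (he : ∀ j, e (j + 1) = (c : Equiv.Perm α) (e j)) :
    ∀ (g : G) (j : ZMod p), e.symm ((g : Equiv.Perm α) (e j)) =
      (e.symm ((g : Equiv.Perm α) (e 1)) - e.symm ((g : Equiv.Perm α) (e 0))) * j +
        e.symm ((g : Equiv.Perm α) (e 0)) := by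
  classical
  let Φ : Equiv.Perm α ≃* Equiv.Perm (ZMod p) := e.symm.permCongrHom
  let ψ : G →* Equiv.Perm (ZMod p) := Φ.toMonoidHom.comp G.subtype
  have hψapp : ∀ (g : G) (j : ZMod p), ψ g j = e.symm ((g : Equiv.Perm α) (e j)) :=
    fun g j => rfl
  let H : Subgroup (Equiv.Perm (ZMod p)) := ψ.range
  let T : (α → K) ≃ₗ[K] (ZMod p → K) := LinearEquiv.funCongrLeft K K e
  let W₀ : Submodule K (ZMod p → K) := W.toSubmodule.map T.toLinearMap
  have hrank : finrank K W₀ = finrank K W.toSubmodule := LinearEquiv.finrank_map_eq T _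
  have hadd : Equiv.addRight (1 : ZMod p) ∈ H := by
    refine ⟨c, ?_⟩
    ext j
    rw [hψapp, Equiv.coe_addRight, ← he j, Equiv.symm_apply_apply]
  have hinv : ∀ σ ∈ H, ∀ f ∈ W₀, (fun j => f (σ j)) ∈ W₀ := by
    rintro _ ⟨g, rfl⟩ _ ⟨v, hv, rfl⟩
    refine ⟨Cfsg.permRep K G α g⁻¹ v, W.apply_mem_toSubmodule g⁻¹ hv, ?_⟩
    ext j
    show (Cfsg.permRep K G α g⁻¹ v) (e j) = v (e (ψ g j))
    rw [hψapp, Equiv.apply_symm_apply]
    show v ((g⁻¹)⁻¹ • (e j)) = v ((g : Equiv.Perm α) (e j))
    rw [inv_inv]; rfl
  have haff := affine_of_invariant_submodule H hadd W₀ hinv (by omega) (by rw [hrank]; exact hp2)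
  intro g j
  have := haff (ψ g) ⟨g, rfl⟩ j
  simpa only [hψapp] using this

end main2

section nottwo

variable {p : ℕ} [hp : Fact p.Prime]
variable {α : Type*} [Fintype α] [DecidableEq α]

/-- A transitive group of prime degree `p ≥ 5` which is not doubly transitive leaves invariant
a subspace of the permutation module of dimension strictly between `1` and `p - 1`. -/
theorem exists_subrep_of_not_two_transitive (hα : Fintype.card α = p) (hp5 : 5 ≤ p)
    (G : Subgroup (Equiv.Perm α)) [MulAction.IsPretransitive G α]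
    (hnot : ¬ MulAction.IsMultiplyPretransitive G α 2) :
    ∃ U : Subrepresentation (Cfsg.permRep (ZMod p) G α),
      2 ≤ finrank (ZMod p) U.toSubmodule ∧ finrank (ZMod p) U.toSubmodule + 2 ≤ p := by
  classical
  have hpP := hp.out
  haveI : Nonempty α := Fintype.card_pos_iff.mp (hα.symm ▸ hpP.pos)
  by_contra hcon
  push Not at hcon
  apply hnot
  apply Cfsg.Agent.S0671.result (K := ZMod p) (p := p) (f := 1) le_rfl (by rw [pow_one, hα])
  intro W W' hcW hWW' hW'sz
  by_contra hall
  push Not at hall
  have hc1 : finrank (ZMod p) (Cfsg.permConstants (ZMod p) G α).toSubmodule = 1 := finrank_constants G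
  have hsz : finrank (ZMod p) (Cfsg.permSumZero (ZMod p) G α).toSubmodule < p := by
    have := finrank_sumZero_lt (K := ZMod p) G
    rwa [hα] at this
  have h1 : 1 ≤ finrank (ZMod p) W.toSubmodule := by
    rw [← hc1]; exact Submodule.finrank_mono hcW
  have h2 : finrank (ZMod p) W.toSubmodule < finrank (ZMod p) W'.toSubmodule :=
    Submodule.finrank_lt_finrank_of_lt hWW'
  have h3 : finrank (ZMod p) W'.toSubmodule ≤ finrank (ZMod p) (Cfsg.permSumZero (ZMod p) G α).toSubmodule :=
    Submodule.finrank_mono hW'sz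
  by_cases hW2 : 2 ≤ finrank (ZMod p) W.toSubmodule
  · have := hcon W hW2
    omega
  · -- `W` is a line; adjoin a vector of `W'`
    obtain ⟨v, hvW', hvW⟩ := SetLike.exists_of_lt hWW'
    let U : Subrepresentation (Cfsg.permRep (ZMod p) G α) :=
      { toSubmodule := W.toSubmodule ⊔ Submodule.span (ZMod p) {v}
        apply_mem_toSubmodule := by
          intro g u hu
          obtain ⟨y, hy, z, hz, rfl⟩ := Submodule.mem_sup.mp hu
          obtain ⟨r, rfl⟩ := Submodule.mem_span_singleton.mp hz
          rw [map_add, map_smul]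
          have h1' : Cfsg.permRep (ZMod p) G α g y ∈ W.toSubmodule := W.apply_mem_toSubmodule g hy
          have h2' := hall g v hvW'
          have h3' : Cfsg.permRep (ZMod p) G α g v = (Cfsg.permRep (ZMod p) G α g v - v) + v := by abel
          rw [h3', smul_add, ← add_assoc]
          refine Submodule.add_mem_sup (add_mem h1' (Submodule.smul_mem _ r h2')) ?_
          exact Submodule.smul_mem _ r (Submodule.mem_span_singleton_self v) }
    have hU1 : finrank (ZMod p) W.toSubmodule < finrank (ZMod p) U.toSubmodule := by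
      apply Submodule.finrank_lt_finrank_of_lt
      refine lt_of_le_of_ne le_sup_left (fun h => hvW ?_)
      rw [h]
      exact Submodule.mem_sup_right (Submodule.mem_span_singleton_self v)
    have hU2 : finrank (ZMod p) U.toSubmodule ≤ finrank (ZMod p) W.toSubmodule + 1 := by
      have h1' := Submodule.finrank_add_le_finrank_add_finrank W.toSubmodule
        (Submodule.span (ZMod p) {v})
      have h2' : finrank (ZMod p) (Submodule.span (ZMod p) {v}) ≤ 1 := by
        have := finrank_span_le_card (R := (ZMod p)) ({v} : Set (α → (ZMod p)))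
        simpa using this
      have h3' : finrank (ZMod p) U.toSubmodule =
        finrank (ZMod p) ↥(W.toSubmodule ⊔ Submodule.span (ZMod p) {v}) := rfl
      omega
    have := hcon U (by omega)
    omega

end nottwo

section setup

variable {p : ℕ} [hp : Fact p.Prime]
variable {α : Type*} [Fintype α] [DecidableEq α]

/-- The order of a subgroup of the symmetric group of prime degree `p` is not divisible
by `p ^ 2`. -/
theorem not_sq_dvd_card (hα : Fintype.card α = p) (G : Subgroup (Equiv.Perm α)) :
    ¬ p ^ 2 ∣ Nat.card G := by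
  have hpP := hp.out
  intro h2
  have hGfact : Nat.card G ∣ p.factorial := by
    have := Subgroup.card_subgroup_dvd_card G
    rwa [Nat.card_eq_fintype_card (α := Equiv.Perm α), Fintype.card_perm, hα] at this
  have h2 := dvd_trans h2 hGfact
  rw [← Nat.mul_factorial_pred hpP.pos.ne', pow_two] at h2
  have h3 : p ∣ (p - 1).factorial := (Nat.mul_dvd_mul_iff_left hpP.pos).mp h2
  have := (hpP.dvd_factorial).mp h3
  have := hpP.two_le
  omega

/-- Setup: a generator `c` of the Sylow `p`-subgroup, an involution `t` normalizing it, and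
coordinates in which `c` is the translation by `1` and `t` is the negation. -/
theorem exists_coord_of_even_normalizer (hp2 : p ≠ 2) (hα : Fintype.card α = p)
    (G : Subgroup (Equiv.Perm α)) [MulAction.IsPretransitive G α] (P : Sylow p G)
    (heven : Even (Nat.card (Subgroup.normalizer ((P : Subgroup G) : Set G)))) :
    ∃ (c t : G) (e : ZMod p ≃ α), orderOf c = p ∧ orderOf t = 2 ∧
      (∀ j, e (j + 1) = (c : Equiv.Perm α) (e j)) ∧ (∀ j, e (-j) = (t : Equiv.Perm α) (e j)) := by
  classical
  have hpP := hp.out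
  haveI : Nonempty α := Fintype.card_pos_iff.mp (hα.symm ▸ hpP.pos)
  obtain ⟨a₀⟩ := ‹Nonempty α›
  have hcardG : Nat.card G = p * Nat.card (MulAction.stabilizer G a₀) := by
    rw [← Subgroup.index_mul_card (MulAction.stabilizer G a₀), MulAction.index_stabilizer,
      MulAction.orbit_eq_univ, Set.ncard_univ, Nat.card_eq_fintype_card, hα]
  have hdvdG : p ∣ Nat.card G := by rw [hcardG]; exact dvd_mul_right _ _
  have hdvdP : p ∣ Nat.card (P : Subgroup G) := P.dvd_card_of_dvd_card hdvdG
  have hPcard : Nat.card (P : Subgroup G) = p := by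
    obtain ⟨k, hk⟩ := P.isPGroup'.exists_card_eq
    rcases k with _ | _ | k
    · rw [hk, pow_zero] at hdvdP
      exact absurd (Nat.dvd_one.mp hdvdP) hpP.ne_one
    · rw [hk, pow_one]
    · exfalso
      apply not_sq_dvd_card hα G
      have h1 : p ^ (k + 1 + 1) ∣ Nat.card G := by
        rw [← hk]; exact Subgroup.card_subgroup_dvd_card _
      exact dvd_trans (pow_dvd_pow p (by omega)) h1
  obtain ⟨⟨c, hcP⟩, hc⟩ := exists_prime_orderOf_dvd_card' p hdvdP
  have hco : orderOf c = p := by
    rw [← hc]; exact (Subgroup.orderOf_mk c hcP).symm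
  have hPeq : Subgroup.zpowers c = (P : Subgroup G) := by
    apply Subgroup.eq_of_le_of_card_ge
    · rw [Subgroup.zpowers_le]; exact hcP
    · rw [Nat.card_zpowers, hco, hPcard]
  haveI : Fact (Nat.Prime 2) := ⟨Nat.prime_two⟩
  obtain ⟨⟨t, htN⟩, ht⟩ := exists_prime_orderOf_dvd_card' 2 (even_iff_two_dvd.mp heven)
  have hto : orderOf t = 2 := by
    rw [← ht]; exact (Subgroup.orderOf_mk t htN).symm
  have htc : t * c * t⁻¹ ∈ Subgroup.zpowers c := by
    rw [hPeq]
    exact (Subgroup.mem_normalizer_iff.mp htN c).mp hcP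
  have hco' : orderOf (c : Equiv.Perm α) = p := by rw [Subgroup.orderOf_coe]; exact hco
  have hto' : orderOf (t : Equiv.Perm α) = 2 := by rw [Subgroup.orderOf_coe]; exact hto
  have htc' : (t : Equiv.Perm α) * c * (t : Equiv.Perm α)⁻¹ ∈
      Subgroup.zpowers (c : Equiv.Perm α) := by
    obtain ⟨m, hm⟩ := Subgroup.mem_zpowers_iff.mp htc
    refine Subgroup.mem_zpowers_iff.mpr ⟨m, ?_⟩
    have := congrArg Subtype.val hm
    simpa using this
  obtain ⟨e, he, het⟩ := exists_coord_neg hp2 hα (c : Equiv.Perm α) (t : Equiv.Perm α)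
    hco' hto' htc'
  exact ⟨c, t, e, hco, hto, he, het⟩

end setup

end Cfsg.Agent.Lib.Helper18.PrimeDegree
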