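import Mathlib
import Cfsg.Agent.Lib.Helper18.PrimeDegree2

/-!
Sylow `p`-subgroups of transitive permutation groups of prime degree `p`: order `p`,
self-centralizing, normalizer of order `p * k` with `k ∣ p - 1`, and `k ≠ 1` for non-solvable
groups (Burnside transfer).
-/

set_option autoImplicit false
set_option linter.style.haveILetI false

namespace Cfsg.Agent.Lib.Helper18.PrimeDegree

open MulAction

section setup3

variable {p : ℕ} [hp : Fact p.Prime]
variable {α : Type*} [Fintype α] [DecidableEq α]

theorem card_eq_mul_stabilizer (hα : Fintype.card α = p) (G : Subgroup (Equiv.Perm α))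
    [IsPretransitive G α] (a : α) : Nat.card G = p * Nat.card (stabilizer G a) := by
  rw [← Subgroup.index_mul_card (stabilizer G a), MulAction.index_stabilizer,
    MulAction.orbit_eq_univ, Set.ncard_univ, Nat.card_eq_fintype_card, hα]

theorem prime_dvd_card (hα : Fintype.card α = p) (G : Subgroup (Equiv.Perm α))
    [IsPretransitive G α] : p ∣ Nat.card G := by
  have hpP := hp.out
  haveI : Nonempty α := Fintype.card_pos_iff.mp (hα.symm ▸ hpP.pos)
  obtain ⟨a₀⟩ := ‹Nonempty α›
  rw [card_eq_mul_stabilizer hα G a₀]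
  exact dvd_mul_right _ _

/-- The Sylow `p`-subgroups of a transitive group of prime degree `p` have order `p`. -/
theorem sylow_card (hα : Fintype.card α = p) (G : Subgroup (Equiv.Perm α))
    [IsPretransitive G α] (P : Sylow p G) : Nat.card (P : Subgroup G) = p := by
  have hpP := hp.out
  have hdvdP : p ∣ Nat.card (P : Subgroup G) := P.dvd_card_of_dvd_card (prime_dvd_card hα G)
  obtain ⟨k, hk⟩ := P.isPGroup'.exists_card_eq
  rcases k with _ | _ | k
  · rw [hk, pow_zero] at hdvdP
    exact absurd (Nat.dvd_one.mp hdvdP) hpP.ne_one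
  · rw [hk, pow_one]
  · exfalso
    apply not_sq_dvd_card hα G
    have h1 : p ^ (k + 1 + 1) ∣ Nat.card G := by
      rw [← hk]; exact Subgroup.card_subgroup_dvd_card _
    exact dvd_trans (pow_dvd_pow p (by omega)) h1

theorem sylow_gen (hα : Fintype.card α = p) (G : Subgroup (Equiv.Perm α))
    [IsPretransitive G α] (P : Sylow p G) :
    ∃ c : G, orderOf c = p ∧ Subgroup.zpowers c = (P : Subgroup G) := by
  have hPcard := sylow_card hα G P
  have hdvdP : p ∣ Nat.card (P : Subgroup G) := by rw [hPcard]
  obtain ⟨⟨c, hcP⟩, hc⟩ := exists_prime_orderOf_dvd_card' p hdvdP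
  have hco : orderOf c = p := by
    rw [← hc]; exact (Subgroup.orderOf_mk c hcP).symm
  refine ⟨c, hco, ?_⟩
  apply Subgroup.eq_of_le_of_card_ge
  · rw [Subgroup.zpowers_le]; exact hcP
  · rw [Nat.card_zpowers, hco, hPcard]

/-- The Sylow `p`-subgroup is self-centralizing. -/
theorem centralizer_sylow (hα : Fintype.card α = p) (G : Subgroup (Equiv.Perm α))
    [IsPretransitive G α] (P : Sylow p G) :
    Subgroup.centralizer ((P : Subgroup G) : Set G) = (P : Subgroup G) := by
  classical
  obtain ⟨c, hco, hPeq⟩ := sylow_gen hα G P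
  have hco' : orderOf (c : Equiv.Perm α) = p := by rw [Subgroup.orderOf_coe]; exact hco
  obtain ⟨e, he⟩ := exists_coord hα (c : Equiv.Perm α) hco'
  apply le_antisymm
  · intro g hg
    rw [Subgroup.mem_centralizer_iff] at hg
    have hcP : c ∈ ((P : Subgroup G) : Set G) := by
      rw [← hPeq]; exact Subgroup.mem_zpowers c
    have hcomm : c * g = g * c := hg c hcP
    have hcomm' : (c : Equiv.Perm α) * (g : Equiv.Perm α) = (g : Equiv.Perm α) * c := by
      have := congrArg Subtype.val hcomm
      simpa using this
    have hcommn : ∀ n : ℕ, (c : Equiv.Perm α) ^ n * (g : Equiv.Perm α) = (g : Equiv.Perm α) * (c : Equiv.Perm α) ^ n := by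
      intro n
      exact ((Commute.pow_left (show Commute (c : Equiv.Perm α) g from hcomm') n)).eq
    set a : ZMod p := e.symm ((g : Equiv.Perm α) (e 0)) with ha
    have hga : (g : Equiv.Perm α) (e 0) = e a := by rw [ha, Equiv.apply_symm_apply]
    have hgeq : (g : Equiv.Perm α) = (c : Equiv.Perm α) ^ a.val := by
      ext x
      obtain ⟨j, rfl⟩ := e.surjective x
      have h1 : e j = ((c : Equiv.Perm α) ^ j.val) (e 0) := by
        rw [coord_pow _ e he, zero_add, ZMod.natCast_zmod_val]
      rw [h1, ← Equiv.Perm.mul_apply, ← hcommn, Equiv.Perm.mul_apply, hga, coord_pow _ e he,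
        ← Equiv.Perm.mul_apply, ← pow_add, coord_pow _ e he, zero_add]
      congr 1
      push_cast
      rw [ZMod.natCast_zmod_val, ZMod.natCast_zmod_val]
    rw [← hPeq]
    have : g = c ^ a.val := by
      apply Subtype.ext
      rw [hgeq]; simp
    rw [this]
    exact Subgroup.pow_mem _ (Subgroup.mem_zpowers c) _
  · intro g hg
    rw [Subgroup.mem_centralizer_iff]
    intro h hh
    rw [SetLike.mem_coe, ← hPeq] at hh
    rw [← hPeq] at hg
    obtain ⟨m, rfl⟩ := Subgroup.mem_zpowers_iff.mp hh
    obtain ⟨n, rfl⟩ := Subgroup.mem_zpowers_iff.mp hg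
    rw [← zpow_add, ← zpow_add, add_comm]

/-- The normalizer of the Sylow `p`-subgroup has order `p * k` with `k ∣ p - 1`. -/
theorem card_normalizer (hα : Fintype.card α = p) (G : Subgroup (Equiv.Perm α))
    [IsPretransitive G α] (P : Sylow p G) :
    ∃ k, k ∣ p - 1 ∧ Nat.card (Subgroup.normalizer ((P : Subgroup G) : Set G)) = p * k := by
  have hpP := hp.out
  have hPcard := sylow_card hα G P
  have key := Subgroup.card_dvd_of_injective _
    (QuotientGroup.kerLift_injective (P : Subgroup G).normalizerMonoidHom)
  rw [Subgroup.normalizerMonoidHom_ker, ← Subgroup.index, ← Subgroup.relIndex] at key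
  have hcyc : IsCyclic (P : Subgroup G) := isCyclic_of_prime_card hPcard
  rw [hcyc.card_mulAut, hPcard, Nat.totient_prime hpP, centralizer_sylow hα G P] at key
  refine ⟨_, key, ?_⟩
  have h1 := Subgroup.relIndex_mul_relIndex ⊥ (P : Subgroup G)
    (Subgroup.normalizer ((P : Subgroup G) : Set G)) bot_le Subgroup.le_normalizer
  rw [Subgroup.relIndex_bot_left, Subgroup.relIndex_bot_left, hPcard] at h1
  exact h1.symm

/-- In a non-solvable transitive group of prime degree the Sylow `p`-subgroup is not
self-normalizing (Burnside's transfer theorem). -/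
theorem card_normalizer_ne (hα : Fintype.card α = p) (G : Subgroup (Equiv.Perm α))
    [IsPretransitive G α] (hG : ¬ Group.IsSolvable G) (P : Sylow p G) :
    Nat.card (Subgroup.normalizer ((P : Subgroup G) : Set G)) ≠ p := by
  classical
  intro hN
  have hpP := hp.out
  have hPcard := sylow_card hα G P
  have hNP : (P : Subgroup G) = Subgroup.normalizer ((P : Subgroup G) : Set G) :=
    Subgroup.eq_of_le_of_card_ge Subgroup.le_normalizer (by rw [hN, hPcard])
  have hle : Subgroup.normalizer ((P : Subgroup G) : Set G) ≤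
      Subgroup.centralizer ((P : Subgroup G) : Set G) := by
    rw [centralizer_sylow hα G P, ← hNP]
  have hcompl := MonoidHom.ker_transferSylow_isComplement' P hle
  set K : Subgroup G := (MonoidHom.transferSylow P hle).ker with hK
  have hcard : Nat.card K * Nat.card (P : Subgroup G) = Nat.card G := hcompl.card_mul
  haveI : IsPreprimitive G α :=
    IsPreprimitive.of_prime_card (by rw [Nat.card_eq_fintype_card, hα]; exact hpP)
  by_cases hfix : fixedPoints K α = Set.univ
  · have hKbot : K = ⊥ := by
      rw [Subgroup.eq_bot_iff_forall]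
      intro g hg
      apply Subtype.ext
      ext x
      have hx : x ∈ fixedPoints K α := by rw [hfix]; trivial
      exact hx ⟨g, hg⟩
    rw [hKbot, Subgroup.card_bot, one_mul, hPcard] at hcard
    haveI : IsCyclic G := isCyclic_of_prime_card hcard.symm
    apply hG
    exact Group.isSolvable_of_comm (fun a b => (IsCyclic.commGroup (α := G)).mul_comm a b)
  · haveI : IsPretransitive K α := IsQuasiPreprimitive.isPretransitive_of_normal hfix
    haveI : Nonempty α := Fintype.card_pos_iff.mp (hα.symm ▸ hpP.pos)
    obtain ⟨a₀⟩ := ‹Nonempty α›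
    have hpK : p ∣ Nat.card K := by
      rw [← Subgroup.index_mul_card (stabilizer K a₀), MulAction.index_stabilizer,
        MulAction.orbit_eq_univ, Set.ncard_univ, Nat.card_eq_fintype_card, hα]
      exact dvd_mul_right _ _
    apply not_sq_dvd_card hα G
    rw [← hcard, hPcard, pow_two]
    exact Nat.mul_dvd_mul_right hpK p

/-- The order of an `n`-transitive group is divisible by `card α * (card α - 1) * ...`. -/
theorem descFactorial_dvd_card (G : Subgroup (Equiv.Perm α)) (n : ℕ)
    (hn : n ≤ Fintype.card α) (h : IsMultiplyPretransitive G α n) :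
    (Fintype.card α).descFactorial n ∣ Nat.card G := by
  have h' : IsPretransitive G (Fin n ↪ α) := h
  haveI : Nonempty (Fin n ↪ α) := by
    apply Function.Embedding.nonempty_of_card_le
    rw [Fintype.card_fin]; exact hn
  obtain ⟨x₀⟩ := ‹Nonempty (Fin n ↪ α)›
  letI inst : MulAction G (Fin n ↪ α) := Function.Embedding.instMulAction
  have h1 : @orbit G (Fin n ↪ α) inst.toSMul x₀ = Set.univ := by
    ext y
    simp only [Set.mem_univ, iff_true]
    obtain ⟨g, hg⟩ := h'.exists_smul_eq x₀ y
    exact ⟨g, hg⟩
  have h2 := Subgroup.index_mul_card (@stabilizer G (Fin n ↪ α) _ inst x₀)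
  rw [MulAction.index_stabilizer, h1, Set.ncard_univ, Nat.card_eq_fintype_card,
    Fintype.card_embedding_eq, Fintype.card_fin] at h2
  rw [← h2]
  exact dvd_mul_right _ _

/-- `|G| = |N_G(P)| * n_p` with `n_p ≡ 1 mod p`. -/
theorem card_eq_normalizer_mul (G : Subgroup (Equiv.Perm α)) (P : Sylow p G) :
    ∃ n, n % p = 1 ∧
      Nat.card G = Nat.card (Subgroup.normalizer ((P : Subgroup G) : Set G)) * n := by
  have hpP := hp.out
  refine ⟨Nat.card (Sylow p G), ?_, ?_⟩
  · have := card_sylow_modEq_one p G
    rw [Nat.ModEq, Nat.mod_eq_of_lt hpP.one_lt] at this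
    exact this
  · rw [Sylow.card_eq_index_normalizer P, mul_comm]
    exact (Subgroup.index_mul_card _).symm

end setup3

end Cfsg.Agent.Lib.Helper18.PrimeDegree
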