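import Mathlib
import Cfsg.Agent.Lib.Helper18.PrimeDegree3

/-!
More on transitive permutation groups of prime degree `p`: a self-normalizing Sylow
`p`-subgroup forces `|G| = p`; nontrivial normal subgroups are transitive and have index
dividing `|N_G(P) : P|`.
-/

set_option autoImplicit false
set_option linter.style.haveILetI false

namespace Cfsg.Agent.Lib.Helper18.PrimeDegree

open MulAction

section setup4

variable {p : ℕ} [hp : Fact p.Prime]
variable {α : Type*} [Fintype α] [DecidableEq α]

/-- If the Sylow `p`-subgroup of a transitive group of prime degree `p` is self-normalizing,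
the group has order `p` (Burnside's transfer theorem). -/
theorem card_eq_prime_of_card_normalizer (hα : Fintype.card α = p)
    (G : Subgroup (Equiv.Perm α)) [IsPretransitive G α] (P : Sylow p G)
    (hN : Nat.card (Subgroup.normalizer ((P : Subgroup G) : Set G)) = p) :
    Nat.card G = p := by
  classical
  have hpP := hp.out
  have hPcard := sylow_card hα G P
  have hNP : (P : Subgroup G) = Subgroup.normalizer ((P : Subgroup G) : Set G) :=
    Subgroup.eq_of_le_of_card_ge Subgroup.le_normalizer (by rw [hN, hPcard])
  have hle : Subgroup.normalizer ((P : Subgroup G) : Set G) ≤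
      Subgroup.centralizer ((P : Subgroup G) : Set G) := by
    rw [centralizer_sylow hα G P, ← hNP]
  have hcompl := MonoidHom.ker_transferSylow_isComplement' P hle
  set K : Subgroup G := (MonoidHom.transferSylow P hle).ker with hK
  have hcard : Nat.card K * Nat.card (P : Subgroup G) = Nat.card G := hcompl.card_mul
  haveI : IsPreprimitive G α :=
    IsPreprimitive.of_prime_card (by rw [Nat.card_eq_fintype_card, hα]; exact hpP)
  by_cases hfix : fixedPoints K α = Set.univ
  · have hKbot : K = ⊥ := by
      rw [Subgroup.eq_bot_iff_forall]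
      intro g hg
      apply Subtype.ext
      ext x
      have hx : x ∈ fixedPoints K α := by rw [hfix]; trivial
      exact hx ⟨g, hg⟩
    rw [hKbot, Subgroup.card_bot, one_mul, hPcard] at hcard
    exact hcard.symm
  · exfalso
    haveI : IsPretransitive K α := IsQuasiPreprimitive.isPretransitive_of_normal hfix
    haveI : Nonempty α := Fintype.card_pos_iff.mp (hα.symm ▸ hpP.pos)
    obtain ⟨a₀⟩ := ‹Nonempty α›
    have hpK : p ∣ Nat.card K := by
      rw [← Subgroup.index_mul_card (stabilizer K a₀), MulAction.index_stabilizer,
        MulAction.orbit_eq_univ, Set.ncard_univ, Nat.card_eq_fintype_card, hα]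
      exact dvd_mul_right _ _
    apply not_sq_dvd_card hα G
    rw [← hcard, hPcard, pow_two]
    exact Nat.mul_dvd_mul_right hpK p

/-- A nontrivial normal subgroup of a transitive group of prime degree is transitive. -/
theorem isPretransitive_of_normal_ne_bot (hα : Fintype.card α = p)
    (G : Subgroup (Equiv.Perm α)) [IsPretransitive G α] (N : Subgroup G) [N.Normal]
    (hbot : N ≠ ⊥) : IsPretransitive N α := by
  classical
  have hpP := hp.out
  haveI : IsPreprimitive G α :=
    IsPreprimitive.of_prime_card (by rw [Nat.card_eq_fintype_card, hα]; exact hpP)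
  have hfix : fixedPoints N α ≠ Set.univ := by
    intro hfix
    apply hbot
    rw [Subgroup.eq_bot_iff_forall]
    intro g hg
    apply Subtype.ext
    ext x
    have hx : x ∈ fixedPoints N α := by rw [hfix]; trivial
    exact hx ⟨g, hg⟩
  exact IsQuasiPreprimitive.isPretransitive_of_normal hfix

/-- The image in `Perm α` of a nontrivial normal subgroup is transitive. -/
theorem isPretransitive_map_of_normal_ne_bot (hα : Fintype.card α = p)
    (G : Subgroup (Equiv.Perm α)) [IsPretransitive G α] (N : Subgroup G) [N.Normal]
    (hbot : N ≠ ⊥) : IsPretransitive (N.map G.subtype) α := by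
  haveI := isPretransitive_of_normal_ne_bot hα G N hbot
  constructor
  intro x y
  obtain ⟨g, hg⟩ := exists_smul_eq N x y
  exact ⟨⟨((g : G) : Equiv.Perm α), Subgroup.mem_map_of_mem _ g.2⟩, hg⟩

/-- A nontrivial normal subgroup `N` of a transitive group of prime degree has index dividing
`|N_G(P) : P|` (Frattini argument). -/
theorem index_dvd_relIndex_of_normal_ne_bot (hα : Fintype.card α = p)
    (G : Subgroup (Equiv.Perm α)) [IsPretransitive G α] (N : Subgroup G) [N.Normal]
    (hbot : N ≠ ⊥) :
    ∃ Q : Sylow p G, N.index ∣
      (Q : Subgroup G).relIndex (Subgroup.normalizer ((Q : Subgroup G) : Set G)) := by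
  classical
  have hpP := hp.out
  haveI := isPretransitive_of_normal_ne_bot hα G N hbot
  haveI : Nonempty α := Fintype.card_pos_iff.mp (hα.symm ▸ hpP.pos)
  obtain ⟨a₀⟩ := ‹Nonempty α›
  have hpN : p ∣ Nat.card N := by
    rw [← Subgroup.index_mul_card (stabilizer N a₀), MulAction.index_stabilizer,
      MulAction.orbit_eq_univ, Set.ncard_univ, Nat.card_eq_fintype_card, hα]
    exact dvd_mul_right _ _
  let P' : Sylow p N := default
  have hfrat := Sylow.normalizer_sup_eq_top P'
  set R : Subgroup G := (P' : Subgroup N).map N.subtype with hR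
  have hRN : R ≤ N := by rw [hR]; exact Subgroup.map_subtype_le _
  have hP'card : p ∣ Nat.card (P' : Subgroup N) := P'.dvd_card_of_dvd_card hpN
  have hRcard_eq : Nat.card R = Nat.card (P' : Subgroup N) :=
    Subgroup.card_map_of_injective N.subtype_injective
  have hRp : IsPGroup p R := IsPGroup.map P'.isPGroup' N.subtype
  obtain ⟨Q, hRQ⟩ := hRp.exists_le_sylow
  have hQcard := sylow_card hα G Q
  have hRcard : Nat.card R = p := by
    have h1 : Nat.card R ∣ p := hQcard ▸ Subgroup.card_dvd_of_le hRQ
    have h2 : p ∣ Nat.card R := hRcard_eq ▸ hP'card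
    exact Nat.dvd_antisymm h1 h2
  have hRQeq : R = (Q : Subgroup G) :=
    Subgroup.eq_of_le_of_card_ge hRQ (by rw [hRcard, hQcard])
  refine ⟨Q, ?_⟩
  rw [← hRQeq]
  set M : Subgroup G := Subgroup.normalizer (R : Set G) with hM
  have hRM : R ≤ M := Subgroup.le_normalizer
  rw [← Subgroup.relIndex_top_right, ← hfrat, Subgroup.relIndex_sup_right,
    ← Subgroup.inf_relIndex_right]
  exact Subgroup.relIndex_dvd_of_le_left M (le_inf hRN hRM)

end setup4

end Cfsg.Agent.Lib.Helper18.PrimeDegree
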