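import Mathlib
import Cfsg.Prelude.Def_CaseTheorems
import Cfsg.Agent.Lib.Helper2.PGroupFrattini
import Cfsg.Agent.Lib.Helper24.DihIso
import Cfsg.Agent.Lib.Lead.QuatIso

/-!
# Quasi-dihedral (semidihedral) 2-groups: normal form library (helper18)

`QD S n x y` bundles the data of `Cfsg.IsQuasiDihedral S`.  Every element is `x^i` or `x^i * y`
(integer exponents), and we give the multiplication rules, the centre, the derived subgroup etc.
-/

set_option autoImplicit false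
set_option linter.style.haveILetI false

open scoped commutatorElement

namespace Cfsg.Agent.Lib.Helper18

/-- Data of a quasi-dihedral group. -/
structure QD (S : Type*) [Group S] (n : ℕ) (x y : S) : Prop where
  hn : 3 ≤ n
  card : Nat.card S = 2 ^ (n + 1)
  hx : orderOf x = 2 ^ n
  hy : orderOf y = 2
  hyx : y * x * y⁻¹ = x ^ (2 ^ (n - 1) - 1)

theorem isQuasiDihedral_iff {S : Type*} [Group S] :
    Cfsg.IsQuasiDihedral S ↔ ∃ n x y, QD S n x y := by
  constructor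
  · rintro ⟨n, hn, hc, x, y, hx, hy, hyx⟩
    exact ⟨n, x, y, ⟨hn, hc, hx, hy, hyx⟩⟩
  · rintro ⟨n, x, y, ⟨hn, hc, hx, hy, hyx⟩⟩
    exact ⟨n, hn, hc, x, y, hx, hy, hyx⟩

namespace QD

variable {S : Type*} [Group S] {n : ℕ} {x y : S}

/-- the exponent `u = 2^(n-1) - 1` as an integer -/
def u (n : ℕ) : ℤ := 2 ^ (n - 1) - 1

theorem finite (h : QD S n x y) : Finite S :=
  Nat.finite_of_card_ne_zero (by rw [h.card]; positivity)

theorem two_pow_pred (h : QD S n x y) : (2 : ℤ) ^ n = 2 * 2 ^ (n - 1) := by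
  have := h.hn
  obtain ⟨m, rfl⟩ : ∃ m, n = m + 1 := ⟨n - 1, by omega⟩
  simp [pow_succ, mul_comm]

theorem two_pow_pred2 (h : QD S n x y) : (2 : ℤ) ^ (n - 1) = 2 * 2 ^ (n - 2) := by
  have := h.hn
  obtain ⟨m, rfl⟩ : ∃ m, n = m + 2 := ⟨n - 2, by omega⟩
  simp [pow_succ, mul_comm]

theorem two_pow_pred3 (h : QD S n x y) : (2 : ℤ) ^ (n - 2) = 2 * 2 ^ (n - 3) := by
  have := h.hn
  obtain ⟨m, rfl⟩ : ∃ m, n = m + 3 := ⟨n - 3, by omega⟩
  simp [pow_succ, mul_comm]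

theorem y_sq (h : QD S n x y) : y * y = 1 := by
  have := pow_orderOf_eq_one y
  rw [h.hy, pow_two] at this; exact this

theorem y_inv (h : QD S n x y) : y⁻¹ = y := inv_eq_of_mul_eq_one_right h.y_sq

theorem y_ne_one (h : QD S n x y) : y ≠ 1 := by
  intro h1
  have := h.hy
  rw [h1, orderOf_one] at this; omega

theorem zpow_eq_one_iff (h : QD S n x y) (i : ℤ) : x ^ i = 1 ↔ (2 : ℤ) ^ n ∣ i := by
  rw [← orderOf_dvd_iff_zpow_eq_one, h.hx]
  norm_cast

theorem zpow_eq_iff (h : QD S n x y) (i j : ℤ) : x ^ i = x ^ j ↔ (2 : ℤ) ^ n ∣ i - j := by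
  rw [← h.zpow_eq_one_iff, zpow_sub, mul_inv_eq_one]

theorem hyx' (h : QD S n x y) : y * x * y⁻¹ = x ^ (u n) := by
  rw [h.hyx, u]
  have h1 : 1 ≤ 2 ^ (n - 1) := Nat.one_le_two_pow
  rw [← zpow_natCast]
  congr 1
  push_cast [Nat.cast_sub h1]
  ring

theorem conj_zpow (h : QD S n x y) (i : ℤ) : y * x ^ i * y⁻¹ = x ^ (u n * i) := by
  have := map_zpow (MulAut.conj y) x i
  simp only [MulAut.conj_apply] at this
  rw [this, h.hyx', zpow_mul]

theorem y_mul_zpow (h : QD S n x y) (i : ℤ) : y * x ^ i = x ^ (u n * i) * y := by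
  rw [← h.conj_zpow, inv_mul_cancel_right]

theorem u_sq (h : QD S n x y) : (2 : ℤ) ^ n ∣ u n * u n - 1 := by
  have h1 := h.two_pow_pred
  have h2 := h.two_pow_pred2
  refine ⟨2 ^ (n - 2) - 1, ?_⟩
  rw [u, h1, h2]
  ring

theorem one_add_u (n : ℕ) : 1 + u n = 2 ^ (n - 1) := by
  rw [u]; ring

theorem y_not_mem (h : QD S n x y) : y ∉ Subgroup.zpowers x := by
  intro hy
  obtain ⟨k, hk⟩ := Subgroup.mem_zpowers_iff.mp hy
  have hc : y * x * y⁻¹ = x := by
    rw [← hk]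
    have : Commute (x ^ k) x := (Commute.refl x).zpow_left k
    rw [this.eq, mul_inv_cancel_right]
  rw [h.hyx'] at hc
  have h1 : x ^ (u n) = x ^ (1 : ℤ) := by rw [hc, zpow_one]
  rw [h.zpow_eq_iff] at h1
  obtain ⟨c, hc'⟩ := h1
  have h2 := h.two_pow_pred
  have h3 := h.two_pow_pred2
  have h4 : (1 : ℤ) ≤ 2 ^ (n - 2) := by exact_mod_cast Nat.one_le_two_pow
  rw [u, h2, h3] at hc'
  have hn := h.hn
  have h5 : (2 : ℤ) ≤ 2 ^ (n - 2) := by
    obtain ⟨m, hm⟩ : ∃ m, n - 2 = m + 1 := ⟨n - 3, by omega⟩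
    rw [hm, pow_succ]
    have : (1 : ℤ) ≤ 2 ^ m := by exact_mod_cast Nat.one_le_two_pow
    linarith
  -- 2 * t - 2 = 4 * t * c with t ≥ 2 is impossible
  have h6 : 2 * 2 ^ (n - 2) - 1 - 1 = 2 * (2 * 2 ^ (n - 2)) * c := hc'
  rcases le_or_gt c 0 with hc0 | hc0
  · nlinarith
  · nlinarith

theorem card_zpowers (h : QD S n x y) : Nat.card (Subgroup.zpowers x) = 2 ^ n := by
  rw [Nat.card_zpowers, h.hx]

theorem index_zpowers (h : QD S n x y) : (Subgroup.zpowers x).index = 2 := by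
  have h1 := (Subgroup.zpowers x).card_mul_index
  rw [h.card_zpowers, h.card, pow_succ] at h1
  exact Nat.eq_of_mul_eq_mul_left (by positivity) h1

/-- Normal form: every element is `x^i` or `x^i * y`. -/
theorem cases (h : QD S n x y) (g : S) : (∃ i : ℤ, g = x ^ i) ∨ (∃ i : ℤ, g = x ^ i * y) := by
  by_cases hg : g ∈ Subgroup.zpowers x
  · left
    obtain ⟨i, hi⟩ := Subgroup.mem_zpowers_iff.mp hg
    exact ⟨i, hi.symm⟩
  · right
    have h2 := h.index_zpowers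
    have h3 : g * y⁻¹ ∈ Subgroup.zpowers x := by
      rw [Subgroup.mul_mem_iff_of_index_two h2]
      constructor
      · intro h4; exact absurd h4 hg
      · intro h4; exact absurd ((Subgroup.inv_mem_iff _).mp h4) h.y_not_mem
    obtain ⟨i, hi⟩ := Subgroup.mem_zpowers_iff.mp h3
    exact ⟨i, by rw [hi, inv_mul_cancel_right]⟩

theorem zpow_mul_y_ne (h : QD S n x y) (i j : ℤ) : x ^ i * y ≠ x ^ j := by
  intro h1
  apply h.y_not_mem
  have : y = x ^ (-i) * x ^ j := by rw [← h1, zpow_neg, inv_mul_cancel_left]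
  rw [this]
  exact Subgroup.mul_mem _ (Subgroup.zpow_mem_zpowers x _) (Subgroup.zpow_mem_zpowers x _)

theorem xy_mul_x (h : QD S n x y) (i j : ℤ) : (x ^ i * y) * x ^ j = x ^ (i + u n * j) * y := by
  rw [mul_assoc, h.y_mul_zpow, ← mul_assoc, ← zpow_add]

theorem xy_mul_xy (h : QD S n x y) (i j : ℤ) : (x ^ i * y) * (x ^ j * y) = x ^ (i + u n * j) := by
  rw [← mul_assoc, h.xy_mul_x, mul_assoc, h.y_sq, mul_one]

theorem x_mul_xy (i j : ℤ) : x ^ i * (x ^ j * y) = x ^ (i + j) * y := by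
  rw [← mul_assoc, ← zpow_add]

theorem xy_sq (h : QD S n x y) (i : ℤ) : (x ^ i * y) * (x ^ i * y) = x ^ (2 ^ (n - 1) * i) := by
  rw [h.xy_mul_xy, ← one_add_u]
  congr 1; ring

theorem xy_inv (h : QD S n x y) (i : ℤ) : (x ^ i * y)⁻¹ = x ^ (-(u n * i)) * y := by
  apply inv_eq_of_mul_eq_one_right
  rw [h.xy_mul_xy, h.zpow_eq_one_iff]
  obtain ⟨c, hc⟩ := h.u_sq
  refine ⟨-(c * i), ?_⟩
  have : i + u n * -(u n * i) = -((u n * u n - 1) * i) := by ring
  rw [this, hc]; ring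

/-- parity of the exponent is well defined -/
theorem even_of_zpow_eq (h : QD S n x y) {i j : ℤ} (hij : x ^ i = x ^ j) : Even i ↔ Even j := by
  rw [h.zpow_eq_iff, h.two_pow_pred] at hij
  obtain ⟨c, hc⟩ := hij
  have : i = j + 2 * (2 ^ (n - 1) * c) := by linarith
  rw [this, Int.even_add]
  simp

/-- The central involution. -/
def z (n : ℕ) (x : S) : S := x ^ ((2 : ℤ) ^ (n - 1))

theorem z_sq (h : QD S n x y) : z n x * z n x = 1 := by
  rw [z, ← zpow_add, h.zpow_eq_one_iff, h.two_pow_pred]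
  exact ⟨1, by ring⟩

theorem z_ne_one (h : QD S n x y) : z n x ≠ 1 := by
  rw [z, Ne, h.zpow_eq_one_iff, h.two_pow_pred]
  rintro ⟨c, hc⟩
  have h1 : (1 : ℤ) ≤ 2 ^ (n - 1) := by exact_mod_cast Nat.one_le_two_pow
  have : (2 : ℤ) ^ (n - 1) * (1 - 2 * c) = 0 := by linarith
  rcases mul_eq_zero.mp this with h2 | h2
  · linarith
  · omega

theorem y_z (h : QD S n x y) : y * z n x = z n x * y := by
  rw [z, h.y_mul_zpow]
  congr 1
  rw [h.zpow_eq_iff]
  have h1 := h.two_pow_pred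
  have h2 := h.two_pow_pred2
  refine ⟨2 ^ (n - 2) - 1, ?_⟩
  rw [u, h1, h2]; ring

theorem z_mem_center (h : QD S n x y) : z n x ∈ Subgroup.center S := by
  rw [Subgroup.mem_center_iff]
  intro g
  rcases h.cases g with ⟨i, rfl⟩ | ⟨i, rfl⟩
  · rw [z, ← zpow_add, ← zpow_add, add_comm]
  · rw [mul_assoc, h.y_z, ← mul_assoc, ← mul_assoc]
    congr 1
    rw [z, ← zpow_add, ← zpow_add, add_comm]

/-- An element of `⟨x⟩` commuting with `y` is `1` or `z`. -/
theorem zpow_comm_y (h : QD S n x y) (i : ℤ) (hc : x ^ i * y = y * x ^ i) :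
    (2 : ℤ) ^ (n - 1) ∣ i := by
  rw [h.y_mul_zpow] at hc
  have h1 := mul_right_cancel hc
  rw [h.zpow_eq_iff] at h1
  have h2 := h.two_pow_pred
  have h3 := h.two_pow_pred2
  obtain ⟨c, hc'⟩ := h1
  rw [u, h2, h3] at hc'
  -- i - (2t-1) i = 4 t c  ⇒ i (2 - 2t) = 4tc ⇒ i (1 - t) = 2 t c
  have h4 : i * (1 - 2 ^ (n - 2)) = 2 ^ (n - 1) * c := by rw [h3]; linarith
  -- (1 - t) is odd so coprime to 2^(n-1)
  have h5 : IsCoprime ((2 : ℤ) ^ (n - 1)) (1 - 2 ^ (n - 2)) := by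
    apply IsCoprime.pow_left
    have h6 := h.two_pow_pred3
    rw [h6]
    refine ⟨2 ^ (n - 3), 1, ?_⟩
    ring
  exact h5.dvd_of_dvd_mul_right ⟨c, h4⟩

theorem zpow_of_dvd (h : QD S n x y) (i : ℤ) (hd : (2 : ℤ) ^ (n - 1) ∣ i) :
    x ^ i = 1 ∨ x ^ i = z n x := by
  obtain ⟨c, rfl⟩ := hd
  rcases Int.even_or_odd c with ⟨d, rfl⟩ | ⟨d, rfl⟩
  · left
    rw [h.zpow_eq_one_iff, h.two_pow_pred]
    exact ⟨d, by ring⟩
  · right
    rw [z, h.zpow_eq_iff, h.two_pow_pred]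
    exact ⟨d, by ring⟩

theorem mem_center_iff (h : QD S n x y) (g : S) : g ∈ Subgroup.center S ↔ g = 1 ∨ g = z n x := by
  constructor
  · intro hg
    rw [Subgroup.mem_center_iff] at hg
    rcases h.cases g with ⟨i, rfl⟩ | ⟨i, rfl⟩
    · exact h.zpow_of_dvd i (h.zpow_comm_y i (hg y).symm)
    · exfalso
      have h1 := hg x
      have h1' : x ^ (1 : ℤ) * (x ^ i * y) = (x ^ i * y) * x ^ (1 : ℤ) := by
        rw [zpow_one]; exact h1
      rw [x_mul_xy, h.xy_mul_x] at h1'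
      have h2 := mul_right_cancel h1'
      rw [h.zpow_eq_iff] at h2
      obtain ⟨c, hc⟩ := h2
      have h3 := h.two_pow_pred
      have h4 := h.two_pow_pred2
      rw [u, h3, h4] at hc
      have h5 : (2 : ℤ) ≤ 2 ^ (n - 2) := by
        have hn := h.hn
        obtain ⟨m, hm⟩ : ∃ m, n - 2 = m + 1 := ⟨n - 3, by omega⟩
        rw [hm, pow_succ]
        have : (1 : ℤ) ≤ 2 ^ m := by exact_mod_cast Nat.one_le_two_pow
        linarith
      have h6 : 2 - 2 * 2 ^ (n - 2) = 2 * (2 * 2 ^ (n - 2)) * c := by linarith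
      rcases le_or_gt 0 c with hc0 | hc0
      · nlinarith
      · nlinarith
  · rintro (rfl | rfl)
    · exact Subgroup.one_mem _
    · exact h.z_mem_center

theorem card_center (h : QD S n x y) : Nat.card (Subgroup.center S) = 2 := by
  rw [Nat.card_eq_two_iff]
  refine ⟨⟨1, Subgroup.one_mem _⟩, ⟨z n x, h.z_mem_center⟩, ?_, ?_⟩
  · intro h1
    exact h.z_ne_one (congrArg Subtype.val h1).symm
  · ext ⟨g, hg⟩
    simp only [Set.mem_univ, Set.mem_insert_iff, Set.mem_singleton_iff, iff_true, Subtype.mk.injEq]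
    exact (h.mem_center_iff g).mp hg

/-! ### The subgroup `A = ⟨x²⟩` -/

/-- `A = ⟨x²⟩`, which is the derived and the Frattini subgroup. -/
def A (x : S) : Subgroup S := Subgroup.zpowers (x ^ (2 : ℤ))

theorem mem_A_iff (g : S) : g ∈ A x ↔ ∃ i : ℤ, g = x ^ (2 * i) := by
  rw [A, Subgroup.mem_zpowers_iff]
  constructor
  · rintro ⟨k, rfl⟩
    exact ⟨k, by rw [← zpow_mul]⟩
  · rintro ⟨k, rfl⟩
    exact ⟨k, by rw [← zpow_mul]⟩

theorem orderOf_x2 (h : QD S n x y) : orderOf (x ^ (2 : ℤ)) = 2 ^ (n - 1) := by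
  have h1 : x ^ (2 : ℤ) = x ^ (2 : ℕ) := by norm_cast
  rw [h1, orderOf_pow' x (by norm_num : (2 : ℕ) ≠ 0), h.hx]
  have hn := h.hn
  obtain ⟨m, rfl⟩ : ∃ m, n = m + 1 := ⟨n - 1, by omega⟩
  have : Nat.gcd (2 ^ (m + 1)) 2 = 2 := by
    apply Nat.gcd_eq_right
    exact ⟨2 ^ m, by rw [pow_succ]; ring⟩
  rw [this, pow_succ]
  simp

theorem card_A (h : QD S n x y) : Nat.card (A x) = 2 ^ (n - 1) := by
  rw [A, Nat.card_zpowers, h.orderOf_x2]

theorem index_A (h : QD S n x y) : (A x).index = 4 := by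
  have h1 := (A x).card_mul_index
  rw [h.card_A, h.card] at h1
  have hn := h.hn
  obtain ⟨m, hm⟩ : ∃ m, n = m + 1 := ⟨n - 1, by omega⟩
  subst hm
  have h2 : 2 ^ (m + 1 + 1) = 2 ^ (m + 1 - 1) * 4 := by
    simp [pow_succ]; ring
  rw [h2] at h1
  exact Nat.eq_of_mul_eq_mul_left (by positivity) h1

theorem A_le_zpowers : A x ≤ Subgroup.zpowers x := by
  intro g hg
  obtain ⟨i, rfl⟩ := (mem_A_iff g).mp hg
  exact Subgroup.zpow_mem_zpowers x _

theorem conj_mem_A (h : QD S n x y) (g a : S) (ha : a ∈ A x) : g * a * g⁻¹ ∈ A x := by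
  obtain ⟨i, rfl⟩ := (mem_A_iff a).mp ha
  rcases h.cases g with ⟨j, rfl⟩ | ⟨j, rfl⟩
  · rw [mem_A_iff]
    refine ⟨i, ?_⟩
    rw [← zpow_add, ← zpow_neg, ← zpow_add]
    congr 1; ring
  · rw [mem_A_iff]
    refine ⟨u n * i, ?_⟩
    have e : (x ^ j * y) * x ^ (2 * i) * (x ^ j * y)⁻¹
        = x ^ j * (y * x ^ (2 * i) * y⁻¹) * (x ^ j)⁻¹ := by group
    rw [e, h.conj_zpow, ← zpow_neg, ← zpow_add, ← zpow_add]
    congr 1; ring

theorem A_normal (h : QD S n x y) : (A x).Normal :=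
  ⟨fun a ha g => h.conj_mem_A g a ha⟩

theorem commutator_le_A (h : QD S n x y) : commutator S ≤ A x := by
  haveI := h.A_normal
  haveI := h.finite
  rw [← Subgroup.Normal.quotient_commutative_iff_commutator_le]
  have hcard : Nat.card (S ⧸ A x) = 2 ^ 2 := by
    rw [← Subgroup.index_eq_card, h.index_A]; norm_num
  haveI : Fact (Nat.Prime 2) := ⟨Nat.prime_two⟩
  exact IsPGroup.isMulCommutative_of_card_eq_prime_sq hcard

theorem x2_mem_commutator (h : QD S n x y) : x ^ (2 : ℤ) ∈ commutator S := by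
  have h1 : ⁅x, y⁆ ∈ commutator S := Subgroup.commutator_mem_commutator (Subgroup.mem_top x) (Subgroup.mem_top y)
  have h2 : ⁅x, y⁆ = x ^ (1 - u n) := by
    rw [commutatorElement_def]
    have : y * x⁻¹ * y⁻¹ = x ^ (u n * (-1)) := by
      have := h.conj_zpow (-1)
      rwa [zpow_neg_one] at this
    rw [mul_assoc, mul_assoc, ← mul_assoc y, this, zpow_sub, zpow_one, mul_neg_one, zpow_neg]
  rw [h2] at h1
  have h3 : x ^ (2 : ℤ) = (x ^ (1 - u n)) ^ (1 + (2 : ℤ) ^ (n - 2)) := by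
    rw [← zpow_mul, h.zpow_eq_iff]
    have e1 := h.two_pow_pred
    have e2 := h.two_pow_pred2
    have e3 := h.two_pow_pred3
    refine ⟨2 ^ (n - 3), ?_⟩
    rw [u, e1, e2, e3]
    ring
  rw [h3]
  exact Subgroup.zpow_mem _ h1 _

theorem commutator_eq (h : QD S n x y) : commutator S = A x := by
  apply le_antisymm h.commutator_le_A
  rw [A, Subgroup.zpowers_le]
  exact h.x2_mem_commutator

theorem isPGroup (h : QD S n x y) : IsPGroup 2 S := IsPGroup.of_card h.card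

theorem sq_mem_A (h : QD S n x y) (g : S) : g ^ 2 ∈ A x := by
  rcases h.cases g with ⟨i, rfl⟩ | ⟨i, rfl⟩
  · rw [mem_A_iff]
    refine ⟨i, ?_⟩
    rw [pow_two, ← zpow_add]; congr 1; ring
  · rw [pow_two, h.xy_sq, mem_A_iff, h.two_pow_pred2]
    exact ⟨2 ^ (n - 2) * i, by congr 1; ring⟩

theorem frattini_eq (h : QD S n x y) : frattini S = A x := by
  haveI := h.A_normal
  haveI := h.finite
  haveI : Fact (Nat.Prime 2) := ⟨Nat.prime_two⟩
  apply le_antisymm
  · exact Cfsg.Agent.Lib.Helper2.frattini_le_of_elementary_quotient (p := 2) (A x)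
      h.commutator_le_A h.sq_mem_A
  · rw [← h.commutator_eq]
    exact Cfsg.Agent.Lib.Helper2.commutator_le_frattini_of_isPGroup h.isPGroup

/-! ### The maximal subgroups -/

/-- `M e = {x^(2i)} ∪ {x^(2i+e) y}`; `M 0` is dihedral and `M 1` is generalized quaternion. -/
def M (h : QD S n x y) (e : ℤ) : Subgroup S where
  carrier := {g | ∃ i : ℤ, g = x ^ (2 * i) ∨ g = x ^ (2 * i + e) * y}
  one_mem' := ⟨0, Or.inl (by simp)⟩
  mul_mem' := by
    rintro a b ⟨i, rfl | rfl⟩ ⟨j, rfl | rfl⟩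
    · exact ⟨i + j, Or.inl (by rw [← zpow_add]; congr 1; ring)⟩
    · exact ⟨i + j, Or.inr (by rw [x_mul_xy]; congr 2; ring)⟩
    · exact ⟨i + u n * j, Or.inr (by rw [h.xy_mul_x]; congr 2; ring)⟩
    · refine ⟨i + u n * j + e * 2 ^ (n - 2), Or.inl ?_⟩
      rw [h.xy_mul_xy, h.zpow_eq_iff]
      have e2 := h.two_pow_pred2
      refine ⟨0, ?_⟩
      rw [u, e2]; ring
  inv_mem' := by
    rintro a ⟨i, rfl | rfl⟩
    · exact ⟨-i, Or.inl (by rw [← zpow_neg]; congr 1; ring)⟩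
    · refine ⟨-(u n * i) - e * 2 ^ (n - 2), Or.inr ?_⟩
      rw [h.xy_inv]
      congr 1
      rw [h.zpow_eq_iff]
      have e2 := h.two_pow_pred2
      refine ⟨0, ?_⟩
      rw [u, e2]; ring

theorem mem_M_iff (h : QD S n x y) (e : ℤ) (g : S) :
    g ∈ h.M e ↔ ∃ i : ℤ, g = x ^ (2 * i) ∨ g = x ^ (2 * i + e) * y := Iff.rfl

theorem A_le_M (h : QD S n x y) (e : ℤ) : A x ≤ h.M e := by
  intro g hg
  obtain ⟨i, rfl⟩ := (mem_A_iff g).mp hg
  exact ⟨i, Or.inl rfl⟩

theorem xy_mem_M (h : QD S n x y) (e : ℤ) : x ^ e * y ∈ h.M e :=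
  ⟨0, Or.inr (by simp)⟩

theorem x_not_mem_M (h : QD S n x y) (e : ℤ) : x ∉ h.M e := by
  rintro ⟨i, hi | hi⟩
  · have h1 : x ^ (1 : ℤ) = x ^ (2 * i) := by rw [zpow_one]; exact hi
    have := h.even_of_zpow_eq h1
    simp at this
  · have h1 : x ^ (2 * i + e) * y = x ^ (1 : ℤ) := by rw [zpow_one]; exact hi.symm
    exact h.zpow_mul_y_ne _ _ h1

theorem index_M (h : QD S n x y) (e : ℤ) (hxy : x ^ e * y ∉ A x) : (h.M e).index = 2 := by
  have h1 := Subgroup.relIndex_mul_index (h.A_le_M e)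
  rw [h.index_A] at h1
  have h2 : (h.M e).index ≠ 1 := by
    rw [Ne, Subgroup.index_eq_one]
    intro h3
    exact h.x_not_mem_M e (h3 ▸ Subgroup.mem_top x)
  have h3 : (A x).relIndex (h.M e) ≠ 1 := by
    rw [Ne, Subgroup.relIndex_eq_one]
    intro h4
    exact hxy (h4 (h.xy_mem_M e))
  have h4 : (h.M e).index ∣ 4 := ⟨_, by rw [mul_comm]; exact h1.symm⟩
  have h5 : (h.M e).index ≤ 4 := Nat.le_of_dvd (by norm_num) h4
  have h6 : (h.M e).index ≠ 0 := by
    intro h0; rw [h0] at h1; omega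
  interval_cases hk : (h.M e).index
  · omega
  · omega
  · rfl
  · omega
  · exfalso
    apply h3
    omega

theorem xy_not_mem_A (h : QD S n x y) (e : ℤ) : x ^ e * y ∉ A x := by
  intro h1
  obtain ⟨i, hi⟩ := (mem_A_iff _).mp h1
  exact h.zpow_mul_y_ne _ _ hi

theorem index_M' (h : QD S n x y) (e : ℤ) : (h.M e).index = 2 := h.index_M e (h.xy_not_mem_A e)

theorem card_M (h : QD S n x y) (e : ℤ) : Nat.card (h.M e) = 2 ^ n := by
  have h1 := (h.M e).card_mul_index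
  rw [h.index_M', h.card, pow_succ] at h1
  exact Nat.eq_of_mul_eq_mul_right (by norm_num) h1

theorem y_mem_M0 (h : QD S n x y) : y ∈ h.M 0 := ⟨0, Or.inr (by simp)⟩

theorem xy_mem_M1 (h : QD S n x y) : x * y ∈ h.M 1 := ⟨0, Or.inr (by simp)⟩

theorem M0_ne_M1 (h : QD S n x y) : h.M 0 ≠ h.M 1 := by
  intro h1
  have h2 : y ∈ h.M 1 := h1 ▸ h.y_mem_M0
  obtain ⟨i, hi | hi⟩ := h2
  · exact h.zpow_mul_y_ne 0 (2 * i) (by simpa using hi)
  · have h3 : x ^ (2 * i + 1) = x ^ (0 : ℤ) := by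
      have := mul_right_cancel (b := y) (a := (1 : S)) (c := x ^ (2 * i + 1)) (by simpa using hi)
      rw [zpow_zero]; exact this.symm
    have := h.even_of_zpow_eq h3
    simp at this
    exact absurd this (by
      rw [Int.not_odd_iff_even]; exact even_two_mul i)

theorem zpowers_ne_M (h : QD S n x y) (e : ℤ) : Subgroup.zpowers x ≠ h.M e := by
  intro h1
  exact h.x_not_mem_M e (h1 ▸ Subgroup.mem_zpowers x)

theorem eq_of_le_of_index_two {H K : Subgroup S} (hle : H ≤ K) (hH : H.index = 2)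
    (hK : K.index = 2) : H = K := by
  have h1 := Subgroup.relIndex_mul_index hle
  rw [hH, hK] at h1
  have h2 : H.relIndex K = 1 := by omega
  exact le_antisymm hle (Subgroup.relIndex_eq_one.mp h2)

/-- the three maximal subgroups -/
theorem coatom_cases (h : QD S n x y) (K : Subgroup S) (hK : IsCoatom K) :
    K = Subgroup.zpowers x ∨ K = h.M 0 ∨ K = h.M 1 := by
  haveI := h.finite
  haveI : Fact (Nat.Prime 2) := ⟨Nat.prime_two⟩
  have hidx := Cfsg.Agent.Lib.Helper2.index_of_isCoatom_of_isPGroup h.isPGroup hK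
  have hx2 : ∀ i : ℤ, x ^ (2 * i) ∈ K := by
    intro i
    have h1 : x ^ (2 * i) = x ^ i * x ^ i := by rw [← zpow_add]; congr 1; ring
    rw [h1]
    exact Subgroup.mul_self_mem_of_index_two hidx _
  by_cases hxK : x ∈ K
  · left
    have hle : Subgroup.zpowers x ≤ K := by rw [Subgroup.zpowers_le]; exact hxK
    exact (eq_of_le_of_index_two hle h.index_zpowers hidx).symm
  · right
    by_cases hyK : y ∈ K
    · left
      have hle : h.M 0 ≤ K := by
        rintro g ⟨i, rfl | rfl⟩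
        · exact hx2 i
        · rw [add_zero]; exact K.mul_mem (hx2 i) hyK
      exact (eq_of_le_of_index_two hle (h.index_M' 0) hidx).symm
    · right
      have hxy : x * y ∈ K := by
        rw [Subgroup.mul_mem_iff_of_index_two hidx]
        exact ⟨fun h1 => absurd h1 hxK, fun h1 => absurd h1 hyK⟩
      have hle : h.M 1 ≤ K := by
        rintro g ⟨i, rfl | rfl⟩
        · exact hx2 i
        · rw [zpow_add, zpow_one, mul_assoc]
          exact K.mul_mem (hx2 i) hxy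
      exact (eq_of_le_of_index_two hle (h.index_M' 1) hidx).symm

theorem isCoatom_of_index_two {K : Subgroup S} (hK : K.index = 2) : IsCoatom K :=
  Cfsg.Agent.Lib.Helper2.isCoatom_of_index_eq_prime Nat.prime_two hK

/-! ### Orders of the elements outside `⟨x⟩` and the isomorphism types of `M 0`, `M 1` -/

theorem xy_ne_one (h : QD S n x y) (i : ℤ) : x ^ i * y ≠ 1 := by
  intro h1
  exact h.zpow_mul_y_ne i 0 (by simpa using h1)

theorem orderOf_xy_of_even (h : QD S n x y) (i : ℤ) (hi : Even i) : orderOf (x ^ i * y) = 2 := by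
  apply orderOf_eq_prime
  · rw [pow_two, h.xy_sq, h.zpow_eq_one_iff, h.two_pow_pred]
    obtain ⟨k, rfl⟩ := hi
    exact ⟨k, by ring⟩
  · exact h.xy_ne_one i

theorem xy_sq_of_odd (h : QD S n x y) (i : ℤ) (hi : Odd i) : (x ^ i * y) * (x ^ i * y) = z n x := by
  rw [h.xy_sq, z, h.zpow_eq_iff, h.two_pow_pred]
  obtain ⟨k, rfl⟩ := hi
  exact ⟨k, by ring⟩

theorem orderOf_xy_of_odd (h : QD S n x y) (i : ℤ) (hi : Odd i) : orderOf (x ^ i * y) = 4 := by
  have h1 : orderOf (x ^ i * y) = 2 ^ (1 + 1) := by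
    apply orderOf_eq_prime_pow
    · rw [pow_one, pow_two, h.xy_sq_of_odd i hi]
      exact h.z_ne_one
    · have : (x ^ i * y) ^ 2 ^ (1 + 1) = ((x ^ i * y) * (x ^ i * y)) * ((x ^ i * y) * (x ^ i * y)) := by
        norm_num [pow_succ, mul_assoc]
      rw [this, h.xy_sq_of_odd i hi, h.z_sq]
  rw [h1]; norm_num

theorem M1_equiv_quaternion (h : QD S n x y) :
    Nonempty (h.M 1 ≃* QuaternionGroup (2 ^ (n - 2))) := by
  haveI := h.finite
  have hA1 : x ^ (2 : ℤ) ∈ h.M 1 := ⟨1, Or.inl (by simp)⟩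
  have hB1 : x * y ∈ h.M 1 := h.xy_mem_M1
  have hnat : (2 : ℕ) ^ (n - 1) = 2 * 2 ^ (n - 2) := by
    have hn := h.hn
    obtain ⟨m, hm⟩ : ∃ m, n = m + 2 := ⟨n - 2, by omega⟩
    subst hm
    simp [pow_succ, mul_comm]
  have hnat2 : (2 : ℕ) ^ n = 4 * 2 ^ (n - 2) := by
    have hn := h.hn
    obtain ⟨m, hm⟩ : ∃ m, n = m + 2 := ⟨n - 2, by omega⟩
    subst hm
    simp [pow_succ]; ring
  apply Cfsg.Agent.Lib.Lead.QuatIso.nonempty_mulEquiv_quaternionGroup
    (a := (⟨x ^ (2 : ℤ), hA1⟩ : h.M 1)) (b := (⟨x * y, hB1⟩ : h.M 1))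
  · rw [Subgroup.orderOf_mk, h.orderOf_x2, hnat]
  · apply Subtype.ext
    simp only [Subgroup.coe_pow]
    have e1 : (x * y) ^ 2 = x ^ ((2 : ℤ) ^ (n - 1) * 1) := by
      rw [pow_two]
      have := h.xy_sq 1
      rwa [zpow_one] at this
    rw [e1, ← zpow_natCast, ← zpow_mul, h.zpow_eq_iff]
    refine ⟨0, ?_⟩
    rw [h.two_pow_pred2]
    push_cast
    ring
  · apply Subtype.ext
    simp only [Subgroup.coe_mul, Subgroup.coe_inv]
    have e : (x * y) * x ^ (2 : ℤ) * (x * y)⁻¹ = x * (y * x ^ (2 : ℤ) * y⁻¹) * x⁻¹ := by group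
    rw [e, h.conj_zpow]
    have e2 : x * x ^ (u n * 2) * x⁻¹ = x ^ (u n * 2) := by
      have : Commute x (x ^ (u n * 2)) := (Commute.refl x).zpow_right _
      rw [this.eq, mul_inv_cancel_right]
    rw [e2, ← zpow_neg, h.zpow_eq_iff]
    refine ⟨1, ?_⟩
    rw [u, h.two_pow_pred]; ring
  · intro hmem
    obtain ⟨k, hk⟩ := Subgroup.mem_zpowers_iff.mp hmem
    have := congrArg Subtype.val hk
    simp only [Subgroup.coe_zpow] at this
    rw [← zpow_mul] at this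
    have h2 : x ^ (1 : ℤ) * y = x ^ (2 * k) := by rw [zpow_one]; exact this.symm
    exact h.zpow_mul_y_ne _ _ h2
  · rw [h.card_M, hnat2]

theorem M0_eq_closure (h : QD S n x y) :
    h.M 0 = Subgroup.closure ({x ^ (2 : ℤ) * y, y} : Set S) := by
  haveI := h.finite
  have hx2y : orderOf (x ^ (2 : ℤ) * y) = 2 := h.orderOf_xy_of_even 2 even_two
  obtain ⟨e⟩ := Cfsg.Agent.Lib.Helper24.closure_pair_equiv_dihedral hx2y h.hy
  have hprod : x ^ (2 : ℤ) * y * y = x ^ (2 : ℤ) := by rw [mul_assoc, h.y_sq, mul_one]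
  rw [hprod, h.orderOf_x2] at e
  have hle : Subgroup.closure ({x ^ (2 : ℤ) * y, y} : Set S) ≤ h.M 0 := by
    rw [Subgroup.closure_le]
    rintro g (rfl | rfl)
    · exact ⟨1, Or.inr (by simp)⟩
    · exact h.y_mem_M0
  have hcard : Nat.card (Subgroup.closure ({x ^ (2 : ℤ) * y, y} : Set S)) = 2 ^ n := by
    rw [Nat.card_congr e.toEquiv, Nat.card_eq_fintype_card, DihedralGroup.card]
    have hn := h.hn
    obtain ⟨m, hm⟩ : ∃ m, n = m + 1 := ⟨n - 1, by omega⟩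
    subst hm
    simp [pow_succ, mul_comm]
  symm
  apply Subgroup.eq_of_le_of_card_ge hle
  rw [hcard, h.card_M]

theorem M0_equiv_dihedral (h : QD S n x y) :
    Nonempty (h.M 0 ≃* DihedralGroup (2 ^ (n - 1))) := by
  haveI := h.finite
  have hx2y : orderOf (x ^ (2 : ℤ) * y) = 2 := h.orderOf_xy_of_even 2 even_two
  obtain ⟨e⟩ := Cfsg.Agent.Lib.Helper24.closure_pair_equiv_dihedral hx2y h.hy
  have hprod : x ^ (2 : ℤ) * y * y = x ^ (2 : ℤ) := by rw [mul_assoc, h.y_sq, mul_one]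
  rw [hprod, h.orderOf_x2] at e
  exact ⟨(MulEquiv.subgroupCongr h.M0_eq_closure).trans e⟩

theorem orderOf_zpow_eq_two (h : QD S n x y) (i : ℤ) (hi : orderOf (x ^ i) = 2) : Even i := by
  have h1 : (x ^ i) ^ 2 = 1 := by rw [← hi]; exact pow_orderOf_eq_one _
  rw [← zpow_natCast, ← zpow_mul, h.zpow_eq_one_iff, h.two_pow_pred] at h1
  obtain ⟨c, hc⟩ := h1
  have hn := h.hn
  have e2 := h.two_pow_pred2
  refine ⟨2 ^ (n - 2) * c, ?_⟩
  push_cast at hc
  rw [e2] at hc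
  linarith

theorem involution_mem_M0 (h : QD S n x y) (g : S) (hg : orderOf g = 2) : g ∈ h.M 0 := by
  rcases h.cases g with ⟨i, rfl⟩ | ⟨i, rfl⟩
  · obtain ⟨k, hk⟩ := h.orderOf_zpow_eq_two i hg
    exact ⟨k, Or.inl (by rw [hk]; congr 1; ring)⟩
  · rcases Int.even_or_odd i with ⟨k, hk⟩ | hi
    · exact ⟨k, Or.inr (by rw [hk]; congr 2; ring)⟩
    · exfalso
      rw [h.orderOf_xy_of_odd i hi] at hg
      omega

theorem closure_involutions (h : QD S n x y) :
    Subgroup.closure {g : S | orderOf g = 2} = h.M 0 := by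
  apply le_antisymm
  · rw [Subgroup.closure_le]
    intro g hg
    exact h.involution_mem_M0 g hg
  · rw [h.M0_eq_closure]
    apply Subgroup.closure_mono
    rintro g (rfl | rfl)
    · exact h.orderOf_xy_of_even 2 even_two
    · exact h.hy

/-! ### Conjugacy -/

theorem conj_xy_by_x (h : QD S n x y) (i j : ℤ) :
    x ^ j * (x ^ i * y) * (x ^ j)⁻¹ = x ^ (i + j * (1 - u n)) * y := by
  rw [← zpow_neg, mul_assoc, h.xy_mul_x, x_mul_xy]
  congr 2; ring

theorem isConj_xy (h : QD S n x y) (i k : ℤ) : IsConj (x ^ i * y) (x ^ (i + 2 * k) * y) := by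
  rw [isConj_iff]
  refine ⟨x ^ (k * (1 + 2 ^ (n - 2))), ?_⟩
  rw [h.conj_xy_by_x]
  congr 1
  rw [h.zpow_eq_iff]
  have e1 := h.two_pow_pred
  have e2 := h.two_pow_pred2
  have e3 := h.two_pow_pred3
  refine ⟨-(2 ^ (n - 3) * k), ?_⟩
  rw [u, e1, e2, e3]
  ring

theorem isConj_y_of_even (h : QD S n x y) (i : ℤ) (hi : Even i) : IsConj y (x ^ i * y) := by
  obtain ⟨k, rfl⟩ := hi
  have := h.isConj_xy 0 k
  simpa [two_mul] using this

theorem isConj_xy_of_odd (h : QD S n x y) (i : ℤ) (hi : Odd i) : IsConj (x * y) (x ^ i * y) := by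
  obtain ⟨k, rfl⟩ := hi
  have := h.isConj_xy 1 k
  rw [zpow_one] at this
  rw [add_comm]
  exact this

theorem conj_mem_zpowers (h : QD S n x y) (g : S) (i : ℤ) : g * x ^ i * g⁻¹ ∈ Subgroup.zpowers x := by
  rcases h.cases g with ⟨j, rfl⟩ | ⟨j, rfl⟩
  · have : x ^ j * x ^ i * (x ^ j)⁻¹ = x ^ i := by
      rw [← zpow_neg, ← zpow_add, ← zpow_add]; congr 1; ring
    rw [this]; exact Subgroup.zpow_mem_zpowers x i
  · have e : (x ^ j * y) * x ^ i * (x ^ j * y)⁻¹ = x ^ j * (y * x ^ i * y⁻¹) * (x ^ j)⁻¹ := by group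
    rw [e, h.conj_zpow]
    exact Subgroup.mul_mem _ (Subgroup.mul_mem _ (Subgroup.zpow_mem_zpowers x _)
      (Subgroup.zpow_mem_zpowers x _)) (Subgroup.inv_mem _ (Subgroup.zpow_mem_zpowers x _))

/-- an involution in `⟨x⟩` is `z` -/
theorem zpow_involution (h : QD S n x y) (i : ℤ) (hi : orderOf (x ^ i) = 2) : x ^ i = z n x := by
  have h1 : (x ^ i) ^ 2 = 1 := by rw [← hi]; exact pow_orderOf_eq_one _
  rw [← zpow_natCast, ← zpow_mul, h.zpow_eq_one_iff, h.two_pow_pred] at h1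
  obtain ⟨c, hc⟩ := h1
  push_cast at hc
  have hd : (2 : ℤ) ^ (n - 1) ∣ i := ⟨c, by linarith⟩
  rcases h.zpow_of_dvd i hd with h2 | h2
  · exfalso
    rw [h2, orderOf_one] at hi; omega
  · exact h2

theorem orderOf_z (h : QD S n x y) : orderOf (z n x) = 2 := by
  apply orderOf_eq_prime
  · rw [pow_two]; exact h.z_sq
  · exact h.z_ne_one

theorem z_ne_xy (h : QD S n x y) (i : ℤ) : z n x ≠ x ^ i * y := by
  intro h1
  exact h.zpow_mul_y_ne i _ h1.symm

/-- The element `w = x^(2^(n-2))` of order 4. -/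
def w (n : ℕ) (x : S) : S := x ^ ((2 : ℤ) ^ (n - 2))

theorem w_sq (h : QD S n x y) : w n x * w n x = z n x := by
  rw [w, z, ← zpow_add, h.two_pow_pred2]
  congr 1; ring

theorem orderOf_w (h : QD S n x y) : orderOf (w n x) = 4 := by
  have h1 : orderOf (w n x) = 2 ^ (1 + 1) := by
    apply orderOf_eq_prime_pow
    · rw [pow_one, pow_two, h.w_sq]
      exact h.z_ne_one
    · have : (w n x) ^ 2 ^ (1 + 1) = (w n x * w n x) * (w n x * w n x) := by
        norm_num [pow_succ, mul_assoc]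
      rw [this, h.w_sq, h.z_sq]
  rw [h1]; norm_num

theorem conj_w (h : QD S n x y) : y * w n x * y⁻¹ = (w n x)⁻¹ := by
  rw [w, h.conj_zpow, ← zpow_neg, h.zpow_eq_iff]
  have e1 := h.two_pow_pred
  have e2 := h.two_pow_pred2
  have e3 := h.two_pow_pred3
  refine ⟨2 ^ (n - 3), ?_⟩
  rw [u, e1, e2, e3]
  ring

theorem zpow_order_four (h : QD S n x y) (i : ℤ) (hi : orderOf (x ^ i) = 4) :
    x ^ i = w n x ∨ x ^ i = (w n x)⁻¹ := by
  have h1 : (x ^ i) ^ 4 = 1 := by rw [← hi]; exact pow_orderOf_eq_one _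
  rw [← zpow_natCast, ← zpow_mul, h.zpow_eq_one_iff, h.two_pow_pred, h.two_pow_pred2] at h1
  obtain ⟨c, hc⟩ := h1
  push_cast at hc
  have hi' : i = 2 ^ (n - 2) * c := by linarith
  -- c is odd
  rcases Int.even_or_odd c with ⟨d, hd⟩ | hodd
  · exfalso
    have h2 : (x ^ i) ^ 2 = 1 := by
      rw [← zpow_natCast, ← zpow_mul, h.zpow_eq_one_iff, h.two_pow_pred, h.two_pow_pred2]
      refine ⟨d, ?_⟩
      rw [hi', hd]; push_cast; ring
    have := orderOf_dvd_of_pow_eq_one h2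
    rw [hi] at this
    omega
  · obtain ⟨d, hd⟩ := hodd
    rcases Int.even_or_odd d with ⟨e, he⟩ | ⟨e, he⟩
    · left
      rw [w, h.zpow_eq_iff, h.two_pow_pred, h.two_pow_pred2]
      refine ⟨e, ?_⟩
      rw [hi', hd, he]; ring
    · right
      rw [w, ← zpow_neg, h.zpow_eq_iff, h.two_pow_pred, h.two_pow_pred2]
      refine ⟨e + 1, ?_⟩
      rw [hi', hd, he]; ring

end QD

end Cfsg.Agent.Lib.Helper18
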