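import Mathlib
import Cfsg.Agent.Lib.Helper18.RuData1
import Cfsg.Agent.Lib.Helper18.RuData3

/-! Kernel checks for the Ru certificate: generator A preserves the graph, part 2. -/

set_option Elab.async false

namespace Cfsg.Agent.Lib.Helper18.Ru
open Cfsg.Agent.Lib.Helper18.SS

theorem autA_8 : loopAll 127 (fun t => rowQ 12 4060 adjM cA (Nat.add 1016 t)) = true := by
  decide +kernel
theorem autA_9 : loopAll 127 (fun t => rowQ 12 4060 adjM cA (Nat.add 1143 t)) = true := by
  decide +kernel
theorem autA_10 : loopAll 127 (fun t => rowQ 12 4060 adjM cA (Nat.add 1270 t)) = true := by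
  decide +kernel
theorem autA_11 : loopAll 127 (fun t => rowQ 12 4060 adjM cA (Nat.add 1397 t)) = true := by
  decide +kernel
theorem autA_12 : loopAll 127 (fun t => rowQ 12 4060 adjM cA (Nat.add 1524 t)) = true := by
  decide +kernel
theorem autA_13 : loopAll 127 (fun t => rowQ 12 4060 adjM cA (Nat.add 1651 t)) = true := by
  decide +kernel
theorem autA_14 : loopAll 127 (fun t => rowQ 12 4060 adjM cA (Nat.add 1778 t)) = true := by
  decide +kernel
theorem autA_15 : loopAll 127 (fun t => rowQ 12 4060 adjM cA (Nat.add 1905 t)) = true := by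
  decide +kernel

end Cfsg.Agent.Lib.Helper18.Ru
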