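import Mathlib
import Cfsg.Agent.Lib.Helper18.RuData1
import Cfsg.Agent.Lib.Helper18.RuData3

/-! Kernel checks for the Ru certificate: generator A preserves the graph, part 4. -/

set_option Elab.async false

namespace Cfsg.Agent.Lib.Helper18.Ru
open Cfsg.Agent.Lib.Helper18.SS

theorem autA_24 : loopAll 127 (fun t => rowQ 12 4060 adjM cA (Nat.add 3048 t)) = true := by
  decide +kernel
theorem autA_25 : loopAll 127 (fun t => rowQ 12 4060 adjM cA (Nat.add 3175 t)) = true := by
  decide +kernel
theorem autA_26 : loopAll 127 (fun t => rowQ 12 4060 adjM cA (Nat.add 3302 t)) = true := by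
  decide +kernel
theorem autA_27 : loopAll 127 (fun t => rowQ 12 4060 adjM cA (Nat.add 3429 t)) = true := by
  decide +kernel
theorem autA_28 : loopAll 127 (fun t => rowQ 12 4060 adjM cA (Nat.add 3556 t)) = true := by
  decide +kernel
theorem autA_29 : loopAll 127 (fun t => rowQ 12 4060 adjM cA (Nat.add 3683 t)) = true := by
  decide +kernel
theorem autA_30 : loopAll 127 (fun t => rowQ 12 4060 adjM cA (Nat.add 3810 t)) = true := by
  decide +kernel
theorem autA_31 : loopAll 123 (fun t => rowQ 12 4060 adjM cA (Nat.add 3937 t)) = true := by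
  decide +kernel

end Cfsg.Agent.Lib.Helper18.Ru
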