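import Mathlib
import Cfsg.Agent.Lib.Helper18.RuData1
import Cfsg.Agent.Lib.Helper18.RuData3

/-! Kernel checks for the Ru certificate: generator B preserves the graph, part 3. -/

set_option Elab.async false

namespace Cfsg.Agent.Lib.Helper18.Ru
open Cfsg.Agent.Lib.Helper18.SS

theorem autB_16 : loopAll 127 (fun t => rowQ 12 4060 adjM cB (Nat.add 2032 t)) = true := by
  decide +kernel
theorem autB_17 : loopAll 127 (fun t => rowQ 12 4060 adjM cB (Nat.add 2159 t)) = true := by
  decide +kernel
theorem autB_18 : loopAll 127 (fun t => rowQ 12 4060 adjM cB (Nat.add 2286 t)) = true := by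
  decide +kernel
theorem autB_19 : loopAll 127 (fun t => rowQ 12 4060 adjM cB (Nat.add 2413 t)) = true := by
  decide +kernel
theorem autB_20 : loopAll 127 (fun t => rowQ 12 4060 adjM cB (Nat.add 2540 t)) = true := by
  decide +kernel
theorem autB_21 : loopAll 127 (fun t => rowQ 12 4060 adjM cB (Nat.add 2667 t)) = true := by
  decide +kernel
theorem autB_22 : loopAll 127 (fun t => rowQ 12 4060 adjM cB (Nat.add 2794 t)) = true := by
  decide +kernel
theorem autB_23 : loopAll 127 (fun t => rowQ 12 4060 adjM cB (Nat.add 2921 t)) = true := by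
  decide +kernel

end Cfsg.Agent.Lib.Helper18.Ru
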