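import Mathlib
import Cfsg.Agent.Lib.Helper18.RuAutA1
import Cfsg.Agent.Lib.Helper18.RuAutA2
import Cfsg.Agent.Lib.Helper18.RuAutA3
import Cfsg.Agent.Lib.Helper18.RuAutA4
import Cfsg.Agent.Lib.Helper18.RuAutB1
import Cfsg.Agent.Lib.Helper18.RuAutB2
import Cfsg.Agent.Lib.Helper18.RuAutB3
import Cfsg.Agent.Lib.Helper18.RuAutB4

/-! The generators of Ru preserve the graph (assembly of the pieces). -/

namespace Cfsg.Agent.Lib.Helper18.Ru
open Cfsg.Agent.Lib.Helper18.SS

theorem chk_autA : autOK 12 4060 adjM cA = true := by
  rw [autOK, loopAll_iff]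
  intro v hv
  rcases Nat.lt_or_ge v 127 with h0 | h0
  · exact range_piece autA_0 v (by omega) (by omega)
  rcases Nat.lt_or_ge v 254 with h1 | h1
  · exact range_piece autA_1 v (by omega) (by omega)
  rcases Nat.lt_or_ge v 381 with h2 | h2
  · exact range_piece autA_2 v (by omega) (by omega)
  rcases Nat.lt_or_ge v 508 with h3 | h3
  · exact range_piece autA_3 v (by omega) (by omega)
  rcases Nat.lt_or_ge v 635 with h4 | h4
  · exact range_piece autA_4 v (by omega) (by omega)
  rcases Nat.lt_or_ge v 762 with h5 | h5
  · exact range_piece autA_5 v (by omega) (by omega)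
  rcases Nat.lt_or_ge v 889 with h6 | h6
  · exact range_piece autA_6 v (by omega) (by omega)
  rcases Nat.lt_or_ge v 1016 with h7 | h7
  · exact range_piece autA_7 v (by omega) (by omega)
  rcases Nat.lt_or_ge v 1143 with h8 | h8
  · exact range_piece autA_8 v (by omega) (by omega)
  rcases Nat.lt_or_ge v 1270 with h9 | h9
  · exact range_piece autA_9 v (by omega) (by omega)
  rcases Nat.lt_or_ge v 1397 with h10 | h10
  · exact range_piece autA_10 v (by omega) (by omega)
  rcases Nat.lt_or_ge v 1524 with h11 | h11
  · exact range_piece autA_11 v (by omega) (by omega)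
  rcases Nat.lt_or_ge v 1651 with h12 | h12
  · exact range_piece autA_12 v (by omega) (by omega)
  rcases Nat.lt_or_ge v 1778 with h13 | h13
  · exact range_piece autA_13 v (by omega) (by omega)
  rcases Nat.lt_or_ge v 1905 with h14 | h14
  · exact range_piece autA_14 v (by omega) (by omega)
  rcases Nat.lt_or_ge v 2032 with h15 | h15
  · exact range_piece autA_15 v (by omega) (by omega)
  rcases Nat.lt_or_ge v 2159 with h16 | h16
  · exact range_piece autA_16 v (by omega) (by omega)
  rcases Nat.lt_or_ge v 2286 with h17 | h17
  · exact range_piece autA_17 v (by omega) (by omega)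
  rcases Nat.lt_or_ge v 2413 with h18 | h18
  · exact range_piece autA_18 v (by omega) (by omega)
  rcases Nat.lt_or_ge v 2540 with h19 | h19
  · exact range_piece autA_19 v (by omega) (by omega)
  rcases Nat.lt_or_ge v 2667 with h20 | h20
  · exact range_piece autA_20 v (by omega) (by omega)
  rcases Nat.lt_or_ge v 2794 with h21 | h21
  · exact range_piece autA_21 v (by omega) (by omega)
  rcases Nat.lt_or_ge v 2921 with h22 | h22
  · exact range_piece autA_22 v (by omega) (by omega)
  rcases Nat.lt_or_ge v 3048 with h23 | h23
  · exact range_piece autA_23 v (by omega) (by omega)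
  rcases Nat.lt_or_ge v 3175 with h24 | h24
  · exact range_piece autA_24 v (by omega) (by omega)
  rcases Nat.lt_or_ge v 3302 with h25 | h25
  · exact range_piece autA_25 v (by omega) (by omega)
  rcases Nat.lt_or_ge v 3429 with h26 | h26
  · exact range_piece autA_26 v (by omega) (by omega)
  rcases Nat.lt_or_ge v 3556 with h27 | h27
  · exact range_piece autA_27 v (by omega) (by omega)
  rcases Nat.lt_or_ge v 3683 with h28 | h28
  · exact range_piece autA_28 v (by omega) (by omega)
  rcases Nat.lt_or_ge v 3810 with h29 | h29
  · exact range_piece autA_29 v (by omega) (by omega)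
  rcases Nat.lt_or_ge v 3937 with h30 | h30
  · exact range_piece autA_30 v (by omega) (by omega)
  exact range_piece autA_31 v (by omega) (by omega)

theorem chk_autB : autOK 12 4060 adjM cB = true := by
  rw [autOK, loopAll_iff]
  intro v hv
  rcases Nat.lt_or_ge v 127 with h0 | h0
  · exact range_piece autB_0 v (by omega) (by omega)
  rcases Nat.lt_or_ge v 254 with h1 | h1
  · exact range_piece autB_1 v (by omega) (by omega)
  rcases Nat.lt_or_ge v 381 with h2 | h2
  · exact range_piece autB_2 v (by omega) (by omega)
  rcases Nat.lt_or_ge v 508 with h3 | h3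
  · exact range_piece autB_3 v (by omega) (by omega)
  rcases Nat.lt_or_ge v 635 with h4 | h4
  · exact range_piece autB_4 v (by omega) (by omega)
  rcases Nat.lt_or_ge v 762 with h5 | h5
  · exact range_piece autB_5 v (by omega) (by omega)
  rcases Nat.lt_or_ge v 889 with h6 | h6
  · exact range_piece autB_6 v (by omega) (by omega)
  rcases Nat.lt_or_ge v 1016 with h7 | h7
  · exact range_piece autB_7 v (by omega) (by omega)
  rcases Nat.lt_or_ge v 1143 with h8 | h8
  · exact range_piece autB_8 v (by omega) (by omega)
  rcases Nat.lt_or_ge v 1270 with h9 | h9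
  · exact range_piece autB_9 v (by omega) (by omega)
  rcases Nat.lt_or_ge v 1397 with h10 | h10
  · exact range_piece autB_10 v (by omega) (by omega)
  rcases Nat.lt_or_ge v 1524 with h11 | h11
  · exact range_piece autB_11 v (by omega) (by omega)
  rcases Nat.lt_or_ge v 1651 with h12 | h12
  · exact range_piece autB_12 v (by omega) (by omega)
  rcases Nat.lt_or_ge v 1778 with h13 | h13
  · exact range_piece autB_13 v (by omega) (by omega)
  rcases Nat.lt_or_ge v 1905 with h14 | h14
  · exact range_piece autB_14 v (by omega) (by omega)
  rcases Nat.lt_or_ge v 2032 with h15 | h15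
  · exact range_piece autB_15 v (by omega) (by omega)
  rcases Nat.lt_or_ge v 2159 with h16 | h16
  · exact range_piece autB_16 v (by omega) (by omega)
  rcases Nat.lt_or_ge v 2286 with h17 | h17
  · exact range_piece autB_17 v (by omega) (by omega)
  rcases Nat.lt_or_ge v 2413 with h18 | h18
  · exact range_piece autB_18 v (by omega) (by omega)
  rcases Nat.lt_or_ge v 2540 with h19 | h19
  · exact range_piece autB_19 v (by omega) (by omega)
  rcases Nat.lt_or_ge v 2667 with h20 | h20
  · exact range_piece autB_20 v (by omega) (by omega)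
  rcases Nat.lt_or_ge v 2794 with h21 | h21
  · exact range_piece autB_21 v (by omega) (by omega)
  rcases Nat.lt_or_ge v 2921 with h22 | h22
  · exact range_piece autB_22 v (by omega) (by omega)
  rcases Nat.lt_or_ge v 3048 with h23 | h23
  · exact range_piece autB_23 v (by omega) (by omega)
  rcases Nat.lt_or_ge v 3175 with h24 | h24
  · exact range_piece autB_24 v (by omega) (by omega)
  rcases Nat.lt_or_ge v 3302 with h25 | h25
  · exact range_piece autB_25 v (by omega) (by omega)
  rcases Nat.lt_or_ge v 3429 with h26 | h26
  · exact range_piece autB_26 v (by omega) (by omega)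
  rcases Nat.lt_or_ge v 3556 with h27 | h27
  · exact range_piece autB_27 v (by omega) (by omega)
  rcases Nat.lt_or_ge v 3683 with h28 | h28
  · exact range_piece autB_28 v (by omega) (by omega)
  rcases Nat.lt_or_ge v 3810 with h29 | h29
  · exact range_piece autB_29 v (by omega) (by omega)
  rcases Nat.lt_or_ge v 3937 with h30 | h30
  · exact range_piece autB_30 v (by omega) (by omega)
  exact range_piece autB_31 v (by omega) (by omega)


end Cfsg.Agent.Lib.Helper18.Ru
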