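import Mathlib
import Cfsg.Agent.Lib.Helper18.RuData1

/-! Kernel checks for the Ru certificate: Schreier closure at level 1, generator 3. -/

set_option Elab.async false

namespace Cfsg.Agent.Lib.Helper18.Ru
open Cfsg.Agent.Lib.Helper18.SS

theorem s1_sg2_1_0 : loopAll 406 (fun t => schQ 12 4060 lvl1 chainR sg2_1 (Nat.add 0 t)) = true := by
  decide +kernel
theorem s1_sg2_1_1 : loopAll 406 (fun t => schQ 12 4060 lvl1 chainR sg2_1 (Nat.add 406 t)) = true := by
  decide +kernel
theorem s1_sg2_1_2 : loopAll 406 (fun t => schQ 12 4060 lvl1 chainR sg2_1 (Nat.add 812 t)) = true := by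
  decide +kernel
theorem s1_sg2_1_3 : loopAll 406 (fun t => schQ 12 4060 lvl1 chainR sg2_1 (Nat.add 1218 t)) = true := by
  decide +kernel
theorem s1_sg2_1_4 : loopAll 406 (fun t => schQ 12 4060 lvl1 chainR sg2_1 (Nat.add 1624 t)) = true := by
  decide +kernel
theorem s1_sg2_1_5 : loopAll 406 (fun t => schQ 12 4060 lvl1 chainR sg2_1 (Nat.add 2030 t)) = true := by
  decide +kernel
theorem s1_sg2_1_6 : loopAll 406 (fun t => schQ 12 4060 lvl1 chainR sg2_1 (Nat.add 2436 t)) = true := by
  decide +kernel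
theorem s1_sg2_1_7 : loopAll 406 (fun t => schQ 12 4060 lvl1 chainR sg2_1 (Nat.add 2842 t)) = true := by
  decide +kernel
theorem s1_sg2_1_8 : loopAll 406 (fun t => schQ 12 4060 lvl1 chainR sg2_1 (Nat.add 3248 t)) = true := by
  decide +kernel
theorem s1_sg2_1_9 : loopAll 406 (fun t => schQ 12 4060 lvl1 chainR sg2_1 (Nat.add 3654 t)) = true := by
  decide +kernel

end Cfsg.Agent.Lib.Helper18.Ru
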