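import Mathlib
import Cfsg.Agent.Lib.Helper18.RuData1

/-! Kernel checks for the Ru certificate: levels 2 to 9. -/

set_option Elab.async false

namespace Cfsg.Agent.Lib.Helper18.Ru
open Cfsg.Agent.Lib.Helper18.SS

theorem chk_l1a : lvlOK2a 12 4060 [] lvl1 chainR = true := by decide +kernel
theorem chk_l2a : lvlOK2a 12 4060 [0] lvl2 chainT = true := by decide +kernel
theorem s2_sg2_1 : loopAll 4060 (schQ 12 4060 lvl2 chainT sg2_1) = true := by decide +kernel
theorem s2_sg2_2 : loopAll 4060 (schQ 12 4060 lvl2 chainT sg2_2) = true := by decide +kernel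
theorem s2_sg3_1 : loopAll 4060 (schQ 12 4060 lvl2 chainT sg3_1) = true := by decide +kernel
theorem s2_sg3_2 : loopAll 4060 (schQ 12 4060 lvl2 chainT sg3_2) = true := by decide +kernel
theorem s2_sg3_3 : loopAll 4060 (schQ 12 4060 lvl2 chainT sg3_3) = true := by decide +kernel
theorem s2_sg4_1 : loopAll 4060 (schQ 12 4060 lvl2 chainT sg4_1) = true := by decide +kernel
theorem s2_sg4_2 : loopAll 4060 (schQ 12 4060 lvl2 chainT sg4_2) = true := by decide +kernel
theorem chk_chainT : chainOK2 12 4060 [0, 1] chainT = true := by decide +kernel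

end Cfsg.Agent.Lib.Helper18.Ru
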