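import Mathlib
import Cfsg.Agent.Lib.Helper18.RuSch1_1
import Cfsg.Agent.Lib.Helper18.RuSch1_2
import Cfsg.Agent.Lib.Helper18.RuSch1_3
import Cfsg.Agent.Lib.Helper18.RuSch1_4
import Cfsg.Agent.Lib.Helper18.RuSch1_5
import Cfsg.Agent.Lib.Helper18.RuSch1_6
import Cfsg.Agent.Lib.Helper18.RuSch1_7
import Cfsg.Agent.Lib.Helper18.RuSch1_8
import Cfsg.Agent.Lib.Helper18.RuSch1_9
import Cfsg.Agent.Lib.Helper18.RuSch2

/-! The stabiliser chain check for Ru (assembly of the pieces). -/

namespace Cfsg.Agent.Lib.Helper18.Ru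
open Cfsg.Agent.Lib.Helper18.SS

theorem sch1_cA : loopAll 4060 (schQ 12 4060 lvl1 chainR cA) = true := by
  rw [loopAll_iff]
  intro y hy
  rcases Nat.lt_or_ge y 406 with h0 | h0
  · exact range_piece s1_cA_0 y (by omega) (by omega)
  rcases Nat.lt_or_ge y 812 with h1 | h1
  · exact range_piece s1_cA_1 y (by omega) (by omega)
  rcases Nat.lt_or_ge y 1218 with h2 | h2
  · exact range_piece s1_cA_2 y (by omega) (by omega)
  rcases Nat.lt_or_ge y 1624 with h3 | h3
  · exact range_piece s1_cA_3 y (by omega) (by omega)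
  rcases Nat.lt_or_ge y 2030 with h4 | h4
  · exact range_piece s1_cA_4 y (by omega) (by omega)
  rcases Nat.lt_or_ge y 2436 with h5 | h5
  · exact range_piece s1_cA_5 y (by omega) (by omega)
  rcases Nat.lt_or_ge y 2842 with h6 | h6
  · exact range_piece s1_cA_6 y (by omega) (by omega)
  rcases Nat.lt_or_ge y 3248 with h7 | h7
  · exact range_piece s1_cA_7 y (by omega) (by omega)
  rcases Nat.lt_or_ge y 3654 with h8 | h8
  · exact range_piece s1_cA_8 y (by omega) (by omega)
  exact range_piece s1_cA_9 y (by omega) (by omega)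

theorem sch1_cB : loopAll 4060 (schQ 12 4060 lvl1 chainR cB) = true := by
  rw [loopAll_iff]
  intro y hy
  rcases Nat.lt_or_ge y 406 with h0 | h0
  · exact range_piece s1_cB_0 y (by omega) (by omega)
  rcases Nat.lt_or_ge y 812 with h1 | h1
  · exact range_piece s1_cB_1 y (by omega) (by omega)
  rcases Nat.lt_or_ge y 1218 with h2 | h2
  · exact range_piece s1_cB_2 y (by omega) (by omega)
  rcases Nat.lt_or_ge y 1624 with h3 | h3
  · exact range_piece s1_cB_3 y (by omega) (by omega)
  rcases Nat.lt_or_ge y 2030 with h4 | h4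
  · exact range_piece s1_cB_4 y (by omega) (by omega)
  rcases Nat.lt_or_ge y 2436 with h5 | h5
  · exact range_piece s1_cB_5 y (by omega) (by omega)
  rcases Nat.lt_or_ge y 2842 with h6 | h6
  · exact range_piece s1_cB_6 y (by omega) (by omega)
  rcases Nat.lt_or_ge y 3248 with h7 | h7
  · exact range_piece s1_cB_7 y (by omega) (by omega)
  rcases Nat.lt_or_ge y 3654 with h8 | h8
  · exact range_piece s1_cB_8 y (by omega) (by omega)
  exact range_piece s1_cB_9 y (by omega) (by omega)

theorem sch1_sg2_1 : loopAll 4060 (schQ 12 4060 lvl1 chainR sg2_1) = true := by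
  rw [loopAll_iff]
  intro y hy
  rcases Nat.lt_or_ge y 406 with h0 | h0
  · exact range_piece s1_sg2_1_0 y (by omega) (by omega)
  rcases Nat.lt_or_ge y 812 with h1 | h1
  · exact range_piece s1_sg2_1_1 y (by omega) (by omega)
  rcases Nat.lt_or_ge y 1218 with h2 | h2
  · exact range_piece s1_sg2_1_2 y (by omega) (by omega)
  rcases Nat.lt_or_ge y 1624 with h3 | h3
  · exact range_piece s1_sg2_1_3 y (by omega) (by omega)
  rcases Nat.lt_or_ge y 2030 with h4 | h4
  · exact range_piece s1_sg2_1_4 y (by omega) (by omega)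
  rcases Nat.lt_or_ge y 2436 with h5 | h5
  · exact range_piece s1_sg2_1_5 y (by omega) (by omega)
  rcases Nat.lt_or_ge y 2842 with h6 | h6
  · exact range_piece s1_sg2_1_6 y (by omega) (by omega)
  rcases Nat.lt_or_ge y 3248 with h7 | h7
  · exact range_piece s1_sg2_1_7 y (by omega) (by omega)
  rcases Nat.lt_or_ge y 3654 with h8 | h8
  · exact range_piece s1_sg2_1_8 y (by omega) (by omega)
  exact range_piece s1_sg2_1_9 y (by omega) (by omega)

theorem sch1_sg2_2 : loopAll 4060 (schQ 12 4060 lvl1 chainR sg2_2) = true := by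
  rw [loopAll_iff]
  intro y hy
  rcases Nat.lt_or_ge y 406 with h0 | h0
  · exact range_piece s1_sg2_2_0 y (by omega) (by omega)
  rcases Nat.lt_or_ge y 812 with h1 | h1
  · exact range_piece s1_sg2_2_1 y (by omega) (by omega)
  rcases Nat.lt_or_ge y 1218 with h2 | h2
  · exact range_piece s1_sg2_2_2 y (by omega) (by omega)
  rcases Nat.lt_or_ge y 1624 with h3 | h3
  · exact range_piece s1_sg2_2_3 y (by omega) (by omega)
  rcases Nat.lt_or_ge y 2030 with h4 | h4
  · exact range_piece s1_sg2_2_4 y (by omega) (by omega)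
  rcases Nat.lt_or_ge y 2436 with h5 | h5
  · exact range_piece s1_sg2_2_5 y (by omega) (by omega)
  rcases Nat.lt_or_ge y 2842 with h6 | h6
  · exact range_piece s1_sg2_2_6 y (by omega) (by omega)
  rcases Nat.lt_or_ge y 3248 with h7 | h7
  · exact range_piece s1_sg2_2_7 y (by omega) (by omega)
  rcases Nat.lt_or_ge y 3654 with h8 | h8
  · exact range_piece s1_sg2_2_8 y (by omega) (by omega)
  exact range_piece s1_sg2_2_9 y (by omega) (by omega)

theorem sch1_sg3_1 : loopAll 4060 (schQ 12 4060 lvl1 chainR sg3_1) = true := by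
  rw [loopAll_iff]
  intro y hy
  rcases Nat.lt_or_ge y 406 with h0 | h0
  · exact range_piece s1_sg3_1_0 y (by omega) (by omega)
  rcases Nat.lt_or_ge y 812 with h1 | h1
  · exact range_piece s1_sg3_1_1 y (by omega) (by omega)
  rcases Nat.lt_or_ge y 1218 with h2 | h2
  · exact range_piece s1_sg3_1_2 y (by omega) (by omega)
  rcases Nat.lt_or_ge y 1624 with h3 | h3
  · exact range_piece s1_sg3_1_3 y (by omega) (by omega)
  rcases Nat.lt_or_ge y 2030 with h4 | h4
  · exact range_piece s1_sg3_1_4 y (by omega) (by omega)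
  rcases Nat.lt_or_ge y 2436 with h5 | h5
  · exact range_piece s1_sg3_1_5 y (by omega) (by omega)
  rcases Nat.lt_or_ge y 2842 with h6 | h6
  · exact range_piece s1_sg3_1_6 y (by omega) (by omega)
  rcases Nat.lt_or_ge y 3248 with h7 | h7
  · exact range_piece s1_sg3_1_7 y (by omega) (by omega)
  rcases Nat.lt_or_ge y 3654 with h8 | h8
  · exact range_piece s1_sg3_1_8 y (by omega) (by omega)
  exact range_piece s1_sg3_1_9 y (by omega) (by omega)

theorem sch1_sg3_2 : loopAll 4060 (schQ 12 4060 lvl1 chainR sg3_2) = true := by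
  rw [loopAll_iff]
  intro y hy
  rcases Nat.lt_or_ge y 406 with h0 | h0
  · exact range_piece s1_sg3_2_0 y (by omega) (by omega)
  rcases Nat.lt_or_ge y 812 with h1 | h1
  · exact range_piece s1_sg3_2_1 y (by omega) (by omega)
  rcases Nat.lt_or_ge y 1218 with h2 | h2
  · exact range_piece s1_sg3_2_2 y (by omega) (by omega)
  rcases Nat.lt_or_ge y 1624 with h3 | h3
  · exact range_piece s1_sg3_2_3 y (by omega) (by omega)
  rcases Nat.lt_or_ge y 2030 with h4 | h4
  · exact range_piece s1_sg3_2_4 y (by omega) (by omega)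
  rcases Nat.lt_or_ge y 2436 with h5 | h5
  · exact range_piece s1_sg3_2_5 y (by omega) (by omega)
  rcases Nat.lt_or_ge y 2842 with h6 | h6
  · exact range_piece s1_sg3_2_6 y (by omega) (by omega)
  rcases Nat.lt_or_ge y 3248 with h7 | h7
  · exact range_piece s1_sg3_2_7 y (by omega) (by omega)
  rcases Nat.lt_or_ge y 3654 with h8 | h8
  · exact range_piece s1_sg3_2_8 y (by omega) (by omega)
  exact range_piece s1_sg3_2_9 y (by omega) (by omega)

theorem sch1_sg3_3 : loopAll 4060 (schQ 12 4060 lvl1 chainR sg3_3) = true := by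
  rw [loopAll_iff]
  intro y hy
  rcases Nat.lt_or_ge y 406 with h0 | h0
  · exact range_piece s1_sg3_3_0 y (by omega) (by omega)
  rcases Nat.lt_or_ge y 812 with h1 | h1
  · exact range_piece s1_sg3_3_1 y (by omega) (by omega)
  rcases Nat.lt_or_ge y 1218 with h2 | h2
  · exact range_piece s1_sg3_3_2 y (by omega) (by omega)
  rcases Nat.lt_or_ge y 1624 with h3 | h3
  · exact range_piece s1_sg3_3_3 y (by omega) (by omega)
  rcases Nat.lt_or_ge y 2030 with h4 | h4
  · exact range_piece s1_sg3_3_4 y (by omega) (by omega)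
  rcases Nat.lt_or_ge y 2436 with h5 | h5
  · exact range_piece s1_sg3_3_5 y (by omega) (by omega)
  rcases Nat.lt_or_ge y 2842 with h6 | h6
  · exact range_piece s1_sg3_3_6 y (by omega) (by omega)
  rcases Nat.lt_or_ge y 3248 with h7 | h7
  · exact range_piece s1_sg3_3_7 y (by omega) (by omega)
  rcases Nat.lt_or_ge y 3654 with h8 | h8
  · exact range_piece s1_sg3_3_8 y (by omega) (by omega)
  exact range_piece s1_sg3_3_9 y (by omega) (by omega)

theorem sch1_sg4_1 : loopAll 4060 (schQ 12 4060 lvl1 chainR sg4_1) = true := by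
  rw [loopAll_iff]
  intro y hy
  rcases Nat.lt_or_ge y 406 with h0 | h0
  · exact range_piece s1_sg4_1_0 y (by omega) (by omega)
  rcases Nat.lt_or_ge y 812 with h1 | h1
  · exact range_piece s1_sg4_1_1 y (by omega) (by omega)
  rcases Nat.lt_or_ge y 1218 with h2 | h2
  · exact range_piece s1_sg4_1_2 y (by omega) (by omega)
  rcases Nat.lt_or_ge y 1624 with h3 | h3
  · exact range_piece s1_sg4_1_3 y (by omega) (by omega)
  rcases Nat.lt_or_ge y 2030 with h4 | h4
  · exact range_piece s1_sg4_1_4 y (by omega) (by omega)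
  rcases Nat.lt_or_ge y 2436 with h5 | h5
  · exact range_piece s1_sg4_1_5 y (by omega) (by omega)
  rcases Nat.lt_or_ge y 2842 with h6 | h6
  · exact range_piece s1_sg4_1_6 y (by omega) (by omega)
  rcases Nat.lt_or_ge y 3248 with h7 | h7
  · exact range_piece s1_sg4_1_7 y (by omega) (by omega)
  rcases Nat.lt_or_ge y 3654 with h8 | h8
  · exact range_piece s1_sg4_1_8 y (by omega) (by omega)
  exact range_piece s1_sg4_1_9 y (by omega) (by omega)

theorem sch1_sg4_2 : loopAll 4060 (schQ 12 4060 lvl1 chainR sg4_2) = true := by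
  rw [loopAll_iff]
  intro y hy
  rcases Nat.lt_or_ge y 406 with h0 | h0
  · exact range_piece s1_sg4_2_0 y (by omega) (by omega)
  rcases Nat.lt_or_ge y 812 with h1 | h1
  · exact range_piece s1_sg4_2_1 y (by omega) (by omega)
  rcases Nat.lt_or_ge y 1218 with h2 | h2
  · exact range_piece s1_sg4_2_2 y (by omega) (by omega)
  rcases Nat.lt_or_ge y 1624 with h3 | h3
  · exact range_piece s1_sg4_2_3 y (by omega) (by omega)
  rcases Nat.lt_or_ge y 2030 with h4 | h4
  · exact range_piece s1_sg4_2_4 y (by omega) (by omega)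
  rcases Nat.lt_or_ge y 2436 with h5 | h5
  · exact range_piece s1_sg4_2_5 y (by omega) (by omega)
  rcases Nat.lt_or_ge y 2842 with h6 | h6
  · exact range_piece s1_sg4_2_6 y (by omega) (by omega)
  rcases Nat.lt_or_ge y 3248 with h7 | h7
  · exact range_piece s1_sg4_2_7 y (by omega) (by omega)
  rcases Nat.lt_or_ge y 3654 with h8 | h8
  · exact range_piece s1_sg4_2_8 y (by omega) (by omega)
  exact range_piece s1_sg4_2_9 y (by omega) (by omega)

theorem chk_l1 : lvlOK2 12 4060 [] lvl1 chainR = true := by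
  rw [lvlOK2, chk_l1a, Bool.true_and, List.all_eq_true]
  intro p hp
  have hp' : p ∈ [(cA, cAi), (cB, cBi), (sg2_1, sg2_1i), (sg2_2, sg2_2i), (sg3_1, sg3_1i), (sg3_2, sg3_2i), (sg3_3, sg3_3i), (sg4_1, sg4_1i), (sg4_2, sg4_2i)] := hp
  simp only [List.mem_cons, List.not_mem_nil, or_false] at hp'
  rcases hp' with rfl | rfl | rfl | rfl | rfl | rfl | rfl | rfl | rfl
  · exact sch1_cA
  · exact sch1_cB
  · exact sch1_sg2_1
  · exact sch1_sg2_2
  · exact sch1_sg3_1
  · exact sch1_sg3_2
  · exact sch1_sg3_3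
  · exact sch1_sg4_1
  · exact sch1_sg4_2

theorem chk_l2 : lvlOK2 12 4060 [0] lvl2 chainT = true := by
  rw [lvlOK2, chk_l2a, Bool.true_and, List.all_eq_true]
  intro p hp
  have hp' : p ∈ [(sg2_1, sg2_1i), (sg2_2, sg2_2i), (sg3_1, sg3_1i), (sg3_2, sg3_2i), (sg3_3, sg3_3i), (sg4_1, sg4_1i), (sg4_2, sg4_2i)] := hp
  simp only [List.mem_cons, List.not_mem_nil, or_false] at hp'
  rcases hp' with rfl | rfl | rfl | rfl | rfl | rfl | rfl
  · exact s2_sg2_1
  · exact s2_sg2_2
  · exact s2_sg3_1
  · exact s2_sg3_2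
  · exact s2_sg3_3
  · exact s2_sg4_1
  · exact s2_sg4_2

theorem chk_chainR : chainOK2 12 4060 [0] chainR = true := by
  show (chainOK2 12 4060 [0, 1] chainT && lvlOK2 12 4060 [0] lvl2 chainT) = true
  rw [chk_chainT, chk_l2]
  rfl

theorem chk_chain : chainOK2 12 4060 [] chainS = true := by
  show (chainOK2 12 4060 [0] chainR && lvlOK2 12 4060 [] lvl1 chainR) = true
  rw [chk_chainR, chk_l1]
  rfl

end Cfsg.Agent.Lib.Helper18.Ru
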