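import Mathlib
import Cfsg.Agent.Lib.Helper18.RuData5

/-! Kernel checks for the Ru certificate: the stabiliser chain of the Tits subgroup. -/

set_option Elab.async false

namespace Cfsg.Agent.Lib.Helper18.Ru
open Cfsg.Agent.Lib.Helper18.SS

theorem chk_tl1 : lvlOK2 12 4060 [] tlvl1 tchainR = true := by decide +kernel
theorem chk_tl2a : lvlOK2a 12 4060 [0] tlvl2 tchainT = true := by decide +kernel
theorem ts2_ctA : loopAll 4060 (schQ 12 4060 tlvl2 tchainT ctA) = true := by decide +kernel
theorem ts2_ctB : loopAll 4060 (schQ 12 4060 tlvl2 tchainT ctB) = true := by decide +kernel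
theorem ts2_tg3_1 : loopAll 4060 (schQ 12 4060 tlvl2 tchainT tg3_1) = true := by decide +kernel
theorem ts2_tg3_2 : loopAll 4060 (schQ 12 4060 tlvl2 tchainT tg3_2) = true := by decide +kernel
theorem ts2_tg4_1 : loopAll 4060 (schQ 12 4060 tlvl2 tchainT tg4_1) = true := by decide +kernel
theorem ts2_tg4_2 : loopAll 4060 (schQ 12 4060 tlvl2 tchainT tg4_2) = true := by decide +kernel
theorem ts2_tg4_3 : loopAll 4060 (schQ 12 4060 tlvl2 tchainT tg4_3) = true := by decide +kernel
theorem chk_tchainT : chainOK2 12 4060 [0, 1] tchainT = true := by decide +kernel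

end Cfsg.Agent.Lib.Helper18.Ru
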