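import Mathlib
import Cfsg.Agent.Lib.Helper18.RuSchT

/-! The stabiliser chain check for the Tits subgroup (assembly of the pieces). -/

namespace Cfsg.Agent.Lib.Helper18.Ru
open Cfsg.Agent.Lib.Helper18.SS

theorem chk_tl2 : lvlOK2 12 4060 [0] tlvl2 tchainT = true := by
  rw [lvlOK2, chk_tl2a, Bool.true_and, List.all_eq_true]
  intro p hp
  have hp' : p ∈ [(ctA, ctAi), (ctB, ctBi), (tg3_1, tg3_1i), (tg3_2, tg3_2i), (tg4_1, tg4_1i), (tg4_2, tg4_2i), (tg4_3, tg4_3i)] := hp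
  simp only [List.mem_cons, List.not_mem_nil, or_false] at hp'
  rcases hp' with rfl | rfl | rfl | rfl | rfl | rfl | rfl
  · exact ts2_ctA
  · exact ts2_ctB
  · exact ts2_tg3_1
  · exact ts2_tg3_2
  · exact ts2_tg4_1
  · exact ts2_tg4_2
  · exact ts2_tg4_3

theorem chk_tchainR : chainOK2 12 4060 [0] tchainR = true := by
  show (chainOK2 12 4060 [0, 1] tchainT && lvlOK2 12 4060 [0] tlvl2 tchainT) = true
  rw [chk_tchainT, chk_tl2]
  rfl

theorem chk_tchain : chainOK2 12 4060 [] tchainS = true := by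
  show (chainOK2 12 4060 [0] tchainR && lvlOK2 12 4060 [] tlvl1 tchainR) = true
  rw [chk_tchainR, chk_tl1]
  rfl

end Cfsg.Agent.Lib.Helper18.Ru
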