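import Mathlib
import Cfsg.Agent.Lib.Helper18.RuData2b

/-! Kernel checks for the Ru certificate: generators of order 29 and the straight-line program, part 1. -/

set_option Elab.async false

namespace Cfsg.Agent.Lib.Helper18.Ru
open Cfsg.Agent.Lib.Helper18.SS

theorem chk_powA : powOKf 12 4060 cA 28 = true := by decide +kernel
theorem chk_powB : powOKf 12 4060 cB 28 = true := by decide +kernel
theorem chk_strong :
    (cpairs chainS).all (fun p => p.1 == cA || p.1 == cB || slpAll.any (fun e => e.1 == p.1)) = true := by
  decide +kernel
theorem chk_slp0 : slpOKf 12 4060 prev0 slpC0 = true := by decide +kernel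
theorem chk_slp1 : slpOKf 12 4060 prev1 slpC1 = true := by decide +kernel
theorem chk_slp2 : slpOKf 12 4060 prev2 slpC2 = true := by decide +kernel
theorem chk_slp3 : slpOKf 12 4060 prev3 slpC3 = true := by decide +kernel
theorem chk_slp4 : slpOKf 12 4060 prev4 slpC4 = true := by decide +kernel
theorem chk_slp5 : slpOKf 12 4060 prev5 slpC5 = true := by decide +kernel
theorem chk_slp6 : slpOKf 12 4060 prev6 slpC6 = true := by decide +kernel

end Cfsg.Agent.Lib.Helper18.Ru
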