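import Mathlib
import Cfsg.Agent.Lib.Helper18.RuData2b

/-! Kernel checks for the Ru certificate: the straight-line program, part 2. -/

set_option Elab.async false

namespace Cfsg.Agent.Lib.Helper18.Ru
open Cfsg.Agent.Lib.Helper18.SS

theorem chk_slp7 : slpOKf 12 4060 prev7 slpC7 = true := by decide +kernel
theorem chk_slp8 : slpOKf 12 4060 prev8 slpC8 = true := by decide +kernel
theorem chk_slp9 : slpOKf 12 4060 prev9 slpC9 = true := by decide +kernel
theorem chk_slp10 : slpOKf 12 4060 prev10 slpC10 = true := by decide +kernel
theorem chk_slp11 : slpOKf 12 4060 prev11 slpC11 = true := by decide +kernel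
theorem chk_slp12 : slpOKf 12 4060 prev12 slpC12 = true := by decide +kernel
theorem chk_slp13 : slpOKf 12 4060 prev13 slpC13 = true := by decide +kernel

end Cfsg.Agent.Lib.Helper18.Ru
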