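import Mathlib
import Cfsg.Agent.Lib.Helper18.RuData1
import Cfsg.Agent.Lib.Helper18.RuData3

/-! Kernel checks for the Ru certificate: the determining sequence. -/

set_option Elab.async false

namespace Cfsg.Agent.Lib.Helper18.Ru
open Cfsg.Agent.Lib.Helper18.SS

theorem chk_rounds : roundsOK adjM 4060 allB roundsD = true := by decide +kernel
theorem chk_sorted : sortedOK 12 adjM 4060 (maskOf (allB ++ roundsD.flatten)) piC = true := by
  decide +kernel

end Cfsg.Agent.Lib.Helper18.Ru
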