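import Mathlib
import Cfsg.Agent.Lib.Helper18.RuData1

/-! Kernel checks for the Ru certificate: suborbits of the point stabiliser and the order. -/

set_option Elab.async false

namespace Cfsg.Agent.Lib.Helper18.Ru
open Cfsg.Agent.Lib.Helper18.SS

def q1B (x : ℕ) : Bool := Nat.beq x lvl1.b || inOrb 4060 lvl2 x
def q2B (x : ℕ) : Bool := Nat.beq x lvl1.b || inOrb 4060 lvlO x

/-- the second suborbit of the point stabiliser -/
theorem chk_orb : loopAll 4060 (fun y => Bool.rec true
    (Nat.beq (evalF 12 4060 (wordL 12 lvlO y) c0) y) (inOrb 4060 lvlO y)) = true := by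
  decide +kernel

theorem chk_card : (chainS.map (fun l => ((List.range 4060).filter (inOrb 4060 l)).length)).prod
    = 145926144000 := by decide +kernel

theorem chk_part : loopAll 4060 (fun x => Nat.beq x lvl1.b || inOrb 4060 lvl2 x || inOrb 4060 lvlO x)
    = true := by decide +kernel
theorem chk_c1 : ((List.range 4060).filter q1B).length = 1756 := by decide +kernel
theorem chk_c2 : ((List.range 4060).filter q2B).length = 2305 := by decide +kernel
theorem chk_len1 : ((List.range 4060).filter (inOrb 4060 lvl1)).length = 4060 := by decide +kernel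
theorem chk_cover : ∀ d ∈ allB, d ∈ ([] : List ℕ) ∨ d ∈ chainS.map (fun l => l.b) := by
  decide +kernel
theorem chk_b1 : lvl1.b < 4060 := by decide +kernel
theorem chk_b1z : lvl1.b = 0 := by decide +kernel
theorem chk_b2 : lvl2.b < 4060 := by decide +kernel
theorem chk_c0 : c0 < 4060 := by decide +kernel
theorem chk_PO : lvlO.P = lvl2.P := by decide +kernel
theorem chk_bO : lvlO.b = c0 := by decide +kernel

end Cfsg.Agent.Lib.Helper18.Ru
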