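import Mathlib
import Cfsg.Agent.Lib.Helper18.RuData2b
import Cfsg.Agent.Lib.Helper18.RuData5

/-! Kernel checks for the Ru certificate: the generators of the Tits subgroup and its straight-line program. -/

set_option Elab.async false

namespace Cfsg.Agent.Lib.Helper18.Ru
open Cfsg.Agent.Lib.Helper18.SS

theorem chk_powTA : powOKf 12 4060 ctA 12 = true := by decide +kernel
theorem chk_powTB : powOKf 12 4060 ctB 12 = true := by decide +kernel
theorem chk_tin : (slpAll.any (fun e => e.1 == ctA) && slpAll.any (fun e => e.1 == ctB)) = true := by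
  decide +kernel
theorem chk_tfix0 : (Nat.beq (lkf 12 4060 ctA 0) 0 && Nat.beq (lkf 12 4060 ctB 0) 0) = true := by
  decide +kernel
theorem chk_tstrong :
    (cpairs tchainS).all (fun p => p.1 == ctA || p.1 == ctB || tslpAll.any (fun e => e.1 == p.1)) = true := by
  decide +kernel
theorem chk_tslp0 : slpOKf 12 4060 tprev0 tslpC0 = true := by decide +kernel
theorem chk_tslp1 : slpOKf 12 4060 tprev1 tslpC1 = true := by decide +kernel
theorem chk_tslp2 : slpOKf 12 4060 tprev2 tslpC2 = true := by decide +kernel
theorem chk_tslp3 : slpOKf 12 4060 tprev3 tslpC3 = true := by decide +kernel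
theorem chk_tslp4 : slpOKf 12 4060 tprev4 tslpC4 = true := by decide +kernel
theorem chk_tslp5 : slpOKf 12 4060 tprev5 tslpC5 = true := by decide +kernel
theorem chk_tslp6 : slpOKf 12 4060 tprev6 tslpC6 = true := by decide +kernel
theorem chk_tslp7 : slpOKf 12 4060 tprev7 tslpC7 = true := by decide +kernel

end Cfsg.Agent.Lib.Helper18.Ru
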