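import Mathlib
import Cfsg.Agent.Lib.Helper18.RuData5

/-! Kernel checks for the Ru certificate: the Tits subgroup, its order and its suborbits on 1755 points. -/

set_option Elab.async false

namespace Cfsg.Agent.Lib.Helper18.Ru
open Cfsg.Agent.Lib.Helper18.SS

theorem chk_tcard : (tchainS.map (fun l => ((List.range 4060).filter (inOrb 4060 l)).length)).prod
    = 17971200 := by decide +kernel
theorem chk_tcover : ∀ d ∈ allB, d ∈ ([] : List ℕ) ∨ d ∈ tchainS.map (fun l => l.b) := by
  decide +kernel
theorem chk_tallB : allB.all (fun d => Nat.beq d 0 || inOrb 4060 tlvl2 d) = true := by decide +kernel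
theorem chk_tk : ((List.range 4060).filter (inOrb 4060 tlvl2)).length = 1755 := by decide +kernel
theorem chk_tb1z : tlvl1.b = 0 := by decide +kernel
theorem chk_tb2 : tlvl2.b < 4060 := by decide +kernel
theorem chk_treps : ∀ k < 5, trepOf k < 4060 := by decide +kernel

/-- every point of the orbit other than its base point is reached from the representative of its suborbit -/
theorem chk_torb : loopAll 4060 (fun y => !(inOrb 4060 tlvl2 y) || Nat.beq y tlvl2.b ||
    Nat.beq (evalF 12 4060 (wordTo 12 tlvl3.P tgt tpt (trepOf (fld 4 tlabT y)) tfuel y)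
      (trepOf (fld 4 tlabT y))) y) = true := by
  decide +kernel

theorem chk_tlab : loopAll 4060 (fun y => !(inOrb 4060 tlvl2 y) || (Nat.blt (fld 4 tlabT y) 5 &&
    (Nat.beq y tlvl2.b || !(Nat.beq (fld 4 tlabT y) 0)))) = true := by
  decide +kernel

theorem chk_tlab0 : fld 4 tlabT tlvl2.b = 0 := by decide +kernel

theorem chk_tblkQ : loopAll 32 tblkQ = true := by decide +kernel

end Cfsg.Agent.Lib.Helper18.Ru
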