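import Mathlib
import Cfsg.Agent.Lib.Helper18.SimpleCert
import Cfsg.Agent.Lib.Helper18.RuCheck1
import Cfsg.Agent.Lib.Helper18.RuCheck2
import Cfsg.Agent.Lib.Helper18.RuAut
import Cfsg.Agent.Lib.Helper18.RuCheck4
import Cfsg.Agent.Lib.Helper18.RuChain
import Cfsg.Agent.Lib.Helper18.RuCheck5

/-! The Rudvalis group on 4060 points: order and simplicity from the verified certificate. -/

namespace Cfsg.Agent.Lib.Helper18.Ru
open Cfsg.Agent.Lib.Helper18.SS

abbrev P := Equiv.Perm (Fin 4060)

noncomputable def pA : P := toPerm 12 4060 cA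
noncomputable def pB : P := toPerm 12 4060 cB
noncomputable def G : Subgroup P := Subgroup.closure {pA, pB}
noncomputable def K : Subgroup P := Kgrp 4060 adjM

theorem vA : Valid 12 4060 cA := (powOKf_sound chk_powA).1
theorem vB : Valid 12 4060 cB := (powOKf_sound chk_powB).1
theorem pA_pow : pA ^ 29 = 1 := (powOKf_sound chk_powA).2
theorem pB_pow : pB ^ 29 = 1 := (powOKf_sound chk_powB).2
theorem pA_mem : pA ∈ G := Subgroup.subset_closure (by simp)
theorem pB_mem : pB ∈ G := Subgroup.subset_closure (by simp)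

theorem G_le_K : G ≤ K := by
  rw [G, Subgroup.closure_le]
  intro g hg
  rcases hg with rfl | rfl
  · exact autOK_sound vA chk_autA
  · exact autOK_sound vB chk_autB

/-- all codes of a list are valid and lie in `Q` -/
def MemAll (Q : Subgroup P) (l : List ℕ) : Prop := ∀ c ∈ l, Valid 12 4060 c ∧ toPerm 12 4060 c ∈ Q
/-- all codes of a program are valid and lie in `Q` -/
def MemAllE (Q : Subgroup P) (es : List (ℕ × ℕ × ℕ)) : Prop :=
  ∀ e ∈ es, Valid 12 4060 e.1 ∧ toPerm 12 4060 e.1 ∈ Q

/-- one piece of a straight-line program -/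
theorem slp_step (Q : Subgroup P) (prev : List ℕ) (es : List (ℕ × ℕ × ℕ))
    (hprev : MemAll Q prev) (h : slpOKf 12 4060 prev es = true) :
    MemAllE Q es ∧ MemAll Q (prev ++ es.map (fun e => e.1)) := by
  have h1 := slpOK_sound Q es prev hprev (slpOKf_sound _ _ h)
  refine ⟨h1, ?_⟩
  intro c hc
  rcases List.mem_append.mp hc with hc | hc
  · exact hprev c hc
  · obtain ⟨e, he, rfl⟩ := List.mem_map.mp hc
    exact h1 e he

theorem mem0 : MemAll G prev0 := by
  intro c hc
  have hc' : c ∈ [cA, cB] := hc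
  simp only [List.mem_cons, List.not_mem_nil, or_false] at hc'
  rcases hc' with rfl | rfl
  · exact ⟨vA, pA_mem⟩
  · exact ⟨vB, pB_mem⟩

theorem st0 : MemAllE G slpC0 ∧ MemAll G prev1 := slp_step G prev0 slpC0 mem0 chk_slp0
theorem st1 : MemAllE G slpC1 ∧ MemAll G prev2 := slp_step G prev1 slpC1 st0.2 chk_slp1
theorem st2 : MemAllE G slpC2 ∧ MemAll G prev3 := slp_step G prev2 slpC2 st1.2 chk_slp2
theorem st3 : MemAllE G slpC3 ∧ MemAll G prev4 := slp_step G prev3 slpC3 st2.2 chk_slp3
theorem st4 : MemAllE G slpC4 ∧ MemAll G prev5 := slp_step G prev4 slpC4 st3.2 chk_slp4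
theorem st5 : MemAllE G slpC5 ∧ MemAll G prev6 := slp_step G prev5 slpC5 st4.2 chk_slp5
theorem st6 : MemAllE G slpC6 ∧ MemAll G prev7 := slp_step G prev6 slpC6 st5.2 chk_slp6
theorem st7 : MemAllE G slpC7 ∧ MemAll G prev8 := slp_step G prev7 slpC7 st6.2 chk_slp7
theorem st8 : MemAllE G slpC8 ∧ MemAll G prev9 := slp_step G prev8 slpC8 st7.2 chk_slp8
theorem st9 : MemAllE G slpC9 ∧ MemAll G prev10 := slp_step G prev9 slpC9 st8.2 chk_slp9
theorem st10 : MemAllE G slpC10 ∧ MemAll G prev11 := slp_step G prev10 slpC10 st9.2 chk_slp10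
theorem st11 : MemAllE G slpC11 ∧ MemAll G prev12 := slp_step G prev11 slpC11 st10.2 chk_slp11
theorem st12 : MemAllE G slpC12 ∧ MemAll G prev13 := slp_step G prev12 slpC12 st11.2 chk_slp12
theorem st13 : MemAllE G slpC13 ∧ MemAll G prev14 := slp_step G prev13 slpC13 st12.2 chk_slp13

theorem slp_mem : MemAllE G slpAll := by
  intro e he
  have he' : e ∈ slpC0 ++ slpC1 ++ slpC2 ++ slpC3 ++ slpC4 ++ slpC5 ++ slpC6 ++ slpC7 ++ slpC8 ++ slpC9 ++ slpC10 ++ slpC11 ++ slpC12 ++ slpC13 := he
  simp only [List.mem_append] at he'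
  rcases he' with ((((((((((((h | h) | h) | h) | h) | h) | h) | h) | h) | h) | h) | h) | h) | h
  · exact st0.1 e h
  · exact st1.1 e h
  · exact st2.1 e h
  · exact st3.1 e h
  · exact st4.1 e h
  · exact st5.1 e h
  · exact st6.1 e h
  · exact st7.1 e h
  · exact st8.1 e h
  · exact st9.1 e h
  · exact st10.1 e h
  · exact st11.1 e h
  · exact st12.1 e h
  · exact st13.1 e h

theorem gens_mem : ∀ p ∈ cpairs chainS, toPerm 12 4060 p.1 ∈ G := by
  intro p hp
  have h := chk_strong
  rw [List.all_eq_true] at h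
  have h := h p hp
  simp only [Bool.or_eq_true, beq_iff_eq, List.any_eq_true] at h
  rcases h with (h | h) | ⟨e, he, h⟩
  · rw [h]; exact pA_mem
  · rw [h]; exact pB_mem
  · rw [← h]; exact (slp_mem e he).2

theorem hdet : ∀ g ∈ K, FixesL 4060 g allB → g = 1 := by
  intro g hg hF
  exact sorted_fixed hg (rounds_fixed hg roundsD allB hF chk_rounds) chk_sorted

theorem main : ConsOK chainS ∧ CFacts 12 4060 K [] chainS ∧ Good (absC2 12 4060 chainS) :=
  chainOK2_sound K allB hdet chainS [] chk_cover (fun p hp => G_le_K (gens_mem p hp)) chk_chain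

theorem good : Good (absC2 12 4060 chainS) := main.2.2
theorem goodR : Good (absC2 12 4060 chainR) := good.1

theorem grp_eq : grp (absC2 12 4060 chainS) = G := by
  apply le_antisymm
  · rw [grp, Subgroup.closure_le]
    intro g hg
    have hg' : g ∈ gensOf (absC2 12 4060 chainS) := hg
    rw [gensOf_abs2 main.1, List.mem_map] at hg'
    obtain ⟨p, hp, rfl⟩ := hg'
    exact gens_mem p hp
  · rw [G, Subgroup.closure_le]
    intro g hg
    apply Subgroup.subset_closure
    show g ∈ gensOf (absC2 12 4060 chainS)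
    rw [gensOf_abs2 main.1, List.mem_map]
    rcases hg with rfl | rfl
    · refine ⟨(cA, cAi), ?_, rfl⟩
      show (cA, cAi) ∈ lvl1.P
      exact List.mem_cons_self
    · refine ⟨(cB, cBi), ?_, rfl⟩
      show (cB, cBi) ∈ lvl1.P
      exact List.mem_cons_of_mem _ List.mem_cons_self

theorem abs_lengths (ch : List CLvl2) :
    (absC2 12 4060 ch).map (fun l => l.U.length)
      = ch.map (fun l => ((List.range 4060).filter (inOrb 4060 l)).length) := by
  simp [absC2, absL2, List.map_map, Function.comp_def]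

theorem card_G : Nat.card G = 145926144000 := by
  rw [← grp_eq, card_grp good, abs_lengths, chk_card]

/-- the subgroup fixing the first base point -/
noncomputable def H : Subgroup P := grp (absC2 12 4060 chainR)

theorem H_le : H ≤ G := by
  rw [← grp_eq]
  exact grp_mono _ _

def b1 : Fin 4060 := Fin.ofNat 4060 lvl1.b
def b2 : Fin 4060 := Fin.ofNat 4060 lvl2.b
def c0' : Fin 4060 := Fin.ofNat 4060 c0

theorem b1_eq : b1 = 0 := by
  apply Fin.ext
  show lvl1.b % 4060 = 0
  rw [chk_b1z]

theorem H_fix {h : P} (hh : h ∈ H) : h • b1 = b1 :=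
  grp_fixes (l := absL2 12 4060 lvl1) (r := absC2 12 4060 chainR) good hh

theorem covers {α : Type*} [Fintype α] [DecidableEq α] (L : List α) (hnd : L.Nodup)
    (hlen : L.length = Fintype.card α) : ∀ x, x ∈ L := by
  intro x
  have : L.toFinset = Finset.univ :=
    Finset.eq_univ_of_card _ (by rw [List.toFinset_card_of_nodup hnd, hlen])
  have hx : x ∈ L.toFinset := this ▸ Finset.mem_univ x
  exact List.mem_toFinset.mp hx

theorem G_trans : ∀ x : Fin 4060, ∃ g ∈ G, g • b1 = x := by
  intro x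
  have hnd := good.2.2.2.2.1
  have hx := covers _ hnd (by
    show (((absL2 12 4060 lvl1).U.map _).length = Fintype.card (Fin 4060))
    simp [absL2, chk_len1]) x
  rw [List.mem_map] at hx
  obtain ⟨u, hu, rfl⟩ := hx
  refine ⟨u, ?_, rfl⟩
  rw [← grp_eq]
  exact good.2.2.1 u hu

theorem lf2 : LFacts 12 4060 K [lvl1.b] lvl2 := main.2.1.2.1

theorem orb1 : ∀ x : Fin 4060, inOrb 4060 lvl2 x.val = true → ∃ h ∈ H, h • b2 = x := by
  intro x hx
  have hU : ∀ u ∈ (absL2 12 4060 lvl2).U, u ∈ grp (absL2 12 4060 lvl2 :: absC2 12 4060 chainT) :=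
    goodR.2.2.1
  have hmem : evalP 12 4060 (wordL 12 lvl2 x.val) ∈ H := hU _ (mem_absU 12 4060 lvl2 x.2 hx)
  refine ⟨_, hmem, ?_⟩
  apply Fin.ext
  show ((evalP 12 4060 (wordL 12 lvl2 x.val) (Fin.ofNat 4060 lvl2.b : Fin 4060) : Fin 4060) : ℕ)
    = x.val
  rw [ofNat_eq chk_b2, evalP_val (fun c hc => (wordL_codes lf2 x.val c hc).1)]
  exact lf2.img x.val hx

theorem wordO_codes (y : ℕ) : ∀ c ∈ wordL 12 lvlO y, ∃ p ∈ lvl2.P, c = p.1 := by
  intro c hc
  obtain ⟨p, hp, rfl⟩ := wordTo_mem lvlO.P lvlO.gt lvlO.pt lvlO.b lvlO.fuel y c hc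
  rw [chk_PO] at hp
  exact ⟨p, hp, rfl⟩

theorem orb2 : ∀ x : Fin 4060, inOrb 4060 lvlO x.val = true → ∃ h ∈ H, h • c0' = x := by
  intro x hx
  have hcons : ConsOK chainR := main.1.2
  have hmem : evalP 12 4060 (wordL 12 lvlO x.val) ∈ H := by
    apply evalP_mem
    intro c hc
    obtain ⟨p, hp, rfl⟩ := wordO_codes x.val c hc
    apply Subgroup.subset_closure
    show toPerm 12 4060 p.1 ∈ gensOf (absC2 12 4060 chainR)
    rw [gensOf_abs2 hcons]
    exact List.mem_map.mpr ⟨p, hp, rfl⟩
  refine ⟨_, hmem, ?_⟩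
  apply Fin.ext
  show ((evalP 12 4060 (wordL 12 lvlO x.val) (Fin.ofNat 4060 c0 : Fin 4060) : Fin 4060) : ℕ)
    = x.val
  have hval : ∀ c ∈ wordL 12 lvlO x.val, Valid 12 4060 c := by
    intro c hc
    obtain ⟨p, hp, rfl⟩ := wordO_codes x.val c hc
    exact (lf2.pairs p hp).1
  rw [ofNat_eq chk_c0, evalP_val hval, ← evalF_eq]
  have h1 := chk_orb
  rw [loopAll_iff] at h1
  have h2 := h1 x.val x.2
  rw [hx] at h2
  exact Nat.eq_of_beq_eq_true h2

theorem G_simple : IsSimpleGroup G := by
  refine SimpleCert.simple_of_rank3 G H pA pB 29 35942400 rfl pA_pow pB_pow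
    (by rw [card_G]) (by norm_num) (by norm_num) b1 b2 c0' G_trans H_le (fun h hh => H_fix hh)
    (fun x => inOrb 4060 lvl2 x.val = true) (fun x => inOrb 4060 lvlO x.val = true)
    orb1 orb2 ?_ ?_ ?_
  · intro x
    have h1 := chk_part
    rw [loopAll_iff] at h1
    have h2 := h1 x.val x.2
    simp only [Bool.or_eq_true] at h2
    rcases h2 with (h | h) | h
    · left
      apply Fin.ext
      rw [Nat.eq_of_beq_eq_true h]
      exact (Nat.mod_eq_of_lt chk_b1).symm
    · exact Or.inr (Or.inl h)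
    · exact Or.inr (Or.inr h)
  · have e : {x : Fin 4060 | x = b1 ∨ inOrb 4060 lvl2 x.val = true}
        = {x : Fin 4060 | q1B x.val = true} := by
      ext x
      simp only [Set.mem_ofPred_eq, q1B, Bool.or_eq_true]
      constructor
      · rintro (h | h)
        · left
          rw [h]
          show Nat.beq (lvl1.b % 4060) lvl1.b = true
          rw [Nat.mod_eq_of_lt chk_b1]
          exact Nat.beq_refl _
        · exact Or.inr h
      · rintro (h | h)
        · left
          apply Fin.ext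
          rw [Nat.eq_of_beq_eq_true h]
          exact (Nat.mod_eq_of_lt chk_b1).symm
        · exact Or.inr h
    rw [e, SimpleCert.ncard_fin_pred, chk_c1]
    norm_num
  · have e : {x : Fin 4060 | x = b1 ∨ inOrb 4060 lvlO x.val = true}
        = {x : Fin 4060 | q2B x.val = true} := by
      ext x
      simp only [Set.mem_ofPred_eq, q2B, Bool.or_eq_true]
      constructor
      · rintro (h | h)
        · left
          rw [h]
          show Nat.beq (lvl1.b % 4060) lvl1.b = true
          rw [Nat.mod_eq_of_lt chk_b1]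
          exact Nat.beq_refl _
        · exact Or.inr h
      · rintro (h | h)
        · left
          apply Fin.ext
          rw [Nat.eq_of_beq_eq_true h]
          exact (Nat.mod_eq_of_lt chk_b1).symm
        · exact Or.inr h
    rw [e, SimpleCert.ncard_fin_pred, chk_c2]
    norm_num

theorem G_pretrans : MulAction.IsPretransitive G (Fin 4060) := by
  constructor
  intro x y
  obtain ⟨gx, hgx, hx⟩ := G_trans x
  obtain ⟨gy, hgy, hy⟩ := G_trans y
  refine ⟨⟨gy * gx⁻¹, mul_mem hgy (inv_mem hgx)⟩, ?_⟩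
  show (gy * gx⁻¹) • x = y
  rw [← hx, ← hy, smul_smul, inv_mul_cancel_right]

theorem stab_card : Nat.card (MulAction.stabilizer G (0 : Fin 4060)) = 35942400 := by
  have := G_pretrans
  have h1 : (MulAction.stabilizer G (0 : Fin 4060)).index
      = (MulAction.orbit G (0 : Fin 4060)).ncard := MulAction.index_stabilizer G 0
  rw [MulAction.orbit_eq_univ, Set.ncard_univ, Nat.card_fin] at h1
  have h2 := Subgroup.card_mul_index (MulAction.stabilizer G (0 : Fin 4060))
  rw [h1, card_G] at h2
  have h3 : (145926144000 : ℕ) = 35942400 * 4060 := by norm_num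
  rw [h3] at h2
  exact Nat.eq_of_mul_eq_mul_right (by norm_num) h2

end Cfsg.Agent.Lib.Helper18.Ru
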