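import Mathlib

/-!
# Abstract Schreier–Sims verification

A chain of levels (base point, new strong generators, transversal) with a closure condition
("every Schreier product sifts") determines the group generated by all the strong generators:
it is the product of the transversals.
-/

namespace Cfsg.Agent.Lib.Helper18.SS

universe u v

/-- One level of a stabiliser chain. -/
structure Lvl (M : Type u) (X : Type v) where
  b : X
  S : List M
  U : List M

variable {M : Type u} {X : Type v} [Group M] [MulAction M X]

/-- All strong generators from a level downwards. -/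
def gensOf : List (Lvl M X) → List M
  | [] => []
  | l :: r => l.S ++ gensOf r

/-- The group generated by the strong generators of a chain. -/
def grp (ch : List (Lvl M X)) : Subgroup M := Subgroup.closure {g | g ∈ gensOf ch}

/-- `g` sifts through the chain to the identity. -/
inductive Sifts : List (Lvl M X) → M → Prop
  | nil : Sifts [] 1
  | cons (l : Lvl M X) (r : List (Lvl M X)) (u g : M) :
      u ∈ l.U → Sifts r (u⁻¹ * g) → Sifts (l :: r) g

/-- The verification conditions. -/
def Good : List (Lvl M X) → Prop
  | [] => True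
  | l :: r => Good r ∧ (∀ g ∈ gensOf r, g • l.b = l.b) ∧ (∀ u ∈ l.U, u ∈ grp (l :: r)) ∧
      (1 ∈ l.U) ∧ (l.U.map (fun u => u • l.b)).Nodup ∧
      (∀ s ∈ gensOf (l :: r), ∀ u ∈ l.U, Sifts (l :: r) (s * u))

theorem grp_nil : grp ([] : List (Lvl M X)) = ⊥ := by
  simp [grp, gensOf]

theorem grp_mono (l : Lvl M X) (r : List (Lvl M X)) : grp r ≤ grp (l :: r) := by
  apply Subgroup.closure_mono
  intro g hg
  simp only [Set.mem_ofPred_eq, gensOf, List.mem_append] at hg ⊢
  exact Or.inr hg

theorem Good.tail {l : Lvl M X} {r : List (Lvl M X)} (h : Good (l :: r)) : Good r := h.1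

theorem sifts_mem : ∀ {ch : List (Lvl M X)} {g : M}, Good ch → Sifts ch g → g ∈ grp ch := by
  intro ch g hG hs
  induction hs with
  | nil => exact one_mem _
  | cons l r u g hu _ ih =>
    have h1 : u ∈ grp (l :: r) := hG.2.2.1 u hu
    have h2 : u⁻¹ * g ∈ grp (l :: r) := grp_mono l r (ih hG.1)
    have : g = u * (u⁻¹ * g) := by group
    rw [this]
    exact mul_mem h1 h2

theorem closure_subset_of_mul_left [Finite M] (S T : Set M) (h1 : (1 : M) ∈ T)
    (hmul : ∀ s ∈ S, ∀ t ∈ T, s * t ∈ T) : (Subgroup.closure S : Set M) ⊆ T := by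
  have hpow : ∀ s ∈ S, ∀ k : ℕ, ∀ t ∈ T, s ^ k * t ∈ T := by
    intro s hs k
    induction k with
    | zero => intro t ht; simpa using ht
    | succ k ih =>
      intro t ht
      rw [pow_succ', mul_assoc]
      exact hmul s hs _ (ih t ht)
  intro x hx
  have hx' : x ∈ Subgroup.closure S := hx
  induction hx' using Subgroup.closure_induction_left with
  | one => exact h1
  | mul_left s hs y _ ih => exact hmul s hs y (ih ‹_›)
  | inv_mul_cancel s hs y _ ih =>
    have hinv : s⁻¹ = s ^ (orderOf s - 1) := by
      have hpos : 0 < orderOf s := orderOf_pos s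
      apply inv_eq_of_mul_eq_one_left
      rw [← pow_succ, Nat.sub_add_cancel hpos, pow_orderOf_eq_one]
    rw [hinv]
    exact hpow s hs _ y (ih ‹_›)

theorem mem_sifts [Finite M] : ∀ {ch : List (Lvl M X)}, Good ch → ∀ {g : M}, g ∈ grp ch →
    Sifts ch g := by
  intro ch
  induction ch with
  | nil =>
    intro _ g hg
    rw [grp_nil, Subgroup.mem_bot] at hg
    subst hg
    exact Sifts.nil
  | cons l r ih =>
    intro hG g hg
    have hGr : Good r := hG.1
    have key := closure_subset_of_mul_left {g | g ∈ gensOf (l :: r)} {g | Sifts (l :: r) g}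
      (by
        have : Sifts r ((1 : M)⁻¹ * 1) := by
          simpa using ih hGr (one_mem _)
        exact Sifts.cons l r 1 1 hG.2.2.2.1 this)
      (by
        intro s hs t ht
        simp only [Set.mem_ofPred_eq] at hs ht ⊢
        cases ht with
        | cons _ _ u _ hu hsu =>
          have h1 := hG.2.2.2.2.2 s hs u hu
          cases h1 with
          | cons _ _ u' _ hu' hsu' =>
            have m1 : u⁻¹ * t ∈ grp r := sifts_mem hGr hsu
            have m2 : u'⁻¹ * (s * u) ∈ grp r := sifts_mem hGr hsu'
            have : u'⁻¹ * (s * t) = (u'⁻¹ * (s * u)) * (u⁻¹ * t) := by group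
            refine Sifts.cons l r u' (s * t) hu' ?_
            rw [this]
            exact ih hGr (mul_mem m2 m1))
    exact key hg

theorem grp_fixes {l : Lvl M X} {r : List (Lvl M X)} (hG : Good (l :: r)) {g : M}
    (hg : g ∈ grp r) : g • l.b = l.b := by
  have : grp r ≤ MulAction.stabilizer M l.b := by
    rw [grp, Subgroup.closure_le]
    intro g hg
    exact hG.2.1 g hg
  exact this hg

theorem stab_mem [Finite M] {l : Lvl M X} {r : List (Lvl M X)} (hG : Good (l :: r)) {g : M}
    (hg : g ∈ grp (l :: r)) (hb : g • l.b = l.b) : g ∈ grp r := by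
  have hs := mem_sifts hG hg
  cases hs with
  | cons _ _ u _ hu hsu =>
    have m1 : u⁻¹ * g ∈ grp r := sifts_mem hG.1 hsu
    have hfix := grp_fixes hG m1
    have hub : u • l.b = (1 : M) • l.b := by
      rw [one_smul]
      have h3 : u⁻¹ • l.b = l.b := by
        rw [mul_smul, hb] at hfix
        exact hfix
      rw [inv_smul_eq_iff] at h3
      exact h3.symm
    have : u = 1 := List.inj_on_of_nodup_map hG.2.2.2.2.1 hu hG.2.2.2.1 hub
    subst this
    simpa using m1

theorem card_grp [Finite M] : ∀ {ch : List (Lvl M X)}, Good ch →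
    Nat.card (grp ch) = (ch.map (fun l => l.U.length)).prod := by
  intro ch
  induction ch with
  | nil =>
    intro _
    rw [grp_nil]
    simp
  | cons l r ih =>
    intro hG
    classical
    have hGr : Good r := hG.1
    have hnd : l.U.Nodup := List.Nodup.of_map _ hG.2.2.2.2.1
    let f : {u // u ∈ l.U} × grp r → grp (l :: r) := fun p =>
      ⟨p.1.1 * p.2.1, mul_mem (hG.2.2.1 _ p.1.2) (grp_mono l r p.2.2)⟩
    have hf : Function.Bijective f := by
      constructor
      · rintro ⟨⟨u1, hu1⟩, ⟨h1, hh1⟩⟩ ⟨⟨u2, hu2⟩, ⟨h2, hh2⟩⟩ h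
        have h' : u1 * h1 = u2 * h2 := congrArg Subtype.val h
        have e1 : u1 • l.b = u2 • l.b := by
          have a1 := grp_fixes hG hh1
          have a2 := grp_fixes hG hh2
          calc u1 • l.b = (u1 * h1) • l.b := by rw [mul_smul, a1]
            _ = (u2 * h2) • l.b := by rw [h']
            _ = u2 • l.b := by rw [mul_smul, a2]
        have e2 : u1 = u2 := List.inj_on_of_nodup_map hG.2.2.2.2.1 hu1 hu2 e1
        subst e2
        have e3 : h1 = h2 := mul_left_cancel h'
        subst e3
        rfl
      · rintro ⟨g, hg⟩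
        have hs := mem_sifts hG hg
        cases hs with
        | cons _ _ u _ hu hsu =>
          refine ⟨(⟨u, hu⟩, ⟨u⁻¹ * g, sifts_mem hGr hsu⟩), ?_⟩
          apply Subtype.ext
          show u * (u⁻¹ * g) = g
          group
    have hc : Nat.card ({u // u ∈ l.U} × grp r) = Nat.card (grp (l :: r)) :=
      Nat.card_congr (Equiv.ofBijective f hf)
    rw [← hc, Nat.card_prod, ih hGr, List.map_cons, List.prod_cons]
    congr 1
    have : Nat.card {u // u ∈ l.U} = Nat.card {u // u ∈ l.U.toFinset} :=
      Nat.card_congr (Equiv.subtypeEquivRight (by simp))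
    rw [this, Nat.card_eq_fintype_card, Fintype.card_coe, List.toFinset_card_of_nodup hnd]

end Cfsg.Agent.Lib.Helper18.SS
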