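import Mathlib
import Cfsg.Agent.Lib.Helper18.SS1

/-!
# Concrete layer for Schreier–Sims certificates

Permutations of `Fin n` are coded as natural numbers (`w` bits per point).  All checks are
boolean functions that the kernel can evaluate.
-/

namespace Cfsg.Agent.Lib.Helper18.SS

/-- digit extraction -/
def look (w c i : ℕ) : ℕ := (c >>> (w * i)) % 2 ^ w

/-- the coded function on naturals, reduced mod `n` -/
def lk (w n c x : ℕ) : ℕ := look w c x % n

def allLt (n : ℕ) (p : ℕ → Bool) : Bool := (List.range n).all p

theorem allLt_iff {n : ℕ} {p : ℕ → Bool} : allLt n p = true ↔ ∀ x < n, p x = true := by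
  simp [allLt, List.all_eq_true]

def nth? : List ℕ → ℕ → Option ℕ
  | [], _ => none
  | a :: _, 0 => some a
  | _ :: l, i + 1 => nth? l i

theorem nth?_mem : ∀ {l : List ℕ} {i a : ℕ}, nth? l i = some a → a ∈ l
  | [], _, _, h => by simp [nth?] at h
  | b :: l, 0, a, h => by
    simp only [nth?, Option.some.injEq] at h
    subst h
    exact List.mem_cons_self
  | b :: l, i + 1, a, h => by
    simp only [nth?] at h
    exact List.mem_cons_of_mem _ (nth?_mem h)

def nodupB : List ℕ → Bool
  | [] => true
  | a :: l => (l.all (fun y => y != a)) && nodupB l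

theorem nodupB_sound : ∀ {l : List ℕ}, nodupB l = true → l.Nodup
  | [], _ => List.nodup_nil
  | a :: l, h => by
    simp only [nodupB, Bool.and_eq_true, List.all_eq_true, bne_iff_ne, ne_eq] at h
    rw [List.nodup_cons]
    refine ⟨fun ha => h.1 a ha rfl, nodupB_sound h.2⟩

section
variable (w n : ℕ) [NeZero n]

def fn (c : ℕ) : Fin n → Fin n := fun i => ⟨lk w n c i, Nat.mod_lt _ (NeZero.pos n)⟩

def Valid (c : ℕ) : Prop := Function.Bijective (fn w n c)

open Classical in
noncomputable def toPerm (c : ℕ) : Equiv.Perm (Fin n) :=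
  if h : Valid w n c then Equiv.ofBijective _ h else 1

variable {w n}

theorem toPerm_apply {c : ℕ} (h : Valid w n c) (i : Fin n) : toPerm w n c i = fn w n c i := by
  rw [toPerm, dif_pos h]
  rfl

theorem toPerm_val {c : ℕ} (h : Valid w n c) (i : Fin n) :
    ((toPerm w n c i : Fin n) : ℕ) = lk w n c i := by
  rw [toPerm_apply h]; rfl

variable (w n)

def mulOK (c p q : ℕ) : Bool := allLt n (fun y => lk w n c y == lk w n p (lk w n q y))
def invOK (cu cv : ℕ) : Bool := allLt n (fun y => lk w n cv (lk w n cu y) == y)
def idOK (c : ℕ) : Bool := allLt n (fun y => lk w n c y == y)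
def pow5OK (c : ℕ) : Bool :=
  allLt n (fun y => lk w n c (lk w n c (lk w n c (lk w n c (lk w n c y)))) == y)

variable {w n}

theorem valid_mul {c p q : ℕ} (hp : Valid w n p) (hq : Valid w n q)
    (h : mulOK w n c p q = true) : Valid w n c ∧ toPerm w n c = toPerm w n p * toPerm w n q := by
  rw [mulOK, allLt_iff] at h
  have hfn : fn w n c = fn w n p ∘ fn w n q := by
    funext i
    apply Fin.ext
    have := h i.1 i.2
    simp only [beq_iff_eq] at this
    exact this
  have hv : Valid w n c := by
    rw [Valid, hfn]
    exact hp.comp hq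
  refine ⟨hv, ?_⟩
  apply Equiv.ext
  intro i
  rw [Equiv.Perm.mul_apply, toPerm_apply hv, toPerm_apply hp, toPerm_apply hq, hfn]
  rfl

theorem valid_inv {cu cv : ℕ} (h : invOK w n cu cv = true) :
    Valid w n cu ∧ Valid w n cv ∧ toPerm w n cv = (toPerm w n cu)⁻¹ := by
  rw [invOK, allLt_iff] at h
  have hli : Function.LeftInverse (fn w n cv) (fn w n cu) := by
    intro i
    apply Fin.ext
    have := h i.1 i.2
    simp only [beq_iff_eq] at this
    exact this
  have hu : Valid w n cu := Finite.injective_iff_bijective.mp hli.injective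
  have hv : Valid w n cv := Finite.surjective_iff_bijective.mp hli.surjective
  refine ⟨hu, hv, ?_⟩
  apply eq_inv_of_mul_eq_one_left
  apply Equiv.ext
  intro i
  rw [Equiv.Perm.mul_apply, toPerm_apply hv, toPerm_apply hu, hli i]
  rfl

theorem valid_id {c : ℕ} (h : idOK w n c = true) : Valid w n c ∧ toPerm w n c = 1 := by
  rw [idOK, allLt_iff] at h
  have hfn : fn w n c = id := by
    funext i
    apply Fin.ext
    have := h i.1 i.2
    simp only [beq_iff_eq] at this
    exact this
  have hv : Valid w n c := by
    rw [Valid, hfn]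
    exact Function.bijective_id
  refine ⟨hv, ?_⟩
  apply Equiv.ext
  intro i
  rw [toPerm_apply hv, hfn]
  rfl

theorem valid_pow5 {c : ℕ} (h : pow5OK w n c = true) :
    Valid w n c ∧ (toPerm w n c) ^ 5 = 1 := by
  rw [pow5OK, allLt_iff] at h
  have hli : Function.LeftInverse (fun i => fn w n c (fn w n c (fn w n c (fn w n c i))))
      (fn w n c) := by
    intro i
    apply Fin.ext
    have := h i.1 i.2
    simp only [beq_iff_eq] at this
    exact this
  have hv : Valid w n c := Finite.injective_iff_bijective.mp hli.injective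
  refine ⟨hv, ?_⟩
  apply Equiv.ext
  intro i
  have e : ((toPerm w n c) ^ 5) i
      = toPerm w n c (toPerm w n c (toPerm w n c (toPerm w n c (toPerm w n c i)))) := by
    simp [pow_succ, Equiv.Perm.mul_apply]
  rw [e]
  simp only [toPerm_apply hv]
  exact hli i

variable (w n)

/-- word evaluation on points -/
def evalW (ws : List ℕ) (x : ℕ) : ℕ := ws.foldr (fun c y => lk w n c y) x

/-- word evaluation as a permutation -/
noncomputable def evalP (ws : List ℕ) : Equiv.Perm (Fin n) := (ws.map (toPerm w n)).prod

variable {w n}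

theorem evalP_cons (c : ℕ) (ws : List ℕ) : evalP w n (c :: ws) = toPerm w n c * evalP w n ws := by
  simp [evalP]

theorem evalP_val : ∀ {ws : List ℕ}, (∀ c ∈ ws, Valid w n c) → ∀ i : Fin n,
    ((evalP w n ws i : Fin n) : ℕ) = evalW w n ws i
  | [], _, i => by simp [evalP, evalW]
  | c :: ws, hv, i => by
    have hc : Valid w n c := hv c List.mem_cons_self
    have ih := evalP_val (ws := ws) (fun c hc => hv c (List.mem_cons_of_mem _ hc)) i
    rw [evalP_cons, Equiv.Perm.mul_apply, toPerm_val hc, ih]
    rfl

variable (w n)

/-- straight-line program check: every entry is the product of two earlier codes -/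
def slpOK : List ℕ → List (ℕ × ℕ × ℕ) → Bool
  | _, [] => true
  | prev, (c, j, k) :: es =>
    (match nth? prev j, nth? prev k with
      | some p, some q => mulOK w n c p q
      | _, _ => false) && slpOK (prev ++ [c]) es

variable {w n}

theorem slpOK_sound (K : Subgroup (Equiv.Perm (Fin n))) :
    ∀ (es : List (ℕ × ℕ × ℕ)) (prev : List ℕ),
      (∀ c ∈ prev, Valid w n c ∧ toPerm w n c ∈ K) → slpOK w n prev es = true →
      ∀ e ∈ es, Valid w n e.1 ∧ toPerm w n e.1 ∈ K
  | [], _, _, _ => by simp
  | (c, j, k) :: es, prev, hprev, h => by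
    simp only [slpOK, Bool.and_eq_true] at h
    obtain ⟨h1, h2⟩ := h
    have hc : Valid w n c ∧ toPerm w n c ∈ K := by
      cases hj : nth? prev j with
      | none => simp [hj] at h1
      | some p =>
        cases hk : nth? prev k with
        | none => simp [hj, hk] at h1
        | some q =>
          simp only [hj, hk] at h1
          have hp := hprev p (nth?_mem hj)
          have hq := hprev q (nth?_mem hk)
          obtain ⟨hv, he⟩ := valid_mul hp.1 hq.1 h1
          exact ⟨hv, he ▸ mul_mem hp.2 hq.2⟩
    have ih := slpOK_sound K es (prev ++ [c]) (by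
      intro c' hc'
      rw [List.mem_append, List.mem_singleton] at hc'
      rcases hc' with hc' | rfl
      · exact hprev c' hc'
      · exact hc) h2
    intro e he
    rw [List.mem_cons] at he
    rcases he with rfl | he
    · exact hc
    · exact ih e he

/-- a transversal entry: point, code of `u`, code of `u⁻¹`, certificate indices -/
structure Ent where
  x : ℕ
  cu : ℕ
  cv : ℕ
  j : ℕ
  k : ℕ

/-- concrete level -/
structure CLvl where
  b : ℕ
  S : List ℕ
  U : List Ent

def cgens : List CLvl → List ℕ
  | [] => []
  | l :: r => l.S ++ cgens r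

variable (w n)

noncomputable def absL (l : CLvl) : Lvl (Equiv.Perm (Fin n)) (Fin n) :=
  ⟨Fin.ofNat n l.b, l.S.map (toPerm w n), l.U.map (fun e => toPerm w n e.cu)⟩

noncomputable def absC (ch : List CLvl) : List (Lvl (Equiv.Perm (Fin n)) (Fin n)) :=
  ch.map (absL w n)

variable {w n}

theorem gensOf_abs : ∀ ch : List CLvl, gensOf (absC w n ch) = (cgens ch).map (toPerm w n)
  | [] => rfl
  | l :: r => by
    simp only [absC, List.map_cons, gensOf, cgens, List.map_append]
    congr 1
    exact gensOf_abs r

variable (w n)

/-- concrete sift of a word through a chain -/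
def csift : List CLvl → List ℕ → Bool
  | [], ws => allLt n (fun x => evalW w n ws x == x)
  | l :: r, ws =>
    match l.U.find? (fun e => e.x == evalW w n ws l.b) with
    | none => false
    | some e => csift r (e.cv :: ws)

variable {w n}

theorem csift_sound : ∀ (ch : List CLvl) (ws : List ℕ),
    (∀ l ∈ ch, ∀ e ∈ l.U, invOK w n e.cu e.cv = true) → (∀ c ∈ ws, Valid w n c) →
    csift w n ch ws = true → Sifts (absC w n ch) (evalP w n ws)
  | [], ws, _, hv, h => by
    simp only [csift, allLt_iff, beq_iff_eq] at h
    have : evalP w n ws = 1 := by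
      apply Equiv.ext
      intro i
      apply Fin.ext
      rw [evalP_val hv]
      exact h i.1 i.2
    rw [this]
    exact Sifts.nil
  | l :: r, ws, hU, hv, h => by
    simp only [csift] at h
    cases hf : l.U.find? (fun e => e.x == evalW w n ws l.b) with
    | none => simp [hf] at h
    | some e =>
      simp only [hf] at h
      have he : e ∈ l.U := List.mem_of_find?_eq_some hf
      have hinv := valid_inv (hU l List.mem_cons_self e he)
      have ih := csift_sound r (e.cv :: ws) (fun l' hl' => hU l' (List.mem_cons_of_mem _ hl'))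
        (by
          intro c hc
          rw [List.mem_cons] at hc
          rcases hc with rfl | hc
          · exact hinv.2.1
          · exact hv c hc) h
      rw [evalP_cons, hinv.2.2] at ih
      refine Sifts.cons (absL w n l) (absC w n r) (toPerm w n e.cu) _ ?_ ih
      exact List.mem_map.mpr ⟨e, he, rfl⟩

variable (w n)

/-- the per-level verification -/
def lvlOK (idc : ℕ) (l : CLvl) (r : List CLvl) : Bool :=
  decide (l.b < n) &&
  (cgens r).all (fun c => lk w n c l.b == l.b) &&
  (match l.U with
   | [] => false
   | e0 :: es => (e0.cu == idc) &&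
      slpOK w n (cgens (l :: r) ++ [idc]) (es.map (fun e => (e.cu, e.j, e.k)))) &&
  l.U.all (fun e => invOK w n e.cu e.cv) &&
  l.U.all (fun e => lk w n e.cu l.b == e.x) &&
  nodupB (l.U.map (fun e => e.x)) &&
  (cgens (l :: r)).all (fun s => l.U.all (fun e => csift w n (l :: r) [s, e.cu]))

def chainOK (idc : ℕ) : List CLvl → Bool
  | [] => true
  | l :: r => chainOK idc r && lvlOK w n idc l r

variable {w n}

omit [NeZero n] in
theorem chainOK_inv {idc : ℕ} : ∀ {ch : List CLvl}, chainOK w n idc ch = true →
    ∀ l ∈ ch, ∀ e ∈ l.U, invOK w n e.cu e.cv = true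
  | [], _, l, hl => by simp at hl
  | l0 :: r, h, l, hl => by
    simp only [chainOK, Bool.and_eq_true] at h
    rw [List.mem_cons] at hl
    rcases hl with rfl | hl
    · have := h.2
      simp only [lvlOK, Bool.and_eq_true, List.all_eq_true] at this
      exact this.1.1.1.2
    · exact chainOK_inv h.1 l hl

theorem smul_ofNat {c b : ℕ} (hc : Valid w n c) (hb : b < n) :
    ((toPerm w n c • (Fin.ofNat n b : Fin n) : Fin n) : ℕ) = lk w n c b := by
  rw [Equiv.Perm.smul_def, toPerm_val hc]
  congr 1
  exact Nat.mod_eq_of_lt hb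

theorem lvlOK_sound {idc : ℕ} (hid : idOK w n idc = true) {l : CLvl} {r : List CLvl}
    (hval : ∀ c ∈ cgens (l :: r), Valid w n c)
    (hr : chainOK w n idc r = true) (hGr : Good (absC w n r))
    (h : lvlOK w n idc l r = true) : Good (absC w n (l :: r)) := by
  simp only [lvlOK, Bool.and_eq_true, List.all_eq_true, decide_eq_true_eq, beq_iff_eq] at h
  obtain ⟨⟨⟨⟨⟨⟨hb, hfix⟩, htree⟩, hinv⟩, himg⟩, hnd⟩, hsch⟩ := h
  have hidv := valid_id hid
  have hvalr : ∀ c ∈ cgens r, Valid w n c := fun c hc => hval c (by
    simp only [cgens, List.mem_append]; exact Or.inr hc)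
  have hinvall : ∀ l' ∈ l :: r, ∀ e ∈ l'.U, invOK w n e.cu e.cv = true := by
    intro l' hl'
    rw [List.mem_cons] at hl'
    rcases hl' with rfl | hl'
    · exact hinv
    · exact chainOK_inv hr l' hl'
  show Good (absL w n l :: absC w n r)
  refine ⟨hGr, ?_, ?_, ?_, ?_, ?_⟩
  · -- deeper generators fix the base point
    intro g hg
    rw [gensOf_abs, List.mem_map] at hg
    obtain ⟨c, hc, rfl⟩ := hg
    apply Fin.ext
    show ((toPerm w n c • (Fin.ofNat n l.b : Fin n) : Fin n) : ℕ) = ((Fin.ofNat n l.b : Fin n) : ℕ)
    rw [smul_ofNat (hvalr c hc) hb, hfix c hc]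
    exact (Nat.mod_eq_of_lt hb).symm
  · -- transversal inside the group
    intro u hu
    have hu' : u ∈ l.U.map (fun e => toPerm w n e.cu) := hu
    rw [List.mem_map] at hu'
    obtain ⟨e, he, rfl⟩ := hu'
    cases hU : l.U with
    | nil => rw [hU] at he; simp at he
    | cons e0 es =>
      rw [hU] at htree he
      simp only [Bool.and_eq_true, beq_iff_eq] at htree
      have hprev : ∀ c ∈ cgens (l :: r) ++ [idc], Valid w n c ∧
          toPerm w n c ∈ grp (absL w n l :: absC w n r) := by
        intro c hc
        rw [List.mem_append, List.mem_singleton] at hc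
        rcases hc with hc | rfl
        · refine ⟨hval c hc, Subgroup.subset_closure ?_⟩
          show toPerm w n c ∈ gensOf (absC w n (l :: r))
          rw [gensOf_abs]
          exact List.mem_map.mpr ⟨c, hc, rfl⟩
        · exact ⟨hidv.1, hidv.2 ▸ one_mem _⟩
      have hs := slpOK_sound (grp (absL w n l :: absC w n r)) _ _ hprev htree.2
      rw [List.mem_cons] at he
      rcases he with rfl | he
      · rw [htree.1, hidv.2]
        exact one_mem _
      · exact (hs (e.cu, e.j, e.k) (List.mem_map.mpr ⟨e, he, rfl⟩)).2
  · -- identity in the transversal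
    show (1 : Equiv.Perm (Fin n)) ∈ l.U.map (fun e => toPerm w n e.cu)
    cases hU : l.U with
    | nil => rw [hU] at htree; simp at htree
    | cons e0 es =>
      rw [hU] at htree
      simp only [Bool.and_eq_true, beq_iff_eq] at htree
      refine List.mem_map.mpr ⟨e0, List.mem_cons_self, ?_⟩
      rw [htree.1, hidv.2]
  · -- distinct images
    show ((l.U.map (fun e => toPerm w n e.cu)).map
      (fun u => u • (Fin.ofNat n l.b : Fin n))).Nodup
    have hmap : ((l.U.map (fun e => toPerm w n e.cu)).map
        (fun u => u • (Fin.ofNat n l.b : Fin n))).map (fun i : Fin n => (i : ℕ))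
        = l.U.map (fun e => e.x) := by
      rw [List.map_map, List.map_map]
      apply List.map_congr_left
      intro e he
      show ((toPerm w n e.cu • (Fin.ofNat n l.b : Fin n) : Fin n) : ℕ) = e.x
      rw [smul_ofNat (valid_inv (hinv e he)).1 hb]
      exact himg e he
    apply List.Nodup.of_map (fun i : Fin n => (i : ℕ))
    rw [hmap]
    exact nodupB_sound hnd
  · -- Schreier closure
    intro s hs u hu
    have hs' : s ∈ gensOf (absC w n (l :: r)) := hs
    rw [gensOf_abs, List.mem_map] at hs'
    obtain ⟨cs, hcs, rfl⟩ := hs'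
    have hu' : u ∈ l.U.map (fun e => toPerm w n e.cu) := hu
    rw [List.mem_map] at hu'
    obtain ⟨e, he, rfl⟩ := hu'
    have := csift_sound (l :: r) [cs, e.cu] hinvall (by
      intro c hc
      simp only [List.mem_cons, List.not_mem_nil, or_false] at hc
      rcases hc with rfl | rfl
      · exact hval _ hcs
      · exact (valid_inv (hinv e he)).1) (hsch cs hcs e he)
    have e2 : evalP w n [cs, e.cu] = toPerm w n cs * toPerm w n e.cu := by
      simp [evalP]
    rw [e2] at this
    exact this

theorem chainOK_sound {idc : ℕ} (hid : idOK w n idc = true) : ∀ (ch : List CLvl),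
    (∀ c ∈ cgens ch, Valid w n c) → chainOK w n idc ch = true → Good (absC w n ch)
  | [], _, _ => trivial
  | l :: r, hval, h => by
    have h' := h
    simp only [chainOK, Bool.and_eq_true] at h'
    have hvalr : ∀ c ∈ cgens r, Valid w n c := fun c hc => hval c (by
      simp only [cgens, List.mem_append]; exact Or.inr hc)
    exact lvlOK_sound hid hval h'.1 (chainOK_sound hid r hvalr h'.1) h'.2

end

end Cfsg.Agent.Lib.Helper18.SS
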