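import Mathlib
import Cfsg.Agent.Lib.Helper18.SS2

/-!
# Second concrete layer: Schreier vectors, words, and an invariant graph

Kernel-friendly primitives (explicit recursors, raw `Nat` functions).
-/

namespace Cfsg.Agent.Lib.Helper18.SS

/-- raw bounded universal quantifier (recursion depth `n`) -/
noncomputable def loopRaw (n : ℕ) (p : ℕ → Bool) : Bool :=
  Nat.rec true (fun k ih => Bool.rec false ih (p k)) n

theorem loopRaw_succ (k : ℕ) (p : ℕ → Bool) :
    loopRaw (k + 1) p = Bool.rec false (loopRaw k p) (p k) := rfl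

theorem loopRaw_iff {n : ℕ} {p : ℕ → Bool} : loopRaw n p = true ↔ ∀ k < n, p k = true := by
  induction n with
  | zero => simp [loopRaw]
  | succ k ih =>
    rw [loopRaw_succ]
    constructor
    · intro h j hj
      cases hp : p k with
      | false => rw [hp] at h; exact absurd h (by simp)
      | true =>
        rw [hp] at h
        rcases Nat.lt_succ_iff_lt_or_eq.mp hj with hj | rfl
        · exact ih.mp h j hj
        · exact hp
    · intro h
      have hk := h k (Nat.lt_succ_self k)
      rw [hk]
      exact ih.mpr (fun j hj => h j (Nat.lt_succ_of_lt hj))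

/-- fast bounded universal quantifier, in blocks of 64 to keep the recursion shallow -/
noncomputable def loopAll (n : ℕ) (p : ℕ → Bool) : Bool :=
  loopRaw (Nat.succ (Nat.div n 64)) (fun i => loopRaw 64 (fun j =>
    (fun k => Bool.rec (p k) true (Nat.ble n k)) (Nat.add (Nat.mul i 64) j)))

theorem loopAll_iff {n : ℕ} {p : ℕ → Bool} : loopAll n p = true ↔ ∀ k < n, p k = true := by
  rw [loopAll, loopRaw_iff]
  constructor
  · intro h k hk
    have h1 := h (k / 64) (Nat.lt_succ_of_le (Nat.div_le_div_right (le_of_lt hk)))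
    rw [loopRaw_iff] at h1
    have h2 := h1 (k % 64) (Nat.mod_lt _ (by norm_num))
    have e : Nat.add (Nat.mul (k / 64) 64) (k % 64) = k := by
      show k / 64 * 64 + k % 64 = k
      rw [Nat.mul_comm]
      exact Nat.div_add_mod k 64
    rw [e] at h2
    have : Nat.ble n k = false := by
      rw [Bool.eq_false_iff]
      intro hc
      exact absurd (Nat.le_of_ble_eq_true hc) (Nat.not_le_of_lt hk)
    have h3 : Bool.rec (p k) true (Nat.ble n k) = true := h2
    rw [this] at h3
    exact h3
  · intro h i _
    rw [loopRaw_iff]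
    intro j _
    show Bool.rec (p (Nat.add (Nat.mul i 64) j)) true (Nat.ble n (Nat.add (Nat.mul i 64) j)) = true
    cases hb : Nat.ble n (Nat.add (Nat.mul i 64) j) with
    | true => rfl
    | false =>
      apply h
      have : ¬ n ≤ Nat.add (Nat.mul i 64) j := by
        intro hc
        rw [Nat.ble_eq_true_of_le hc] at hb
        exact absurd hb (by simp)
      exact Nat.lt_of_not_le this

/-- a check on a range of arguments -/
theorem range_piece {q : ℕ → Bool} {lo len : ℕ}
    (h : loopAll len (fun t => q (Nat.add lo t)) = true) :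
    ∀ y, lo ≤ y → y < lo + len → q y = true := by
  intro y h1 h2
  rw [loopAll_iff] at h
  have := h (y - lo) (by omega)
  have e : Nat.add lo (y - lo) = y := by
    show lo + (y - lo) = y
    omega
  rw [e] at this
  exact this

/-- raw form of `lk` -/
def lkf (w n c x : ℕ) : ℕ := Nat.mod (Nat.mod (Nat.shiftRight c (Nat.mul w x)) (Nat.pow 2 w)) n

theorem lkf_eq (w n c x : ℕ) : lkf w n c x = lk w n c x := rfl

/-- raw word evaluation -/
noncomputable def evalF (w n : ℕ) (ws : List ℕ) (x : ℕ) : ℕ :=
  List.rec x (fun c _ ih => lkf w n c ih) ws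

theorem evalF_eq (w n : ℕ) (ws : List ℕ) (x : ℕ) : evalF w n ws x = evalW w n ws x := by
  induction ws with
  | nil => rfl
  | cons c ws ih =>
    show lkf w n c (evalF w n ws x) = lk w n c (evalW w n ws x)
    rw [ih, lkf_eq]

/-- field extraction -/
def fld (fw t y : ℕ) : ℕ := Nat.mod (Nat.shiftRight t (Nat.mul fw y)) (Nat.pow 2 fw)

/-- prepend the first component of the `i`-th pair (if any) -/
noncomputable def consNthF (l : List (ℕ × ℕ)) : ℕ → List ℕ → List ℕ :=
  List.rec (fun _ acc => acc)
    (fun c _ ih i acc => Nat.rec (c.1 :: acc) (fun j _ => ih j acc) i) l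

/-- prepend the second component of the `i`-th pair (if any) -/
noncomputable def consNthS (l : List (ℕ × ℕ)) : ℕ → List ℕ → List ℕ :=
  List.rec (fun _ acc => acc)
    (fun c _ ih i acc => Nat.rec (c.2 :: acc) (fun j _ => ih j acc) i) l

theorem consNth_spec : ∀ (l : List (ℕ × ℕ)) (i : ℕ) (acc acc' : List ℕ),
    (consNthF l i acc = acc ∧ consNthS l i acc' = acc') ∨
    ∃ p ∈ l, consNthF l i acc = p.1 :: acc ∧ consNthS l i acc' = p.2 :: acc'
  | [], _, _, _ => Or.inl ⟨rfl, rfl⟩
  | c :: l, 0, _, _ => Or.inr ⟨c, List.mem_cons_self, rfl, rfl⟩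
  | c :: l, i + 1, acc, acc' => by
    rcases consNth_spec l i acc acc' with h | ⟨p, hp, h1, h2⟩
    · exact Or.inl h
    · exact Or.inr ⟨p, List.mem_cons_of_mem _ hp, h1, h2⟩

/-- the word of the transversal element of `y` (generators read off a Schreier vector) -/
noncomputable def wordTo (w : ℕ) (ps : List (ℕ × ℕ)) (gt pt b : ℕ) (fuel : ℕ) : ℕ → List ℕ :=
  Nat.rec (fun _ => [])
    (fun _ ih y => Bool.rec (consNthF ps (Nat.pred (fld 4 gt y)) (ih (fld w pt y))) []
      (Nat.beq y b)) fuel

/-- the word of the inverse of the transversal element of `y`, prepended to `acc` -/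
noncomputable def invWordTo (w : ℕ) (ps : List (ℕ × ℕ)) (gt pt b : ℕ) (fuel : ℕ) :
    ℕ → List ℕ → List ℕ :=
  Nat.rec (fun _ acc => acc)
    (fun _ ih y acc => Bool.rec (ih (fld w pt y) (consNthS ps (Nat.pred (fld 4 gt y)) acc)) acc
      (Nat.beq y b)) fuel

section
variable {w n : ℕ} [NeZero n]

/-- a pair of codes of mutually inverse valid permutations -/
def PairOK (w n : ℕ) [NeZero n] (p : ℕ × ℕ) : Prop :=
  Valid w n p.1 ∧ Valid w n p.2 ∧ toPerm w n p.2 = (toPerm w n p.1)⁻¹

theorem wordTo_mem (ps : List (ℕ × ℕ)) (gt pt b : ℕ) : ∀ (fuel y : ℕ),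
    ∀ c ∈ wordTo w ps gt pt b fuel y, ∃ p ∈ ps, c = p.1
  | 0, _, c, hc => by simp [wordTo] at hc
  | f + 1, y, c, hc => by
    have e : wordTo w ps gt pt b (f + 1) y = Bool.rec
        (consNthF ps (Nat.pred (fld 4 gt y)) (wordTo w ps gt pt b f (fld w pt y))) []
        (Nat.beq y b) := rfl
    rw [e] at hc
    cases hb : Nat.beq y b with
    | true => rw [hb] at hc; simp at hc
    | false =>
      rw [hb] at hc
      rcases consNth_spec ps (Nat.pred (fld 4 gt y)) (wordTo w ps gt pt b f (fld w pt y)) []
        with h | ⟨p, hp, h1, _⟩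
      · rw [h.1] at hc
        exact wordTo_mem ps gt pt b f _ c hc
      · rw [h1, List.mem_cons] at hc
        rcases hc with rfl | hc
        · exact ⟨p, hp, rfl⟩
        · exact wordTo_mem ps gt pt b f _ c hc

theorem invWordTo_spec (ps : List (ℕ × ℕ)) (gt pt b : ℕ) (hps : ∀ p ∈ ps, PairOK w n p) :
    ∀ (fuel y : ℕ) (acc : List ℕ),
      evalP w n (invWordTo w ps gt pt b fuel y acc)
        = (evalP w n (wordTo w ps gt pt b fuel y))⁻¹ * evalP w n acc ∧
      (∀ c ∈ invWordTo w ps gt pt b fuel y acc, c ∈ acc ∨ ∃ p ∈ ps, c = p.2)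
  | 0, y, acc => by
    constructor
    · show evalP w n acc = (evalP w n [])⁻¹ * evalP w n acc
      simp [evalP]
    · intro c hc
      exact Or.inl hc
  | f + 1, y, acc => by
    have e1 : wordTo w ps gt pt b (f + 1) y = Bool.rec
        (consNthF ps (Nat.pred (fld 4 gt y)) (wordTo w ps gt pt b f (fld w pt y))) []
        (Nat.beq y b) := rfl
    have e2 : invWordTo w ps gt pt b (f + 1) y acc = Bool.rec
        (invWordTo w ps gt pt b f (fld w pt y) (consNthS ps (Nat.pred (fld 4 gt y)) acc)) acc
        (Nat.beq y b) := rfl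
    rw [e1, e2]
    cases hb : Nat.beq y b with
    | true =>
      constructor
      · show evalP w n acc = (evalP w n [])⁻¹ * evalP w n acc
        simp [evalP]
      · intro c hc
        exact Or.inl hc
    | false =>
      show evalP w n (invWordTo w ps gt pt b f (fld w pt y)
          (consNthS ps (Nat.pred (fld 4 gt y)) acc))
        = (evalP w n (consNthF ps (Nat.pred (fld 4 gt y))
          (wordTo w ps gt pt b f (fld w pt y))))⁻¹ * evalP w n acc ∧ _
      rcases consNth_spec ps (Nat.pred (fld 4 gt y)) (wordTo w ps gt pt b f (fld w pt y)) acc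
        with h | ⟨p, hp, h1, h2⟩
      · rw [h.1, h.2]
        exact invWordTo_spec ps gt pt b hps f _ acc
      · rw [h1, h2]
        obtain ⟨ih1, ih2⟩ := invWordTo_spec ps gt pt b hps f (fld w pt y) (p.2 :: acc)
        constructor
        · rw [ih1, evalP_cons, evalP_cons, (hps p hp).2.2, mul_inv_rev, mul_assoc]
        · intro c hc
          rcases ih2 c hc with h | h
          · rw [List.mem_cons] at h
            rcases h with rfl | h
            · exact Or.inr ⟨p, hp, rfl⟩
            · exact Or.inl h
          · exact Or.inr h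

end

/-! ### The invariant graph -/

/-- row `v` of the adjacency matrix coded in `M` -/
def adjRow (M n v : ℕ) : ℕ := Nat.mod (Nat.shiftRight M (Nat.mul v n)) (Nat.pow 2 n)

/-- bit `k` of `m` -/
def bitN (m k : ℕ) : ℕ := Nat.mod (Nat.shiftRight m k) 2

def adjB (M n v u : ℕ) : Bool := Nat.beq (bitN (adjRow M n v) u) 1

theorem bitN_eq_one_iff (m k : ℕ) : bitN m k = 1 ↔ m.testBit k = true := by
  show (m >>> k) % 2 = 1 ↔ _
  rw [Nat.testBit_eq_decide_div_mod_eq, Nat.shiftRight_eq_div_pow]
  simp

theorem adjB_iff (M n v u : ℕ) : adjB M n v u = true ↔ (adjRow M n v).testBit u = true := by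
  rw [adjB, Nat.beq_eq, bitN_eq_one_iff]

theorem adjRow_lt (M n v : ℕ) : adjRow M n v < 2 ^ n := Nat.mod_lt _ (Nat.two_pow_pos n)

section
variable (w n M : ℕ) [NeZero n]

/-- the permutations preserving the graph -/
def Kset : Set (Equiv.Perm (Fin n)) :=
  {g | ∀ v u : Fin n, adjB M n v u = true → adjB M n (g v) (g u) = true}

/-- the automorphism group of the graph coded by `M` -/
noncomputable def Kgrp : Subgroup (Equiv.Perm (Fin n)) where
  carrier := Kset n M
  mul_mem' := by
    intro a b ha hb v u h
    exact ha _ _ (hb _ _ h)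
  one_mem' := by
    intro v u h
    exact h
  inv_mem' := by
    intro g hg
    have hpow : ∀ k : ℕ, g ^ k ∈ Kset n M := by
      intro k
      induction k with
      | zero => intro v u h; simpa using h
      | succ k ih =>
        intro v u h
        rw [pow_succ]
        exact ih _ _ (hg _ _ h)
    have hinv : g⁻¹ = g ^ (orderOf g - 1) := by
      have hpos : 0 < orderOf g := orderOf_pos g
      apply inv_eq_of_mul_eq_one_left
      rw [← pow_succ, Nat.sub_add_cancel hpos, pow_orderOf_eq_one]
    rw [hinv]
    exact hpow _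

omit [NeZero n] in
theorem Kgrp_iff {g : Equiv.Perm (Fin n)} (hg : g ∈ Kgrp n M) (v u : Fin n) :
    adjB M n (g v) (g u) = adjB M n v u := by
  have h1 : adjB M n v u = true → adjB M n (g v) (g u) = true := hg v u
  have h2 : adjB M n (g v) (g u) = true → adjB M n v u = true := by
    intro h
    have := (Kgrp n M).inv_mem hg (g v) (g u) h
    simpa using this
  cases h : adjB M n v u with
  | true => exact h1 h
  | false =>
    cases h' : adjB M n (g v) (g u) with
    | false => rfl
    | true => rw [h2 h'] at h; exact absurd h (by simp)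

/-- the check for one row -/
noncomputable def rowQ (c v : ℕ) : Bool :=
  (fun R T => loopAll n (fun u =>
      Bool.rec true (Nat.beq (bitN T (lkf w n c u)) 1) (Nat.beq (bitN R u) 1)))
    (adjRow M n v) (adjRow M n (lkf w n c v))

/-- check that the coded permutation preserves the graph -/
noncomputable def autOK (c : ℕ) : Bool := loopAll n (rowQ w n M c)

variable {w n M}

theorem autOK_sound {c : ℕ} (hv : Valid w n c) (h : autOK w n M c = true) :
    toPerm w n c ∈ Kgrp n M := by
  rw [autOK, loopAll_iff] at h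
  intro v u hadj
  have h1 := h v.1 v.2
  rw [rowQ, loopAll_iff] at h1
  have h2 := h1 u.1 u.2
  have e1 : Nat.beq (bitN (adjRow M n v.1) u.1) 1 = true := hadj
  rw [e1] at h2
  show Nat.beq (bitN (adjRow M n (toPerm w n c v).1) (toPerm w n c u).1) 1 = true
  rw [toPerm_val hv, toPerm_val hv]
  exact h2

end

/-! ### A determining set -/

/-- mask of a list of vertices -/
def maskOf (l : List ℕ) : ℕ := l.foldl (fun m v => Nat.lor m (Nat.shiftLeft 1 v)) 0

theorem testBit_foldl_mask (l : List ℕ) (m i : ℕ) :
    (l.foldl (fun m v => Nat.lor m (Nat.shiftLeft 1 v)) m).testBit i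
      = (m.testBit i || decide (i ∈ l)) := by
  induction l generalizing m with
  | nil => simp
  | cons a l ih =>
    rw [List.foldl_cons, ih]
    have : (Nat.lor m (Nat.shiftLeft 1 a)).testBit i = (m.testBit i || decide (a = i)) := by
      show (m ||| 1 <<< a).testBit i = _
      rw [Nat.testBit_or, Nat.one_shiftLeft, Nat.testBit_two_pow]
    rw [this]
    simp only [List.mem_cons, Bool.or_assoc, Bool.decide_or]
    congr 2
    simp [eq_comm]

theorem testBit_maskOf (l : List ℕ) (i : ℕ) : (maskOf l).testBit i = decide (i ∈ l) := by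
  rw [maskOf, testBit_foldl_mask]
  simp

/-- key of a vertex relative to a mask of fixed vertices -/
def keyOf (M n FM v : ℕ) : ℕ := Nat.land (adjRow M n v) FM

/-- `v` is the only vertex with its key -/
noncomputable def uniqOK (M n FM v : ℕ) : Bool :=
  (fun kv => loopAll n (fun u => Bool.rec (Bool.rec true false (Nat.beq (keyOf M n FM u) kv)) true
    (Nat.beq u v))) (keyOf M n FM v)

noncomputable def roundsOK (M n : ℕ) : List ℕ → List (List ℕ) → Bool
  | _, [] => true
  | F, r :: rs => r.all (fun v => Nat.blt v n && uniqOK M n (maskOf F) v) && roundsOK M n (F ++ r) rs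

/-- the keys along the coded sequence `piC` are strictly increasing -/
noncomputable def sortedOK (w M n FM piC : ℕ) : Bool :=
  loopAll (Nat.pred n) (fun i => Nat.blt (keyOf M n FM (lkf w n piC i))
    (keyOf M n FM (lkf w n piC (Nat.succ i))))

section
variable {n M : ℕ} [NeZero n]

/-- `g` fixes the vertices of the list `F` -/
def FixesL (n : ℕ) [NeZero n] (g : Equiv.Perm (Fin n)) (F : List ℕ) : Prop :=
  ∀ f ∈ F, ∀ h : f < n, g ⟨f, h⟩ = ⟨f, h⟩

theorem key_invariant {g : Equiv.Perm (Fin n)} (hg : g ∈ Kgrp n M) {F : List ℕ}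
    (hF : FixesL n g F) (v : Fin n) :
    keyOf M n (maskOf F) (g v).1 = keyOf M n (maskOf F) v.1 := by
  apply Nat.eq_of_testBit_eq
  intro i
  show (adjRow M n (g v).1 &&& maskOf F).testBit i = (adjRow M n v.1 &&& maskOf F).testBit i
  rw [Nat.testBit_and, Nat.testBit_and, testBit_maskOf]
  by_cases hi : i ∈ F
  · simp only [hi, decide_true, Bool.and_true]
    by_cases hin : i < n
    · have h1 := Kgrp_iff n M hg v ⟨i, hin⟩
      rw [hF i hi hin] at h1
      have e1 := adjB_iff M n (g v).1 i
      have e2 := adjB_iff M n v.1 i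
      cases ha : (adjRow M n (g v).1).testBit i with
      | true =>
        have := e1.mpr ha
        rw [h1] at this
        exact (e2.mp this).symm
      | false =>
        cases hb : (adjRow M n v.1).testBit i with
        | false => rfl
        | true =>
          have := e2.mpr hb
          rw [← h1] at this
          rw [e1.mp this] at ha
          exact absurd ha (by simp)
    · have hle : n ≤ i := Nat.le_of_not_lt hin
      rw [Nat.testBit_lt_two_pow (lt_of_lt_of_le (adjRow_lt M n _) (Nat.pow_le_pow_right (by norm_num) hle)),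
        Nat.testBit_lt_two_pow (lt_of_lt_of_le (adjRow_lt M n _) (Nat.pow_le_pow_right (by norm_num) hle))]
  · simp [hi]

theorem uniq_fixed {g : Equiv.Perm (Fin n)} (hg : g ∈ Kgrp n M) {F : List ℕ}
    (hF : FixesL n g F) {v : ℕ} (hv : v < n) (hu : uniqOK M n (maskOf F) v = true) :
    g ⟨v, hv⟩ = ⟨v, hv⟩ := by
  rw [uniqOK, loopAll_iff] at hu
  have h1 := hu (g ⟨v, hv⟩).1 (g ⟨v, hv⟩).2
  have hk := key_invariant hg hF ⟨v, hv⟩
  cases hb : Nat.beq (g ⟨v, hv⟩).1 v with
  | true =>
    apply Fin.ext
    exact Nat.eq_of_beq_eq_true hb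
  | false =>
    rw [hb] at h1
    have : Nat.beq (keyOf M n (maskOf F) (g ⟨v, hv⟩).1) (keyOf M n (maskOf F) v) = true := by
      rw [hk]
      exact Nat.beq_refl _
    rw [this] at h1
    exact absurd h1 (by simp)

theorem rounds_fixed {g : Equiv.Perm (Fin n)} (hg : g ∈ Kgrp n M) :
    ∀ (rs : List (List ℕ)) (F : List ℕ), FixesL n g F → roundsOK M n F rs = true →
      FixesL n g (F ++ rs.flatten)
  | [], F, hF, _ => by simpa using hF
  | r :: rs, F, hF, h => by
    simp only [roundsOK, Bool.and_eq_true, List.all_eq_true, Nat.blt_eq] at h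
    have hF' : FixesL n g (F ++ r) := by
      intro f hf hlt
      rw [List.mem_append] at hf
      rcases hf with hf | hf
      · exact hF f hf hlt
      · exact uniq_fixed hg hF hlt (h.1 f hf).2
    have := rounds_fixed hg rs (F ++ r) hF' h.2
    rw [List.flatten_cons, ← List.append_assoc]
    exact this

theorem sorted_fixed {w : ℕ} {g : Equiv.Perm (Fin n)} (hg : g ∈ Kgrp n M) {F : List ℕ}
    (hF : FixesL n g F) {piC : ℕ} (h : sortedOK w M n (maskOf F) piC = true) : g = 1 := by
  rw [sortedOK, loopAll_iff] at h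
  have hnpos : 0 < n := NeZero.pos n
  set f : ℕ → ℕ := fun i => keyOf M n (maskOf F) (lkf w n piC i) with hf
  have hstep : ∀ i, i + 1 < n → f i < f (i + 1) := by
    intro i hi
    have := h i (by rw [Nat.pred_eq_sub_one]; omega)
    rw [Nat.blt_eq] at this
    exact this
  have hmono : ∀ j, j < n → ∀ i, i < j → f i < f j := by
    intro j
    induction j with
    | zero => intro _ i hi; omega
    | succ j ih =>
      intro hj i hi
      rcases Nat.lt_succ_iff_lt_or_eq.mp hi with hi | rfl
      · exact lt_trans (ih (by omega) i hi) (hstep j hj)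
      · exact hstep i hj
  let pi : Fin n → Fin n := fun i => ⟨lkf w n piC i.1, Nat.mod_lt _ hnpos⟩
  have hinj : Function.Injective pi := by
    intro i j hij
    have hv : lkf w n piC i.1 = lkf w n piC j.1 := congrArg Fin.val hij
    have hfe : f i.1 = f j.1 := by simp only [hf, hv]
    apply Fin.ext
    rcases Nat.lt_trichotomy i.1 j.1 with hlt | heq | hgt
    · exact absurd hfe (ne_of_lt (hmono j.1 j.2 i.1 hlt))
    · exact heq
    · exact absurd hfe.symm (ne_of_lt (hmono i.1 i.2 j.1 hgt))
  have hsurj : Function.Surjective pi := Finite.injective_iff_surjective.mp hinj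
  apply Equiv.ext
  intro v
  have hk := key_invariant hg hF v
  obtain ⟨i, hi⟩ := hsurj (g v)
  obtain ⟨j, hj⟩ := hsurj v
  have e1 : lkf w n piC i.1 = (g v).1 := congrArg Fin.val hi
  have e2 : lkf w n piC j.1 = v.1 := congrArg Fin.val hj
  have hfe : f i.1 = f j.1 := by
    simp only [hf, e1, e2]
    exact hk
  have hij : i = j := by
    apply Fin.ext
    rcases Nat.lt_trichotomy i.1 j.1 with hlt | heq | hgt
    · exact absurd hfe (ne_of_lt (hmono j.1 j.2 i.1 hlt))
    · exact heq
    · exact absurd hfe.symm (ne_of_lt (hmono i.1 i.2 j.1 hgt))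
  rw [← hi, hij, hj]
  rfl

end

end Cfsg.Agent.Lib.Helper18.SS
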