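import Mathlib
import Cfsg.Agent.Lib.Helper18.SS3

/-!
# Chains with Schreier vectors: checks and soundness
-/

namespace Cfsg.Agent.Lib.Helper18.SS

/-- concrete level with a Schreier vector -/
structure CLvl2 where
  b : ℕ
  S : List (ℕ × ℕ)
  P : List (ℕ × ℕ)
  gt : ℕ
  pt : ℕ
  fuel : ℕ

def cpairs : List CLvl2 → List (ℕ × ℕ)
  | [] => []
  | l :: _ => l.P

def inOrb (n : ℕ) (l : CLvl2) (y : ℕ) : Bool := Nat.blt y n && !(Nat.beq (fld 4 l.gt y) 0)

noncomputable def wordL (w : ℕ) (l : CLvl2) (y : ℕ) : List ℕ :=
  wordTo w l.P l.gt l.pt l.b l.fuel y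

noncomputable def invWordL (w : ℕ) (l : CLvl2) (y : ℕ) (acc : List ℕ) : List ℕ :=
  invWordTo w l.P l.gt l.pt l.b l.fuel y acc

theorem wordTo_root (w : ℕ) (ps : List (ℕ × ℕ)) (gt pt b : ℕ) :
    ∀ fuel : ℕ, wordTo w ps gt pt b fuel b = []
  | 0 => rfl
  | f + 1 => by
    have e : wordTo w ps gt pt b (f + 1) b = Bool.rec
        (consNthF ps (Nat.pred (fld 4 gt b)) (wordTo w ps gt pt b f (fld w pt b))) []
        (Nat.beq b b) := rfl
    rw [e, Nat.beq_refl]

/-- fast inverse check -/
noncomputable def invOKf (w n cu cv : ℕ) : Bool :=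
  loopAll n (fun y => Nat.beq (lkf w n cv (lkf w n cu y)) y)

theorem invOKf_sound {w n cu cv : ℕ} (h : invOKf w n cu cv = true) : invOK w n cu cv = true := by
  rw [invOKf, loopAll_iff] at h
  rw [invOK, allLt_iff]
  intro x hx
  have := h x hx
  rw [beq_iff_eq]
  exact Nat.eq_of_beq_eq_true this

/-- fast `p`-th power check, `p = k + 1` -/
noncomputable def powOKf (w n c : ℕ) (k : ℕ) : Bool :=
  loopAll n (fun y => Nat.beq (Nat.rec (lkf w n c y) (fun _ ih => lkf w n c ih) k) y)

/-- fast product check -/
noncomputable def mulOKf (w n c p q : ℕ) : Bool :=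
  loopAll n (fun y => Nat.beq (lkf w n c y) (lkf w n p (lkf w n q y)))

theorem mulOKf_sound {w n c p q : ℕ} (h : mulOKf w n c p q = true) : mulOK w n c p q = true := by
  rw [mulOKf, loopAll_iff] at h
  rw [mulOK, allLt_iff]
  intro x hx
  have := h x hx
  rw [beq_iff_eq]
  exact Nat.eq_of_beq_eq_true this

/-- fast straight-line-program check -/
noncomputable def slpOKf (w n : ℕ) : List ℕ → List (ℕ × ℕ × ℕ) → Bool
  | _, [] => true
  | prev, (c, j, k) :: es =>
    (match nth? prev j, nth? prev k with
      | some p, some q => mulOKf w n c p q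
      | _, _ => false) && slpOKf w n (prev ++ [c]) es

theorem slpOKf_sound {w n : ℕ} : ∀ (es : List (ℕ × ℕ × ℕ)) (prev : List ℕ),
    slpOKf w n prev es = true → slpOK w n prev es = true
  | [], _, _ => rfl
  | (c, j, k) :: es, prev, h => by
    simp only [slpOKf, Bool.and_eq_true] at h
    simp only [slpOK, Bool.and_eq_true]
    refine ⟨?_, slpOKf_sound es _ h.2⟩
    cases hj : nth? prev j with
    | none => simp [hj] at h
    | some p =>
      cases hk : nth? prev k with
      | none => simp [hj, hk] at h
      | some q =>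
        simp only [hj, hk] at h ⊢
        exact mulOKf_sound h.1

section
variable {w n : ℕ} [NeZero n]

theorem ofNat_eq {b : ℕ} (hb : b < n) : (Fin.ofNat n b : Fin n) = ⟨b, hb⟩ := by
  apply Fin.ext
  exact Nat.mod_eq_of_lt hb

theorem powOKf_sound {c k : ℕ} (h : powOKf w n c k = true) :
    Valid w n c ∧ (toPerm w n c) ^ (k + 1) = 1 := by
  rw [powOKf, loopAll_iff] at h
  have hiter : ∀ (j : ℕ) (i : Fin n),
      ((Nat.rec (lkf w n c i.1) (fun _ ih => lkf w n c ih) j : ℕ)) = ((fn w n c)^[j + 1] i).1 := by
    intro j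
    induction j with
    | zero => intro i; rfl
    | succ j ih =>
      intro i
      show lkf w n c (Nat.rec (lkf w n c i.1) (fun _ ih => lkf w n c ih) j) = _
      rw [ih i, Function.iterate_succ_apply' (fn w n c) (j + 1) i]
      rfl
  have hli : Function.LeftInverse ((fn w n c)^[k]) (fn w n c) := by
    intro i
    apply Fin.ext
    have := Nat.eq_of_beq_eq_true (h i.1 i.2)
    rw [hiter k i, Function.iterate_succ_apply] at this
    exact this
  have hv : Valid w n c := Finite.injective_iff_bijective.mp hli.injective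
  refine ⟨hv, ?_⟩
  apply Equiv.ext
  intro i
  have hpow : ∀ j : ℕ, ∀ i : Fin n, ((toPerm w n c) ^ j) i = (fn w n c)^[j] i := by
    intro j
    induction j with
    | zero => intro i; rfl
    | succ j ih =>
      intro i
      rw [pow_succ, Equiv.Perm.mul_apply, ih, toPerm_apply hv, Function.iterate_succ_apply]
  rw [hpow]
  apply Fin.ext
  have := Nat.eq_of_beq_eq_true (h i.1 i.2)
  rw [hiter k i] at this
  exact this

theorem evalP_mem {H : Subgroup (Equiv.Perm (Fin n))} : ∀ {ws : List ℕ},
    (∀ c ∈ ws, toPerm w n c ∈ H) → evalP w n ws ∈ H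
  | [], _ => by simp [evalP]
  | c :: ws, h => by
    rw [evalP_cons]
    exact mul_mem (h c List.mem_cons_self) (evalP_mem (fun c hc => h c (List.mem_cons_of_mem _ hc)))

theorem evalP_fixes : ∀ {ws : List ℕ} {d : ℕ} (hd : d < n),
    (∀ c ∈ ws, Valid w n c ∧ lk w n c d = d) → evalP w n ws ⟨d, hd⟩ = ⟨d, hd⟩
  | [], _, _, _ => by simp [evalP]
  | c :: ws, d, hd, h => by
    rw [evalP_cons, Equiv.Perm.mul_apply,
      evalP_fixes hd (fun c hc => h c (List.mem_cons_of_mem _ hc))]
    apply Fin.ext
    rw [toPerm_val (h c List.mem_cons_self).1]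
    exact (h c List.mem_cons_self).2

end

section
variable (w n : ℕ) [NeZero n]

noncomputable def absL2 (l : CLvl2) : Lvl (Equiv.Perm (Fin n)) (Fin n) :=
  ⟨Fin.ofNat n l.b, l.S.map (fun p => toPerm w n p.1),
    ((List.range n).filter (inOrb n l)).map (fun y => evalP w n (wordL w l y))⟩

noncomputable def absC2 (ch : List CLvl2) : List (Lvl (Equiv.Perm (Fin n)) (Fin n)) :=
  ch.map (absL2 w n)

theorem mem_absU (l : CLvl2) {y : ℕ} (hy : y < n) (hin : inOrb n l y = true) :
    evalP w n (wordL w l y) ∈ (absL2 w n l).U := by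
  refine List.mem_map.mpr ⟨y, ?_, rfl⟩
  rw [List.mem_filter, List.mem_range]
  exact ⟨hy, hin⟩

/-- the sift: only membership in the orbits is tested -/
noncomputable def csift2 : List CLvl2 → List ℕ → Bool :=
  fun ch => List.rec (fun _ => true)
    (fun l _ ih ws => (fun y => Bool.rec false (ih (invWordL w l y ws)) (inOrb n l y))
      (evalF w n ws l.b)) ch

theorem csift2_cons (l : CLvl2) (r : List CLvl2) (ws : List ℕ) :
    csift2 w n (l :: r) ws = Bool.rec false (csift2 w n r (invWordL w l (evalF w n ws l.b) ws))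
      (inOrb n l (evalF w n ws l.b)) := rfl

/-- consistency of the cumulative generator lists -/
def ConsOK : List CLvl2 → Prop
  | [] => True
  | l :: r => l.P = l.S ++ cpairs r ∧ ConsOK r

variable {w n}

theorem gensOf_abs2 : ∀ {ch : List CLvl2}, ConsOK ch →
    gensOf (absC2 w n ch) = (cpairs ch).map (fun p => toPerm w n p.1)
  | [], _ => rfl
  | l :: r, h => by
    show (l.S.map (fun p => toPerm w n p.1)) ++ gensOf (absC2 w n r) = l.P.map _
    rw [gensOf_abs2 h.2, h.1, List.map_append]

variable (w n)

/-- facts about one level -/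
structure LFacts (K : Subgroup (Equiv.Perm (Fin n))) (D : List ℕ) (l : CLvl2) : Prop where
  hb : l.b < n
  pairs : ∀ p ∈ l.P, PairOK w n p
  inK : ∀ p ∈ l.P, toPerm w n p.1 ∈ K
  fixD : ∀ p ∈ l.P, ∀ d ∈ D, lk w n p.1 d = d
  img : ∀ y, inOrb n l y = true → evalW w n (wordL w l y) l.b = y

def CFacts (K : Subgroup (Equiv.Perm (Fin n))) : List ℕ → List CLvl2 → Prop
  | _, [] => True
  | D, l :: r => LFacts w n K D l ∧ CFacts K (D ++ [l.b]) r

variable {w n}

theorem wordL_codes {K : Subgroup (Equiv.Perm (Fin n))} {D : List ℕ} {l : CLvl2}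
    (hl : LFacts w n K D l) (y : ℕ) :
    ∀ c ∈ wordL w l y, Valid w n c ∧ toPerm w n c ∈ K ∧ ∀ d ∈ D, lk w n c d = d := by
  intro c hc
  obtain ⟨p, hp, rfl⟩ := wordTo_mem l.P l.gt l.pt l.b l.fuel y c hc
  exact ⟨(hl.pairs p hp).1, hl.inK p hp, hl.fixD p hp⟩

theorem csift2_sound (K : Subgroup (Equiv.Perm (Fin n))) (allB : List ℕ)
    (hdet : ∀ g ∈ K, FixesL n g allB → g = 1) :
    ∀ (ch : List CLvl2) (D : List ℕ) (ws : List ℕ),
      (∀ d ∈ allB, d ∈ D ∨ d ∈ ch.map (fun l => l.b)) →
      CFacts w n K D ch →
      (∀ c ∈ ws, Valid w n c ∧ toPerm w n c ∈ K) →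
      FixesL n (evalP w n ws) D →
      csift2 w n ch ws = true → Sifts (absC2 w n ch) (evalP w n ws)
  | [], D, ws, hcov, _, hws, hfix, _ => by
    have hK : evalP w n ws ∈ K := evalP_mem (fun c hc => (hws c hc).2)
    have : evalP w n ws = 1 := hdet _ hK (by
      intro d hd hlt
      rcases hcov d hd with h | h
      · exact hfix d h hlt
      · simp at h)
    rw [this]
    exact Sifts.nil
  | l :: r, D, ws, hcov, hcf, hws, hfix, h => by
    obtain ⟨hl, hr⟩ := hcf
    rw [csift2_cons] at h
    set y := evalF w n ws l.b with hy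
    cases hin : inOrb n l y with
    | false => rw [hin] at h; exact absurd h (by simp)
    | true =>
      rw [hin] at h
      have hylt : y < n := by
        simp only [inOrb, Bool.and_eq_true, Nat.blt_eq] at hin
        exact hin.1
      have hspec := invWordTo_spec (w := w) (n := n) l.P l.gt l.pt l.b hl.pairs l.fuel y ws
      have hcodes := wordL_codes hl y
      -- the transversal element
      set u := evalP w n (wordL w l y) with hu
      have hu_mem : u ∈ (absL2 w n l).U := by
        refine List.mem_map.mpr ⟨y, ?_, rfl⟩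
        rw [List.mem_filter, List.mem_range]
        exact ⟨hylt, hin⟩
      have hws' : ∀ c ∈ invWordL w l y ws, Valid w n c ∧ toPerm w n c ∈ K := by
        intro c hc
        rcases hspec.2 c hc with hc | ⟨p, hp, rfl⟩
        · exact hws c hc
        · refine ⟨(hl.pairs p hp).2.1, ?_⟩
          rw [(hl.pairs p hp).2.2]
          exact inv_mem (hl.inK p hp)
      have heval : evalP w n (invWordL w l y ws) = u⁻¹ * evalP w n ws := hspec.1
      -- images
      have hgb : evalP w n ws ⟨l.b, hl.hb⟩ = ⟨y, hylt⟩ := by
        apply Fin.ext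
        rw [evalP_val (fun c hc => (hws c hc).1), ← evalF_eq]
      have hub : u ⟨l.b, hl.hb⟩ = ⟨y, hylt⟩ := by
        apply Fin.ext
        rw [evalP_val (fun c hc => (hcodes c hc).1)]
        exact hl.img y hin
      have hfix' : FixesL n (evalP w n (invWordL w l y ws)) (D ++ [l.b]) := by
        intro d hd hlt
        rw [heval, Equiv.Perm.mul_apply]
        rw [List.mem_append, List.mem_singleton] at hd
        rcases hd with hd | rfl
        · rw [hfix d hd hlt, Equiv.Perm.inv_eq_iff_eq]
          exact (evalP_fixes hlt (fun c hc => ⟨(hcodes c hc).1, (hcodes c hc).2.2 d hd⟩)).symm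
        · rw [hgb, Equiv.Perm.inv_eq_iff_eq]
          exact hub.symm
      have ih := csift2_sound K allB hdet r (D ++ [l.b]) (invWordL w l y ws) (by
        intro d hd
        rcases hcov d hd with h | h
        · exact Or.inl (List.mem_append_left _ h)
        · rw [List.map_cons, List.mem_cons] at h
          rcases h with rfl | h
          · exact Or.inl (List.mem_append_right _ (List.mem_singleton.mpr rfl))
          · exact Or.inr h) hr hws' hfix' h
      rw [heval] at ih
      exact Sifts.cons (absL2 w n l) (absC2 w n r) u _ hu_mem ih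

variable (w n)

/-- the Schreier check for one generator and one point -/
noncomputable def schQ (l : CLvl2) (r : List CLvl2) (c y : ℕ) : Bool :=
  Bool.rec true (csift2 w n (l :: r) (c :: wordL w l y)) (inOrb n l y)

/-- per-level verification, all but the Schreier closure -/
noncomputable def lvlOK2a (D : List ℕ) (l : CLvl2) (r : List CLvl2) : Bool :=
  Nat.blt l.b n &&
  decide (l.P = l.S ++ cpairs r) &&
  l.S.all (fun p => invOKf w n p.1 p.2) &&
  (cpairs r).all (fun p => Nat.beq (lkf w n p.1 l.b) l.b) &&
  l.P.all (fun p => D.all (fun d => Nat.beq (lkf w n p.1 d) d)) &&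
  inOrb n l l.b &&
  loopAll n (fun y => Bool.rec true (Nat.beq (evalF w n (wordL w l y) l.b) y) (inOrb n l y))

/-- per-level verification -/
noncomputable def lvlOK2 (D : List ℕ) (l : CLvl2) (r : List CLvl2) : Bool :=
  lvlOK2a w n D l r && l.P.all (fun p => loopAll n (schQ w n l r p.1))

noncomputable def chainOK2 : List ℕ → List CLvl2 → Bool
  | _, [] => true
  | D, l :: r => chainOK2 (D ++ [l.b]) r && lvlOK2 w n D l r

variable {w n}

theorem chainOK2_sound (K : Subgroup (Equiv.Perm (Fin n))) (allB : List ℕ)
    (hdet : ∀ g ∈ K, FixesL n g allB → g = 1) :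
    ∀ (ch : List CLvl2) (D : List ℕ),
      (∀ d ∈ allB, d ∈ D ∨ d ∈ ch.map (fun l => l.b)) →
      (∀ p ∈ cpairs ch, toPerm w n p.1 ∈ K) →
      chainOK2 w n D ch = true →
      ConsOK ch ∧ CFacts w n K D ch ∧ Good (absC2 w n ch)
  | [], _, _, _, _ => ⟨trivial, trivial, trivial⟩
  | l :: r, D, hcov, hK, h => by
    simp only [chainOK2, Bool.and_eq_true] at h
    obtain ⟨hr, hl⟩ := h
    simp only [lvlOK2, lvlOK2a, Bool.and_eq_true, List.all_eq_true, Nat.blt_eq,
      decide_eq_true_eq] at hl
    obtain ⟨⟨⟨⟨⟨⟨⟨hb, hcons⟩, hinv⟩, hfixb⟩, hfixD⟩, hroot⟩, himg⟩, hsch⟩ := hl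
    have hKr : ∀ p ∈ cpairs r, toPerm w n p.1 ∈ K := by
      intro p hp
      apply hK p
      show p ∈ l.P
      rw [hcons]
      exact List.mem_append_right _ hp
    obtain ⟨hconsr, hcfr, hGr⟩ := chainOK2_sound K allB hdet r (D ++ [l.b]) (by
      intro d hd
      rcases hcov d hd with h | h
      · exact Or.inl (List.mem_append_left _ h)
      · rw [List.map_cons, List.mem_cons] at h
        rcases h with rfl | h
        · exact Or.inl (List.mem_append_right _ (List.mem_singleton.mpr rfl))
        · exact Or.inr h) hKr hr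
    have hconsl : ConsOK (l :: r) := ⟨hcons, hconsr⟩
    have hpairs_r : ∀ p ∈ cpairs r, PairOK w n p := by
      cases r with
      | nil => intro p hp; simp [cpairs] at hp
      | cons l' r' => exact hcfr.1.pairs
    have hpairs : ∀ p ∈ l.P, PairOK w n p := by
      intro p hp
      rw [hcons, List.mem_append] at hp
      rcases hp with hp | hp
      · have := valid_inv (invOKf_sound (hinv p hp))
        exact this
      · exact hpairs_r p hp
    rw [loopAll_iff] at himg
    have hlf : LFacts w n K D l := by
      refine ⟨hb, hpairs, hK, ?_, ?_⟩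
      · intro p hp d hd
        have := hfixD p hp d hd
        rw [lkf_eq] at this
        exact Nat.eq_of_beq_eq_true this
      · intro y hy
        have hylt : y < n := by
          simp only [inOrb, Bool.and_eq_true, Nat.blt_eq] at hy
          exact hy.1
        have := himg y hylt
        rw [hy, evalF_eq] at this
        exact Nat.eq_of_beq_eq_true this
    have hcf : CFacts w n K D (l :: r) := ⟨hlf, hcfr⟩
    refine ⟨hconsl, hcf, ?_⟩
    have hgens : gensOf (absC2 w n (l :: r)) = l.P.map (fun p => toPerm w n p.1) :=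
      gensOf_abs2 hconsl
    have hgensr : gensOf (absC2 w n r) = (cpairs r).map (fun p => toPerm w n p.1) :=
      gensOf_abs2 hconsr
    show Good (absL2 w n l :: absC2 w n r)
    refine ⟨hGr, ?_, ?_, ?_, ?_, ?_⟩
    · -- deeper generators fix b
      intro g hg
      rw [hgensr, List.mem_map] at hg
      obtain ⟨p, hp, rfl⟩ := hg
      show toPerm w n p.1 • (Fin.ofNat n l.b : Fin n) = Fin.ofNat n l.b
      apply Fin.ext
      rw [smul_ofNat (hpairs_r p hp).1 hb]
      have := hfixb p hp
      rw [lkf_eq] at this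
      rw [Nat.eq_of_beq_eq_true this]
      exact (Nat.mod_eq_of_lt hb).symm
    · -- transversal inside the group
      intro u hu
      have hu' : u ∈ ((List.range n).filter (inOrb n l)).map
          (fun y => evalP w n (wordL w l y)) := hu
      rw [List.mem_map] at hu'
      obtain ⟨y, _, rfl⟩ := hu'
      apply evalP_mem
      intro c hc
      obtain ⟨p, hp, rfl⟩ := wordTo_mem l.P l.gt l.pt l.b l.fuel y c hc
      apply Subgroup.subset_closure
      show toPerm w n p.1 ∈ gensOf (absC2 w n (l :: r))
      rw [hgens]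
      exact List.mem_map.mpr ⟨p, hp, rfl⟩
    · -- identity
      show (1 : Equiv.Perm (Fin n)) ∈ ((List.range n).filter (inOrb n l)).map
          (fun y => evalP w n (wordL w l y))
      refine List.mem_map.mpr ⟨l.b, ?_, ?_⟩
      · rw [List.mem_filter, List.mem_range]
        exact ⟨hb, hroot⟩
      · rw [wordL, wordTo_root]
        simp [evalP]
    · -- distinct images
      show ((((List.range n).filter (inOrb n l)).map (fun y => evalP w n (wordL w l y))).map
        (fun u => u • (Fin.ofNat n l.b : Fin n))).Nodup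
      have hmap : ((((List.range n).filter (inOrb n l)).map
          (fun y => evalP w n (wordL w l y))).map
          (fun u => u • (Fin.ofNat n l.b : Fin n))).map (fun i : Fin n => (i : ℕ))
          = (List.range n).filter (inOrb n l) := by
        rw [List.map_map, List.map_map]
        conv_rhs => rw [← List.map_id ((List.range n).filter (inOrb n l))]
        apply List.map_congr_left
        intro y hy
        rw [List.mem_filter] at hy
        show ((evalP w n (wordL w l y) (Fin.ofNat n l.b : Fin n) : Fin n) : ℕ) = y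
        rw [ofNat_eq hb, evalP_val (fun c hc => (wordL_codes hlf y c hc).1)]
        exact hlf.img y hy.2
      apply List.Nodup.of_map (fun i : Fin n => (i : ℕ))
      rw [hmap]
      exact List.Nodup.filter _ List.nodup_range
    · -- Schreier closure
      intro s hs u hu
      have hs' : s ∈ gensOf (absC2 w n (l :: r)) := hs
      rw [hgens, List.mem_map] at hs'
      obtain ⟨p, hp, rfl⟩ := hs'
      have hu' : u ∈ ((List.range n).filter (inOrb n l)).map
          (fun y => evalP w n (wordL w l y)) := hu
      rw [List.mem_map] at hu'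
      obtain ⟨y, hy, rfl⟩ := hu'
      rw [List.mem_filter, List.mem_range] at hy
      have h1 := hsch p hp
      rw [loopAll_iff] at h1
      have h2 := h1 y hy.1
      rw [schQ, hy.2] at h2
      have hcodes := wordL_codes hlf y
      have := csift2_sound K allB hdet (l :: r) D (p.1 :: wordL w l y) hcov hcf (by
        intro c hc
        rw [List.mem_cons] at hc
        rcases hc with rfl | hc
        · exact ⟨(hpairs p hp).1, hK p hp⟩
        · exact ⟨(hcodes c hc).1, (hcodes c hc).2.1⟩) (by
        intro d hd hlt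
        apply evalP_fixes hlt
        intro c hc
        rw [List.mem_cons] at hc
        rcases hc with rfl | hc
        · exact ⟨(hpairs p hp).1, hlf.fixD p hp d hd⟩
        · exact ⟨(hcodes c hc).1, (hcodes c hc).2.2 d hd⟩) h2
      rw [evalP_cons] at this
      exact this

end

end Cfsg.Agent.Lib.Helper18.SS
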