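import Mathlib
import Cfsg.Agent.Lib.Helper18.SS4

/-! Further generic facts about chains with Schreier vectors. -/

namespace Cfsg.Agent.Lib.Helper18.SS

variable (w n : ℕ) [NeZero n]

theorem of_mem_absU (l : CLvl2) {u : Equiv.Perm (Fin n)} (hu : u ∈ (absL2 w n l).U) :
    ∃ y, y < n ∧ inOrb n l y = true ∧ u = evalP w n (wordL w l y) := by
  have hu' : u ∈ ((List.range n).filter (inOrb n l)).map (fun y => evalP w n (wordL w l y)) := hu
  obtain ⟨y, hy, rfl⟩ := List.mem_map.mp hu'
  rw [List.mem_filter, List.mem_range] at hy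
  exact ⟨y, hy.1, hy.2, rfl⟩

end Cfsg.Agent.Lib.Helper18.SS
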