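import Mathlib
import Cfsg.Agent.Lib.Helper18.SimpleCert2

/-!
# A simplicity criterion for a permutation group acting primitively on one of its orbits

`T = ⟨a, b⟩ ≤ Sym(Fin n)` with `a^p = b^p = 1`, acting faithfully and transitively on an orbit
`Ω` of size `k`, `|T| = k * m` with `m` prime to `p`; the orbits on `Ω` of the stabiliser of a
point are given by a labelling, and no proper union of them containing the fixed point has size
dividing `|T|`: then `T` is simple.
-/

namespace Cfsg.Agent.Lib.Helper18.SimpleCert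
open scoped Pointwise

variable {n : ℕ}

theorem simple_rel [NeZero n] (T H : Subgroup (Equiv.Perm (Fin n)))
    (a b : Equiv.Perm (Fin n)) (p m k : ℕ)
    (hT : T = Subgroup.closure {a, b}) (hap : a ^ p = 1) (hbp : b ^ p = 1)
    (hcard : Nat.card T = k * m) (hcop : Nat.Coprime m p) (hbig : 1 < k * m) (hkpos : 0 < k)
    (inΩ : Fin n → Prop) (hk : Set.ncard {x | inΩ x} = k)
    (c0 : Fin n) (hc0 : inΩ c0)
    (htrans : ∀ x, inΩ x → ∃ g ∈ T, g • c0 = x)
    (hinvΩ : ∀ g ∈ T, inΩ (g • c0))
    (hfaith : ∀ g ∈ T, (∀ x, inΩ x → g • x = x) → g = 1)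
    (hHle : H ≤ T) (hHfix : ∀ h ∈ H, h • c0 = c0)
    (r : ℕ) (lab : Fin n → ℕ) (rep : ℕ → Fin n)
    (hb1 : lab c0 = 0) (hlab0 : ∀ x, inΩ x → lab x = 0 → x = c0) (hlt : ∀ x, inΩ x → lab x < r)
    (horb : ∀ x, inΩ x → x ≠ c0 → ∃ h ∈ H, h • rep (lab x) = x)
    (hblk : ∀ s < 2 ^ r, s.testBit 0 = true →
      Set.ncard {x : Fin n | inΩ x ∧ s.testBit (lab x) = true} ∣ k * m → s = 1 ∨ s = 2 ^ r - 1) :
    IsSimpleGroup T := by
  classical
  have horbN : ∀ (N : Subgroup T) [N.Normal], N ≠ ⊥ →
      MulAction.orbit N c0 = {x | inΩ x} := by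
    intro N hN hne
    set O : Set (Fin n) := MulAction.orbit N c0 with hO
    have hblock : MulAction.IsBlock T O := MulAction.IsBlock.orbit_of_normal c0
    have hb1O : c0 ∈ O := MulAction.mem_orbit_self c0
    have hOsub : ∀ x ∈ O, inΩ x := by
      rintro x ⟨m, rfl⟩
      exact hinvΩ m.1.1 m.1.2
    have hdvd : O.ncard ∣ k * m := by
      have h1 : (MulAction.stabilizer N c0).index = (MulAction.orbit N c0).ncard :=
        MulAction.index_stabilizer N c0
      have h2 := Subgroup.index_dvd_card (MulAction.stabilizer N c0)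
      rw [h1] at h2
      have h3 : Nat.card N ∣ Nat.card T := Subgroup.card_subgroup_dvd_card N
      rw [hcard] at h3
      exact dvd_trans h2 h3
    have hstab := hblock.stabilizer_le hb1O
    have hinv : ∀ h ∈ H, ∀ x ∈ O, h • x ∈ O := by
      intro h hh x hx
      have hG : h ∈ T := hHle hh
      have h1 : (⟨h, hG⟩ : T) ∈ MulAction.stabilizer T c0 := by
        rw [MulAction.mem_stabilizer_iff]
        exact hHfix h hh
      have h2 := hstab h1
      rw [MulAction.mem_stabilizer_iff] at h2
      have : (⟨h, hG⟩ : T) • x ∈ (⟨h, hG⟩ : T) • O := Set.smul_mem_smul_set hx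
      rw [h2] at this
      exact this
    have hex : ∃ y ∈ O, y ≠ c0 := by
      by_contra hcon
      push Not at hcon
      apply hne
      rw [Subgroup.eq_bot_iff_forall]
      intro kk hk'
      have hfix : ∀ m ∈ N, m • c0 = c0 := by
        intro m hm
        exact hcon _ ⟨⟨m, hm⟩, rfl⟩
      apply Subtype.ext
      apply hfaith kk.1 kk.2
      intro x hx
      obtain ⟨g, hg, rfl⟩ := htrans x hx
      have hc : (⟨g, hg⟩ : T)⁻¹ * kk * ⟨g, hg⟩ ∈ N := by
        have := hN.conj_mem kk hk' (⟨g, hg⟩ : T)⁻¹
        simpa using this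
      have := hfix _ hc
      have h3 : (g⁻¹ * kk.1 * g) • c0 = c0 := this
      show kk.1 • (g • c0) = g • c0
      rw [mul_smul, mul_smul, inv_smul_eq_iff] at h3
      exact h3
    obtain ⟨s, hs, hbits⟩ := exists_bits r (fun j => ∃ x ∈ O, lab x = j)
    have hOeq : O = {x : Fin n | inΩ x ∧ s.testBit (lab x) = true} := by
      ext x
      rw [Set.mem_ofPred_eq, hbits]
      constructor
      · intro hx
        exact ⟨hOsub x hx, hlt x (hOsub x hx), x, hx, rfl⟩
      · rintro ⟨hxΩ, _, x0, hx0, hlab⟩
        by_cases hxb : x = c0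
        · rw [hxb]; exact hb1O
        · have hx0b : x0 ≠ c0 := by
            intro hc
            rw [hc, hb1] at hlab
            exact hxb (hlab0 x hxΩ hlab.symm)
          obtain ⟨h0, hh0, e0⟩ := horb x0 (hOsub x0 hx0) hx0b
          obtain ⟨h, hh, e⟩ := horb x hxΩ hxb
          have hrepO : rep (lab x) ∈ O := by
            have := hinv h0⁻¹ (inv_mem hh0) x0 hx0
            rw [← e0, inv_smul_smul, hlab] at this
            exact this
          rw [← e]
          exact hinv h hh _ hrepO
    have h0bit : s.testBit 0 = true := by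
      rw [hbits]
      exact ⟨by have := hlt c0 hc0; omega, c0, hb1O, hb1⟩
    rw [hOeq] at hdvd
    rcases hblk s hs h0bit hdvd with h1 | h1
    · exfalso
      obtain ⟨y, hyO, hyne⟩ := hex
      rw [hOeq, Set.mem_ofPred_eq, h1] at hyO
      have : lab y = 0 := by
        by_contra hc
        have : (1 : ℕ).testBit (lab y) = false := by
          rw [show (1 : ℕ) = 2 ^ 0 from rfl, Nat.testBit_two_pow]
          simp
          omega
        rw [this] at hyO
        exact absurd hyO.2 (by simp)
      exact hyne (hlab0 y hyO.1 this)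
    · rw [hOeq]
      ext x
      rw [Set.mem_ofPred_eq, Set.mem_ofPred_eq, h1, Nat.testBit_two_pow_sub_one]
      constructor
      · exact fun h => h.1
      · exact fun h => ⟨h, decide_eq_true (hlt x h)⟩
  have hmemp : ∀ (N : Subgroup T) [N.Normal], N ≠ ⊥ → ∀ c : T, c ^ p = 1 → c ∈ N := by
    intro N hN hne c hc
    have horb' := horbN N hne
    have hdiv : k ∣ Nat.card N := by
      have h1 : (MulAction.stabilizer N c0).index = (MulAction.orbit N c0).ncard :=
        MulAction.index_stabilizer N c0
      rw [horb', hk] at h1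
      have h2 := Subgroup.index_dvd_card (MulAction.stabilizer N c0)
      rw [h1] at h2
      exact h2
    have hcardq : Nat.card (T ⧸ N) * Nat.card N = k * m := by
      rw [← hcard]
      exact (Subgroup.card_eq_card_quotient_mul_card_subgroup N).symm
    have hcopq : Nat.Coprime (Nat.card (T ⧸ N)) p := by
      obtain ⟨t, ht⟩ := hdiv
      rw [ht] at hcardq
      have h6 : Nat.card (T ⧸ N) * t = m := by
        have : k * (Nat.card (T ⧸ N) * t) = k * m := by
          rw [← hcardq]; ring
        exact Nat.eq_of_mul_eq_mul_left hkpos this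
      have hd : Nat.card (T ⧸ N) ∣ m := Dvd.intro _ h6
      exact Nat.Coprime.coprime_dvd_left hd hcop
    have hq : (QuotientGroup.mk c : T ⧸ N) ^ p = 1 := by
      rw [← QuotientGroup.mk_pow, hc]
      rfl
    have hq2 : (QuotientGroup.mk c : T ⧸ N) ^ Nat.card (T ⧸ N) = 1 := pow_card_eq_one'
    have ho1 := orderOf_dvd_of_pow_eq_one hq
    have ho2 := orderOf_dvd_of_pow_eq_one hq2
    have : orderOf (QuotientGroup.mk c : T ⧸ N) ∣ 1 := by
      have := Nat.dvd_gcd ho2 ho1
      rwa [hcopq] at this
    have h1 : (QuotientGroup.mk c : T ⧸ N) = 1 := by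
      rw [← orderOf_eq_one_iff]
      exact Nat.dvd_one.mp this
    exact (QuotientGroup.eq_one_iff c).mp h1
  have hnt : Nontrivial T := by
    rw [← Finite.one_lt_card_iff_nontrivial, hcard]
    exact hbig
  refine ⟨?_⟩
  intro N hN
  by_cases hne : N = ⊥
  · exact Or.inl hne
  · right
    have ha_mem : a ∈ T := by rw [hT]; exact Subgroup.subset_closure (by simp)
    have hb_mem : b ∈ T := by rw [hT]; exact Subgroup.subset_closure (by simp)
    have hA : (⟨a, ha_mem⟩ : T) ∈ N := hmemp N hne _ (by
      apply Subtype.ext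
      show a ^ p = 1
      exact hap)
    have hB : (⟨b, hb_mem⟩ : T) ∈ N := hmemp N hne _ (by
      apply Subtype.ext
      show b ^ p = 1
      exact hbp)
    rw [Subgroup.eq_top_iff']
    rintro ⟨g, hg⟩
    have hg' : g ∈ Subgroup.closure {a, b} := hT ▸ hg
    have key : ∀ (g : Equiv.Perm (Fin n)) (hg' : g ∈ Subgroup.closure {a, b}) (hg : g ∈ T),
        (⟨g, hg⟩ : T) ∈ N := by
      intro g hg'
      induction hg' using Subgroup.closure_induction with
      | mem x hx =>
        intro hg
        rcases hx with rfl | rfl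
        · exact hA
        · exact hB
      | one => intro hg; exact one_mem N
      | mul x y hx hy ihx ihy =>
        intro hg
        have hx' : x ∈ T := hT ▸ hx
        have hy' : y ∈ T := hT ▸ hy
        have : (⟨x * y, hg⟩ : T) = ⟨x, hx'⟩ * ⟨y, hy'⟩ := rfl
        rw [this]
        exact mul_mem (ihx hx') (ihy hy')
      | inv x hx ih =>
        intro hg
        have hx' : x ∈ T := hT ▸ hx
        have : (⟨x⁻¹, hg⟩ : T) = (⟨x, hx'⟩ : T)⁻¹ := rfl
        rw [this]
        exact inv_mem (ih hx')
    exact key g hg' hg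

end Cfsg.Agent.Lib.Helper18.SimpleCert
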