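import Mathlib
import Cfsg.Agent.Lib.Helper18.SimpleCert3
import Cfsg.Agent.Lib.Helper18.SS6
import Cfsg.Agent.Lib.Helper18.RuMain
import Cfsg.Agent.Lib.Helper18.RuCheckT1
import Cfsg.Agent.Lib.Helper18.RuChainT
import Cfsg.Agent.Lib.Helper18.RuCheckT2

/-! The Tits group inside the point stabiliser of the Rudvalis group on 4060 points. -/

namespace Cfsg.Agent.Lib.Helper18.Ru
open Cfsg.Agent.Lib.Helper18.SS

noncomputable def pTA : P := toPerm 12 4060 ctA
noncomputable def pTB : P := toPerm 12 4060 ctB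
noncomputable def T0 : Subgroup P := Subgroup.closure {pTA, pTB}

theorem vTA : Valid 12 4060 ctA := (powOKf_sound chk_powTA).1
theorem vTB : Valid 12 4060 ctB := (powOKf_sound chk_powTB).1
theorem pTA_pow : pTA ^ 13 = 1 := (powOKf_sound chk_powTA).2
theorem pTB_pow : pTB ^ 13 = 1 := (powOKf_sound chk_powTB).2
theorem pTA_mem : pTA ∈ T0 := Subgroup.subset_closure (by simp)
theorem pTB_mem : pTB ∈ T0 := Subgroup.subset_closure (by simp)

theorem T0_le_G : T0 ≤ G := by
  rw [T0, Subgroup.closure_le]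
  have h := chk_tin
  rw [Bool.and_eq_true, List.any_eq_true, List.any_eq_true] at h
  obtain ⟨⟨e1, he1, h1⟩, ⟨e2, he2, h2⟩⟩ := h
  rw [beq_iff_eq] at h1 h2
  intro g hg
  rcases hg with rfl | rfl
  · show toPerm 12 4060 ctA ∈ G
    rw [← h1]; exact (slp_mem e1 he1).2
  · show toPerm 12 4060 ctB ∈ G
    rw [← h2]; exact (slp_mem e2 he2).2

theorem T0_le_K : T0 ≤ K := le_trans T0_le_G G_le_K

theorem tmem0 : MemAll T0 tprev0 := by
  intro c hc
  have hc' : c ∈ [ctA, ctB] := hc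
  simp only [List.mem_cons, List.not_mem_nil, or_false] at hc'
  rcases hc' with rfl | rfl
  · exact ⟨vTA, pTA_mem⟩
  · exact ⟨vTB, pTB_mem⟩

theorem tst0 : MemAllE T0 tslpC0 ∧ MemAll T0 tprev1 := slp_step T0 tprev0 tslpC0 tmem0 chk_tslp0
theorem tst1 : MemAllE T0 tslpC1 ∧ MemAll T0 tprev2 := slp_step T0 tprev1 tslpC1 tst0.2 chk_tslp1
theorem tst2 : MemAllE T0 tslpC2 ∧ MemAll T0 tprev3 := slp_step T0 tprev2 tslpC2 tst1.2 chk_tslp2
theorem tst3 : MemAllE T0 tslpC3 ∧ MemAll T0 tprev4 := slp_step T0 tprev3 tslpC3 tst2.2 chk_tslp3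
theorem tst4 : MemAllE T0 tslpC4 ∧ MemAll T0 tprev5 := slp_step T0 tprev4 tslpC4 tst3.2 chk_tslp4
theorem tst5 : MemAllE T0 tslpC5 ∧ MemAll T0 tprev6 := slp_step T0 tprev5 tslpC5 tst4.2 chk_tslp5
theorem tst6 : MemAllE T0 tslpC6 ∧ MemAll T0 tprev7 := slp_step T0 tprev6 tslpC6 tst5.2 chk_tslp6
theorem tst7 : MemAllE T0 tslpC7 ∧ MemAll T0 tprev8 := slp_step T0 tprev7 tslpC7 tst6.2 chk_tslp7

theorem tslp_mem : MemAllE T0 tslpAll := by
  intro e he
  have he' : e ∈ tslpC0 ++ tslpC1 ++ tslpC2 ++ tslpC3 ++ tslpC4 ++ tslpC5 ++ tslpC6 ++ tslpC7 := he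
  simp only [List.mem_append] at he'
  rcases he' with ((((((h | h) | h) | h) | h) | h) | h) | h
  · exact tst0.1 e h
  · exact tst1.1 e h
  · exact tst2.1 e h
  · exact tst3.1 e h
  · exact tst4.1 e h
  · exact tst5.1 e h
  · exact tst6.1 e h
  · exact tst7.1 e h

theorem tgens_mem : ∀ p ∈ cpairs tchainS, toPerm 12 4060 p.1 ∈ T0 := by
  intro p hp
  have h := chk_tstrong
  rw [List.all_eq_true] at h
  have h := h p hp
  simp only [Bool.or_eq_true, beq_iff_eq, List.any_eq_true] at h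
  rcases h with (h | h) | ⟨e, he, h⟩
  · rw [h]; exact pTA_mem
  · rw [h]; exact pTB_mem
  · rw [← h]; exact (tslp_mem e he).2

theorem tmain : ConsOK tchainS ∧ CFacts 12 4060 K [] tchainS ∧ Good (absC2 12 4060 tchainS) :=
  chainOK2_sound K allB hdet tchainS [] chk_tcover (fun p hp => T0_le_K (tgens_mem p hp)) chk_tchain

theorem tgood : Good (absC2 12 4060 tchainS) := tmain.2.2
theorem tgoodR : Good (absC2 12 4060 tchainR) := tgood.1
theorem tgoodT : Good (absC2 12 4060 tchainT) := tgoodR.1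

theorem tgrp_eq : grp (absC2 12 4060 tchainS) = T0 := by
  apply le_antisymm
  · rw [grp, Subgroup.closure_le]
    intro g hg
    have hg' : g ∈ gensOf (absC2 12 4060 tchainS) := hg
    rw [gensOf_abs2 tmain.1, List.mem_map] at hg'
    obtain ⟨p, hp, rfl⟩ := hg'
    exact tgens_mem p hp
  · rw [T0, Subgroup.closure_le]
    intro g hg
    apply Subgroup.subset_closure
    show g ∈ gensOf (absC2 12 4060 tchainS)
    rw [gensOf_abs2 tmain.1, List.mem_map]
    rcases hg with rfl | rfl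
    · refine ⟨(ctA, ctAi), ?_, rfl⟩
      show (ctA, ctAi) ∈ tlvl1.P
      exact List.mem_cons_self
    · refine ⟨(ctB, ctBi), ?_, rfl⟩
      show (ctB, ctBi) ∈ tlvl1.P
      exact List.mem_cons_of_mem _ List.mem_cons_self

theorem card_T0 : Nat.card T0 = 17971200 := by
  rw [← tgrp_eq, card_grp tgood, abs_lengths, chk_tcard]

/-- every element of the Tits subgroup fixes the point `0` -/
theorem T0_fix0 : ∀ g ∈ T0, g (0 : Fin 4060) = 0 := by
  have hle : T0 ≤ MulAction.stabilizer P (0 : Fin 4060) := by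
    rw [T0, Subgroup.closure_le]
    have h := chk_tfix0
    rw [Bool.and_eq_true] at h
    intro g hg
    rcases hg with rfl | rfl
    · show toPerm 12 4060 ctA • (0 : Fin 4060) = 0
      apply Fin.ext
      show ((toPerm 12 4060 ctA (0 : Fin 4060) : Fin 4060) : ℕ) = 0
      rw [toPerm_val vTA]
      exact Nat.eq_of_beq_eq_true h.1
    · show toPerm 12 4060 ctB • (0 : Fin 4060) = 0
      apply Fin.ext
      show ((toPerm 12 4060 ctB (0 : Fin 4060) : Fin 4060) : ℕ) = 0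
      rw [toPerm_val vTB]
      exact Nat.eq_of_beq_eq_true h.2
  intro g hg
  exact hle hg

def tb1 : Fin 4060 := Fin.ofNat 4060 tlvl1.b
def tc0 : Fin 4060 := Fin.ofNat 4060 tlvl2.b

theorem tb1_eq : tb1 = 0 := by
  apply Fin.ext
  show tlvl1.b % 4060 = 0
  rw [chk_tb1z]

/-- the Tits subgroup is generated by the levels from the second on -/
theorem T0_eq_R : grp (absC2 12 4060 tchainR) = T0 := by
  apply le_antisymm
  · rw [← tgrp_eq]; exact grp_mono _ _
  · intro g hg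
    have hg' : g ∈ grp (absL2 12 4060 tlvl1 :: absC2 12 4060 tchainR) := by
      have : g ∈ grp (absC2 12 4060 tchainS) := by rw [tgrp_eq]; exact hg
      exact this
    refine stab_mem (l := absL2 12 4060 tlvl1) (r := absC2 12 4060 tchainR) tgood hg' ?_
    show g • tb1 = tb1
    rw [tb1_eq]
    exact T0_fix0 g hg

/-- the subgroup fixing the base point of the orbit -/
noncomputable def HT : Subgroup P := grp (absC2 12 4060 tchainT)

theorem HT_le : HT ≤ T0 := by
  rw [← T0_eq_R]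
  exact grp_mono _ _

theorem HT_fix {h : P} (hh : h ∈ HT) : h • tc0 = tc0 :=
  grp_fixes (l := absL2 12 4060 tlvl2) (r := absC2 12 4060 tchainT) tgoodR hh

theorem tlf2 : LFacts 12 4060 K [tlvl1.b] tlvl2 := tmain.2.1.2.1
theorem tlf3 : LFacts 12 4060 K ([tlvl1.b] ++ [tlvl2.b]) tlvl3 := tmain.2.1.2.2.1

/-- membership in the orbit of 1755 points -/
def inΩ (x : Fin 4060) : Prop := inOrb 4060 tlvl2 x.val = true

theorem tc0_in : inΩ tc0 := by
  show inOrb 4060 tlvl2 (tlvl2.b % 4060) = true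
  rw [Nat.mod_eq_of_lt chk_tb2]
  have h := chk_tallB
  decide +kernel

theorem ttrans : ∀ x, inΩ x → ∃ g ∈ T0, g • tc0 = x := by
  intro x hx
  have hU : ∀ u ∈ (absL2 12 4060 tlvl2).U,
      u ∈ grp (absL2 12 4060 tlvl2 :: absC2 12 4060 tchainT) := tgoodR.2.2.1
  have hmem : evalP 12 4060 (wordL 12 tlvl2 x.val) ∈ T0 := by
    rw [← T0_eq_R]
    exact hU _ (mem_absU 12 4060 tlvl2 x.2 hx)
  refine ⟨_, hmem, ?_⟩
  apply Fin.ext
  show ((evalP 12 4060 (wordL 12 tlvl2 x.val) (Fin.ofNat 4060 tlvl2.b : Fin 4060) : Fin 4060) : ℕ)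
    = x.val
  rw [ofNat_eq chk_tb2, evalP_val (fun c hc => (wordL_codes tlf2 x.val c hc).1)]
  exact tlf2.img x.val hx

theorem tinvΩ : ∀ g ∈ T0, inΩ (g • tc0) := by
  intro g hg
  have hg' : g ∈ grp (absL2 12 4060 tlvl2 :: absC2 12 4060 tchainT) := by
    have : g ∈ grp (absC2 12 4060 tchainR) := by rw [T0_eq_R]; exact hg
    exact this
  have hs := mem_sifts (ch := absL2 12 4060 tlvl2 :: absC2 12 4060 tchainT) tgoodR hg'
  cases hs with
  | cons _ _ u _ hu hsu =>
    have m1 : u⁻¹ * g ∈ grp (absC2 12 4060 tchainT) := sifts_mem tgoodT hsu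
    have hfix : (u⁻¹ * g) • tc0 = tc0 := HT_fix m1
    have hgu : g • tc0 = u • tc0 := by
      rw [mul_smul, inv_smul_eq_iff] at hfix
      exact hfix
    rw [hgu]
    obtain ⟨y, _, hy, rfl⟩ := of_mem_absU 12 4060 tlvl2 hu
    show inOrb 4060 tlvl2 ((evalP 12 4060 (wordL 12 tlvl2 y) (Fin.ofNat 4060 tlvl2.b : Fin 4060) : Fin 4060) : ℕ) = true
    rw [ofNat_eq chk_tb2, evalP_val (fun c hc => (wordL_codes tlf2 y c hc).1), tlf2.img y hy]
    exact hy

theorem tfaith : ∀ g ∈ T0, (∀ x, inΩ x → g • x = x) → g = 1 := by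
  intro g hg hfix
  apply hdet g (T0_le_K hg)
  intro f hf hlt
  have h := chk_tallB
  rw [List.all_eq_true] at h
  have h1 := h f hf
  rw [Bool.or_eq_true] at h1
  rcases h1 with h1 | h1
  · have e : (⟨f, hlt⟩ : Fin 4060) = 0 := by
      apply Fin.ext
      exact Nat.eq_of_beq_eq_true h1
    rw [e]
    exact T0_fix0 g hg
  · exact hfix ⟨f, hlt⟩ h1

/-- the label of the suborbit of a point -/
def tlab (x : Fin 4060) : ℕ := fld 4 tlabT x.val

/-- the representative of a suborbit -/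
def trep (k : ℕ) : Fin 4060 := Fin.ofNat 4060 (trepOf k)

theorem trepOf_lt (k : ℕ) : trepOf k < 4060 := by
  by_cases hk : k < 5
  · exact chk_treps k hk
  · have : trepOf k = 0 := by
      unfold trepOf treps
      exact List.getD_eq_default _ _ (by simp; omega)
    rw [this]
    norm_num

theorem tc0_val : tc0.val = tlvl2.b := Nat.mod_eq_of_lt chk_tb2

theorem torbAll : ∀ x : Fin 4060, inΩ x → x ≠ tc0 → ∃ h ∈ HT, h • trep (tlab x) = x := by
  intro x hxΩ hx
  have hcons : ConsOK tchainT := tmain.1.2.2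
  have hcodes : ∀ c ∈ wordTo 12 tlvl3.P tgt tpt (trepOf (tlab x)) tfuel x.val,
      ∃ p ∈ tlvl3.P, c = p.1 := by
    intro c hc
    obtain ⟨p, hp, rfl⟩ := wordTo_mem tlvl3.P tgt tpt (trepOf (tlab x)) tfuel x.val c hc
    exact ⟨p, hp, rfl⟩
  have hmem : evalP 12 4060 (wordTo 12 tlvl3.P tgt tpt (trepOf (tlab x)) tfuel x.val) ∈ HT := by
    apply evalP_mem
    intro c hc
    obtain ⟨p, hp, rfl⟩ := hcodes c hc
    apply Subgroup.subset_closure
    show toPerm 12 4060 p.1 ∈ gensOf (absC2 12 4060 tchainT)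
    rw [gensOf_abs2 hcons]
    exact List.mem_map.mpr ⟨p, hp, rfl⟩
  refine ⟨_, hmem, ?_⟩
  apply Fin.ext
  show ((evalP 12 4060 (wordTo 12 tlvl3.P tgt tpt (trepOf (tlab x)) tfuel x.val)
    (Fin.ofNat 4060 (trepOf (tlab x)) : Fin 4060) : Fin 4060) : ℕ) = x.val
  have hval : ∀ c ∈ wordTo 12 tlvl3.P tgt tpt (trepOf (tlab x)) tfuel x.val, Valid 12 4060 c := by
    intro c hc
    obtain ⟨p, hp, rfl⟩ := hcodes c hc
    exact (tlf3.pairs p hp).1
  rw [ofNat_eq (trepOf_lt _), evalP_val hval, ← evalF_eq]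
  have h1 := chk_torb
  rw [loopAll_iff] at h1
  have h2 := h1 x.val x.2
  rw [Bool.or_eq_true, Bool.or_eq_true] at h2
  rcases h2 with (h2 | h2) | h2
  · exfalso
    have hxΩ' : inOrb 4060 tlvl2 x.val = true := hxΩ
    rw [hxΩ'] at h2
    exact absurd h2 (by simp)
  · exfalso
    apply hx
    apply Fin.ext
    rw [Nat.eq_of_beq_eq_true h2]
    exact tc0_val.symm
  · exact Nat.eq_of_beq_eq_true h2

theorem tlab_c0 : tlab tc0 = 0 := by
  show fld 4 tlabT tc0.val = 0
  rw [tc0_val]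
  exact chk_tlab0

theorem tlab_facts (x : Fin 4060) (hxΩ : inΩ x) : tlab x < 5 ∧ (tlab x = 0 → x = tc0) := by
  have h1 := chk_tlab
  rw [loopAll_iff] at h1
  have h2 := h1 x.val x.2
  have hxΩ' : inOrb 4060 tlvl2 x.val = true := hxΩ
  rw [hxΩ'] at h2
  simp only [Bool.not_true, Bool.false_or, Bool.and_eq_true, Nat.blt_eq, Bool.or_eq_true] at h2
  refine ⟨h2.1, ?_⟩
  intro h0
  rcases h2.2 with h3 | h3
  · apply Fin.ext
    rw [Nat.eq_of_beq_eq_true h3]
    exact tc0_val.symm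
  · exfalso
    have : Nat.beq (fld 4 tlabT x.val) 0 = true := by
      show Nat.beq (tlab x) 0 = true
      rw [h0]
      rfl
    rw [this] at h3
    exact absurd h3 (by simp)

theorem tk : Set.ncard {x : Fin 4060 | inΩ x} = 1755 := by
  have e : {x : Fin 4060 | inΩ x} = {x : Fin 4060 | inOrb 4060 tlvl2 x.val = true} := rfl
  rw [e, SimpleCert.ncard_fin_pred, chk_tk]

theorem tblk : ∀ s < 2 ^ 5, s.testBit 0 = true →
    Set.ncard {x : Fin 4060 | inΩ x ∧ s.testBit (tlab x) = true} ∣ 1755 * 10240 →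
    s = 1 ∨ s = 2 ^ 5 - 1 := by
  intro s hs h0 hd
  have e : {x : Fin 4060 | inΩ x ∧ s.testBit (tlab x) = true}
      = {x : Fin 4060 | tlabq s x.val = true} := by
    ext x
    simp only [Set.mem_ofPred_eq, tlabq, Bool.and_eq_true]
    rfl
  rw [e, SimpleCert.ncard_fin_pred] at hd
  have hs' : s < 32 := by
    have : (2 : ℕ) ^ 5 = 32 := by norm_num
    rw [this] at hs
    exact hs
  have hq0 := chk_tblkQ
  rw [loopAll_iff] at hq0
  have hq := hq0 s hs'
  have e2 : (2 : ℕ) ^ 5 - 1 = 31 := by norm_num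
  rw [e2]
  rw [tblkQ, Bool.or_eq_true, Bool.or_eq_true, Bool.or_eq_true] at hq
  rcases hq with ((hq | hq) | hq) | hq
  · rw [h0] at hq
    exact absurd hq (by simp)
  · exfalso
    have e3 : (1755 : ℕ) * 10240 = 17971200 := by norm_num
    rw [e3] at hd
    have hm : Nat.mod 17971200 (List.filter (tlabq s) (List.range 4060)).length = 0 :=
      Nat.mod_eq_zero_of_dvd hd
    rw [hm] at hq
    exact absurd hq (by simp)
  · exact Or.inl (Nat.eq_of_beq_eq_true hq)
  · exact Or.inr (Nat.eq_of_beq_eq_true hq)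

theorem T0_simple : IsSimpleGroup T0 := by
  refine SimpleCert.simple_rel T0 HT pTA pTB 13 10240 1755 rfl pTA_pow pTB_pow
    (by rw [card_T0]) (by norm_num) (by norm_num) (by norm_num) inΩ tk tc0 tc0_in ttrans tinvΩ
    tfaith HT_le (fun h hh => HT_fix hh) 5 tlab trep tlab_c0
    (fun x hx => (tlab_facts x hx).2) (fun x hx => (tlab_facts x hx).1) torbAll tblk

end Cfsg.Agent.Lib.Helper18.Ru
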