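import Mathlib
import Cfsg.Agent.Lib.Helper18.SS4

/-!
# Sparse invariant graphs and colour refinement

A graph given by packed neighbour lists, its automorphism group, a check that a coded
permutation preserves it, and a colour refinement certificate showing that an automorphism
fixing a few vertices is trivial.
-/

namespace Cfsg.Agent.Lib.Helper18.SS

/-- list built from a table of values (in reverse order) -/
noncomputable def tabL (f : ℕ → ℕ) (d : ℕ) : List ℕ := Nat.rec [] (fun i ih => f i :: ih) d

theorem mem_tabL {f : ℕ → ℕ} {d u : ℕ} : u ∈ tabL f d ↔ ∃ i < d, f i = u := by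
  induction d with
  | zero => simp [tabL]
  | succ k ih =>
    have e : tabL f (k + 1) = f k :: tabL f k := rfl
    rw [e, List.mem_cons, ih]
    constructor
    · rintro (h | ⟨i, hi, h⟩)
      · exact ⟨k, Nat.lt_succ_self k, h.symm⟩
      · exact ⟨i, Nat.lt_succ_of_lt hi, h⟩
    · rintro ⟨i, hi, h⟩
      rcases Nat.lt_succ_iff_lt_or_eq.mp hi with hi | rfl
      · exact Or.inr ⟨i, hi, h⟩
      · exact Or.inl h.symm

/-- kernel-friendly `List.all` -/
noncomputable def allL (p : ℕ → Bool) : List ℕ → Bool :=
  fun L => List.rec true (fun u _ ih => Bool.rec false ih (p u)) L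

theorem allL_iff {p : ℕ → Bool} : ∀ {L : List ℕ}, allL p L = true ↔ ∀ u ∈ L, p u = true
  | [] => by simp [allL]
  | a :: L => by
    have e : allL p (a :: L) = Bool.rec false (allL p L) (p a) := rfl
    rw [e]
    cases hp : p a with
    | false =>
      constructor
      · intro h; exact absurd h (by simp)
      · intro h
        have := h a List.mem_cons_self
        rw [hp] at this
        exact absurd this (by simp)
    | true =>
      show allL p L = true ↔ _
      rw [allL_iff]
      constructor
      · intro h u hu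
        rcases List.mem_cons.mp hu with rfl | hu
        · exact hp
        · exact h u hu
      · intro h u hu
        exact h u (List.mem_cons_of_mem _ hu)

/-- mask of the values of `f` on a list -/
noncomputable def maskF (f : ℕ → ℕ) : List ℕ → ℕ :=
  fun L => List.rec 0 (fun u _ ih => Nat.lor ih (Nat.shiftLeft 1 (f u))) L

theorem testBit_maskF (f : ℕ → ℕ) : ∀ (L : List ℕ) (c : ℕ),
    (maskF f L).testBit c = true ↔ ∃ u ∈ L, f u = c
  | [], c => by simp [maskF]
  | a :: L, c => by
    have e : maskF f (a :: L) = Nat.lor (maskF f L) (Nat.shiftLeft 1 (f a)) := rfl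
    rw [e]
    show (maskF f L ||| 1 <<< f a).testBit c = true ↔ _
    rw [Nat.testBit_or, Nat.one_shiftLeft, Nat.testBit_two_pow, Bool.or_eq_true,
      testBit_maskF f L c, decide_eq_true_eq]
    constructor
    · rintro (⟨u, hu, h⟩ | h)
      · exact ⟨u, List.mem_cons_of_mem _ hu, h⟩
      · exact ⟨a, List.mem_cons_self, h⟩
    · rintro ⟨u, hu, h⟩
      rcases List.mem_cons.mp hu with rfl | hu
      · exact Or.inr h
      · exact Or.inl ⟨u, hu, h⟩

/-- packed neighbour row of `v` -/
def nbRow (T d fw v : ℕ) : ℕ :=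
  Nat.mod (Nat.shiftRight T (Nat.mul v (Nat.mul d fw))) (Nat.pow 2 (Nat.mul d fw))

/-- the neighbours of `v` -/
noncomputable def nbL (T d fw v : ℕ) : List ℕ :=
  (fun R => tabL (fun i => fld fw R i) d) (nbRow T d fw v)

section
variable (T d fw w n : ℕ) [NeZero n]

/-- the permutations preserving the graph -/
def KsetS : Set (Equiv.Perm (Fin n)) :=
  {g | ∀ v u : Fin n, u.1 ∈ nbL T d fw v.1 → (g u).1 ∈ nbL T d fw (g v).1}

/-- the automorphism group of the graph coded by `T` -/
noncomputable def KgrpS : Subgroup (Equiv.Perm (Fin n)) where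
  carrier := KsetS T d fw n
  mul_mem' := by
    intro a b ha hb v u h
    exact ha _ _ (hb _ _ h)
  one_mem' := by
    intro v u h
    exact h
  inv_mem' := by
    intro g hg
    have hpow : ∀ k : ℕ, g ^ k ∈ KsetS T d fw n := by
      intro k
      induction k with
      | zero => intro v u h; simpa using h
      | succ k ih =>
        intro v u h
        rw [pow_succ]
        exact ih _ _ (hg _ _ h)
    have hinv : g⁻¹ = g ^ (orderOf g - 1) := by
      have hpos : 0 < orderOf g := orderOf_pos g
      apply inv_eq_of_mul_eq_one_left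
      rw [← pow_succ, Nat.sub_add_cancel hpos, pow_orderOf_eq_one]
    rw [hinv]
    exact hpow _

/-- the check for one vertex -/
noncomputable def rowQS (c v : ℕ) : Bool :=
  (fun M => allL (fun u => Nat.beq (bitN M (lkf w n c u)) 1) (nbL T d fw v))
    (maskF (fun u => u) (nbL T d fw (lkf w n c v)))

/-- check that the coded permutation preserves the graph -/
noncomputable def autOKS (c : ℕ) : Bool := loopAll n (rowQS T d fw w n c)

/-- the listed neighbours of `v` are vertices -/
noncomputable def nbValidQ (v : ℕ) : Bool := allL (fun u => Nat.blt u n) (nbL T d fw v)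

/-- all listed neighbours are vertices -/
noncomputable def nbValid : Bool := loopAll n (nbValidQ T d fw n)

variable {T d fw w n}

theorem autOKS_sound {c : ℕ} (hv : Valid w n c) (h : autOKS T d fw w n c = true) :
    toPerm w n c ∈ KgrpS T d fw n := by
  rw [autOKS, loopAll_iff] at h
  intro v u hadj
  have h1 := h v.1 v.2
  rw [rowQS, allL_iff] at h1
  have h2 := h1 u.1 hadj
  rw [Nat.beq_eq, bitN_eq_one_iff, testBit_maskF] at h2
  obtain ⟨x, hx, hxe⟩ := h2
  rw [toPerm_val hv, toPerm_val hv]
  show lkf w n c u.1 ∈ nbL T d fw (lkf w n c v.1)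
  rw [← hxe]
  exact hx

theorem nbValid_lt (h : nbValid T d fw n = true) {v u : ℕ} (hv : v < n) (hu : u ∈ nbL T d fw v) :
    u < n := by
  rw [nbValid, loopAll_iff] at h
  have h1 := h v hv
  rw [nbValidQ, allL_iff] at h1
  have := h1 u hu
  rw [Nat.blt_eq] at this
  exact this

/-! ### Colour refinement -/

variable (T d fw n)

/-- the signature of a vertex: its colour and the set of colours of its neighbours -/
noncomputable def sigOf (cw C v : ℕ) : ℕ :=
  Nat.add (fld cw C v) (Nat.mul (Nat.pow 2 cw) (maskF (fun u => fld cw C u) (nbL T d fw v)))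

/-- the colouring `C` is invariant under `g` -/
def InvC (cw : ℕ) (g : Equiv.Perm (Fin n)) (C : ℕ) : Prop :=
  ∀ v : Fin n, fld cw C (g v).1 = fld cw C v.1

/-- the initial colouring vanishes off the fixed vertices: check at `v` -/
noncomputable def initQ (cw : ℕ) (F : List ℕ) (C v : ℕ) : Bool :=
  F.contains v || Nat.beq (fld cw C v) 0

/-- the initial colouring vanishes off the fixed vertices -/
noncomputable def initOK (cw : ℕ) (F : List ℕ) (C : ℕ) : Bool := loopAll n (initQ cw F C)

/-- one refinement step at `v`, with signatures reduced modulo `P` -/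
noncomputable def stepQ (cw P C C' v : ℕ) : Bool :=
  Nat.beq (fld cw C' v) (Nat.mod (sigOf T d fw cw C v) P)

/-- one refinement step, with signatures reduced modulo `P` -/
noncomputable def stepOK (cw P C C' : ℕ) : Bool := loopAll n (stepQ T d fw cw P C C')

/-- the signatures at positions `i`, `i + 1` of the coded sequence `piC` increase -/
noncomputable def sortedQ (w cw C piC i : ℕ) : Bool :=
  Nat.blt (sigOf T d fw cw C (lkf w n piC i)) (sigOf T d fw cw C (lkf w n piC (Nat.succ i)))

/-- the signatures along the coded sequence `piC` are strictly increasing -/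
noncomputable def sortedSig (w cw C piC : ℕ) : Bool :=
  loopAll (Nat.pred n) (sortedQ T d fw n w cw C piC)

variable {T d fw n}

theorem InvC.inv {cw : ℕ} {g : Equiv.Perm (Fin n)} {C : ℕ} (h : InvC n cw g C) :
    InvC n cw g⁻¹ C := by
  intro v
  have := h (g⁻¹ v)
  have e : g (g⁻¹ v) = v := by
    show (g * g⁻¹) v = v
    rw [mul_inv_cancel]
    rfl
  rw [e] at this
  exact this.symm

theorem init_inv {cw : ℕ} {g : Equiv.Perm (Fin n)} {F : List ℕ} {C : ℕ}
    (hF : FixesL n g F) (h : initOK n cw F C = true) : InvC n cw g C := by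
  rw [initOK, loopAll_iff] at h
  intro v
  by_cases hv : v.1 ∈ F
  · have : g v = v := hF v.1 hv v.2
    rw [this]
  · have h1 := h v.1 v.2
    have hc : F.contains v.1 = false := by
      rw [Bool.eq_false_iff]
      intro hcon
      exact hv (List.contains_iff_mem.mp hcon)
    rw [initQ, hc, Bool.false_or] at h1
    have hgv : (g v).1 ∉ F := by
      intro hcon
      have e1 : g (g v) = g v := hF (g v).1 hcon (g v).2
      have e2 : g v = v := g.injective e1
      rw [e2] at hcon
      exact hv hcon
    have h2 := h (g v).1 (g v).2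
    have hc2 : F.contains (g v).1 = false := by
      rw [Bool.eq_false_iff]
      intro hcon
      exact hgv (List.contains_iff_mem.mp hcon)
    rw [initQ, hc2, Bool.false_or] at h2
    rw [Nat.eq_of_beq_eq_true h1, Nat.eq_of_beq_eq_true h2]

theorem mask_le {cw : ℕ} {g : Equiv.Perm (Fin n)} (hg : g ∈ KgrpS T d fw n)
    (hval : nbValid T d fw n = true) {C : ℕ} (hC : InvC n cw g C) (v : Fin n) (c : ℕ)
    (h : (maskF (fun u => fld cw C u) (nbL T d fw v.1)).testBit c = true) :
    (maskF (fun u => fld cw C u) (nbL T d fw (g v).1)).testBit c = true := by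
  rw [testBit_maskF] at h ⊢
  obtain ⟨u, hu, hc⟩ := h
  have hun : u < n := nbValid_lt hval v.2 hu
  refine ⟨(g ⟨u, hun⟩).1, hg v ⟨u, hun⟩ hu, ?_⟩
  rw [← hc]
  exact hC ⟨u, hun⟩

theorem sig_inv {cw : ℕ} {g : Equiv.Perm (Fin n)} (hg : g ∈ KgrpS T d fw n)
    (hval : nbValid T d fw n = true) {C : ℕ} (hC : InvC n cw g C) (v : Fin n) :
    sigOf T d fw cw C (g v).1 = sigOf T d fw cw C v.1 := by
  have hm : maskF (fun u => fld cw C u) (nbL T d fw (g v).1)
      = maskF (fun u => fld cw C u) (nbL T d fw v.1) := by
    apply Nat.eq_of_testBit_eq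
    intro c
    rw [Bool.eq_iff_iff]
    constructor
    · intro h
      have := mask_le ((KgrpS T d fw n).inv_mem hg) hval hC.inv (g v) c h
      have e : g⁻¹ (g v) = v := by
        show (g⁻¹ * g) v = v
        rw [inv_mul_cancel]
        rfl
      rw [e] at this
      exact this
    · exact mask_le hg hval hC v c
  rw [sigOf, sigOf, hm, hC v]

theorem step_inv {cw P : ℕ} {g : Equiv.Perm (Fin n)} (hg : g ∈ KgrpS T d fw n)
    (hval : nbValid T d fw n = true) {C C' : ℕ} (hC : InvC n cw g C)
    (h : stepOK T d fw n cw P C C' = true) : InvC n cw g C' := by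
  rw [stepOK, loopAll_iff] at h
  intro v
  have h1 : fld cw C' v.1 = Nat.mod (sigOf T d fw cw C v.1) P :=
    Nat.eq_of_beq_eq_true (h v.1 v.2)
  have h2 : fld cw C' (g v).1 = Nat.mod (sigOf T d fw cw C (g v).1) P :=
    Nat.eq_of_beq_eq_true (h (g v).1 (g v).2)
  rw [h1, h2, sig_inv hg hval hC v]

theorem sorted_key_fixed {w : ℕ} {key : ℕ → ℕ} {g : Equiv.Perm (Fin n)}
    (hk : ∀ v : Fin n, key (g v).1 = key v.1) {piC : ℕ}
    (h : ∀ i, i + 1 < n → key (lkf w n piC i) < key (lkf w n piC (i + 1))) : g = 1 := by
  have hnpos : 0 < n := NeZero.pos n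
  set f : ℕ → ℕ := fun i => key (lkf w n piC i) with hf
  have hstep : ∀ i, i + 1 < n → f i < f (i + 1) := h
  have hmono : ∀ j, j < n → ∀ i, i < j → f i < f j := by
    intro j
    induction j with
    | zero => intro _ i hi; omega
    | succ j ih =>
      intro hj i hi
      rcases Nat.lt_succ_iff_lt_or_eq.mp hi with hi | rfl
      · exact lt_trans (ih (by omega) i hi) (hstep j hj)
      · exact hstep i hj
  let pi : Fin n → Fin n := fun i => ⟨lkf w n piC i.1, Nat.mod_lt _ hnpos⟩
  have hinj : Function.Injective pi := by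
    intro i j hij
    have hv : lkf w n piC i.1 = lkf w n piC j.1 := congrArg Fin.val hij
    have hfe : f i.1 = f j.1 := by simp only [hf, hv]
    apply Fin.ext
    rcases Nat.lt_trichotomy i.1 j.1 with hlt | heq | hgt
    · exact absurd hfe (ne_of_lt (hmono j.1 j.2 i.1 hlt))
    · exact heq
    · exact absurd hfe.symm (ne_of_lt (hmono i.1 i.2 j.1 hgt))
  have hsurj : Function.Surjective pi := Finite.injective_iff_surjective.mp hinj
  apply Equiv.ext
  intro v
  have hkv := hk v
  obtain ⟨i, hi⟩ := hsurj (g v)
  obtain ⟨j, hj⟩ := hsurj v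
  have e1 : lkf w n piC i.1 = (g v).1 := congrArg Fin.val hi
  have e2 : lkf w n piC j.1 = v.1 := congrArg Fin.val hj
  have hfe : f i.1 = f j.1 := by
    simp only [hf, e1, e2]
    exact hkv
  have hij : i = j := by
    apply Fin.ext
    rcases Nat.lt_trichotomy i.1 j.1 with hlt | heq | hgt
    · exact absurd hfe (ne_of_lt (hmono j.1 j.2 i.1 hlt))
    · exact heq
    · exact absurd hfe.symm (ne_of_lt (hmono i.1 i.2 j.1 hgt))
  rw [← hi, hij, hj]
  rfl

theorem sortedSig_fixed {w cw : ℕ} {g : Equiv.Perm (Fin n)} (hg : g ∈ KgrpS T d fw n)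
    (hval : nbValid T d fw n = true) {C piC : ℕ} (hC : InvC n cw g C)
    (h : sortedSig T d fw n w cw C piC = true) : g = 1 := by
  rw [sortedSig, loopAll_iff] at h
  apply sorted_key_fixed (w := w) (key := sigOf T d fw cw C) (piC := piC) (sig_inv hg hval hC)
  intro i hi
  have := h i (by rw [Nat.pred_eq_sub_one]; omega)
  rw [sortedQ, Nat.blt_eq] at this
  exact this

end

end Cfsg.Agent.Lib.Helper18.SS
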