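import Mathlib
import Cfsg.Agent.Lib.Helper18.SuzData1
import Cfsg.Agent.Lib.Helper18.SuzData3

/-! Kernel checks for the Suzuki group certificate: generator A preserves the graph, part 1. -/

set_option Elab.async false

namespace Cfsg.Agent.Lib.Helper18.Suz
open Cfsg.Agent.Lib.Helper18.SS

theorem autA_0 : loopAll 128 (fun t => rowQ 11 1782 adjM cA (Nat.add 0 t)) = true := by
  decide +kernel
theorem autA_1 : loopAll 128 (fun t => rowQ 11 1782 adjM cA (Nat.add 128 t)) = true := by
  decide +kernel
theorem autA_2 : loopAll 128 (fun t => rowQ 11 1782 adjM cA (Nat.add 256 t)) = true := by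
  decide +kernel
theorem autA_3 : loopAll 128 (fun t => rowQ 11 1782 adjM cA (Nat.add 384 t)) = true := by
  decide +kernel
theorem autA_4 : loopAll 128 (fun t => rowQ 11 1782 adjM cA (Nat.add 512 t)) = true := by
  decide +kernel
theorem autA_5 : loopAll 128 (fun t => rowQ 11 1782 adjM cA (Nat.add 640 t)) = true := by
  decide +kernel
theorem autA_6 : loopAll 128 (fun t => rowQ 11 1782 adjM cA (Nat.add 768 t)) = true := by
  decide +kernel

end Cfsg.Agent.Lib.Helper18.Suz
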