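import Mathlib
import Cfsg.Agent.Lib.Helper18.SuzData1
import Cfsg.Agent.Lib.Helper18.SuzData3

/-! Kernel checks for the Suzuki group certificate: generator B preserves the graph, part 2. -/

set_option Elab.async false

namespace Cfsg.Agent.Lib.Helper18.Suz
open Cfsg.Agent.Lib.Helper18.SS

theorem autB_7 : loopAll 128 (fun t => rowQ 11 1782 adjM cB (Nat.add 896 t)) = true := by
  decide +kernel
theorem autB_8 : loopAll 128 (fun t => rowQ 11 1782 adjM cB (Nat.add 1024 t)) = true := by
  decide +kernel
theorem autB_9 : loopAll 128 (fun t => rowQ 11 1782 adjM cB (Nat.add 1152 t)) = true := by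
  decide +kernel
theorem autB_10 : loopAll 128 (fun t => rowQ 11 1782 adjM cB (Nat.add 1280 t)) = true := by
  decide +kernel
theorem autB_11 : loopAll 128 (fun t => rowQ 11 1782 adjM cB (Nat.add 1408 t)) = true := by
  decide +kernel
theorem autB_12 : loopAll 128 (fun t => rowQ 11 1782 adjM cB (Nat.add 1536 t)) = true := by
  decide +kernel
theorem autB_13 : loopAll 118 (fun t => rowQ 11 1782 adjM cB (Nat.add 1664 t)) = true := by
  decide +kernel

end Cfsg.Agent.Lib.Helper18.Suz
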