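import Mathlib
import Cfsg.Agent.Lib.Helper18.SuzData1

/-! Kernel checks for the Suzuki group certificate: Schreier closure at level 1, part 3. -/

set_option Elab.async false

namespace Cfsg.Agent.Lib.Helper18.Suz
open Cfsg.Agent.Lib.Helper18.SS

theorem s1_sg4_1_0 : loopAll 446 (fun t => schQ 11 1782 lvl1 chainR sg4_1 (Nat.add 0 t)) = true := by
  decide +kernel
theorem s1_sg4_1_1 : loopAll 446 (fun t => schQ 11 1782 lvl1 chainR sg4_1 (Nat.add 446 t)) = true := by
  decide +kernel
theorem s1_sg4_1_2 : loopAll 446 (fun t => schQ 11 1782 lvl1 chainR sg4_1 (Nat.add 892 t)) = true := by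
  decide +kernel
theorem s1_sg4_1_3 : loopAll 444 (fun t => schQ 11 1782 lvl1 chainR sg4_1 (Nat.add 1338 t)) = true := by
  decide +kernel
theorem s1_sg4_2_0 : loopAll 446 (fun t => schQ 11 1782 lvl1 chainR sg4_2 (Nat.add 0 t)) = true := by
  decide +kernel
theorem s1_sg4_2_1 : loopAll 446 (fun t => schQ 11 1782 lvl1 chainR sg4_2 (Nat.add 446 t)) = true := by
  decide +kernel
theorem s1_sg4_2_2 : loopAll 446 (fun t => schQ 11 1782 lvl1 chainR sg4_2 (Nat.add 892 t)) = true := by
  decide +kernel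
theorem s1_sg4_2_3 : loopAll 444 (fun t => schQ 11 1782 lvl1 chainR sg4_2 (Nat.add 1338 t)) = true := by
  decide +kernel
theorem s1_sg5_1_0 : loopAll 446 (fun t => schQ 11 1782 lvl1 chainR sg5_1 (Nat.add 0 t)) = true := by
  decide +kernel
theorem s1_sg5_1_1 : loopAll 446 (fun t => schQ 11 1782 lvl1 chainR sg5_1 (Nat.add 446 t)) = true := by
  decide +kernel
theorem s1_sg5_1_2 : loopAll 446 (fun t => schQ 11 1782 lvl1 chainR sg5_1 (Nat.add 892 t)) = true := by
  decide +kernel
theorem s1_sg5_1_3 : loopAll 444 (fun t => schQ 11 1782 lvl1 chainR sg5_1 (Nat.add 1338 t)) = true := by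
  decide +kernel

end Cfsg.Agent.Lib.Helper18.Suz
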