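import Mathlib
import Cfsg.Agent.Lib.Helper18.SuzData1

/-! Kernel checks for the Suzuki group certificate: levels 2 to 7. -/

set_option Elab.async false

namespace Cfsg.Agent.Lib.Helper18.Suz
open Cfsg.Agent.Lib.Helper18.SS

theorem chk_l1a : lvlOK2a 11 1782 [] lvl1 chainR = true := by decide +kernel
theorem chk_l2a : lvlOK2a 11 1782 [0] lvl2 chainT = true := by decide +kernel
theorem s2_sg2_1 : loopAll 1782 (schQ 11 1782 lvl2 chainT sg2_1) = true := by decide +kernel
theorem s2_sg2_2 : loopAll 1782 (schQ 11 1782 lvl2 chainT sg2_2) = true := by decide +kernel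
theorem s2_sg3_1 : loopAll 1782 (schQ 11 1782 lvl2 chainT sg3_1) = true := by decide +kernel
theorem s2_sg3_2 : loopAll 1782 (schQ 11 1782 lvl2 chainT sg3_2) = true := by decide +kernel
theorem s2_sg4_1 : loopAll 1782 (schQ 11 1782 lvl2 chainT sg4_1) = true := by decide +kernel
theorem s2_sg4_2 : loopAll 1782 (schQ 11 1782 lvl2 chainT sg4_2) = true := by decide +kernel
theorem s2_sg5_1 : loopAll 1782 (schQ 11 1782 lvl2 chainT sg5_1) = true := by decide +kernel
theorem s2_sg5_2 : loopAll 1782 (schQ 11 1782 lvl2 chainT sg5_2) = true := by decide +kernel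
theorem s2_sg6_1 : loopAll 1782 (schQ 11 1782 lvl2 chainT sg6_1) = true := by decide +kernel
theorem s2_sg7_1 : loopAll 1782 (schQ 11 1782 lvl2 chainT sg7_1) = true := by decide +kernel
theorem chk_chainT : chainOK2 11 1782 [0, 1] chainT = true := by decide +kernel

end Cfsg.Agent.Lib.Helper18.Suz
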