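import Mathlib
import Cfsg.Agent.Lib.Helper18.SuzSch1_1
import Cfsg.Agent.Lib.Helper18.SuzSch1_2
import Cfsg.Agent.Lib.Helper18.SuzSch1_3
import Cfsg.Agent.Lib.Helper18.SuzSch1_4
import Cfsg.Agent.Lib.Helper18.SuzSch2

/-! The stabiliser chain check (assembly of the pieces). -/

set_option Elab.async false

namespace Cfsg.Agent.Lib.Helper18.Suz
open Cfsg.Agent.Lib.Helper18.SS

theorem sch1_cA : loopAll 1782 (schQ 11 1782 lvl1 chainR cA) = true := by
  rw [loopAll_iff]
  intro y hy
  rcases Nat.lt_or_ge y 446 with h0 | h0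
  · exact range_piece s1_cA_0 y (by omega) (by omega)
  rcases Nat.lt_or_ge y 892 with h1 | h1
  · exact range_piece s1_cA_1 y (by omega) (by omega)
  rcases Nat.lt_or_ge y 1338 with h2 | h2
  · exact range_piece s1_cA_2 y (by omega) (by omega)
  exact range_piece s1_cA_3 y (by omega) (by omega)

theorem sch1_cB : loopAll 1782 (schQ 11 1782 lvl1 chainR cB) = true := by
  rw [loopAll_iff]
  intro y hy
  rcases Nat.lt_or_ge y 446 with h0 | h0
  · exact range_piece s1_cB_0 y (by omega) (by omega)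
  rcases Nat.lt_or_ge y 892 with h1 | h1
  · exact range_piece s1_cB_1 y (by omega) (by omega)
  rcases Nat.lt_or_ge y 1338 with h2 | h2
  · exact range_piece s1_cB_2 y (by omega) (by omega)
  exact range_piece s1_cB_3 y (by omega) (by omega)

theorem sch1_sg2_1 : loopAll 1782 (schQ 11 1782 lvl1 chainR sg2_1) = true := by
  rw [loopAll_iff]
  intro y hy
  rcases Nat.lt_or_ge y 446 with h0 | h0
  · exact range_piece s1_sg2_1_0 y (by omega) (by omega)
  rcases Nat.lt_or_ge y 892 with h1 | h1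
  · exact range_piece s1_sg2_1_1 y (by omega) (by omega)
  rcases Nat.lt_or_ge y 1338 with h2 | h2
  · exact range_piece s1_sg2_1_2 y (by omega) (by omega)
  exact range_piece s1_sg2_1_3 y (by omega) (by omega)

theorem sch1_sg2_2 : loopAll 1782 (schQ 11 1782 lvl1 chainR sg2_2) = true := by
  rw [loopAll_iff]
  intro y hy
  rcases Nat.lt_or_ge y 446 with h0 | h0
  · exact range_piece s1_sg2_2_0 y (by omega) (by omega)
  rcases Nat.lt_or_ge y 892 with h1 | h1
  · exact range_piece s1_sg2_2_1 y (by omega) (by omega)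
  rcases Nat.lt_or_ge y 1338 with h2 | h2
  · exact range_piece s1_sg2_2_2 y (by omega) (by omega)
  exact range_piece s1_sg2_2_3 y (by omega) (by omega)

theorem sch1_sg3_1 : loopAll 1782 (schQ 11 1782 lvl1 chainR sg3_1) = true := by
  rw [loopAll_iff]
  intro y hy
  rcases Nat.lt_or_ge y 446 with h0 | h0
  · exact range_piece s1_sg3_1_0 y (by omega) (by omega)
  rcases Nat.lt_or_ge y 892 with h1 | h1
  · exact range_piece s1_sg3_1_1 y (by omega) (by omega)
  rcases Nat.lt_or_ge y 1338 with h2 | h2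
  · exact range_piece s1_sg3_1_2 y (by omega) (by omega)
  exact range_piece s1_sg3_1_3 y (by omega) (by omega)

theorem sch1_sg3_2 : loopAll 1782 (schQ 11 1782 lvl1 chainR sg3_2) = true := by
  rw [loopAll_iff]
  intro y hy
  rcases Nat.lt_or_ge y 446 with h0 | h0
  · exact range_piece s1_sg3_2_0 y (by omega) (by omega)
  rcases Nat.lt_or_ge y 892 with h1 | h1
  · exact range_piece s1_sg3_2_1 y (by omega) (by omega)
  rcases Nat.lt_or_ge y 1338 with h2 | h2
  · exact range_piece s1_sg3_2_2 y (by omega) (by omega)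
  exact range_piece s1_sg3_2_3 y (by omega) (by omega)

theorem sch1_sg4_1 : loopAll 1782 (schQ 11 1782 lvl1 chainR sg4_1) = true := by
  rw [loopAll_iff]
  intro y hy
  rcases Nat.lt_or_ge y 446 with h0 | h0
  · exact range_piece s1_sg4_1_0 y (by omega) (by omega)
  rcases Nat.lt_or_ge y 892 with h1 | h1
  · exact range_piece s1_sg4_1_1 y (by omega) (by omega)
  rcases Nat.lt_or_ge y 1338 with h2 | h2
  · exact range_piece s1_sg4_1_2 y (by omega) (by omega)
  exact range_piece s1_sg4_1_3 y (by omega) (by omega)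

theorem sch1_sg4_2 : loopAll 1782 (schQ 11 1782 lvl1 chainR sg4_2) = true := by
  rw [loopAll_iff]
  intro y hy
  rcases Nat.lt_or_ge y 446 with h0 | h0
  · exact range_piece s1_sg4_2_0 y (by omega) (by omega)
  rcases Nat.lt_or_ge y 892 with h1 | h1
  · exact range_piece s1_sg4_2_1 y (by omega) (by omega)
  rcases Nat.lt_or_ge y 1338 with h2 | h2
  · exact range_piece s1_sg4_2_2 y (by omega) (by omega)
  exact range_piece s1_sg4_2_3 y (by omega) (by omega)

theorem sch1_sg5_1 : loopAll 1782 (schQ 11 1782 lvl1 chainR sg5_1) = true := by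
  rw [loopAll_iff]
  intro y hy
  rcases Nat.lt_or_ge y 446 with h0 | h0
  · exact range_piece s1_sg5_1_0 y (by omega) (by omega)
  rcases Nat.lt_or_ge y 892 with h1 | h1
  · exact range_piece s1_sg5_1_1 y (by omega) (by omega)
  rcases Nat.lt_or_ge y 1338 with h2 | h2
  · exact range_piece s1_sg5_1_2 y (by omega) (by omega)
  exact range_piece s1_sg5_1_3 y (by omega) (by omega)

theorem sch1_sg5_2 : loopAll 1782 (schQ 11 1782 lvl1 chainR sg5_2) = true := by
  rw [loopAll_iff]
  intro y hy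
  rcases Nat.lt_or_ge y 446 with h0 | h0
  · exact range_piece s1_sg5_2_0 y (by omega) (by omega)
  rcases Nat.lt_or_ge y 892 with h1 | h1
  · exact range_piece s1_sg5_2_1 y (by omega) (by omega)
  rcases Nat.lt_or_ge y 1338 with h2 | h2
  · exact range_piece s1_sg5_2_2 y (by omega) (by omega)
  exact range_piece s1_sg5_2_3 y (by omega) (by omega)

theorem sch1_sg6_1 : loopAll 1782 (schQ 11 1782 lvl1 chainR sg6_1) = true := by
  rw [loopAll_iff]
  intro y hy
  rcases Nat.lt_or_ge y 446 with h0 | h0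
  · exact range_piece s1_sg6_1_0 y (by omega) (by omega)
  rcases Nat.lt_or_ge y 892 with h1 | h1
  · exact range_piece s1_sg6_1_1 y (by omega) (by omega)
  rcases Nat.lt_or_ge y 1338 with h2 | h2
  · exact range_piece s1_sg6_1_2 y (by omega) (by omega)
  exact range_piece s1_sg6_1_3 y (by omega) (by omega)

theorem sch1_sg7_1 : loopAll 1782 (schQ 11 1782 lvl1 chainR sg7_1) = true := by
  rw [loopAll_iff]
  intro y hy
  rcases Nat.lt_or_ge y 446 with h0 | h0
  · exact range_piece s1_sg7_1_0 y (by omega) (by omega)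
  rcases Nat.lt_or_ge y 892 with h1 | h1
  · exact range_piece s1_sg7_1_1 y (by omega) (by omega)
  rcases Nat.lt_or_ge y 1338 with h2 | h2
  · exact range_piece s1_sg7_1_2 y (by omega) (by omega)
  exact range_piece s1_sg7_1_3 y (by omega) (by omega)

theorem chk_l1 : lvlOK2 11 1782 [] lvl1 chainR = true := by
  rw [lvlOK2, chk_l1a, Bool.true_and, List.all_eq_true]
  intro p hp
  have hp' : p ∈ [(cA, cAi), (cB, cBi), (sg2_1, sg2_1i), (sg2_2, sg2_2i), (sg3_1, sg3_1i), (sg3_2, sg3_2i), (sg4_1, sg4_1i), (sg4_2, sg4_2i), (sg5_1, sg5_1i), (sg5_2, sg5_2i), (sg6_1, sg6_1i), (sg7_1, sg7_1i)] := hp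
  simp only [List.mem_cons, List.not_mem_nil, or_false] at hp'
  rcases hp' with rfl | rfl | rfl | rfl | rfl | rfl | rfl | rfl | rfl | rfl | rfl | rfl
  · exact sch1_cA
  · exact sch1_cB
  · exact sch1_sg2_1
  · exact sch1_sg2_2
  · exact sch1_sg3_1
  · exact sch1_sg3_2
  · exact sch1_sg4_1
  · exact sch1_sg4_2
  · exact sch1_sg5_1
  · exact sch1_sg5_2
  · exact sch1_sg6_1
  · exact sch1_sg7_1

theorem chk_l2 : lvlOK2 11 1782 [0] lvl2 chainT = true := by
  rw [lvlOK2, chk_l2a, Bool.true_and, List.all_eq_true]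
  intro p hp
  have hp' : p ∈ [(sg2_1, sg2_1i), (sg2_2, sg2_2i), (sg3_1, sg3_1i), (sg3_2, sg3_2i), (sg4_1, sg4_1i), (sg4_2, sg4_2i), (sg5_1, sg5_1i), (sg5_2, sg5_2i), (sg6_1, sg6_1i), (sg7_1, sg7_1i)] := hp
  simp only [List.mem_cons, List.not_mem_nil, or_false] at hp'
  rcases hp' with rfl | rfl | rfl | rfl | rfl | rfl | rfl | rfl | rfl | rfl
  · exact s2_sg2_1
  · exact s2_sg2_2
  · exact s2_sg3_1
  · exact s2_sg3_2
  · exact s2_sg4_1
  · exact s2_sg4_2
  · exact s2_sg5_1
  · exact s2_sg5_2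
  · exact s2_sg6_1
  · exact s2_sg7_1

theorem chk_chainR : chainOK2 11 1782 [0] chainR = true := by
  show (chainOK2 11 1782 [0, 1] chainT && lvlOK2 11 1782 [0] lvl2 chainT) = true
  rw [chk_chainT, chk_l2]
  rfl

theorem chk_chain : chainOK2 11 1782 [] chainS = true := by
  show (chainOK2 11 1782 [0] chainR && lvlOK2 11 1782 [] lvl1 chainR) = true
  rw [chk_chainR, chk_l1]
  rfl

end Cfsg.Agent.Lib.Helper18.Suz
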