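import Mathlib
import Cfsg.Agent.Lib.Helper18.SuzData1
import Cfsg.Agent.Lib.Helper18.SuzData2

/-! Kernel checks for the Suzuki group certificate, part 1: generators and the straight-line program. -/

set_option Elab.async false

namespace Cfsg.Agent.Lib.Helper18.Suz
open Cfsg.Agent.Lib.Helper18.SS

theorem chk_powA : powOKf 11 1782 cA 10 = true := by decide +kernel
theorem chk_powB : powOKf 11 1782 cB 10 = true := by decide +kernel
theorem chk_strong :
    (cpairs chainS).all (fun p => p.1 == cA || p.1 == cB || slpD.any (fun e => e.1 == p.1)) = true := by
  decide +kernel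
theorem chk_slp : slpOKf 11 1782 [cA, cB] slpD = true := by decide +kernel

end Cfsg.Agent.Lib.Helper18.Suz
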