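import Mathlib
import Cfsg.Agent.Lib.Helper18.SuzData1
import Cfsg.Agent.Lib.Helper18.SuzData3

/-! Kernel checks for the Suzuki group certificate, part 4: the base is a determining set of the graph. -/

set_option Elab.async false

namespace Cfsg.Agent.Lib.Helper18.Suz
open Cfsg.Agent.Lib.Helper18.SS

theorem chk_rounds : roundsOK adjM 1782 allB roundsD = true := by decide +kernel
theorem chk_sorted : sortedOK 11 adjM 1782 (maskOf (allB ++ roundsD.flatten)) piC = true := by
  decide +kernel

end Cfsg.Agent.Lib.Helper18.Suz
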