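import Mathlib
import Cfsg.Agent.Lib.Helper18.SuzData1

/-! Kernel checks for the Suzuki group certificate, part 5: the second suborbit and the order. -/

set_option Elab.async false

namespace Cfsg.Agent.Lib.Helper18.Suz
open Cfsg.Agent.Lib.Helper18.SS

/-- the second suborbit of the point stabiliser -/
theorem chk_orb : loopAll 1782 (fun y => Bool.rec true
    (Nat.beq (evalF 11 1782 (wordL 11 lvlO y) c0) y) (inOrb 1782 lvlO y)) = true := by
  decide +kernel

theorem chk_card : (chainS.map (fun l => ((List.range 1782).filter (inOrb 1782 l)).length)).prod
    = 448345497600 := by decide +kernel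

end Cfsg.Agent.Lib.Helper18.Suz
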