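import Mathlib
import Cfsg.Agent.Lib.Helper18.SuzData1

/-! Kernel checks for the Suzuki group certificate, part 6: suborbits of the point stabiliser. -/

namespace Cfsg.Agent.Lib.Helper18.Suz
open Cfsg.Agent.Lib.Helper18.SS

def q1B (x : ℕ) : Bool := Nat.beq x lvl1.b || inOrb 1782 lvl2 x
def q2B (x : ℕ) : Bool := Nat.beq x lvl1.b || inOrb 1782 lvlO x

theorem chk_part : loopAll 1782 (fun x => Nat.beq x lvl1.b || inOrb 1782 lvl2 x || inOrb 1782 lvlO x)
    = true := by decide +kernel
theorem chk_c1 : ((List.range 1782).filter q1B).length = 417 := by decide +kernel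
theorem chk_c2 : ((List.range 1782).filter q2B).length = 1366 := by decide +kernel
theorem chk_len1 : ((List.range 1782).filter (inOrb 1782 lvl1)).length = 1782 := by decide +kernel
theorem chk_cover : ∀ d ∈ allB, d ∈ ([] : List ℕ) ∨ d ∈ chainS.map (fun l => l.b) := by
  decide +kernel
theorem chk_b1 : lvl1.b < 1782 := by decide +kernel
theorem chk_b2 : lvl2.b < 1782 := by decide +kernel
theorem chk_c0 : c0 < 1782 := by decide +kernel
theorem chk_PO : lvlO.P = lvl2.P := by decide +kernel
theorem chk_bO : lvlO.b = c0 := by decide +kernel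

end Cfsg.Agent.Lib.Helper18.Suz
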