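import Mathlib
import Cfsg.Agent.Lib.Helper18.SimpleCert
import Cfsg.Agent.Lib.Helper18.SuzCheck1
import Cfsg.Agent.Lib.Helper18.SuzAut
import Cfsg.Agent.Lib.Helper18.SuzChain
import Cfsg.Agent.Lib.Helper18.SuzCheck4
import Cfsg.Agent.Lib.Helper18.SuzCheck5
import Cfsg.Agent.Lib.Helper18.SuzCheck6

/-! The Suzuki group on 1782 points: order and simplicity from the verified certificate. -/

namespace Cfsg.Agent.Lib.Helper18.Suz
open Cfsg.Agent.Lib.Helper18.SS

abbrev P := Equiv.Perm (Fin 1782)

noncomputable def pA : P := toPerm 11 1782 cA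
noncomputable def pB : P := toPerm 11 1782 cB
noncomputable def G : Subgroup P := Subgroup.closure {pA, pB}
noncomputable def K : Subgroup P := Kgrp 1782 adjM

theorem vA : Valid 11 1782 cA := (powOKf_sound chk_powA).1
theorem vB : Valid 11 1782 cB := (powOKf_sound chk_powB).1
theorem pA_pow : pA ^ 11 = 1 := (powOKf_sound chk_powA).2
theorem pB_pow : pB ^ 11 = 1 := (powOKf_sound chk_powB).2
theorem pA_mem : pA ∈ G := Subgroup.subset_closure (by simp)
theorem pB_mem : pB ∈ G := Subgroup.subset_closure (by simp)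

theorem G_le_K : G ≤ K := by
  rw [G, Subgroup.closure_le]
  intro g hg
  rcases hg with rfl | rfl
  · exact autOK_sound vA chk_autA
  · exact autOK_sound vB chk_autB

theorem slp_mem : ∀ e ∈ slpD, Valid 11 1782 e.1 ∧ toPerm 11 1782 e.1 ∈ G :=
  slpOK_sound G slpD [cA, cB] (by
    intro c hc
    simp only [List.mem_cons, List.not_mem_nil, or_false] at hc
    rcases hc with rfl | rfl
    · exact ⟨vA, pA_mem⟩
    · exact ⟨vB, pB_mem⟩) (slpOKf_sound _ _ chk_slp)

theorem gens_mem : ∀ p ∈ cpairs chainS, toPerm 11 1782 p.1 ∈ G := by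
  intro p hp
  have h := chk_strong
  rw [List.all_eq_true] at h
  have h := h p hp
  simp only [Bool.or_eq_true, beq_iff_eq, List.any_eq_true] at h
  rcases h with (h | h) | ⟨e, he, h⟩
  · rw [h]; exact pA_mem
  · rw [h]; exact pB_mem
  · rw [← h]; exact (slp_mem e he).2

theorem hdet : ∀ g ∈ K, FixesL 1782 g allB → g = 1 := by
  intro g hg hF
  exact sorted_fixed hg (rounds_fixed hg roundsD allB hF chk_rounds) chk_sorted

theorem main : ConsOK chainS ∧ CFacts 11 1782 K [] chainS ∧ Good (absC2 11 1782 chainS) :=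
  chainOK2_sound K allB hdet chainS [] chk_cover (fun p hp => G_le_K (gens_mem p hp)) chk_chain

theorem good : Good (absC2 11 1782 chainS) := main.2.2
theorem goodR : Good (absC2 11 1782 chainR) := good.1

theorem grp_eq : grp (absC2 11 1782 chainS) = G := by
  apply le_antisymm
  · rw [grp, Subgroup.closure_le]
    intro g hg
    have hg' : g ∈ gensOf (absC2 11 1782 chainS) := hg
    rw [gensOf_abs2 main.1, List.mem_map] at hg'
    obtain ⟨p, hp, rfl⟩ := hg'
    exact gens_mem p hp
  · rw [G, Subgroup.closure_le]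
    intro g hg
    apply Subgroup.subset_closure
    show g ∈ gensOf (absC2 11 1782 chainS)
    rw [gensOf_abs2 main.1, List.mem_map]
    rcases hg with rfl | rfl
    · refine ⟨(cA, cAi), ?_, rfl⟩
      show (cA, cAi) ∈ lvl1.P
      exact List.mem_cons_self
    · refine ⟨(cB, cBi), ?_, rfl⟩
      show (cB, cBi) ∈ lvl1.P
      exact List.mem_cons_of_mem _ List.mem_cons_self

theorem abs_lengths (ch : List CLvl2) :
    (absC2 11 1782 ch).map (fun l => l.U.length)
      = ch.map (fun l => ((List.range 1782).filter (inOrb 1782 l)).length) := by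
  simp [absC2, absL2, List.map_map, Function.comp_def]

theorem card_G : Nat.card G = 448345497600 := by
  rw [← grp_eq, card_grp good, abs_lengths, chk_card]

/-- the subgroup fixing the first base point -/
noncomputable def H : Subgroup P := grp (absC2 11 1782 chainR)

theorem H_le : H ≤ G := by
  rw [← grp_eq]
  exact grp_mono _ _

def b1 : Fin 1782 := Fin.ofNat 1782 lvl1.b
def b2 : Fin 1782 := Fin.ofNat 1782 lvl2.b
def c0' : Fin 1782 := Fin.ofNat 1782 c0

theorem H_fix {h : P} (hh : h ∈ H) : h • b1 = b1 :=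
  grp_fixes (l := absL2 11 1782 lvl1) (r := absC2 11 1782 chainR) good hh

theorem covers {α : Type*} [Fintype α] [DecidableEq α] (L : List α) (hnd : L.Nodup)
    (hlen : L.length = Fintype.card α) : ∀ x, x ∈ L := by
  intro x
  have : L.toFinset = Finset.univ :=
    Finset.eq_univ_of_card _ (by rw [List.toFinset_card_of_nodup hnd, hlen])
  have hx : x ∈ L.toFinset := this ▸ Finset.mem_univ x
  exact List.mem_toFinset.mp hx

theorem G_trans : ∀ x : Fin 1782, ∃ g ∈ G, g • b1 = x := by
  intro x
  have hnd := good.2.2.2.2.1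
  have hx := covers _ hnd (by
    show (((absL2 11 1782 lvl1).U.map _).length = Fintype.card (Fin 1782))
    simp [absL2, chk_len1]) x
  rw [List.mem_map] at hx
  obtain ⟨u, hu, rfl⟩ := hx
  refine ⟨u, ?_, rfl⟩
  rw [← grp_eq]
  exact good.2.2.1 u hu

theorem lf2 : LFacts 11 1782 K [lvl1.b] lvl2 := main.2.1.2.1

theorem orb1 : ∀ x : Fin 1782, inOrb 1782 lvl2 x.val = true → ∃ h ∈ H, h • b2 = x := by
  intro x hx
  have hU : ∀ u ∈ (absL2 11 1782 lvl2).U, u ∈ grp (absL2 11 1782 lvl2 :: absC2 11 1782 chainT) :=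
    goodR.2.2.1
  have hmem : evalP 11 1782 (wordL 11 lvl2 x.val) ∈ H := hU _ (mem_absU 11 1782 lvl2 x.2 hx)
  refine ⟨_, hmem, ?_⟩
  apply Fin.ext
  show ((evalP 11 1782 (wordL 11 lvl2 x.val) (Fin.ofNat 1782 lvl2.b : Fin 1782) : Fin 1782) : ℕ)
    = x.val
  rw [ofNat_eq chk_b2, evalP_val (fun c hc => (wordL_codes lf2 x.val c hc).1)]
  exact lf2.img x.val hx

theorem wordO_codes (y : ℕ) : ∀ c ∈ wordL 11 lvlO y, ∃ p ∈ lvl2.P, c = p.1 := by
  intro c hc
  obtain ⟨p, hp, rfl⟩ := wordTo_mem lvlO.P lvlO.gt lvlO.pt lvlO.b lvlO.fuel y c hc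
  rw [chk_PO] at hp
  exact ⟨p, hp, rfl⟩

theorem orb2 : ∀ x : Fin 1782, inOrb 1782 lvlO x.val = true → ∃ h ∈ H, h • c0' = x := by
  intro x hx
  have hcons : ConsOK chainR := main.1.2
  have hmem : evalP 11 1782 (wordL 11 lvlO x.val) ∈ H := by
    apply evalP_mem
    intro c hc
    obtain ⟨p, hp, rfl⟩ := wordO_codes x.val c hc
    apply Subgroup.subset_closure
    show toPerm 11 1782 p.1 ∈ gensOf (absC2 11 1782 chainR)
    rw [gensOf_abs2 hcons]
    exact List.mem_map.mpr ⟨p, hp, rfl⟩
  refine ⟨_, hmem, ?_⟩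
  apply Fin.ext
  show ((evalP 11 1782 (wordL 11 lvlO x.val) (Fin.ofNat 1782 c0 : Fin 1782) : Fin 1782) : ℕ)
    = x.val
  have hval : ∀ c ∈ wordL 11 lvlO x.val, Valid 11 1782 c := by
    intro c hc
    obtain ⟨p, hp, rfl⟩ := wordO_codes x.val c hc
    exact (lf2.pairs p hp).1
  rw [ofNat_eq chk_c0, evalP_val hval, ← evalF_eq]
  have h1 := chk_orb
  rw [loopAll_iff] at h1
  have h2 := h1 x.val x.2
  rw [hx] at h2
  exact Nat.eq_of_beq_eq_true h2

theorem G_simple : IsSimpleGroup G := by
  refine SimpleCert.simple_of_rank3 G H pA pB 11 251596800 rfl pA_pow pB_pow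
    (by rw [card_G]) (by norm_num) (by norm_num) b1 b2 c0' G_trans H_le (fun h hh => H_fix hh)
    (fun x => inOrb 1782 lvl2 x.val = true) (fun x => inOrb 1782 lvlO x.val = true)
    orb1 orb2 ?_ ?_ ?_
  · intro x
    have h1 := chk_part
    rw [loopAll_iff] at h1
    have h2 := h1 x.val x.2
    simp only [Bool.or_eq_true] at h2
    rcases h2 with (h | h) | h
    · left
      apply Fin.ext
      rw [Nat.eq_of_beq_eq_true h]
      exact (Nat.mod_eq_of_lt chk_b1).symm
    · exact Or.inr (Or.inl h)
    · exact Or.inr (Or.inr h)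
  · have e : {x : Fin 1782 | x = b1 ∨ inOrb 1782 lvl2 x.val = true}
        = {x : Fin 1782 | q1B x.val = true} := by
      ext x
      simp only [Set.mem_ofPred_eq, q1B, Bool.or_eq_true]
      constructor
      · rintro (h | h)
        · left
          rw [h]
          show Nat.beq (lvl1.b % 1782) lvl1.b = true
          rw [Nat.mod_eq_of_lt chk_b1]
          exact Nat.beq_refl _
        · exact Or.inr h
      · rintro (h | h)
        · left
          apply Fin.ext
          rw [Nat.eq_of_beq_eq_true h]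
          exact (Nat.mod_eq_of_lt chk_b1).symm
        · exact Or.inr h
    rw [e, SimpleCert.ncard_fin_pred, chk_c1]
    norm_num
  · have e : {x : Fin 1782 | x = b1 ∨ inOrb 1782 lvlO x.val = true}
        = {x : Fin 1782 | q2B x.val = true} := by
      ext x
      simp only [Set.mem_ofPred_eq, q2B, Bool.or_eq_true]
      constructor
      · rintro (h | h)
        · left
          rw [h]
          show Nat.beq (lvl1.b % 1782) lvl1.b = true
          rw [Nat.mod_eq_of_lt chk_b1]
          exact Nat.beq_refl _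
        · exact Or.inr h
      · rintro (h | h)
        · left
          apply Fin.ext
          rw [Nat.eq_of_beq_eq_true h]
          exact (Nat.mod_eq_of_lt chk_b1).symm
        · exact Or.inr h
    rw [e, SimpleCert.ncard_fin_pred, chk_c2]
    norm_num

end Cfsg.Agent.Lib.Helper18.Suz
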