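import Mathlib

/-! # Symmetric "difference sets" in `ZMod p`: `-1` is not a multiplier -/

set_option autoImplicit false
set_option linter.style.haveILetI false
set_option linter.unusedSectionVars false

namespace Cfsg.Agent.Lib.Helper18.SymDiffSet

variable {p : ℕ} [hp : Fact p.Prime]

/-- Ordered pairs of elements of `D` with difference `d`. -/
def pairs (D : Finset (ZMod p)) (d : ZMod p) : Finset (ZMod p × ZMod p) :=
  (D ×ˢ D).filter (fun q => q.1 - q.2 = d)

theorem mem_pairs (D : Finset (ZMod p)) (d : ZMod p) (q : ZMod p × ZMod p) :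
    q ∈ pairs D d ↔ q.1 ∈ D ∧ q.2 ∈ D ∧ q.1 - q.2 = d := by
  unfold pairs
  rw [Finset.mem_filter, Finset.mem_product, and_assoc]

theorem two_ne_zero' (hp2 : p ≠ 2) : (2 : ZMod p) ≠ 0 := by
  intro h2
  have : ((2 : ℕ) : ZMod p) = 0 := by exact_mod_cast h2
  rw [ZMod.natCast_eq_zero_iff] at this
  exact hp2 ((Nat.prime_dvd_prime_iff_eq hp.out Nat.prime_two).mp this)

/-- For a symmetric set `D`, the number of pairs with difference `2 h` has the parity of
`[h ∈ D]`. -/
theorem pairs_card_parity (hp2 : p ≠ 2) (D : Finset (ZMod p)) (hsym : ∀ u ∈ D, -u ∈ D)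
    (h : ZMod p) : (pairs D (2 * h)).card % 2 = if h ∈ D then 1 else 0 := by
  classical
  have h2ne := two_ne_zero' (p := p) hp2
  set q₀ : ZMod p × ZMod p := (h, -h) with hq₀
  set s := (pairs D (2 * h)).erase q₀ with hs
  have hsmem : ∀ a, a ∈ s ↔ a ≠ q₀ ∧ a.1 ∈ D ∧ a.2 ∈ D ∧ a.1 - a.2 = 2 * h := by
    intro a
    rw [hs, Finset.mem_erase, mem_pairs]
  have hsum : ∑ _x ∈ s, (1 : ZMod 2) = 0 := by
    refine Finset.sum_involution (fun a _ => (-a.2, -a.1)) ?_ ?_ ?_ ?_
    · intro a _
      decide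
    · intro a ha _ hfix
      obtain ⟨hne, h1, h2, h3⟩ := (hsmem a).mp ha
      apply hne
      have e1 : -a.2 = a.1 := congrArg Prod.fst hfix
      have h4 : (2 : ZMod p) * (a.1 - h) = 0 := by
        rw [← e1] at h3 ⊢
        linear_combination h3
      have h5 : a.1 = h := by
        rcases mul_eq_zero.mp h4 with h' | h'
        · exact absurd h' h2ne
        · exact sub_eq_zero.mp h'
      rw [hq₀]
      ext
      · exact h5
      · show a.2 = -h
        rw [← h5, ← e1, neg_neg]
    · intro a ha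
      obtain ⟨hne, h1, h2, h3⟩ := (hsmem a).mp ha
      rw [hsmem]
      refine ⟨?_, hsym _ h2, hsym _ h1, ?_⟩
      · intro heq
        apply hne
        have e1 : -a.2 = h := congrArg Prod.fst heq
        have e2 : -a.1 = -h := congrArg Prod.snd heq
        rw [hq₀]
        ext
        · show a.1 = h
          exact neg_injective e2
        · show a.2 = -h
          rw [← e1, neg_neg]
      · show -a.2 - -a.1 = 2 * h
        rw [← h3]; ring
    · intro a _
      simp
  have heven : s.card % 2 = 0 := by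
    rw [Finset.sum_const, nsmul_eq_mul, mul_one] at hsum
    have := (ZMod.natCast_eq_zero_iff s.card 2).mp hsum
    omega
  have hq₀mem : q₀ ∈ pairs D (2 * h) ↔ h ∈ D := by
    rw [mem_pairs, hq₀]
    constructor
    · exact fun h' => h'.1
    · intro hD
      exact ⟨hD, hsym h hD, by ring⟩
  by_cases hD : h ∈ D
  · rw [if_pos hD]
    have := Finset.card_erase_of_mem (hq₀mem.mpr hD)
    rw [← hs] at this
    have hpos : 0 < (pairs D (2 * h)).card := Finset.card_pos.mpr ⟨q₀, hq₀mem.mpr hD⟩
    omega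
  · rw [if_neg hD]
    have : s = pairs D (2 * h) := by
      rw [hs]; exact Finset.erase_eq_of_notMem (fun h' => hD (hq₀mem.mp h'))
    rw [← this]; exact heven

/-- A symmetric subset of `ZMod p` (`p` odd) all of whose non-zero differences occur equally
often contains all or none of the non-zero elements. -/
theorem all_or_none (hp2 : p ≠ 2) (D : Finset (ZMod p)) (hsym : ∀ u ∈ D, -u ∈ D)
    (hl : ∀ d d' : ZMod p, d ≠ 0 → d' ≠ 0 → (pairs D d).card = (pairs D d').card) :
    (∀ u : ZMod p, u ≠ 0 → u ∈ D) ∨ (∀ u : ZMod p, u ≠ 0 → u ∉ D) := by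
  classical
  have h2ne := two_ne_zero' (p := p) hp2
  by_cases hex : ∃ u₀ : ZMod p, u₀ ≠ 0 ∧ u₀ ∈ D
  · left
    obtain ⟨u₀, hu₀, hu₀D⟩ := hex
    intro u hu
    by_contra huD
    have h1 := pairs_card_parity hp2 D hsym u₀
    have h2 := pairs_card_parity hp2 D hsym u
    rw [if_pos hu₀D] at h1
    rw [if_neg huD] at h2
    have := hl (2 * u₀) (2 * u) (mul_ne_zero h2ne hu₀) (mul_ne_zero h2ne hu)
    omega
  · right
    push Not at hex
    exact hex

end Cfsg.Agent.Lib.Helper18.SymDiffSet
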