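import Mathlib
import Cfsg.Prelude.Def_Transfer
import Cfsg.Prelude.Def_CaseTheorems
import Cfsg.Agent.Lib.Lead.UniqueOrderP
import Cfsg.Agent.Lib.Lead.NormalAbelianCyclic
import Cfsg.Agent.Lib.Helper14.CyclicDerived
import Cfsg.Agent.Lib.Helper2.PGroupFrattini
import Cfsg.Agent.Lib.Helper16.Frattini2
import Cfsg.Agent.Lib.Helper18.CyclicSelfCent
import Cfsg.Agent.S0110

/-! # `p`-groups of symplectic type (P. Hall) -/

set_option autoImplicit false
set_option linter.style.haveILetI false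
set_option linter.unusedSectionVars false

namespace Cfsg.Agent.Lib.Helper18.SymplecticType

open Subgroup
open scoped commutatorElement

section Criterion

variable {G : Type*} [Group G] [Finite G] {p : ℕ} [hp : Fact p.Prime]

/-- A criterion for a subgroup to be extraspecial. -/
theorem isExtraspecial_of (hG : IsPGroup p G) (E Z1 : Subgroup G)
    (hZ1E : Z1 ≤ E) (hcard : Nat.card Z1 = p)
    (hcen : ∀ e ∈ E, (∀ e' ∈ E, e * e' = e' * e) → e ∈ Z1)
    (hZ1c : ∀ z ∈ Z1, ∀ e' ∈ E, z * e' = e' * z)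
    (hcomm : ∀ a ∈ E, ∀ b ∈ E, a * b * a⁻¹ * b⁻¹ ∈ Z1)
    (hpow : ∀ a ∈ E, a ^ p ∈ Z1) (hna : ¬ E ≤ Z1) : Cfsg.IsExtraspecial p ↥E := by
  have hEp : IsPGroup p ↥E := hG.to_subgroup E
  have hcenter : center ↥E = Z1.subgroupOf E := by
    ext x
    rw [mem_center_iff, mem_subgroupOf]
    constructor
    · intro h
      apply hcen x x.2
      intro e' he'
      have := h ⟨e', he'⟩
      exact (congrArg Subtype.val this).symm
    · intro h g
      apply Subtype.ext
      exact (hZ1c x h g g.2).symm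
  have hccard : Nat.card (center ↥E) = p := by
    rw [hcenter, Nat.card_congr (Subgroup.subgroupOfEquivOfLe hZ1E).toEquiv, hcard]
  have hcomm' : ∀ x y : ↥E, ⁅x, y⁆ ∈ center ↥E := by
    intro x y
    rw [hcenter, mem_subgroupOf, commutatorElement_def]
    exact hcomm x x.2 y y.2
  have hle : commutator ↥E ≤ center ↥E := by
    rw [_root_.commutator_def, Subgroup.commutator_le]
    intro x _ y _
    exact hcomm' x y
  have hne : commutator ↥E ≠ ⊥ := by
    intro h
    apply hna
    intro e he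
    apply hcen e he
    intro e' he'
    have h1 : ⁅(⟨e, he⟩ : ↥E), ⟨e', he'⟩⁆ ∈ commutator ↥E := by
      rw [_root_.commutator_def]
      exact Subgroup.commutator_mem_commutator (mem_top _) (mem_top _)
    rw [h, mem_bot, commutatorElement_eq_one_iff_mul_comm] at h1
    exact congrArg Subtype.val h1
  have heq : commutator ↥E = center ↥E := by
    apply Subgroup.eq_of_le_of_card_ge hle
    have hdvd := Subgroup.card_dvd_of_le hle
    rw [hccard] at hdvd ⊢
    rcases (Nat.dvd_prime hp.out).mp hdvd with h | h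
    · exact absurd (Subgroup.card_eq_one.mp h) hne
    · exact h.ge
  refine ⟨⟨hEp, ?_, heq⟩, hccard⟩
  apply le_antisymm
  · apply Cfsg.Agent.Lib.Helper16.frattini_le_of_forall (p := p) _ hcomm'
    intro x
    rw [hcenter, mem_subgroupOf, Subgroup.coe_pow]
    exact hpow x x.2
  · rw [← heq]
    exact Cfsg.Agent.Lib.Helper2.commutator_le_frattini_of_isPGroup hEp

end Criterion

section Defs

variable (p : ℕ) (G : Type*) [Group G]

/-- `Ω₁(Z(G))`. -/
def Z1 : Subgroup G where
  carrier := {x | x ∈ center G ∧ x ^ p = 1}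
  one_mem' := ⟨one_mem _, one_pow _⟩
  mul_mem' := by
    rintro x y ⟨hx, hxp⟩ ⟨hy, hyp⟩
    refine ⟨mul_mem hx hy, ?_⟩
    have : Commute x y := mem_center_iff.mp hy x
    rw [this.mul_pow, hxp, hyp, one_mul]
  inv_mem' := by
    rintro x ⟨hx, hxp⟩
    exact ⟨inv_mem hx, by rw [inv_pow, hxp, inv_one]⟩

variable {p G}

theorem mem_Z1 {x : G} : x ∈ Z1 p G ↔ x ∈ center G ∧ x ^ p = 1 := Iff.rfl

theorem Z1_le_center : Z1 p G ≤ center G := fun _ hx => hx.1

theorem Z1_comm {z : G} (hz : z ∈ Z1 p G) (g : G) : z * g = g * z :=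
  (mem_center_iff.mp hz.1 g).symm

theorem Z1_conj {z : G} (hz : z ∈ Z1 p G) (g : G) : g * z * g⁻¹ = z := by
  rw [← Z1_comm hz g]; group

theorem Z1_map (φ : G ≃* G) {x : G} (hx : x ∈ Z1 p G) : φ x ∈ Z1 p G := by
  refine ⟨?_, by rw [← map_pow, hx.2, map_one]⟩
  rw [mem_center_iff]
  intro g
  obtain ⟨g', rfl⟩ := φ.surjective g
  rw [← map_mul, ← map_mul, mem_center_iff.mp hx.1 g']

variable (p G)

/-- The preimage of `Ω₁(Z(G / Z₁))`. -/
def VV : Subgroup G where
  carrier := {x | x ^ p ∈ Z1 p G ∧ ∀ g : G, x * g * x⁻¹ * g⁻¹ ∈ Z1 p G}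
  one_mem' := ⟨by rw [one_pow]; exact one_mem _, fun g => by simp⟩
  mul_mem' := by
    rintro x y ⟨hxp, hxc⟩ ⟨hyp, hyc⟩
    constructor
    · have hc : ∀ g : G, ⁅y, x⁆ * g = g * ⁅y, x⁆ := fun g => Z1_comm (hyc x) g
      rw [Cfsg.Agent.Lib.Helper14.mul_pow_of_central_commutator x y hc p]
      exact mul_mem (mul_mem hxp hyp) (pow_mem (hyc x) _)
    · intro g
      have e : x * y * g * (x * y)⁻¹ * g⁻¹
          = x * (y * g * y⁻¹ * g⁻¹) * x⁻¹ * (x * g * x⁻¹ * g⁻¹) := by group
      rw [e, Z1_conj (hyc g) x]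
      exact mul_mem (hyc g) (hxc g)
  inv_mem' := by
    rintro x ⟨hxp, hxc⟩
    constructor
    · rw [inv_pow]; exact inv_mem hxp
    · intro g
      have e : x⁻¹ * g * x⁻¹⁻¹ * g⁻¹ = x⁻¹ * (x * g * x⁻¹ * g⁻¹)⁻¹ * x⁻¹⁻¹ := by group
      rw [e, Z1_conj (inv_mem (hxc g)) x⁻¹]
      exact inv_mem (hxc g)

variable {p G}

theorem mem_VV {x : G} :
    x ∈ VV p G ↔ x ^ p ∈ Z1 p G ∧ ∀ g : G, x * g * x⁻¹ * g⁻¹ ∈ Z1 p G := Iff.rfl

theorem Z1_le_VV : Z1 p G ≤ VV p G := by
  intro x hx
  refine ⟨by rw [hx.2]; exact one_mem _, fun g => ?_⟩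
  rw [Z1_comm hx g]
  simp

theorem VV_map (φ : G ≃* G) {x : G} (hx : x ∈ VV p G) : φ x ∈ VV p G := by
  refine ⟨by rw [← map_pow]; exact Z1_map φ hx.1, fun g => ?_⟩
  obtain ⟨g', rfl⟩ := φ.surjective g
  have := Z1_map φ (hx.2 g')
  simpa using this

variable (p G)

/-- The centre of `VV`. -/
def ZV : Subgroup G := VV p G ⊓ centralizer (VV p G : Set G)

variable {p G}

theorem mem_ZV {x : G} : x ∈ ZV p G ↔ x ∈ VV p G ∧ ∀ v ∈ VV p G, v * x = x * v := by
  rw [ZV, mem_inf, mem_centralizer_iff]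
  rfl

theorem Z1_le_ZV : Z1 p G ≤ ZV p G := by
  intro x hx
  rw [mem_ZV]
  exact ⟨Z1_le_VV hx, fun v _ => (Z1_comm hx v).symm⟩

theorem ZV_characteristic : (ZV p G).Characteristic := by
  rw [Subgroup.characteristic_iff_map_le]
  rintro φ _ ⟨x, hx, rfl⟩
  rw [SetLike.mem_coe, mem_ZV] at hx
  change φ x ∈ ZV p G
  rw [mem_ZV]
  refine ⟨VV_map φ hx.1, fun v hv => ?_⟩
  obtain ⟨v', rfl⟩ := φ.surjective v
  have hv' : v' ∈ VV p G := by
    have := VV_map φ.symm hv
    simpa using this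
  rw [← map_mul, ← map_mul, hx.2 v' hv']

theorem ZV_comm : IsMulCommutative (ZV p G) := by
  refine ⟨⟨?_⟩⟩
  rintro ⟨x, hx⟩ ⟨y, hy⟩
  apply Subtype.ext
  rw [mem_ZV] at hx hy
  exact hy.2 x hx.1

end Defs

section Main

variable {G : Type*} [Group G] [Finite G] {p : ℕ} [hp : Fact p.Prime]

instance Z1_normal : (Z1 p G).Normal :=
  ⟨fun z hz g => by rw [Z1_conj hz g]; exact hz⟩

/-- In a cyclic subgroup containing `Z1` (of order `p`), the elements of order dividing `p` lie
in `Z1`. -/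
theorem mem_Z1_of_cyclic (hcard : Nat.card (Z1 p G) = p) (H : Subgroup G) (hH : IsCyclic H)
    (hle : Z1 p G ≤ H) {v : G} (hv : v ∈ H) (hvp : v ^ p = 1) : v ∈ Z1 p G := by
  set U := zpowers v ⊔ Z1 p G with hU
  have hUH : U ≤ H := sup_le (zpowers_le.mpr hv) hle
  haveI : IsCyclic U := Subgroup.isCyclic_of_le hUH
  have hexp : ∀ x ∈ U, x ^ p = 1 := by
    intro x hx
    obtain ⟨y, hy, z, hz, rfl⟩ := Subgroup.mem_sup_of_normal_right.mp hx
    obtain ⟨i, rfl⟩ := mem_zpowers_iff.mp hy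
    have hc : Commute (v ^ i) z := (Z1_comm hz (v ^ i)).symm
    rw [hc.mul_pow, hz.2, mul_one, ← zpow_natCast, ← zpow_mul, mul_comm, zpow_mul, zpow_natCast, hvp,
      one_zpow]
  obtain ⟨g, hg⟩ := IsCyclic.exists_generator (α := U)
  have hgp : g ^ p = 1 := by
    apply Subtype.ext
    rw [Subgroup.coe_pow]
    exact hexp g g.2
  have hcU : Nat.card U ≤ p := by
    rw [← orderOf_eq_card_of_forall_mem_zpowers hg]
    exact Nat.le_of_dvd hp.out.pos (orderOf_dvd_of_pow_eq_one hgp)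
  have hZU : Z1 p G = U := by
    apply Subgroup.eq_of_le_of_card_ge le_sup_right
    rw [hcard]
    exact hcU
  rw [hZU]
  exact mem_sup_left (mem_zpowers v)

/-- `Ω₁(Z(G))` has order `p` when the centre is cyclic and `G` is nontrivial. -/
theorem card_Z1 (hG : IsPGroup p G) [Nontrivial G] (hc : IsCyclic (center G)) :
    Nat.card (Z1 p G) = p := by
  haveI := hG.center_nontrivial
  have hne : Z1 p G ≠ ⊥ := by
    have hdvd : p ∣ Nat.card (center G) := by
      rcases (hG.to_subgroup (center G)).card_eq_or_dvd with h | h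
      · exfalso
        have := Nat.card_eq_one_iff_unique.mp h
        exact not_subsingleton (center G) this.1
      · exact h
    haveI : Fintype (center G) := Fintype.ofFinite _
    rw [Nat.card_eq_fintype_card] at hdvd
    obtain ⟨x, hx⟩ := exists_prime_orderOf_dvd_card p hdvd
    intro hbot
    have hx1 : (x : G) ∈ Z1 p G := by
      refine ⟨x.2, ?_⟩
      have := pow_orderOf_eq_one x
      rw [hx] at this
      simpa using congrArg Subtype.val this
    rw [hbot, mem_bot] at hx1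
    have : x = 1 := Subtype.ext hx1
    rw [this, orderOf_one] at hx
    exact hp.out.one_lt.ne hx
  haveI : IsCyclic (Z1 p G) := Subgroup.isCyclic_of_le Z1_le_center
  obtain ⟨g, hg⟩ := IsCyclic.exists_generator (α := Z1 p G)
  have hgp : g ^ p = 1 := by
    apply Subtype.ext
    rw [Subgroup.coe_pow]
    exact g.2.2
  have hdvd : Nat.card (Z1 p G) ∣ p := by
    rw [← orderOf_eq_card_of_forall_mem_zpowers hg]
    exact orderOf_dvd_of_pow_eq_one hgp
  rcases (Nat.dvd_prime hp.out).mp hdvd with h | h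
  · exact absurd (Subgroup.card_eq_one.mp h) hne
  · exact h

/-- The class of candidate subgroups. -/
def Cand (p : ℕ) (G : Type*) [Group G] : Set (Subgroup G) :=
  {E | Z1 p G ≤ E ∧ E ≤ VV p G ∧ E ⊓ ZV p G ≤ Z1 p G}

theorem Cand.normal {E : Subgroup G} (hE : E ∈ Cand p G) : E.Normal := by
  refine ⟨fun e he g => ?_⟩
  have h1 : e ∈ VV p G := hE.2.1 he
  have h2 := inv_mem ((mem_VV.mp h1).2 g)
  have : g * e * g⁻¹ = (e * g * e⁻¹ * g⁻¹)⁻¹ * e := by group
  rw [this]
  exact mul_mem (hE.1 h2) he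

theorem Z1_mem_Cand : Z1 p G ∈ Cand p G := ⟨le_refl _, Z1_le_VV, inf_le_left⟩

theorem VV_le_sup {E : Subgroup G} (hE : Maximal (· ∈ Cand p G) E) : VV p G ≤ E ⊔ ZV p G := by
  intro x hx
  by_contra hxn
  haveI := Cand.normal hE.prop
  have hE2 : E ⊔ zpowers x ∈ Cand p G := by
    refine ⟨le_trans hE.prop.1 le_sup_left, sup_le hE.prop.2.1 (zpowers_le.mpr hx), ?_⟩
    rintro u ⟨hu1, hu2⟩
    obtain ⟨e, he, y, hy, rfl⟩ := Subgroup.mem_sup_of_normal_left.mp hu1
    obtain ⟨k, rfl⟩ := mem_zpowers_iff.mp hy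
    by_cases hk : (p : ℤ) ∣ k
    · obtain ⟨j, rfl⟩ := hk
      have hxk : x ^ ((p : ℤ) * j) ∈ Z1 p G := by
        rw [zpow_mul, zpow_natCast]
        exact zpow_mem (mem_VV.mp hx).1 j
      exact hE.prop.2.2 ⟨mul_mem he (hE.prop.1 hxk), hu2⟩
    · exfalso
      apply hxn
      have hcop : IsCoprime (p : ℤ) k :=
        (Prime.coprime_iff_not_dvd (Nat.prime_iff_prime_int.mp hp.out)).mpr hk
      obtain ⟨a, b, hab⟩ := hcop
      have hxk : x ^ k ∈ E ⊔ ZV p G := by
        have : x ^ k = e⁻¹ * (e * x ^ k) := by group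
        rw [this]
        exact mul_mem (mem_sup_left (inv_mem he)) (mem_sup_right hu2)
      have hxp : x ^ (p : ℤ) ∈ E ⊔ ZV p G :=
        mem_sup_left (hE.prop.1 (by rw [zpow_natCast]; exact (mem_VV.mp hx).1))
      have : x = (x ^ (p : ℤ)) ^ a * (x ^ k) ^ b := by
        rw [← zpow_mul, ← zpow_mul, ← zpow_add, mul_comm (p : ℤ) a, mul_comm k b, hab, zpow_one]
      rw [this]
      exact mul_mem (zpow_mem hxp a) (zpow_mem hxk b)
  have hle := hE.le_of_ge hE2 le_sup_left
  apply hxn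
  exact mem_sup_left (hle (mem_sup_right (mem_zpowers x)))

theorem center_le_Z1 {E : Subgroup G} (hE : Maximal (· ∈ Cand p G) E) {e : G} (he : e ∈ E)
    (hc : ∀ e' ∈ E, e * e' = e' * e) : e ∈ Z1 p G := by
  apply hE.prop.2.2
  refine ⟨he, ?_⟩
  change e ∈ ZV p G
  rw [mem_ZV]
  refine ⟨hE.prop.2.1 he, fun v hv => ?_⟩
  have hv' := VV_le_sup hE hv
  haveI := Cand.normal hE.prop
  obtain ⟨e', he', f, hf, rfl⟩ := Subgroup.mem_sup_of_normal_left.mp hv'
  have h1 := hc e' he'
  have h2 : e * f = f * e := (mem_ZV.mp hf).2 e (hE.prop.2.1 he)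
  calc e' * f * e = e' * (f * e) := by group
    _ = e' * (e * f) := by rw [h2]
    _ = (e' * e) * f := by group
    _ = (e * e') * f := by rw [h1]
    _ = e * (e' * f) := by group

theorem VV_inf_centralizer_le {E : Subgroup G} (hE : Maximal (· ∈ Cand p G) E) :
    VV p G ⊓ centralizer (E : Set G) ≤ ZV p G := by
  rintro v ⟨hv, hvR⟩
  have hv' := VV_le_sup hE hv
  haveI := Cand.normal hE.prop
  obtain ⟨e, he, f, hf, rfl⟩ := Subgroup.mem_sup_of_normal_left.mp hv'
  have hfR : f ∈ centralizer (E : Set G) := by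
    rw [mem_centralizer_iff]
    intro x hx
    exact (mem_ZV.mp hf).2 x (hE.prop.2.1 hx)
  have heR : e ∈ centralizer (E : Set G) := by
    have : e = (e * f) * f⁻¹ := by group
    rw [this]
    exact mul_mem hvR (inv_mem hfR)
  have heZ : e ∈ Z1 p G :=
    center_le_Z1 hE he (fun e' he' => ((mem_centralizer_iff.mp heR) e' he').symm)
  exact mul_mem (Z1_le_ZV heZ) hf

/-- A normal subgroup not contained in `Z1` contains an element outside `Z1` which is central
modulo `Z1`. -/
theorem exists_almost_central (hG : IsPGroup p G) (B : Subgroup G) [hB : B.Normal]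
    (hBZ : ¬ B ≤ Z1 p G) :
    ∃ v ∈ B, v ∉ Z1 p G ∧ ∀ g : G, v * g * v⁻¹ * g⁻¹ ∈ Z1 p G := by
  set π := QuotientGroup.mk' (Z1 p G) with hπ
  have hsurj : Function.Surjective π := QuotientGroup.mk'_surjective _
  haveI : (B.map π).Normal := hB.map π hsurj
  have hne : B.map π ≠ ⊥ := by
    intro h
    apply hBZ
    intro b hb
    have : π b ∈ B.map π := ⟨b, hb, rfl⟩
    rw [h, mem_bot] at this
    exact (QuotientGroup.eq_one_iff b).mp this
  obtain ⟨z, hzB, hz1, hzc⟩ :=
    Cfsg.Agent.Lib.Lead.UniqueOrderP.exists_central_of_normal (hG.to_quotient (Z1 p G)) (B.map π) hne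
  obtain ⟨v, hv, rfl⟩ := hzB
  refine ⟨v, hv, ?_, ?_⟩
  · intro h
    apply hz1
    exact (QuotientGroup.eq_one_iff v).mpr h
  · intro g
    rw [← QuotientGroup.eq_one_iff]
    have h1 : π g * π v = π v * π g := mem_center_iff.mp hzc (π g)
    change π (v * g * v⁻¹ * g⁻¹) = 1
    rw [map_mul, map_mul, map_mul, map_inv, map_inv, ← h1]
    group

end Main

section Assembly

variable {G : Type*} [Group G] [Finite G] {p : ℕ} [hp : Fact p.Prime]

open Cfsg.Agent.Lib.Lead.CyclicMax

/-- Every normal abelian subgroup of `R = C_G(E)` is cyclic. -/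
theorem normal_abelian_cyclic (hG : IsPGroup p G) (hcard : Nat.card (Z1 p G) = p)
    (hZV : IsCyclic (ZV p G)) {E : Subgroup G} (hE : Maximal (· ∈ Cand p G) E)
    (hsup : E ⊔ centralizer (E : Set G) = ⊤)
    (A : Subgroup ↥(centralizer (E : Set G))) (hA : A.Normal)
    (hAc : ∀ x ∈ A, ∀ y ∈ A, x * y = y * x) : IsCyclic A := by
  by_contra hnc
  haveI := Cand.normal hE.prop
  have hA'R : A.map (centralizer (E : Set G)).subtype ≤ centralizer (E : Set G) := by
    rintro _ ⟨a, _, rfl⟩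
    exact a.2
  have hA'c : ∀ x ∈ A.map (centralizer (E : Set G)).subtype,
      ∀ y ∈ A.map (centralizer (E : Set G)).subtype, x * y = y * x := by
    rintro _ ⟨x, hx, rfl⟩ _ ⟨y, hy, rfl⟩
    have := hAc x hx y hy
    simpa using congrArg Subtype.val this
  have hA'n : (A.map (centralizer (E : Set G)).subtype).Normal := by
    refine ⟨fun a ha g => ?_⟩
    have hg : g ∈ E ⊔ centralizer (E : Set G) := by rw [hsup]; exact mem_top g
    obtain ⟨e, he, r, hr, rfl⟩ := Subgroup.mem_sup_of_normal_left.mp hg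
    obtain ⟨a₀, ha₀, rfl⟩ := ha
    have h1 : (⟨r, hr⟩ : centralizer (E : Set G)) * a₀ * (⟨r, hr⟩ : centralizer (E : Set G))⁻¹ ∈ A :=
      hA.conj_mem a₀ ha₀ ⟨r, hr⟩
    have h2 : r * (a₀ : G) * r⁻¹ ∈ A.map (centralizer (E : Set G)).subtype := ⟨_, h1, by simp⟩
    have h3 : r * (a₀ : G) * r⁻¹ ∈ centralizer (E : Set G) := hA'R h2
    have h4 : e * (r * (a₀ : G) * r⁻¹) * e⁻¹ = r * (a₀ : G) * r⁻¹ := by
      have := mem_centralizer_iff.mp h3 e he
      rw [this]; group
    have h5 : e * r * ((centralizer (E : Set G)).subtype a₀) * (e * r)⁻¹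
        = e * (r * (a₀ : G) * r⁻¹) * e⁻¹ := by
      simp only [Subgroup.coe_subtype]; group
    rw [h5, h4]
    exact h2
  -- the elements of order dividing `p`
  let B : Subgroup G :=
    { carrier := {a | a ∈ A.map (centralizer (E : Set G)).subtype ∧ a ^ p = 1}
      one_mem' := ⟨one_mem _, one_pow _⟩
      mul_mem' := by
        rintro x y ⟨hx, hxp⟩ ⟨hy, hyp⟩
        refine ⟨mul_mem hx hy, ?_⟩
        have : Commute x y := hA'c x hx y hy
        rw [this.mul_pow, hxp, hyp, one_mul]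
      inv_mem' := by
        rintro x ⟨hx, hxp⟩
        exact ⟨inv_mem hx, by rw [inv_pow, hxp, inv_one]⟩ }
  have hBmem : ∀ x : G, x ∈ B ↔ x ∈ A.map (centralizer (E : Set G)).subtype ∧ x ^ p = 1 :=
    fun _ => Iff.rfl
  haveI hBn : B.Normal := by
    refine ⟨fun b hb g => ?_⟩
    rw [hBmem] at hb ⊢
    refine ⟨hA'n.conj_mem b hb.1 g, ?_⟩
    rw [conj_pow, hb.2]; group
  have hBZ : ¬ B ≤ Z1 p G := by
    intro hBZ
    apply hnc
    apply Cfsg.Agent.Lib.Lead.UniqueOrderP.abelian_cyclic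
      ((hG.to_subgroup (centralizer (E : Set G))).to_subgroup A)
    · rintro ⟨x, hx⟩ ⟨y, hy⟩
      apply Subtype.ext
      exact hAc x hx y hy
    · intro H K hH hK
      set ι : ↥A →* G := (centralizer (E : Set G)).subtype.comp A.subtype with hι
      have hinj : Function.Injective ι :=
        (Subgroup.subtype_injective _).comp (Subgroup.subtype_injective _)
      have key : ∀ L : Subgroup ↥A, Nat.card L = p → L.map ι = Z1 p G := by
        intro L hL
        apply Subgroup.eq_of_le_of_card_ge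
        · rintro _ ⟨l, hl, rfl⟩
          apply hBZ
          rw [hBmem]
          refine ⟨⟨(l : ↥(centralizer (E : Set G))), l.2, rfl⟩, ?_⟩
          have h1 : (⟨l, hl⟩ : L) ^ p = 1 := by
            rw [← hL]; exact pow_card_eq_one'
          have h2 : l ^ p = 1 := congrArg Subtype.val h1
          rw [← map_pow, h2, map_one]
        · rw [Subgroup.card_map_of_injective hinj, hL, hcard]
      exact Subgroup.map_injective hinj ((key H hH).trans (key K hK).symm)
  obtain ⟨v, hv, hvZ, hvc⟩ := exists_almost_central hG B hBZ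
  rw [hBmem] at hv
  apply hvZ
  have hvVV : v ∈ VV p G := by
    rw [mem_VV]
    exact ⟨by rw [hv.2]; exact one_mem _, hvc⟩
  have hvZV : v ∈ ZV p G := VV_inf_centralizer_le hE ⟨hvVV, hA'R hv.1⟩
  exact mem_Z1_of_cyclic hcard (ZV p G) hZV Z1_le_ZV hvZV hv.2

/-- Computations in the quaternion group of order 8. -/
theorem q8_facts {Q : Type*} [Group Q] {a b : Q} (hoa : orderOf a = 4)
    (hidx : (zpowers a).index = 2) (hb : b ∉ zpowers a) (hb2 : b ^ 2 = a ^ 2)
    (hinv : b * a * b⁻¹ = a⁻¹) :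
    (∀ r : Q, r * a ^ 2 = a ^ 2 * r) ∧ (∀ r : Q, a * r * a⁻¹ * r⁻¹ ∈ zpowers (a ^ 2)) ∧
      (∀ r : Q, b * r * b⁻¹ * r⁻¹ ∈ zpowers (a ^ 2)) := by
  have ha4 : a ^ 4 = 1 := by rw [← hoa]; exact pow_orderOf_eq_one a
  have hinv' : b * a * b⁻¹ = a ^ (-1 : ℤ) := by rw [hinv, zpow_neg_one]
  have hconj : ∀ i : ℤ, b * a ^ i * b⁻¹ = a ^ (-i) := by
    intro i
    rw [conj_zpow_of_conj hinv' i, mul_neg_one]
  have ha2 : a ^ (-2 : ℤ) = a ^ 2 := by
    have : a ^ (-2 : ℤ) = a ^ (-2 : ℤ) * a ^ 4 := by rw [ha4, mul_one]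
    rw [this, ← zpow_natCast a 4, ← zpow_add]
    norm_num
  have hcases : ∀ r : Q, ∃ i : ℤ, r = a ^ i ∨ r = a ^ i * b := by
    intro r
    by_cases hr : r ∈ zpowers a
    · obtain ⟨i, hi⟩ := mem_zpowers_iff.mp hr
      exact ⟨i, Or.inl hi.symm⟩
    · have hrb : r * b⁻¹ ∈ zpowers a := by
        rw [Subgroup.mul_mem_iff_of_index_two hidx]
        constructor
        · intro h; exact absurd h hr
        · intro h
          exact absurd (by simpa using (zpowers a).inv_mem h) hb
      obtain ⟨i, hi⟩ := mem_zpowers_iff.mp hrb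
      exact ⟨i, Or.inr (by rw [hi]; group)⟩
  have hbz : b * a ^ 2 = a ^ 2 * b := by
    have h1 := hconj 2
    rw [ha2, zpow_ofNat] at h1
    have h2 : b * a ^ 2 * b⁻¹ = a ^ 2 := h1
    calc b * a ^ 2 = (b * a ^ 2 * b⁻¹) * b := by group
      _ = a ^ 2 * b := by rw [h2]
  refine ⟨?_, ?_, ?_⟩
  · intro r
    obtain ⟨i, rfl | rfl⟩ := hcases r
    · exact (((Commute.refl a).zpow_left i).pow_right 2).eq
    · have h1 : Commute (a ^ i) (a ^ 2) := ((Commute.refl a).zpow_left i).pow_right 2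
      have h2 : Commute b (a ^ 2) := hbz
      exact (h1.mul_left h2).eq
  · intro r
    obtain ⟨i, rfl | rfl⟩ := hcases r
    · have : a * a ^ i * a⁻¹ * (a ^ i)⁻¹ = 1 := by
        have h1 : Commute a (a ^ i) := (Commute.refl a).zpow_right i
        rw [h1.eq]; group
      rw [this]
      exact one_mem _
    · have h1 : b * a⁻¹ * b⁻¹ = a := by
        have : b * a⁻¹ * b⁻¹ = (b * a * b⁻¹)⁻¹ := by group
        rw [this, hinv, inv_inv]
      have : a * (a ^ i * b) * a⁻¹ * (a ^ i * b)⁻¹ = a ^ 2 := by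
        calc a * (a ^ i * b) * a⁻¹ * (a ^ i * b)⁻¹
            = a * a ^ i * (b * a⁻¹ * b⁻¹) * (a ^ i)⁻¹ := by group
          _ = a * a ^ i * a * (a ^ i)⁻¹ := by rw [h1]
          _ = a ^ 2 := by
              have h2 : Commute (a ^ i) a := (Commute.refl a).zpow_left i
              rw [mul_assoc a, h2.eq]; group
      rw [this]
      exact mem_zpowers _
  · intro r
    have key : ∀ i : ℤ, b * a ^ i * b⁻¹ * (a ^ i)⁻¹ ∈ zpowers (a ^ 2) := by
      intro i
      rw [hconj i]
      have : a ^ (-i) * (a ^ i)⁻¹ = (a ^ 2) ^ (-i) := by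
        rw [← zpow_neg, ← zpow_add, ← zpow_natCast a 2, ← zpow_mul]
        congr 1
        push_cast
        ring
      rw [this]
      exact zpow_mem (mem_zpowers _) _
    obtain ⟨i, rfl | rfl⟩ := hcases r
    · exact key i
    · have : b * (a ^ i * b) * b⁻¹ * (a ^ i * b)⁻¹ = b * a ^ i * b⁻¹ * (a ^ i)⁻¹ := by group
      rw [this]
      exact key i

end Assembly

section Hall

variable {G : Type*} [Group G] [Finite G] {p : ℕ} [hp : Fact p.Prime]

open Cfsg.Agent.Lib.Helper18.CyclicSelfCent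

/-- P. Hall's theorem on `p`-groups of symplectic type. -/
theorem hall (hG : IsPGroup p G)
    (hsymp : ∀ A : Subgroup G, A.Characteristic → IsMulCommutative A → IsCyclic A) :
    ∃ E R : Subgroup G, (∀ e ∈ E, ∀ r ∈ R, e * r = r * e) ∧ E ⊔ R = ⊤ ∧
      (E = ⊥ ∨ Cfsg.IsExtraspecial p ↥E) ∧
      (IsCyclic R ∨ (p = 2 ∧ 16 ≤ Nat.card R ∧ ((∃ m : ℕ, Nonempty (↥R ≃* DihedralGroup m)) ∨
        (∃ m : ℕ, Nonempty (↥R ≃* QuaternionGroup m)) ∨ Cfsg.IsQuasiDihedral ↥R))) := by
  by_cases hcyc : IsCyclic G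
  · refine ⟨⊥, ⊤, ?_, bot_sup_eq _, Or.inl rfl, Or.inl ?_⟩
    · intro e he r _
      rw [mem_bot] at he
      rw [he, one_mul, mul_one]
    · exact isCyclic_of_surjective (Subgroup.topEquiv : (⊤ : Subgroup G) ≃* G).symm
        (MulEquiv.surjective _)
  haveI : Nontrivial G := by
    by_contra h
    rw [not_nontrivial_iff_subsingleton] at h
    exact hcyc inferInstance
  have hcZ : IsCyclic (center G) := hsymp _ inferInstance inferInstance
  have hcard := card_Z1 hG hcZ
  have hZV : IsCyclic (ZV p G) := hsymp _ ZV_characteristic ZV_comm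
  obtain ⟨E, hE⟩ := (Set.toFinite (Cand p G)).exists_maximal ⟨_, Z1_mem_Cand⟩
  haveI := Cand.normal hE.prop
  have hcommE : ∀ a ∈ E, ∀ b : G, a * b * a⁻¹ * b⁻¹ ∈ Z1 p G :=
    fun a ha b => (mem_VV.mp (hE.prop.2.1 ha)).2 b
  have hpowE : ∀ a ∈ E, a ^ p ∈ Z1 p G := fun a ha => (mem_VV.mp (hE.prop.2.1 ha)).1
  have hES : ¬ E ≤ Z1 p G → Cfsg.IsExtraspecial p ↥E := fun hEZ =>
    isExtraspecial_of hG E (Z1 p G) hE.prop.1 hcard (fun e he hc => center_le_Z1 hE he hc)
      (fun z hz e' _ => Z1_comm hz e') (fun a ha b _ => hcommE a ha b) hpowE hEZ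
  have hsup : E ⊔ centralizer (E : Set G) = ⊤ := by
    by_cases hEZ : E ≤ Z1 p G
    · have : centralizer (E : Set G) = ⊤ := by
        rw [eq_top_iff]
        intro g _
        rw [mem_centralizer_iff]
        intro e he
        exact Z1_comm (hEZ he) g
      rw [this, sup_top_eq]
    · apply Cfsg.Agent.S0110.result hG E (hES hEZ)
      rw [Subgroup.commutator_le]
      intro g _ e he
      have h1 : ⁅g, e⁆ ∈ Z1 p G := by
        have h2 := inv_mem (hcommE e he g)
        have h3 : ⁅g, e⁆ = (e * g * e⁻¹ * g⁻¹)⁻¹ := by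
          rw [commutatorElement_def]; group
        rw [h3]
        exact h2
      refine ⟨hE.prop.1 h1, ?_⟩
      change ⁅g, e⁆ ∈ centralizer (E : Set G)
      rw [mem_centralizer_iff]
      intro x _
      exact (Z1_comm h1 x).symm
  have hN := normal_abelian_cyclic hG hcard hZV hE hsup
  -- the structure of `R`
  have hRstruct : IsCyclic (centralizer (E : Set G)) ∨ (p = 2 ∧
      16 ≤ Nat.card (centralizer (E : Set G)) ∧
      ((∃ m : ℕ, Nonempty (↥(centralizer (E : Set G)) ≃* DihedralGroup m)) ∨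
        (∃ m : ℕ, Nonempty (↥(centralizer (E : Set G)) ≃* QuaternionGroup m)) ∨
        Cfsg.IsQuasiDihedral ↥(centralizer (E : Set G)))) := by
    by_cases hRc : IsCyclic (centralizer (E : Set G))
    · exact Or.inl hRc
    right
    obtain ⟨hp2, n, a, b, hn3, hcardR, hoa, hb, hidx, hrel⟩ :=
      Cfsg.Agent.Lib.Lead.NormalAbelianCyclic.structure_of_normal_abelian_cyclic p
        (hG.to_subgroup (centralizer (E : Set G))) (fun A hA hAc => hN A hA hAc) hRc
    subst hp2
    by_cases hn4 : 4 ≤ n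
    · refine ⟨rfl, ?_, ?_⟩
      · rw [hcardR]
        calc 16 = 2 ^ 4 := by norm_num
          _ ≤ 2 ^ n := Nat.pow_le_pow_right (by norm_num) hn4
      · apply dqsd_of_gens n hn3 hcardR a b hoa hb hidx
        rcases hrel with ⟨-, h1, h2⟩ | h | h
        · exact Or.inl ⟨h1, h2⟩
        · exact Or.inr (Or.inl h)
        · exact Or.inr (Or.inr h)
    · exfalso
      have hn : n = 3 := by omega
      subst hn
      have hq : b ^ 2 = a ^ 2 ∧ b * a * b⁻¹ = a⁻¹ := by
        rcases hrel with ⟨h, -⟩ | h | ⟨h, -⟩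
        · omega
        · simpa using h
        · omega
      have hoa4 : orderOf a = 4 := by rw [hoa]; norm_num
      obtain ⟨hf1, hf2, hf3⟩ := q8_facts hoa4 hidx hb hq.1 hq.2
      have ha4 : a ^ 4 = 1 := by rw [← hoa4]; exact pow_orderOf_eq_one a
      -- `a ^ 2` lies in `Z1`
      have hz : ((a ^ 2 : centralizer (E : Set G)) : G) ∈ Z1 2 G := by
        refine ⟨?_, ?_⟩
        · rw [mem_center_iff]
          intro g
          have hg : g ∈ E ⊔ centralizer (E : Set G) := by rw [hsup]; exact mem_top g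
          obtain ⟨e, he, r, hr, rfl⟩ := Subgroup.mem_sup_of_normal_left.mp hg
          have h1 : e * ((a ^ 2 : centralizer (E : Set G)) : G)
              = ((a ^ 2 : centralizer (E : Set G)) : G) * e :=
            mem_centralizer_iff.mp (a ^ 2 : centralizer (E : Set G)).2 e he
          have h2 : r * ((a ^ 2 : centralizer (E : Set G)) : G)
              = ((a ^ 2 : centralizer (E : Set G)) : G) * r :=
            congrArg Subtype.val (hf1 ⟨r, hr⟩)
          calc e * r * ((a ^ 2 : centralizer (E : Set G)) : G)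
              = e * (r * ((a ^ 2 : centralizer (E : Set G)) : G)) := by group
            _ = e * (((a ^ 2 : centralizer (E : Set G)) : G) * r) := by rw [h2]
            _ = (e * ((a ^ 2 : centralizer (E : Set G)) : G)) * r := by group
            _ = ((a ^ 2 : centralizer (E : Set G)) : G) * e * r := by rw [h1]
            _ = ((a ^ 2 : centralizer (E : Set G)) : G) * (e * r) := by group
        · rw [← Subgroup.coe_pow, ← pow_mul]
          norm_num
          exact congrArg Subtype.val ha4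
      have hzp : ∀ y ∈ zpowers (a ^ 2 : centralizer (E : Set G)), (y : G) ∈ Z1 2 G := by
        intro y hy
        obtain ⟨i, rfl⟩ := mem_zpowers_iff.mp hy
        rw [Subgroup.coe_zpow]
        exact zpow_mem hz i
      -- `a` and `b` lie in `VV ⊓ R`
      have hVV : ∀ x : centralizer (E : Set G), x ^ 2 = a ^ 2 →
          (∀ r : centralizer (E : Set G), x * r * x⁻¹ * r⁻¹ ∈ zpowers (a ^ 2)) →
          (x : G) ∈ ZV 2 G := by
        intro x hx2 hxc
        apply VV_inf_centralizer_le hE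
        refine ⟨?_, x.2⟩
        change (x : G) ∈ VV 2 G
        rw [mem_VV]
        refine ⟨?_, ?_⟩
        · rw [← Subgroup.coe_pow, hx2]
          exact hz
        · intro g
          have hg : g ∈ E ⊔ centralizer (E : Set G) := by rw [hsup]; exact mem_top g
          obtain ⟨e, he, r, hr, rfl⟩ := Subgroup.mem_sup_of_normal_left.mp hg
          have h1 : ((x * ⟨r, hr⟩ * x⁻¹ * (⟨r, hr⟩ : centralizer (E : Set G))⁻¹ :
              centralizer (E : Set G)) : G) ∈ Z1 2 G := hzp _ (hxc ⟨r, hr⟩)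
          have h2 : (x : G) * r * (x : G)⁻¹ * r⁻¹ ∈ Z1 2 G := by simpa using h1
          have h3 : e * (x : G) = (x : G) * e := mem_centralizer_iff.mp x.2 e he
          have h4 : (x : G) * (e * r) * (x : G)⁻¹ * (e * r)⁻¹
              = e * ((x : G) * r * (x : G)⁻¹ * r⁻¹) * e⁻¹ := by
            calc (x : G) * (e * r) * (x : G)⁻¹ * (e * r)⁻¹
                = ((x : G) * e) * r * (x : G)⁻¹ * r⁻¹ * e⁻¹ := by group
              _ = (e * (x : G)) * r * (x : G)⁻¹ * r⁻¹ * e⁻¹ := by rw [h3]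
              _ = e * ((x : G) * r * (x : G)⁻¹ * r⁻¹) * e⁻¹ := by group
          rw [h4, Z1_conj h2 e]
          exact h2
      have haZ := hVV a rfl hf2
      have hbZ := hVV b hq.1 hf3
      have hab : (a : G) * (b : G) = (b : G) * (a : G) := (mem_ZV.mp hbZ).2 a (mem_ZV.mp haZ).1
      have hab' : a * b = b * a := Subtype.ext hab
      have h5 : b * a * b⁻¹ = a := by rw [← hab']; group
      have h6 : a ^ 2 = 1 := by
        have : a = a⁻¹ := h5.symm.trans hq.2
        calc a ^ 2 = a * a := pow_two a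
          _ = a * a⁻¹ := by rw [← this]
          _ = 1 := mul_inv_cancel a
      have := orderOf_dvd_of_pow_eq_one h6
      rw [hoa4] at this
      omega
  by_cases hEZ : E ≤ Z1 p G
  · refine ⟨⊥, centralizer (E : Set G), ?_, ?_, Or.inl rfl, hRstruct⟩
    · intro e he r _
      rw [mem_bot] at he
      rw [he, one_mul, mul_one]
    · have : centralizer (E : Set G) = ⊤ := by
        rw [eq_top_iff]
        intro g _
        rw [mem_centralizer_iff]
        intro e he
        exact Z1_comm (hEZ he) g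
      rw [this, sup_top_eq]
  · refine ⟨E, centralizer (E : Set G), ?_, hsup, Or.inr (hES hEZ), hRstruct⟩
    intro e he r hr
    exact mem_centralizer_iff.mp hr e he

end Hall

end Cfsg.Agent.Lib.Helper18.SymplecticType
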