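import Mathlib
import Cfsg.Prelude.Def_Sporadic_a
import Cfsg.Prelude.Def_SporadicCombinatorics
import Cfsg.Agent.Lib.Helper28.TernaryGolay
import Cfsg.Agent.Lib.Helper18.S22M22

/-!
Monomial maps preserving the ternary code of length 12: closure properties and their action on
the supports of the words of weight 6.
-/

set_option autoImplicit false

namespace Cfsg.Agent.Lib.Helper18.TG

open Cfsg Finset Cfsg.Agent.Lib.Helper28.TGolay Cfsg.Agent.Lib.Helper18.S22Plane
open Cfsg.Agent.Lib.Helper18.Plane4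

/-- The monomial map preserves the code. -/
def Pres (σ : Equiv.Perm ArrayPt) (c : ArrayPt → (ZMod 3)ˣ) : Prop :=
  ∀ x ∈ ternaryGolayCode, monomialMap σ c x ∈ ternaryGolayCode

theorem mono_add (σ : Equiv.Perm ArrayPt) (c : ArrayPt → (ZMod 3)ˣ) (x y : ArrayPt → ZMod 3) :
    monomialMap σ c (x + y) = monomialMap σ c x + monomialMap σ c y := by
  funext i
  simp only [monomialMap, Pi.add_apply]
  ring

theorem mono_smul (σ : Equiv.Perm ArrayPt) (c : ArrayPt → (ZMod 3)ˣ) (a : ZMod 3)
    (x : ArrayPt → ZMod 3) : monomialMap σ c (a • x) = a • monomialMap σ c x := by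
  funext i
  simp only [monomialMap, Pi.smul_apply, smul_eq_mul]
  ring

theorem mono_zero (σ : Equiv.Perm ArrayPt) (c : ArrayPt → (ZMod 3)ˣ) :
    monomialMap σ c 0 = 0 := by
  funext i
  simp [monomialMap]

theorem mono_sum (σ : Equiv.Perm ArrayPt) (c : ArrayPt → (ZMod 3)ˣ) {ι : Type*} (s : Finset ι)
    (f : ι → ArrayPt → ZMod 3) :
    monomialMap σ c (∑ j ∈ s, f j) = ∑ j ∈ s, monomialMap σ c (f j) := by
  classical
  induction s using Finset.induction_on with
  | empty => simp [mono_zero]
  | insert a s ha ih => rw [sum_insert ha, sum_insert ha, mono_add, ih]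

/-- Preservation can be checked on the six generators. -/
theorem pres_of_gen {σ : Equiv.Perm ArrayPt} {c : ArrayPt → (ZMod 3)ˣ}
    (h : ∀ j : Fin 6, IsWordD (monomialMap σ c (gen j))) : Pres σ c := by
  intro x hx
  rw [eq_enc_info hx, enc_eq_sum, mono_sum]
  apply Submodule.sum_mem
  intro j _
  rw [mono_smul]
  exact Submodule.smul_mem _ _ ((mem_code_iff _).2 (h j))

theorem pres_one : Pres 1 (fun _ => 1) := by
  intro x hx
  have : monomialMap (1 : Equiv.Perm ArrayPt) (fun _ => (1 : (ZMod 3)ˣ)) x = x := by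
    funext i
    show ((1 : (ZMod 3)ˣ) : ZMod 3) * x i = x i
    simp
  rw [this]
  exact hx

theorem mono_mul (σ τ : Equiv.Perm ArrayPt) (c d : ArrayPt → (ZMod 3)ˣ) (x : ArrayPt → ZMod 3) :
    monomialMap (σ * τ) (fun i => c i * d (σ.symm i)) x
      = monomialMap σ c (monomialMap τ d x) := by
  funext i
  simp only [monomialMap, Units.val_mul]
  have : (σ * τ).symm i = τ.symm (σ.symm i) := rfl
  rw [this]
  ring

theorem pres_mul {σ τ : Equiv.Perm ArrayPt} {c d : ArrayPt → (ZMod 3)ˣ} (h1 : Pres σ c)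
    (h2 : Pres τ d) : Pres (σ * τ) (fun i => c i * d (σ.symm i)) := by
  intro x hx
  rw [mono_mul]
  exact h1 _ (h2 x hx)

theorem pres_neg {σ : Equiv.Perm ArrayPt} {c : ArrayPt → (ZMod 3)ˣ} (h : Pres σ c) :
    Pres σ (fun i => -c i) := by
  intro x hx
  have : monomialMap σ (fun i => -c i) x = -monomialMap σ c x := by
    funext i
    simp [monomialMap]
  rw [this]
  exact Submodule.neg_mem _ (h x hx)

theorem mono_injective (σ : Equiv.Perm ArrayPt) (c : ArrayPt → (ZMod 3)ˣ) :
    Function.Injective (monomialMap σ c) := by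
  intro x y hxy
  funext p
  have := congrFun hxy (σ p)
  simp only [monomialMap, Equiv.symm_apply_apply] at this
  exact (Units.mul_right_inj (c (σ p))).1 this

/-- A monomial map preserving the code maps it onto itself. -/
theorem pres_surj {σ : Equiv.Perm ArrayPt} {c : ArrayPt → (ZMod 3)ˣ} (h : Pres σ c)
    {y : ArrayPt → ZMod 3} (hy : y ∈ ternaryGolayCode) :
    ∃ x ∈ ternaryGolayCode, monomialMap σ c x = y := by
  let T : ternaryGolayCode → ternaryGolayCode := fun x => ⟨monomialMap σ c x.1, h x.1 x.2⟩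
  have hinj : Function.Injective T := by
    intro x x' hxx
    apply Subtype.ext
    exact mono_injective σ c (congrArg Subtype.val hxx)
  have hsurj : Function.Surjective T := Finite.injective_iff_surjective.1 hinj
  obtain ⟨x, hx⟩ := hsurj ⟨y, hy⟩
  exact ⟨x.1, x.2, congrArg Subtype.val hx⟩

/-- Two sign vectors for the same permutation differ by a global sign. -/
theorem signs_unique {σ : Equiv.Perm ArrayPt} {c c' : ArrayPt → (ZMod 3)ˣ} (h : Pres σ c)
    (h' : Pres σ c') (hres : ∀ u : ArrayPt → (ZMod 3)ˣ, Pres 1 u → (∀ p, u p = 1) ∨ ∀ p, u p = -1) :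
    (∀ p, c' p = c p) ∨ ∀ p, c' p = -c p := by
  have hu : Pres 1 (fun p => c' p * (c p)⁻¹) := by
    intro y hy
    obtain ⟨x, hx, rfl⟩ := pres_surj h hy
    have : monomialMap (1 : Equiv.Perm ArrayPt) (fun p => c' p * (c p)⁻¹) (monomialMap σ c x)
        = monomialMap σ c' x := by
      funext i
      show ((c' i * (c i)⁻¹ : (ZMod 3)ˣ) : ZMod 3) * ((c i : ZMod 3) * x (σ.symm i))
        = (c' i : ZMod 3) * x (σ.symm i)
      rw [Units.val_mul]
      rw [mul_assoc, ← mul_assoc (((c i)⁻¹ : (ZMod 3)ˣ) : ZMod 3), ← Units.val_mul,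
        inv_mul_cancel, Units.val_one, one_mul]
    rw [this]
    exact h' x hx
  rcases hres _ hu with h1 | h1
  · left
    intro p
    have := h1 p
    rwa [mul_inv_eq_one] at this
  · right
    intro p
    have := h1 p
    rw [mul_inv_eq_iff_eq_mul] at this
    rw [this]
    simp

theorem mem_supp {x : ArrayPt → ZMod 3} {p : ArrayPt} : p ∈ ternarySupport x ↔ x p ≠ 0 := by
  simp [ternarySupport]

theorem supp_mono (σ : Equiv.Perm ArrayPt) (c : ArrayPt → (ZMod 3)ˣ) (x : ArrayPt → ZMod 3) :
    ternarySupport (monomialMap σ c x) = (ternarySupport x).image σ := by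
  ext i
  rw [mem_supp, mem_image]
  simp only [monomialMap]
  constructor
  · intro hi
    refine ⟨σ.symm i, ?_, by simp⟩
    rw [mem_supp]
    intro h0
    apply hi
    rw [h0, mul_zero]
  · rintro ⟨p, hp, rfl⟩
    rw [mem_supp] at hp
    rw [Equiv.symm_apply_apply]
    exact mul_ne_zero (Units.ne_zero _) hp

/-- The hexad system of the code. -/
def Hex : Set (Finset ArrayPt) :=
  {h | ∃ x ∈ ternaryGolayCode, ternarySupport x = h ∧ h.card = 6}

theorem pres_mem_aut {σ : Equiv.Perm ArrayPt} {c : ArrayPt → (ZMod 3)ˣ} (h : Pres σ c) :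
    σ ∈ setSystemAut Hex := by
  apply mem_aut_of_maps
  rintro _ ⟨x, hx, rfl, h6⟩
  refine ⟨monomialMap σ c x, h x hx, supp_mono σ c x, ?_⟩
  rw [card_image_of_injective _ σ.injective]
  exact h6

end Cfsg.Agent.Lib.Helper18.TG
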