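import Mathlib
import Cfsg.Prelude.Def_Sporadic_a
import Cfsg.Prelude.Def_SporadicCombinatorics
import Cfsg.Agent.Lib.Helper18.TG1

/-!
Explicit monomial automorphisms of the ternary code of length 12 forming a stabiliser chain:
the permutation parts act transitively on the injective 5-tuples of positions.
-/

set_option autoImplicit false

namespace Cfsg.Agent.Lib.Helper18.TG

open Cfsg Finset Cfsg.Agent.Lib.Helper28.TGolay

/-- The array point with a given index. -/
def idxPt (i : Fin 12) : ArrayPt := (⟨i.val / 3, by omega⟩, ((i.val % 3 : ℕ) : ZMod 3))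

theorem ptIdx_idxPt : ∀ i : Fin 12, ptIdx (idxPt i) = i := by decide

theorem idxPt_ptIdx : ∀ p : ArrayPt, idxPt (ptIdx p) = p := by decide

/-- The map given by a table. -/
def tabFn (l : List (Fin 12)) : Fin 12 → Fin 12 := fun i => l.getD i i

/-- Data of a monomial map: table, inverse table, sign changes. -/
structure MData where
  tab : List (Fin 12)
  inv : List (Fin 12)
  sgn : List Bool

/-- The two tables are inverse to each other. -/
def MData.Valid (m : MData) : Prop :=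
  ∀ i : Fin 12, tabFn m.inv (tabFn m.tab i) = i ∧ tabFn m.tab (tabFn m.inv i) = i

instance (m : MData) : Decidable m.Valid := by
  unfold MData.Valid
  infer_instance

/-- The permutation of the array. -/
def MData.perm (m : MData) (h : m.Valid) : Equiv.Perm ArrayPt where
  toFun p := idxPt (tabFn m.tab (ptIdx p))
  invFun p := idxPt (tabFn m.inv (ptIdx p))
  left_inv p := by
    show idxPt (tabFn m.inv (ptIdx (idxPt (tabFn m.tab (ptIdx p))))) = p
    rw [ptIdx_idxPt, (h _).1, idxPt_ptIdx]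
  right_inv p := by
    show idxPt (tabFn m.tab (ptIdx (idxPt (tabFn m.inv (ptIdx p))))) = p
    rw [ptIdx_idxPt, (h _).2, idxPt_ptIdx]

/-- The sign vector. -/
def MData.signs (m : MData) : ArrayPt → (ZMod 3)ˣ :=
  fun p => if m.sgn.getD (ptIdx p) false then -1 else 1

/-- The image of a generator. -/
def MData.word (m : MData) (j : Fin 6) : ArrayPt → ZMod 3 :=
  fun i => (m.signs i : ZMod 3) * gen j (idxPt (tabFn m.inv (ptIdx i)))

theorem MData.word_eq (m : MData) (h : m.Valid) (j : Fin 6) :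
    monomialMap (m.perm h) m.signs (gen j) = m.word j := rfl

/-- The chain: level, target, map. -/
def chainData : List (ℕ × Fin 12 × MData) :=
  [
    (0, 0, ⟨[0, 1, 2, 3, 4, 5, 6, 7, 8, 9, 10, 11], [0, 1, 2, 3, 4, 5, 6, 7, 8, 9, 10, 11], [false, false, false, false, false, false, false, false, false, false, false, false]⟩),
    (0, 1, ⟨[1, 0, 2, 3, 4, 5, 11, 9, 10, 7, 8, 6], [1, 0, 2, 3, 4, 5, 11, 9, 10, 7, 8, 6], [false, false, false, false, false, false, false, false, false, false, false, false]⟩),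
    (0, 2, ⟨[2, 0, 1, 3, 4, 5, 8, 6, 7, 10, 11, 9], [1, 2, 0, 3, 4, 5, 7, 8, 6, 11, 9, 10], [false, false, false, false, false, false, false, false, false, false, false, false]⟩),
    (0, 3, ⟨[3, 0, 1, 2, 4, 5, 10, 7, 6, 8, 9, 11], [1, 2, 3, 0, 4, 5, 8, 7, 9, 10, 6, 11], [true, true, false, false, true, true, false, false, true, false, true, false]⟩),
    (0, 4, ⟨[4, 0, 1, 2, 3, 5, 6, 9, 10, 11, 7, 8], [1, 2, 3, 4, 0, 5, 6, 10, 11, 7, 8, 9], [false, false, true, false, true, false, false, true, true, true, true, false]⟩),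
    (0, 5, ⟨[5, 0, 1, 2, 3, 4, 9, 6, 8, 7, 11, 10], [1, 2, 3, 4, 5, 0, 7, 9, 8, 6, 11, 10], [true, true, false, true, true, false, false, true, false, true, false, false]⟩),
    (0, 6, ⟨[6, 0, 1, 2, 3, 9, 5, 4, 7, 10, 8, 11], [1, 2, 3, 4, 7, 6, 0, 8, 10, 5, 9, 11], [true, false, true, true, false, true, false, false, false, true, true, false]⟩),
    (0, 7, ⟨[7, 0, 1, 2, 3, 11, 10, 8, 9, 4, 5, 6], [1, 2, 3, 4, 9, 10, 11, 0, 7, 8, 6, 5], [true, false, false, false, false, true, true, true, true, true, false, false]⟩),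
    (0, 8, ⟨[8, 0, 1, 2, 3, 10, 7, 11, 4, 6, 9, 5], [1, 2, 3, 4, 8, 11, 9, 6, 0, 10, 5, 7], [false, false, false, true, false, false, true, true, false, false, true, false]⟩),
    (0, 9, ⟨[9, 0, 1, 2, 3, 6, 4, 5, 11, 8, 10, 7], [1, 2, 3, 4, 6, 7, 5, 11, 9, 0, 10, 8], [true, false, true, true, true, false, true, false, true, false, false, false]⟩),
    (0, 10, ⟨[10, 0, 1, 2, 3, 8, 11, 7, 5, 9, 6, 4], [1, 2, 3, 4, 11, 8, 10, 7, 5, 9, 0, 6], [true, true, true, false, true, true, true, true, false, false, true, false]⟩),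
    (0, 11, ⟨[11, 0, 1, 2, 3, 7, 8, 10, 6, 5, 4, 9], [1, 2, 3, 4, 10, 9, 8, 5, 6, 11, 7, 0], [false, true, true, true, false, true, false, true, true, false, false, false]⟩),
    (1, 1, ⟨[0, 1, 2, 3, 4, 5, 6, 7, 8, 9, 10, 11], [0, 1, 2, 3, 4, 5, 6, 7, 8, 9, 10, 11], [false, false, false, false, false, false, false, false, false, false, false, false]⟩),
    (1, 2, ⟨[0, 2, 1, 3, 4, 5, 9, 10, 11, 6, 7, 8], [0, 2, 1, 3, 4, 5, 9, 10, 11, 6, 7, 8], [false, false, false, false, false, false, false, false, false, false, false, false]⟩),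
    (1, 3, ⟨[0, 3, 1, 2, 4, 5, 11, 8, 9, 7, 6, 10], [0, 2, 3, 1, 4, 5, 10, 9, 7, 8, 11, 6], [true, true, false, false, true, true, false, false, true, false, true, false]⟩),
    (1, 4, ⟨[0, 4, 1, 2, 3, 5, 8, 11, 7, 9, 10, 6], [0, 2, 3, 4, 1, 5, 11, 8, 6, 9, 10, 7], [false, false, true, false, true, false, false, true, true, true, true, false]⟩),
    (1, 5, ⟨[0, 5, 1, 2, 3, 4, 10, 7, 11, 6, 8, 9], [0, 2, 3, 4, 5, 1, 9, 7, 10, 11, 6, 8], [true, true, false, true, true, false, false, true, false, true, false, false]⟩),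
    (1, 6, ⟨[0, 6, 1, 2, 3, 9, 11, 10, 8, 4, 7, 5], [0, 2, 3, 4, 9, 11, 1, 10, 8, 5, 7, 6], [true, false, true, true, false, true, false, false, false, true, true, false]⟩),
    (1, 7, ⟨[0, 7, 1, 2, 3, 11, 6, 4, 5, 8, 9, 10], [0, 2, 3, 4, 7, 8, 6, 1, 9, 10, 11, 5], [true, false, false, false, false, true, true, true, true, true, false, false]⟩),
    (1, 8, ⟨[0, 8, 1, 2, 3, 10, 5, 6, 9, 11, 4, 7], [0, 2, 3, 4, 10, 6, 7, 11, 1, 8, 5, 9], [false, false, false, true, false, false, true, true, false, false, true, false]⟩),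
    (1, 9, ⟨[0, 9, 1, 2, 3, 6, 7, 8, 10, 5, 11, 4], [0, 2, 3, 4, 11, 9, 5, 6, 7, 1, 8, 10], [true, false, true, true, true, false, true, false, true, false, false, false]⟩),
    (1, 10, ⟨[0, 10, 1, 2, 3, 8, 4, 9, 6, 7, 5, 11], [0, 2, 3, 4, 6, 10, 8, 9, 5, 7, 1, 11], [true, true, true, false, true, true, true, true, false, false, true, false]⟩),
    (1, 11, ⟨[0, 11, 1, 2, 3, 7, 9, 5, 4, 10, 6, 8], [0, 2, 3, 4, 8, 7, 10, 5, 11, 6, 9, 1], [false, true, true, true, false, true, false, true, true, false, false, false]⟩),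
    (2, 2, ⟨[0, 1, 2, 3, 4, 5, 6, 7, 8, 9, 10, 11], [0, 1, 2, 3, 4, 5, 6, 7, 8, 9, 10, 11], [false, false, false, false, false, false, false, false, false, false, false, false]⟩),
    (2, 3, ⟨[0, 1, 3, 2, 4, 5, 7, 6, 10, 11, 8, 9], [0, 1, 3, 2, 4, 5, 7, 6, 10, 11, 8, 9], [true, true, false, false, true, true, false, false, true, false, true, false]⟩),
    (2, 4, ⟨[0, 1, 4, 2, 3, 5, 9, 10, 6, 8, 11, 7], [0, 1, 3, 4, 2, 5, 8, 11, 9, 6, 7, 10], [false, false, true, false, true, false, false, true, true, true, true, false]⟩),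
    (2, 5, ⟨[0, 1, 5, 2, 3, 4, 6, 8, 9, 10, 7, 11], [0, 1, 3, 4, 5, 2, 6, 10, 7, 8, 9, 11], [true, true, false, true, true, false, false, true, false, true, false, false]⟩),
    (2, 6, ⟨[0, 1, 6, 2, 3, 9, 4, 7, 5, 11, 10, 8], [0, 1, 3, 4, 6, 8, 2, 7, 11, 5, 10, 9], [true, false, true, true, false, true, false, false, false, true, true, false]⟩),
    (2, 7, ⟨[0, 1, 7, 2, 3, 11, 8, 9, 10, 6, 4, 5], [0, 1, 3, 4, 10, 11, 9, 2, 6, 7, 8, 5], [true, false, false, false, false, true, true, true, true, true, false, false]⟩),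
    (2, 8, ⟨[0, 1, 8, 2, 3, 10, 11, 4, 7, 5, 6, 9], [0, 1, 3, 4, 7, 9, 10, 8, 2, 11, 5, 6], [false, false, false, true, false, false, true, true, false, false, true, false]⟩),
    (2, 9, ⟨[0, 1, 9, 2, 3, 6, 5, 11, 4, 7, 8, 10], [0, 1, 3, 4, 8, 6, 5, 9, 10, 2, 11, 7], [true, false, true, true, true, false, true, false, true, false, false, false]⟩),
    (2, 10, ⟨[0, 1, 10, 2, 3, 8, 7, 5, 11, 4, 9, 6], [0, 1, 3, 4, 9, 7, 11, 6, 5, 10, 2, 8], [true, true, true, false, true, true, true, true, false, false, true, false]⟩),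
    (2, 11, ⟨[0, 1, 11, 2, 3, 7, 10, 6, 8, 9, 5, 4], [0, 1, 3, 4, 11, 10, 7, 5, 8, 9, 6, 2], [false, true, true, true, false, true, false, true, true, false, false, false]⟩),
    (3, 3, ⟨[0, 1, 2, 3, 4, 5, 6, 7, 8, 9, 10, 11], [0, 1, 2, 3, 4, 5, 6, 7, 8, 9, 10, 11], [false, false, false, false, false, false, false, false, false, false, false, false]⟩),
    (3, 4, ⟨[0, 1, 2, 4, 3, 5, 10, 9, 11, 7, 6, 8], [0, 1, 2, 4, 3, 5, 10, 9, 11, 7, 6, 8], [false, false, false, false, false, false, false, false, false, false, false, false]⟩),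
    (3, 5, ⟨[0, 1, 2, 5, 3, 4, 8, 6, 7, 11, 9, 10], [0, 1, 2, 4, 5, 3, 7, 8, 6, 10, 11, 9], [false, false, false, false, false, false, false, false, false, false, false, false]⟩),
    (3, 6, ⟨[0, 1, 2, 6, 3, 9, 7, 4, 10, 8, 5, 11], [0, 1, 2, 4, 7, 10, 3, 6, 9, 5, 8, 11], [false, true, true, false, false, false, false, false, false, false, false, false]⟩),
    (3, 7, ⟨[0, 1, 2, 7, 3, 11, 9, 8, 4, 5, 10, 6], [0, 1, 2, 4, 8, 9, 11, 3, 7, 6, 10, 5], [true, false, true, false, false, false, false, false, false, false, false, false]⟩),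
    (3, 8, ⟨[0, 1, 2, 8, 3, 10, 4, 11, 6, 9, 7, 5], [0, 1, 2, 4, 6, 11, 8, 10, 3, 9, 5, 7], [true, true, false, false, false, false, false, false, false, false, false, false]⟩),
    (3, 9, ⟨[0, 1, 2, 9, 3, 6, 11, 5, 8, 10, 4, 7], [0, 1, 2, 4, 10, 7, 5, 11, 8, 3, 9, 6], [false, true, true, false, false, false, false, false, false, false, false, false]⟩),
    (3, 10, ⟨[0, 1, 2, 10, 3, 8, 5, 7, 9, 6, 11, 4], [0, 1, 2, 4, 11, 6, 9, 7, 5, 8, 3, 10], [true, true, false, false, false, false, false, false, false, false, false, false]⟩),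
    (3, 11, ⟨[0, 1, 2, 11, 3, 7, 6, 10, 5, 4, 8, 9], [0, 1, 2, 4, 9, 8, 6, 5, 10, 11, 7, 3], [true, false, true, false, false, false, false, false, false, false, false, false]⟩),
    (4, 4, ⟨[0, 1, 2, 3, 4, 5, 6, 7, 8, 9, 10, 11], [0, 1, 2, 3, 4, 5, 6, 7, 8, 9, 10, 11], [false, false, false, false, false, false, false, false, false, false, false, false]⟩),
    (4, 5, ⟨[0, 1, 2, 3, 5, 4, 9, 11, 10, 6, 8, 7], [0, 1, 2, 3, 5, 4, 9, 11, 10, 6, 8, 7], [false, false, false, false, false, false, false, false, false, false, false, false]⟩),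
    (4, 6, ⟨[0, 1, 2, 3, 6, 9, 5, 8, 11, 4, 7, 10], [0, 1, 2, 3, 9, 6, 4, 10, 7, 5, 11, 8], [false, true, true, false, false, false, false, false, false, false, false, false]⟩),
    (4, 7, ⟨[0, 1, 2, 3, 7, 11, 10, 5, 6, 8, 9, 4], [0, 1, 2, 3, 11, 7, 8, 4, 9, 10, 6, 5], [true, false, true, false, false, false, false, false, false, false, false, false]⟩),
    (4, 8, ⟨[0, 1, 2, 3, 8, 10, 7, 9, 5, 11, 4, 6], [0, 1, 2, 3, 10, 8, 11, 6, 4, 7, 5, 9], [true, true, false, false, false, false, false, false, false, false, false, false]⟩),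
    (4, 9, ⟨[0, 1, 2, 3, 9, 6, 4, 10, 7, 5, 11, 8], [0, 1, 2, 3, 6, 9, 5, 8, 11, 4, 7, 10], [false, true, true, false, false, false, false, false, false, false, false, false]⟩),
    (4, 10, ⟨[0, 1, 2, 3, 10, 8, 11, 6, 4, 7, 5, 9], [0, 1, 2, 3, 8, 10, 7, 9, 5, 11, 4, 6], [true, true, false, false, false, false, false, false, false, false, false, false]⟩),
    (4, 11, ⟨[0, 1, 2, 3, 11, 7, 8, 4, 9, 10, 6, 5], [0, 1, 2, 3, 7, 11, 10, 5, 6, 8, 9, 4], [true, false, true, false, false, false, false, false, false, false, false, false]⟩)]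

/-- The property of an entry of the chain. -/
def GoodEntry (e : ℕ × Fin 12 × MData) : Prop :=
  e.2.2.Valid ∧ (∀ j : Fin 6, IsWordD (e.2.2.word j)) ∧
    (∀ i : Fin 12, i.val < e.1 → tabFn e.2.2.tab i = i) ∧
    ∀ i : Fin 12, i.val = e.1 → tabFn e.2.2.tab i = e.2.1

instance (e : ℕ × Fin 12 × MData) : Decidable (GoodEntry e) := by
  unfold GoodEntry
  infer_instance

set_option maxRecDepth 100000 in
theorem chain_good : ∀ lev : Fin 5, ∀ y : Fin 12, lev.val ≤ y.val →
    ∃ e ∈ chainData, e.1 = lev.val ∧ e.2.1 = y ∧ GoodEntry e := by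
  decide +kernel

theorem chain_exists (lev : Fin 5) (z : ArrayPt) (hz : lev.val ≤ (ptIdx z).val) :
    ∃ (σ : Equiv.Perm ArrayPt) (c : ArrayPt → (ZMod 3)ˣ), Pres σ c ∧
      (∀ i : Fin 12, i.val < lev.val → σ (idxPt i) = idxPt i) ∧
      ∀ i : Fin 12, i.val = lev.val → σ (idxPt i) = z := by
  obtain ⟨e, _, h1, h2, hv, hw, hfix, hmap⟩ := chain_good lev (ptIdx z) hz
  refine ⟨e.2.2.perm hv, e.2.2.signs, ?_, ?_, ?_⟩
  · apply pres_of_gen
    intro j
    rw [MData.word_eq]
    exact hw j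
  · intro i hi
    show idxPt (tabFn e.2.2.tab (ptIdx (idxPt i))) = idxPt i
    rw [ptIdx_idxPt, hfix i (by rw [h1]; exact hi)]
  · intro i hi
    show idxPt (tabFn e.2.2.tab (ptIdx (idxPt i))) = z
    rw [ptIdx_idxPt, hmap i (by rw [h1]; exact hi), h2, idxPt_ptIdx]

/-- The base points. -/
def bpt (i : Fin 5) : ArrayPt := idxPt (Fin.castLE (by norm_num) i)

theorem bpt_injective : Function.Injective bpt := by decide

theorem trans5 (y : Fin 5 ↪ ArrayPt) :
    ∃ (σ : Equiv.Perm ArrayPt) (c : ArrayPt → (ZMod 3)ˣ), Pres σ c ∧ ∀ i : Fin 5, σ (bpt i) = y i := by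
  have key : ∀ j : ℕ, j ≤ 5 → ∃ (σ : Equiv.Perm ArrayPt) (c : ArrayPt → (ZMod 3)ˣ), Pres σ c ∧
      ∀ i : Fin 5, i.val < j → σ (bpt i) = y i := by
    intro j
    induction j with
    | zero =>
      intro _
      exact ⟨1, fun _ => 1, pres_one, fun i hi => absurd hi (Nat.not_lt_zero _)⟩
    | succ j ih =>
      intro hj
      obtain ⟨σ, c, hp, hσ⟩ := ih (by omega)
      have hj5 : j < 5 := by omega
      have hz : j ≤ (ptIdx (σ.symm (y ⟨j, hj5⟩))).val := by
        by_contra hlt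
        rw [not_le] at hlt
        have h1 : σ.symm (y ⟨j, hj5⟩) = bpt ⟨(ptIdx (σ.symm (y ⟨j, hj5⟩))).val, by omega⟩ := by
          rw [bpt]
          conv_lhs => rw [← idxPt_ptIdx (σ.symm (y ⟨j, hj5⟩))]
          congr 1
        have h2 := hσ ⟨(ptIdx (σ.symm (y ⟨j, hj5⟩))).val, by omega⟩ hlt
        rw [← h1, Equiv.apply_symm_apply] at h2
        have h3 := y.injective h2
        have h4 := congrArg Fin.val h3
        simp only at h4
        omega
      obtain ⟨τ, d, hq, hfix, hmap⟩ := chain_exists ⟨j, hj5⟩ (σ.symm (y ⟨j, hj5⟩)) hz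
      refine ⟨σ * τ, fun i => c i * d (σ.symm i), pres_mul hp hq, ?_⟩
      intro i hi
      rw [Equiv.Perm.mul_apply]
      by_cases hij : i.val < j
      · rw [bpt, hfix _ (by simpa using hij)]
        exact hσ i hij
      · have hij' : i.val = j := by omega
        rw [bpt, hmap _ (by simpa using hij'), Equiv.apply_symm_apply]
        congr 1
        exact Fin.ext hij'.symm
  obtain ⟨σ, c, hp, hσ⟩ := key 5 le_rfl
  exact ⟨σ, c, hp, fun i => hσ i i.isLt⟩

end Cfsg.Agent.Lib.Helper18.TG
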