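import Mathlib
import Cfsg.Prelude.Def_Sporadic_a
import Cfsg.Agent.Lib.Helper18.S22M22

/-!
General lemmas on Steiner systems: inclusion forces equality, derived designs, transport of
automorphism groups along isomorphisms.
-/

set_option autoImplicit false

namespace Cfsg.Agent.Lib.Helper18.W23

open Cfsg Finset Cfsg.Agent.Lib.Helper21 Cfsg.Agent.Lib.Helper18.Plane4
open Cfsg.Agent.Lib.Helper18.S22Plane

section gen

variable {α : Type*} [DecidableEq α] {β : Type*} [DecidableEq β]

theorem steiner_eq_of_subset {t k : ℕ} {D D' : Set (Finset α)} (hD : IsSteinerSystem t k D)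
    (hD' : IsSteinerSystem t k D') (htk : t ≤ k) (h : D ⊆ D') : D = D' := by
  apply Set.Subset.antisymm h
  intro b' hb'
  have hc := hD'.1 b' hb'
  obtain ⟨s, hs, hsc⟩ := Finset.exists_subset_card_eq (by rw [hc]; exact htk : t ≤ b'.card)
  obtain ⟨b, ⟨hb, hsb⟩, _⟩ := hD.2 s hsc
  obtain ⟨c, _, huniq⟩ := hD'.2 s hsc
  have h1 := huniq b ⟨h hb, hsb⟩
  have h2 := huniq b' ⟨hb', hs⟩
  rw [h2, ← h1]
  exact hb

theorem iso_of_maps {t k : ℕ} {B : Set (Finset α)} {B' : Set (Finset β)}
    (hB : IsSteinerSystem t k B) (hB' : IsSteinerSystem t k B') (htk : t ≤ k) (e : α ≃ β)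
    (h : ∀ b ∈ B, b.image e ∈ B') : (fun b : Finset α => b.image e) '' B = B' :=
  steiner_eq_of_subset (steiner_image_equiv hB e) hB' htk (by
    rintro _ ⟨b, hb, rfl⟩
    exact h b hb)

theorem derived_steiner_gen {t k : ℕ} {D : Set (Finset (Option α))}
    (hD : IsSteinerSystem (t + 1) (k + 1) D) : IsSteinerSystem t k (lines D) := by
  constructor
  · intro l hl
    have := hD.1 _ hl
    rw [card_insertNone] at this
    omega
  · intro s hs
    obtain ⟨b, ⟨hb, hsub⟩, huniq⟩ := hD.2 (insertNone s) (by rw [card_insertNone, hs])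
    have hnone : none ∈ b := hsub none_mem_insertNone
    have hb' : insertNone (eraseNone b) = b := by
      rw [insertNone_eraseNone, insert_eq_of_mem hnone]
    refine ⟨eraseNone b, ⟨?_, ?_⟩, ?_⟩
    · show insertNone (eraseNone b) ∈ D
      rw [hb']
      exact hb
    · intro a ha
      rw [mem_eraseNone]
      exact hsub (some_mem_insertNone.2 ha)
    · rintro l' ⟨hl', hsl'⟩
      have : insertNone l' = b := by
        apply huniq
        refine ⟨hl', ?_⟩
        intro o ho
        cases o with
        | none => exact none_mem_insertNone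
        | some a => exact some_mem_insertNone.2 (hsl' (some_mem_insertNone.1 ho))
      rw [← this, eraseNone_insertNone]

theorem image_symm_eq {B : Set (Finset α)} {B' : Set (Finset β)} (e : α ≃ β)
    (he : (fun b : Finset α => b.image e) '' B = B') :
    (fun b : Finset β => b.image e.symm) '' B' = B := by
  rw [← he, Set.image_image]
  convert Set.image_id B using 2
  ext b : 1
  rw [image_image]
  simp

end gen

section aut

variable {α : Type*} [Fintype α] [DecidableEq α] {β : Type*} [Fintype β] [DecidableEq β]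

theorem permCongr_mem_aut {B : Set (Finset α)} {B' : Set (Finset β)} (e : α ≃ β)
    (he : (fun b : Finset α => b.image e) '' B = B') {g : Equiv.Perm α}
    (hg : g ∈ setSystemAut B) : e.permCongr g ∈ setSystemAut B' := by
  apply mem_aut_of_maps
  intro b' hb'
  rw [← he] at hb' ⊢
  obtain ⟨b, hb, rfl⟩ := hb'
  have hgb : b.image g ∈ B := by
    have := mem_aut_iff.1 hg
    rw [← this]
    exact ⟨b, hb, rfl⟩
  refine ⟨b.image g, hgb, ?_⟩
  show (b.image g).image e = (b.image e).image (e.permCongr g)
  rw [image_image, image_image]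
  apply image_congr
  intro x _
  simp [Equiv.permCongr_apply]

theorem map_aut_eq {B : Set (Finset α)} {B' : Set (Finset β)} (e : α ≃ β)
    (he : (fun b : Finset α => b.image e) '' B = B') :
    (setSystemAut B).map (e.permCongrHom : Equiv.Perm α →* Equiv.Perm β) = setSystemAut B' := by
  ext g'
  rw [Subgroup.mem_map]
  constructor
  · rintro ⟨g, hg, rfl⟩
    exact permCongr_mem_aut e he hg
  · intro hg'
    refine ⟨e.symm.permCongr g', permCongr_mem_aut e.symm (image_symm_eq e he) hg', ?_⟩
    ext x
    simp [Equiv.permCongr_apply]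

/-- Transport of the automorphism group along an isomorphism of set systems. -/
noncomputable def autCongr {B : Set (Finset α)} {B' : Set (Finset β)} (e : α ≃ β)
    (he : (fun b : Finset α => b.image e) '' B = B') :
    ↥(setSystemAut B) ≃* ↥(setSystemAut B') :=
  (e.permCongrHom.subgroupMap (setSystemAut B)).trans (MulEquiv.subgroupCongr (map_aut_eq e he))

theorem pretransitive_congr {B : Set (Finset α)} {B' : Set (Finset β)} (e : α ≃ β)
    (he : (fun b : Finset α => b.image e) '' B = B') (n : ℕ)
    (h : MulAction.IsMultiplyPretransitive (setSystemAut B') β n) :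
    MulAction.IsMultiplyPretransitive (setSystemAut B) α n := by
  rw [MulAction.isMultiplyPretransitive_iff] at h ⊢
  intro x y
  obtain ⟨g', hg'⟩ := h (x.trans e.toEmbedding) (y.trans e.toEmbedding)
  refine ⟨⟨e.symm.permCongr g'.1, permCongr_mem_aut e.symm (image_symm_eq e he) g'.2⟩, ?_⟩
  ext i
  have := congrArg (fun f : Fin n ↪ β => f i) hg'
  have h2 : g'.1 (e (x i)) = e (y i) := this
  show e.symm.permCongr g'.1 (x i) = y i
  rw [Equiv.permCongr_apply]
  simp [h2]

theorem exists_equiv_option_gen {γ : Type*} [Fintype γ] [DecidableEq γ]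
    (h : Fintype.card α = Fintype.card γ + 1) (p : α) : ∃ φ : α ≃ Option γ, φ p = none := by
  have c : Fintype.card (Option γ) = Fintype.card γ + 1 := Fintype.card_option
  have φ₀ : α ≃ Option γ := Fintype.equivOfCardEq (h.trans c.symm)
  refine ⟨φ₀.trans (Equiv.swap (φ₀ p) none), ?_⟩
  simp

end aut

end Cfsg.Agent.Lib.Helper18.W23
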