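import Mathlib
import Cfsg.Agent.Lib.Helper21.GolayCore

/-!
Bit masks of subsets of `Fin n`.
-/

set_option autoImplicit false

namespace Cfsg.Agent.Lib.Helper18.WS

open Finset Cfsg.Agent.Lib.Helper21

variable {n : ℕ}

/-- Bit mask of a subset of `Fin n`. -/
def msk (s : Finset (Fin n)) : ℕ := Nat.ofBits (fun i : Fin n => decide (i ∈ s))

theorem testBit_msk (s : Finset (Fin n)) (i : Fin n) : (msk s).testBit i = decide (i ∈ s) := by
  unfold msk
  rw [Nat.testBit_ofBits_lt _ _ i.isLt]

theorem testBit_msk_ge (s : Finset (Fin n)) (j : ℕ) (hj : n ≤ j) : (msk s).testBit j = false :=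
  Nat.testBit_ofBits_ge _ _ hj

theorem msk_lt (s : Finset (Fin n)) : msk s < 2 ^ n := Nat.ofBits_lt_two_pow _

theorem eq_of_testBit_fin {a b : ℕ} (ha : a < 2 ^ n) (hb : b < 2 ^ n)
    (h : ∀ i : Fin n, a.testBit i = b.testBit i) : a = b := by
  apply Nat.eq_of_testBit_eq
  intro i
  by_cases hi : i < n
  · exact h ⟨i, hi⟩
  · have hi' : n ≤ i := Nat.le_of_not_lt hi
    rw [Nat.testBit_lt_two_pow (lt_of_lt_of_le ha (Nat.pow_le_pow_right (by norm_num) hi')),
      Nat.testBit_lt_two_pow (lt_of_lt_of_le hb (Nat.pow_le_pow_right (by norm_num) hi'))]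

theorem msk_injective : Function.Injective (msk (n := n)) := by
  intro s t h
  ext i
  have h1 := testBit_msk s i
  have h2 := testBit_msk t i
  rw [h] at h1
  rw [h1] at h2
  simpa using h2

theorem msk_inter (s t : Finset (Fin n)) : msk (s ∩ t) = msk s &&& msk t := by
  apply eq_of_testBit_fin (msk_lt _) (Nat.and_lt_two_pow _ (msk_lt _))
  intro i
  rw [Nat.testBit_and, testBit_msk, testBit_msk, testBit_msk]
  simp [Finset.mem_inter]

theorem card_eq_popc (s : Finset (Fin n)) : s.card = popc n (msk s) := by
  rw [popc_eq_sum, ← Fin.sum_univ_eq_sum_range (fun i => ((msk s).testBit i).toNat) n,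
    Finset.card_eq_sum_ones, ← Finset.sum_filter_add_sum_filter_not Finset.univ (· ∈ s)]
  have h1 : ∑ x ∈ Finset.univ.filter (· ∈ s), ((msk s).testBit x).toNat = ∑ x ∈ s, 1 := by
    rw [Finset.filter_mem_eq_inter, Finset.univ_inter]
    apply Finset.sum_congr rfl
    intro p hp
    rw [testBit_msk]
    simp [hp]
  have h2 : ∑ x ∈ Finset.univ.filter (fun x => ¬ x ∈ s), ((msk s).testBit x).toNat = 0 := by
    apply Finset.sum_eq_zero
    intro p hp
    rw [Finset.mem_filter] at hp
    rw [testBit_msk]
    simp [hp.2]
  rw [h1, h2, add_zero]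

theorem subset_iff_msk (s t : Finset (Fin n)) : s ⊆ t ↔ msk s &&& msk t = msk s := by
  rw [← msk_inter]
  constructor
  · intro h
    rw [Finset.inter_eq_left.2 h]
  · intro h
    exact Finset.inter_eq_left.1 (msk_injective h)

/-- The subset with a given mask. -/
def unmsk (n m : ℕ) : Finset (Fin n) := Finset.univ.filter (fun i : Fin n => m.testBit i = true)

theorem mem_unmsk (m : ℕ) (i : Fin n) : i ∈ unmsk n m ↔ m.testBit i = true := by
  unfold unmsk
  simp

theorem msk_unmsk (m : ℕ) (hm : m < 2 ^ n) : msk (unmsk n m) = m := by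
  apply eq_of_testBit_fin (msk_lt _) hm
  intro i
  rw [testBit_msk]
  by_cases h : m.testBit i = true
  · simp [mem_unmsk, h]
  · simp [mem_unmsk, h]

theorem unmsk_msk (s : Finset (Fin n)) : unmsk n (msk s) = s := by
  ext i
  rw [mem_unmsk, testBit_msk]
  simp

/-- The set system with a given list of masks. -/
def StdOf (n : ℕ) (Wm : List ℕ) : Set (Finset (Fin n)) := {b | msk b ∈ Wm}

theorem mem_StdOf {Wm : List ℕ} {b : Finset (Fin n)} : b ∈ StdOf n Wm ↔ msk b ∈ Wm := Iff.rfl

theorem unmsk_mem_StdOf {Wm : List ℕ} {m : ℕ} (hm : m < 2 ^ n) (h : m ∈ Wm) :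
    unmsk n m ∈ StdOf n Wm := by
  rw [mem_StdOf, msk_unmsk m hm]
  exact h

theorem ncard_StdOf_le (Wm : List ℕ) : (StdOf n Wm).ncard ≤ Wm.length := by
  have hsub : StdOf n Wm ⊆ ((Wm.toFinset.image (unmsk n) : Finset (Finset (Fin n))) :
      Set (Finset (Fin n))) := by
    intro b hb
    rw [Finset.mem_coe, Finset.mem_image]
    exact ⟨msk b, List.mem_toFinset.2 hb, unmsk_msk b⟩
  calc (StdOf n Wm).ncard ≤ ((Wm.toFinset.image (unmsk n) : Finset (Finset (Fin n))) :
        Set (Finset (Fin n))).ncard := Set.ncard_le_ncard hsub (Finset.finite_toSet _)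
    _ = (Wm.toFinset.image (unmsk n)).card := Set.ncard_coe_finset _
    _ ≤ Wm.toFinset.card := Finset.card_image_le
    _ ≤ Wm.length := List.toFinset_card_le Wm

/-! ### Masks on `Fin (n + 1)` versus `Option (Fin n)` -/

/-- `none ↦ last`, `some i ↦ i`. -/
def eps (n : ℕ) : Option (Fin n) ≃ Fin (n + 1) := (finSuccEquivLast (n := n)).symm

theorem eps_none : eps n none = Fin.last n := by
  simp [eps]

theorem eps_some (i : Fin n) : eps n (some i) = i.castSucc := by
  simp [eps]

theorem msk_image_insertNone (l : Finset (Fin n)) :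
    msk ((insertNone l).image (eps n)) = msk l ||| 2 ^ n := by
  apply eq_of_testBit_fin (msk_lt _)
  · apply Nat.or_lt_two_pow
    · exact lt_of_lt_of_le (msk_lt l) (Nat.pow_le_pow_right (by norm_num) (Nat.le_succ n))
    · exact Nat.pow_lt_pow_right (by norm_num) (Nat.lt_succ_self n)
  · intro i
    rw [testBit_msk, Nat.testBit_or, Nat.testBit_two_pow]
    induction i using Fin.lastCases with
    | last =>
      have h1 : Fin.last n ∈ (insertNone l).image (eps n) := by
        rw [Finset.mem_image]
        exact ⟨none, none_mem_insertNone, eps_none⟩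
      simp [h1]
    | cast j =>
      have h2 : (msk l).testBit (j.castSucc : Fin (n + 1)) = decide (j ∈ l) := by
        have := testBit_msk l j
        simpa using this
      have h3 : (j.castSucc ∈ (insertNone l).image (eps n)) ↔ j ∈ l := by
        rw [Finset.mem_image]
        constructor
        · rintro ⟨o, ho, hoj⟩
          cases o with
          | none =>
            rw [eps_none] at hoj
            exact absurd hoj (Fin.castSucc_lt_last j).ne'
          | some a =>
            rw [eps_some] at hoj
            have : a = j := Fin.castSucc_injective _ hoj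
            rw [← this]
            exact some_mem_insertNone.1 ho
        · intro hj
          exact ⟨some j, some_mem_insertNone.2 hj, eps_some j⟩
      have h4 : ¬ (n = (j : ℕ)) := by
        have := j.isLt
        omega
      rw [h2]
      simp [h3, h4]

theorem msk_image_map_some (Q : Finset (Fin n)) :
    msk ((Q.map Function.Embedding.some).image (eps n)) = msk Q := by
  apply eq_of_testBit_fin (msk_lt _)
  · exact lt_of_lt_of_le (msk_lt Q) (Nat.pow_le_pow_right (by norm_num) (Nat.le_succ n))
  · intro i
    rw [testBit_msk]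
    induction i using Fin.lastCases with
    | last =>
      have h1 : Fin.last n ∉ (Q.map Function.Embedding.some).image (eps n) := by
        rw [Finset.mem_image]
        rintro ⟨o, ho, hoj⟩
        obtain ⟨a, _, rfl⟩ := Finset.mem_map.1 ho
        rw [Function.Embedding.some_apply, eps_some] at hoj
        exact absurd hoj (Fin.castSucc_lt_last a).ne
      have h2 : (msk Q).testBit ((Fin.last n : Fin (n + 1)) : ℕ) = false :=
        testBit_msk_ge Q _ (by simp)
      rw [h2]
      simp [h1]
    | cast j =>
      have h2 : (msk Q).testBit (j.castSucc : Fin (n + 1)) = decide (j ∈ Q) := by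
        have := testBit_msk Q j
        simpa using this
      have h3 : (j.castSucc ∈ (Q.map Function.Embedding.some).image (eps n)) ↔ j ∈ Q := by
        rw [Finset.mem_image]
        constructor
        · rintro ⟨o, ho, hoj⟩
          obtain ⟨a, ha, rfl⟩ := Finset.mem_map.1 ho
          rw [Function.Embedding.some_apply, eps_some] at hoj
          have : a = j := Fin.castSucc_injective _ hoj
          rw [← this]
          exact ha
        · intro hj
          exact ⟨some j, Finset.mem_map.2 ⟨j, hj, rfl⟩, eps_some j⟩
      rw [h2]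
      simp [h3]

end Cfsg.Agent.Lib.Helper18.WS
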