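import Mathlib

/-!
A generic verified backtracking search: all families `R` of candidates covering every item,
with every member acceptable with respect to any list of other members, are found.
-/

set_option autoImplicit false

namespace Cfsg.Agent.Lib.Helper18.WS

variable {ι κ : Type*}

/-- Backtracking search over the items in order. -/
def solve (covers : κ → ι → Bool) (ok : κ → List κ → Bool) (cands : List κ) :
    List ι → List κ → List (List κ)
  | [], chosen => [chosen]
  | T :: rest, chosen =>
    if chosen.any (fun P => covers P T) then solve covers ok cands rest chosen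
    else (cands.filter (fun P => covers P T && ok P chosen)).flatMap
      (fun P => solve covers ok cands rest (P :: chosen))

theorem solve_complete (covers : κ → ι → Bool) (ok : κ → List κ → Bool) (cands : List κ)
    (R : κ → Prop) (ha : ∀ P, R P → P ∈ cands)
    (hb : ∀ P chosen, R P → (∀ P' ∈ chosen, R P') → P ∉ chosen → ok P chosen = true) :
    ∀ (items : List ι) (chosen : List κ), (∀ T ∈ items, ∃ P, R P ∧ covers P T = true) →
      (∀ P ∈ chosen, R P) →
      ∃ res ∈ solve covers ok cands items chosen, (∀ P ∈ res, R P) ∧ (∀ P ∈ chosen, P ∈ res) ∧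
        ∀ T ∈ items, ∃ P ∈ res, covers P T = true := by
  intro items
  induction items with
  | nil =>
    intro chosen _ hch
    refine ⟨chosen, by simp [solve], hch, fun P hP => hP, ?_⟩
    intro T hT
    simp at hT
  | cons T rest ih =>
    intro chosen hc hch
    have hc' : ∀ T' ∈ rest, ∃ P, R P ∧ covers P T' = true :=
      fun T' hT' => hc T' (List.mem_cons_of_mem _ hT')
    by_cases hany : chosen.any (fun P => covers P T) = true
    · obtain ⟨res, hres, h1, h2, h3⟩ := ih chosen hc' hch
      refine ⟨res, ?_, h1, h2, ?_⟩
      · rw [solve, if_pos hany]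
        exact hres
      · intro T' hT'
        rcases List.mem_cons.1 hT' with rfl | hT'
        · obtain ⟨P, hP, hcov⟩ := List.any_eq_true.1 hany
          exact ⟨P, h2 P hP, hcov⟩
        · exact h3 T' hT'
    · obtain ⟨P, hRP, hcov⟩ := hc T List.mem_cons_self
      have hPn : P ∉ chosen := by
        intro hP
        exact hany (List.any_eq_true.2 ⟨P, hP, hcov⟩)
      have hok := hb P chosen hRP hch hPn
      obtain ⟨res, hres, h1, h2, h3⟩ := ih (P :: chosen) hc' (by
        intro P' hP'
        rcases List.mem_cons.1 hP' with rfl | hP'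
        · exact hRP
        · exact hch P' hP')
      refine ⟨res, ?_, h1, fun P' hP' => h2 P' (List.mem_cons_of_mem _ hP'), ?_⟩
      · rw [solve, if_neg hany, List.mem_flatMap]
        refine ⟨P, ?_, hres⟩
        rw [List.mem_filter]
        refine ⟨ha P hRP, ?_⟩
        rw [Bool.and_eq_true]
        exact ⟨hcov, hok⟩
      · intro T' hT'
        rcases List.mem_cons.1 hT' with rfl | hT'
        · exact ⟨P, h2 P List.mem_cons_self, hcov⟩
        · exact h3 T' hT'

/-- With the uniqueness of covers inside `R`, the family `R` is exactly one of the results. -/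
theorem solve_exact (covers : κ → ι → Bool) (ok : κ → List κ → Bool) (cands : List κ)
    (R : κ → Prop) (items : List ι) (ha : ∀ P, R P → P ∈ cands)
    (hb : ∀ P chosen, R P → (∀ P' ∈ chosen, R P') → P ∉ chosen → ok P chosen = true)
    (hc : ∀ T ∈ items, ∃ P, R P ∧ covers P T = true)
    (hd : ∀ P, R P → ∃ T ∈ items, covers P T = true ∧ ∀ P', R P' → covers P' T = true → P' = P) :
    ∃ res ∈ solve covers ok cands items [], ∀ P, R P ↔ P ∈ res := by
  obtain ⟨res, hres, h1, _, h3⟩ := solve_complete covers ok cands R ha hb items [] hc (by simp)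
  refine ⟨res, hres, fun P => ⟨?_, h1 P⟩⟩
  intro hP
  obtain ⟨T, hT, _, huniq⟩ := hd P hP
  obtain ⟨P', hP', hcov'⟩ := h3 T hT
  rw [← huniq P' (h1 P' hP') hcov']
  exact hP'

end Cfsg.Agent.Lib.Helper18.WS
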