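import Mathlib
import Cfsg.Prelude.Def_Sporadic_a
import Cfsg.Agent.Lib.Helper18.WS1
import Cfsg.Agent.Lib.Helper18.WS2
import Cfsg.Agent.Lib.Helper18.W23Gen
import Cfsg.Agent.Lib.Helper21.Steiner

/-!
The blocks missing `none` of a Steiner system on `Option (Fin v)` whose derived design at `none`
is given by a list of masks are found by the backtracking search.
-/

set_option autoImplicit false

namespace Cfsg.Agent.Lib.Helper18.WS

open Cfsg Finset Cfsg.Agent.Lib.Helper21 Cfsg.Agent.Lib.Helper18.S22Plane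
open Cfsg.Agent.Lib.Helper18.W23

/-- Masks of the `(t+1)`-subsets contained in no block of the derived design. -/
def itemsL (t v : ℕ) (Wm : List ℕ) : List ℕ :=
  (List.range (2 ^ v)).filter
    (fun T => decide (popc v T = t + 1) && Wm.all (fun b => decide (T &&& b ≠ T)))

/-- Masks of the `(k+1)`-subsets meeting every block of the derived design in at most `t`
points. -/
def candsL (t k v : ℕ) (Wm : List ℕ) : List ℕ :=
  (List.range (2 ^ v)).filter
    (fun P => decide (popc v P = k + 1) && Wm.all (fun b => decide (popc v (P &&& b) ≤ t)))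

/-- Containment of masks. -/
def cov (P T : ℕ) : Bool := decide (T &&& P = T)

/-- Compatibility with the blocks already chosen. -/
def okc (t v : ℕ) (P : ℕ) (chosen : List ℕ) : Bool :=
  chosen.all (fun Q => decide (popc v (P &&& Q) ≤ t))

section ext

variable {t k v : ℕ} {D : Set (Finset (Option (Fin v)))}

theorem oval_card' (hD : IsSteinerSystem (t + 1) (k + 1) D) {Q : Finset (Fin v)}
    (hQ : Q ∈ ovals D) : Q.card = k + 1 := by
  have := hD.1 _ hQ
  rwa [card_map] at this

theorem oval_line_inter (hD : IsSteinerSystem (t + 1) (k + 1) D) {Q l : Finset (Fin v)}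
    (hQ : Q ∈ ovals D) (hl : l ∈ lines D) : (Q ∩ l).card ≤ t := by
  have hne : insertNone l ≠ Q.map Function.Embedding.some := by
    intro h
    have : none ∈ Q.map Function.Embedding.some := by
      rw [← h]
      exact none_mem_insertNone
    simp at this
  have h := inter_card_lt hD hl hQ hne
  have e : insertNone l ∩ Q.map Function.Embedding.some
      = (Q ∩ l).map Function.Embedding.some := by
    ext o
    cases o with
    | none => simp
    | some a => simp [and_comm]
  rw [e, card_map] at h
  omega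

theorem oval_oval_inter (hD : IsSteinerSystem (t + 1) (k + 1) D) {Q Q' : Finset (Fin v)}
    (hQ : Q ∈ ovals D) (hQ' : Q' ∈ ovals D) (hne : Q ≠ Q') : (Q ∩ Q').card ≤ t := by
  have hne' : Q.map Function.Embedding.some ≠ Q'.map Function.Embedding.some :=
    fun h => hne (map_injective _ h)
  have h := inter_card_lt hD hQ hQ' hne'
  rw [← map_inter, card_map] at h
  omega

theorem popc_msk_inter (s s' : Finset (Fin v)) : popc v (msk s &&& msk s') = (s ∩ s').card := by
  rw [← msk_inter, ← card_eq_popc]

theorem map_some_subset_insertNone {T l : Finset (Fin v)} :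
    T.map Function.Embedding.some ⊆ insertNone l ↔ T ⊆ l := by
  constructor
  · intro h a ha
    exact some_mem_insertNone.1 (h (mem_map.2 ⟨a, ha, rfl⟩))
  · intro h o ho
    obtain ⟨a, ha, rfl⟩ := mem_map.1 ho
    exact some_mem_insertNone.2 (h ha)

theorem ext_solve (htk : t ≤ k) {Wm : List ℕ} (hWlt : ∀ b ∈ Wm, b < 2 ^ v)
    (hD : IsSteinerSystem (t + 1) (k + 1) D) (hL : lines D = StdOf v Wm) :
    ∃ res ∈ solve cov (okc t v) (candsL t k v Wm) (itemsL t v Wm) [],
      ∀ Q : Finset (Fin v), Q ∈ ovals D ↔ msk Q ∈ res := by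
  have hline : ∀ b ∈ Wm, unmsk v b ∈ lines D := by
    intro b hb
    rw [hL]
    exact unmsk_mem_StdOf (hWlt b hb) hb
  have ha : ∀ P, (∃ Q ∈ ovals D, msk Q = P) → P ∈ candsL t k v Wm := by
    rintro _ ⟨Q, hQ, rfl⟩
    rw [candsL, List.mem_filter, List.mem_range, Bool.and_eq_true, decide_eq_true_eq,
      List.all_eq_true]
    refine ⟨msk_lt Q, ?_, ?_⟩
    · rw [← card_eq_popc, oval_card' hD hQ]
    · intro b hb
      rw [decide_eq_true_eq]
      have := oval_line_inter hD hQ (hline b hb)
      rwa [← popc_msk_inter, msk_unmsk b (hWlt b hb)] at this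
  have hb : ∀ P chosen, (∃ Q ∈ ovals D, msk Q = P) → (∀ P' ∈ chosen, ∃ Q ∈ ovals D, msk Q = P') →
      P ∉ chosen → okc t v P chosen = true := by
    rintro _ chosen ⟨Q, hQ, rfl⟩ hch hn
    rw [okc, List.all_eq_true]
    intro P' hP'
    obtain ⟨Q', hQ', rfl⟩ := hch P' hP'
    rw [decide_eq_true_eq, popc_msk_inter]
    apply oval_oval_inter hD hQ hQ'
    rintro rfl
    exact hn hP'
  have hc : ∀ T ∈ itemsL t v Wm, ∃ P, (∃ Q ∈ ovals D, msk Q = P) ∧ cov P T = true := by
    intro T hT
    rw [itemsL, List.mem_filter, List.mem_range, Bool.and_eq_true, decide_eq_true_eq,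
      List.all_eq_true] at hT
    obtain ⟨hlt, hpop, hnot⟩ := hT
    have hmT : msk (unmsk v T) = T := msk_unmsk T hlt
    have hcard : (unmsk v T).card = t + 1 := by rw [card_eq_popc, hmT, hpop]
    obtain ⟨c, ⟨hc, hsub⟩, _⟩ := hD.2 ((unmsk v T).map Function.Embedding.some) (by
      rw [card_map, hcard])
    rcases block_cases hc with ⟨_, hl, hce⟩ | ⟨_, hQ, hce⟩
    · exfalso
      rw [hce, map_some_subset_insertNone] at hsub
      have hm : msk (eraseNone c) ∈ Wm := by
        rw [hL] at hl
        exact hl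
      have := hnot _ hm
      rw [decide_eq_true_eq] at this
      apply this
      have h2 := (subset_iff_msk _ _).1 hsub
      rwa [hmT] at h2
    · refine ⟨msk (eraseNone c), ⟨eraseNone c, hQ, rfl⟩, ?_⟩
      rw [hce, map_subset_map] at hsub
      rw [cov, decide_eq_true_eq]
      have h2 := (subset_iff_msk _ _).1 hsub
      rwa [hmT] at h2
  have hd : ∀ P, (∃ Q ∈ ovals D, msk Q = P) → ∃ T ∈ itemsL t v Wm, cov P T = true ∧
      ∀ P', (∃ Q ∈ ovals D, msk Q = P') → cov P' T = true → P' = P := by
    rintro _ ⟨Q, hQ, rfl⟩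
    have hQc := oval_card' hD hQ
    obtain ⟨T', hT'Q, hT'c⟩ := exists_subset_card_eq (by rw [hQc]; omega : t + 1 ≤ Q.card)
    obtain ⟨c, _, huniq⟩ := hD.2 (T'.map Function.Embedding.some) (by rw [card_map, hT'c])
    have hQu : Q.map Function.Embedding.some = c :=
      huniq _ ⟨hQ, map_subset_map.2 hT'Q⟩
    refine ⟨msk T', ?_, ?_, ?_⟩
    · rw [itemsL, List.mem_filter, List.mem_range, Bool.and_eq_true, decide_eq_true_eq,
        List.all_eq_true]
      refine ⟨msk_lt T', ?_, ?_⟩
      · rw [← card_eq_popc, hT'c]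
      · intro b hb
        rw [decide_eq_true_eq]
        intro hTb
        have hl := hline b hb
        have hsub : T' ⊆ unmsk v b := by
          rw [subset_iff_msk, msk_unmsk b (hWlt b hb)]
          exact hTb
        have h1 : insertNone (unmsk v b) = c :=
          huniq _ ⟨hl, map_some_subset_insertNone.2 hsub⟩
        have : none ∈ Q.map Function.Embedding.some := by
          rw [hQu, ← h1]
          exact none_mem_insertNone
        simp at this
    · rw [cov, decide_eq_true_eq]
      exact (subset_iff_msk _ _).1 hT'Q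
    · rintro _ ⟨Q'', hQ'', rfl⟩ hcov
      rw [cov, decide_eq_true_eq] at hcov
      have hsub : T' ⊆ Q'' := (subset_iff_msk _ _).2 hcov
      have h1 : Q''.map Function.Embedding.some = c :=
        huniq _ ⟨hQ'', map_subset_map.2 hsub⟩
      rw [map_injective _ (h1.trans hQu.symm)]
  obtain ⟨res, hres, hR⟩ := solve_exact cov (okc t v) (candsL t k v Wm)
    (fun m => ∃ Q ∈ ovals D, msk Q = m) (itemsL t v Wm) ha hb hc hd
  refine ⟨res, hres, fun Q => ⟨fun hQ => (hR _).1 ⟨Q, hQ, rfl⟩, fun h => ?_⟩⟩
  obtain ⟨Q', hQ', he⟩ := (hR _).2 h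
  rw [← msk_injective he]
  exact hQ'

end ext

end Cfsg.Agent.Lib.Helper18.WS
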