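import Mathlib
import Cfsg.Prelude.Def_Sporadic_a
import Cfsg.Agent.Lib.Helper18.WS3
import Cfsg.Agent.Lib.Helper18.S22Unique

/-!
One step of the uniqueness chain: uniqueness of the derived designs plus a kernel-checked
search gives uniqueness one level up.
-/

set_option autoImplicit false

namespace Cfsg.Agent.Lib.Helper18.WS

open Cfsg Finset Cfsg.Agent.Lib.Helper21 Cfsg.Agent.Lib.Helper18.S22Plane
open Cfsg.Agent.Lib.Helper18.W23

/-- Uniqueness of the Steiner systems `S(t,k,v)` on `Fin v`, with an explicit model. -/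
def UniqFin (t k v : ℕ) (Wm : List ℕ) : Prop :=
  ∀ B : Set (Finset (Fin v)), IsSteinerSystem t k B → SetSystemIso B (StdOf v Wm)

/-- The map given by a table. -/
def permOf {v : ℕ} (tab : List (Fin v)) : Fin v → Fin v := fun i => tab.getD i i

/-- The action of a table on masks. -/
def mapM {v : ℕ} (tab : List (Fin v)) (m : ℕ) : ℕ := msk ((unmsk v m).image (permOf tab))

/-- The masks of the model one level up. -/
def nextW (v : ℕ) (Wm R1 : List ℕ) : List ℕ := Wm.map (fun b => b ||| 2 ^ v) ++ R1

/-- The statement checked by kernel computation at each level. -/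
def LevelCheck (t k v : ℕ) (Wm R1 : List ℕ) (tabs : List (List (Fin v))) : Prop :=
  ∀ res ∈ solve cov (okc t v) (candsL t k v Wm) (itemsL t v Wm) [],
    ∃ tab ∈ tabs, Function.Bijective (permOf tab) ∧ (∀ b ∈ Wm, mapM tab b ∈ Wm) ∧
      ∀ m ∈ res, mapM tab m ∈ R1

instance (t k v : ℕ) (Wm R1 : List ℕ) (tabs : List (List (Fin v))) :
    Decidable (LevelCheck t k v Wm R1 tabs) := by
  unfold LevelCheck
  infer_instance

theorem ncard_eq_of_steiner {α : Type*} [Fintype α] [DecidableEq α] {t k : ℕ} (htk : t ≤ k)
    {B : Set (Finset α)} (hB : IsSteinerSystem t k B) (N : ℕ)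
    (hN : N * k.choose t = (Fintype.card α).choose t) : B.ncard = N := by
  have h := steiner_lambda_eq hB ∅ (by simp) N (by simpa using hN) (by
    simp only [card_empty, Nat.sub_zero]
    exact Nat.choose_pos htk)
  rw [ncard_blocks, ← h]
  congr 1
  ext b
  simp

theorem level_step {t k v : ℕ} (htk : t ≤ k) {Wm R1 : List ℕ} {tabs : List (List (Fin v))}
    (hU : UniqFin t k v Wm) (hWlt : ∀ b ∈ Wm, b < 2 ^ v)
    (hN : (Wm.length + R1.length) * (k + 1).choose (t + 1) = (v + 1).choose (t + 1))
    (hchk : LevelCheck t k v Wm R1 tabs) :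
    UniqFin (t + 1) (k + 1) (v + 1) (nextW v Wm R1) := by
  intro B hB
  have hD₀ := steiner_image_equiv hB (eps v).symm
  have hL₀ : IsSteinerSystem t k (lines ((fun b : Finset (Fin (v + 1)) => b.image (eps v).symm) '' B)) :=
    derived_steiner_gen hD₀
  obtain ⟨e, he⟩ := hU _ hL₀
  have hD : IsSteinerSystem (t + 1) (k + 1)
      ((fun b : Finset (Option (Fin v)) => b.image e.optionCongr) ''
        ((fun b : Finset (Fin (v + 1)) => b.image (eps v).symm) '' B)) :=
    steiner_image_equiv hD₀ e.optionCongr
  have hL : lines ((fun b : Finset (Option (Fin v)) => b.image e.optionCongr) ''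
      ((fun b : Finset (Fin (v + 1)) => b.image (eps v).symm) '' B)) = StdOf v Wm := by
    rw [← he]
    symm
    apply steiner_eq_of_subset (steiner_image_equiv hL₀ e) (derived_steiner_gen hD) htk
    rintro _ ⟨l₀, hl₀, rfl⟩
    show insertNone (l₀.image e) ∈ (fun b : Finset (Option (Fin v)) => b.image e.optionCongr) ''
      ((fun b : Finset (Fin (v + 1)) => b.image (eps v).symm) '' B)
    rw [← image_insertNone]
    exact ⟨insertNone l₀, hl₀, rfl⟩
  obtain ⟨res, hres, hR⟩ := ext_solve htk hWlt hD hL
  obtain ⟨tab, _, hbij, hW, hRes⟩ := hchk res hres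
  let g : Equiv.Perm (Fin v) := Equiv.ofBijective (permOf tab) hbij
  have hmap : ∀ s : Finset (Fin v), mapM tab (msk s) = msk (s.image g) := by
    intro s
    rw [mapM, unmsk_msk]
    rfl
  refine ⟨(eps v).symm.trans (e.optionCongr.trans (g.optionCongr.trans (eps v))), ?_⟩
  have himg : ∀ b : Finset (Fin (v + 1)),
      b.image ((eps v).symm.trans (e.optionCongr.trans (g.optionCongr.trans (eps v))))
        = (((b.image (eps v).symm).image e.optionCongr).image g.optionCongr).image (eps v) := by
    intro b
    rw [image_image, image_image, image_image]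
    rfl
  apply Set.eq_of_subset_of_ncard_le
  · rintro _ ⟨b, hb, rfl⟩
    show msk (b.image _) ∈ nextW v Wm R1
    rw [himg]
    have hc : (b.image (eps v).symm).image e.optionCongr ∈
        (fun b : Finset (Option (Fin v)) => b.image e.optionCongr) ''
          ((fun b : Finset (Fin (v + 1)) => b.image (eps v).symm) '' B) :=
      ⟨_, ⟨b, hb, rfl⟩, rfl⟩
    rcases block_cases hc with ⟨_, hl, hce⟩ | ⟨_, hQ, hce⟩
    · rw [hce, image_insertNone, msk_image_insertNone, ← hmap, nextW, List.mem_append]
      left
      rw [List.mem_map]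
      rw [hL] at hl
      exact ⟨_, hW _ hl, rfl⟩
    · rw [hce, image_map_some, msk_image_map_some, ← hmap, nextW, List.mem_append]
      right
      exact hRes _ ((hR _).1 hQ)
  · rw [Set.ncard_image_of_injective _ (Finset.image_injective (Equiv.injective _))]
    have h1 := ncard_eq_of_steiner (Nat.succ_le_succ htk) hB (Wm.length + R1.length) (by
      rw [Fintype.card_fin]
      exact hN)
    rw [h1]
    calc (StdOf (v + 1) (nextW v Wm R1)).ncard ≤ (nextW v Wm R1).length := ncard_StdOf_le _
      _ = Wm.length + R1.length := by rw [nextW, List.length_append, List.length_map]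
  · exact Set.toFinite _

end Cfsg.Agent.Lib.Helper18.WS
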