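import Mathlib
import Cfsg.Prelude.Def_Sporadic_a
import Cfsg.Agent.Lib.Helper18.WS4

/-!
The data and the kernel-checked searches for the chain
S(0,1,7), S(1,2,8), S(2,3,9), S(3,4,10), S(4,5,11), S(5,6,12).
-/

set_option autoImplicit false

namespace Cfsg.Agent.Lib.Helper18.WS

open Cfsg Finset

/-- The model of S(0,1,7): the single block `{0}`. -/
def W7 : List ℕ := [1]

/-- The blocks missing the new point, one level above `W7`. -/
def R7 : List ℕ :=
  [6, 24, 96]

/-- Automorphisms of `W7` carrying each extension to the first one. -/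
def tabs7 : List (List (Fin 7)) :=
  [
    [0, 1, 2, 3, 4, 5, 6],
    [0, 1, 2, 3, 5, 4, 6],
    [0, 1, 2, 3, 5, 6, 4],
    [0, 1, 3, 2, 4, 5, 6],
    [0, 1, 3, 2, 5, 4, 6],
    [0, 1, 3, 2, 5, 6, 4],
    [0, 1, 3, 4, 2, 5, 6],
    [0, 1, 3, 5, 2, 4, 6],
    [0, 1, 3, 5, 2, 6, 4],
    [0, 1, 3, 4, 5, 2, 6],
    [0, 1, 3, 5, 4, 2, 6],
    [0, 1, 3, 5, 6, 2, 4],
    [0, 1, 3, 4, 5, 6, 2],
    [0, 1, 3, 5, 4, 6, 2],
    [0, 1, 3, 5, 6, 4, 2]]

/-- The model one level up. -/
def W8 : List ℕ := nextW 7 W7 R7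

/-- The blocks missing the new point, one level above `W8`. -/
def R8 : List ℕ :=
  [11, 37, 50, 76, 81, 148, 168, 194]

/-- Automorphisms of `W8` carrying each extension to the first one. -/
def tabs8 : List (List (Fin 8)) :=
  [
    [0, 1, 2, 3, 4, 5, 6, 7],
    [0, 1, 2, 3, 4, 6, 5, 7],
    [0, 1, 2, 4, 3, 5, 6, 7],
    [0, 1, 2, 4, 3, 6, 5, 7],
    [0, 1, 2, 5, 6, 3, 4, 7],
    [0, 1, 2, 6, 5, 3, 4, 7],
    [0, 1, 2, 5, 6, 4, 3, 7],
    [0, 1, 2, 6, 5, 4, 3, 7]]

/-- The model one level up. -/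
def W9 : List ℕ := nextW 8 W8 R8

/-- The blocks missing the new point, one level above `W9`. -/
def R9 : List ℕ :=
  [23, 60, 90, 102, 105, 142, 153, 163, 197, 240, 269, 298, 305, 323, 340, 402, 420, 456]

/-- Automorphisms of `W9` carrying each extension to the first one. -/
def tabs9 : List (List (Fin 9)) :=
  [
    [0, 1, 2, 3, 4, 5, 6, 7, 8],
    [0, 1, 5, 3, 8, 2, 7, 6, 4],
    [0, 1, 4, 3, 7, 6, 8, 2, 5]]

/-- The model one level up. -/
def W10 : List ℕ := nextW 9 W9 R9

/-- The blocks missing the new point, one level above `W10`. -/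
def R10 : List ℕ :=
  [47, 93, 115, 181, 186, 203, 214, 236, 283, 310, 334, 357, 376, 391, 412, 425, 465, 482, 542, 569, 583, 618, 628, 653, 659, 678, 728, 737, 789, 803, 812, 841, 850, 906, 944, 964]

/-- Automorphisms of `W10` carrying each extension to the first one. -/
def tabs10 : List (List (Fin 10)) :=
  [
    [0, 1, 2, 3, 4, 5, 6, 7, 8, 9],
    [0, 1, 2, 7, 4, 9, 8, 3, 6, 5]]

/-- The model one level up. -/
def W11 : List ℕ := nextW 10 W10 R10

/-- The blocks missing the new point, one level above `W11`. -/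
def R11 : List ℕ :=
  [126, 159, 231, 249, 317, 343, 363, 430, 435, 461, 474, 500, 567, 603, 621, 683, 700, 718, 725, 754, 783, 826, 860, 870, 881, 918, 921, 933, 963, 1000, 1083, 1103, 1141, 1197, 1206, 1235, 1244, 1258, 1310, 1319, 1369, 1388, 1394, 1419, 1429, 1464, 1478, 1505, 1565, 1582, 1622, 1635, 1656, 1671, 1690, 1713, 1737, 1764, 1811, 1833, 1844, 1861, 1866, 1932, 1954, 2000]

/-- Automorphisms of `W11` carrying each extension to the first one. -/
def tabs11 : List (List (Fin 11)) :=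
  [
    [0, 1, 2, 3, 4, 5, 6, 7, 8, 9, 10]]

/-- The model one level up. -/
def W12 : List ℕ := nextW 11 W11 R11


theorem chk7 : LevelCheck 0 1 7 W7 R7 tabs7 := by decide +kernel

theorem chk8 : LevelCheck 1 2 8 W8 R8 tabs8 := by decide +kernel

theorem chk9 : LevelCheck 2 3 9 W9 R9 tabs9 := by decide +kernel

theorem chk10 : LevelCheck 3 4 10 W10 R10 tabs10 := by decide +kernel

theorem chk11 : LevelCheck 4 5 11 W11 R11 tabs11 := by decide +kernel

end Cfsg.Agent.Lib.Helper18.WS
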