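import Mathlib
import Cfsg.Prelude.Def_Sporadic_a
import Cfsg.Agent.Lib.Helper18.WS5

/-!
Uniqueness of the Steiner systems S(1,2,8), S(2,3,9), S(3,4,10), S(4,5,11), S(5,6,12).
-/

set_option autoImplicit false

namespace Cfsg.Agent.Lib.Helper18.WS

open Cfsg Finset Cfsg.Agent.Lib.Helper18.S22Plane Cfsg.Agent.Lib.Helper18.W23

theorem msk_singleton_zero : msk ({0} : Finset (Fin 7)) = 1 := by decide

theorem uniq7 : UniqFin 0 1 7 W7 := by
  intro B hB
  obtain ⟨b₀, ⟨hb₀, _⟩, huniq⟩ := hB.2 ∅ card_empty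
  have hB' : B = {b₀} := by
    ext b
    rw [Set.mem_singleton_iff]
    constructor
    · intro hb
      exact huniq b ⟨hb, empty_subset _⟩
    · rintro rfl
      exact hb₀
  obtain ⟨q, hq⟩ := card_eq_one.1 (hB.1 b₀ hb₀)
  refine ⟨Equiv.swap q 0, ?_⟩
  rw [hB', Set.image_singleton, hq, image_singleton, Equiv.swap_apply_left]
  ext b
  rw [Set.mem_singleton_iff, mem_StdOf, W7, List.mem_singleton, ← msk_singleton_zero]
  constructor
  · rintro rfl
    rfl
  · intro h
    exact msk_injective h

theorem uniq8 : UniqFin 1 2 8 W8 :=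
  level_step (by norm_num) uniq7 (by decide) (by decide) chk7

theorem uniq9 : UniqFin 2 3 9 W9 :=
  level_step (by norm_num) uniq8 (by decide) (by decide) chk8

theorem uniq10 : UniqFin 3 4 10 W10 :=
  level_step (by norm_num) uniq9 (by decide) (by decide) chk9

theorem uniq11 : UniqFin 4 5 11 W11 :=
  level_step (by norm_num) uniq10 (by decide) (by decide) chk10

theorem uniq12 : UniqFin 5 6 12 W12 :=
  level_step (by norm_num) uniq11 (by decide) (by decide) chk11

/-- Uniqueness for systems on arbitrary types. -/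
theorem uniq_of_uniqFin {t k v : ℕ} {Wm : List ℕ} (hU : UniqFin t k v Wm) {α : Type*}
    [Fintype α] [DecidableEq α] (hα : Fintype.card α = v) {B : Set (Finset α)}
    (hB : IsSteinerSystem t k B) : SetSystemIso B (StdOf v Wm) := by
  have φ : α ≃ Fin v := Fintype.equivFinOfCardEq hα
  exact setSystemIso_trans ⟨φ, rfl⟩ (hU _ (steiner_image_equiv hB φ))

end Cfsg.Agent.Lib.Helper18.WS
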