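import Mathlib
import Cfsg.Prelude.Def_Sporadic_a
import Cfsg.Agent.Lib.Helper18.WS6

/-!
Rigidity of automorphisms of a set system given by masks: a kernel-checked backtracking search
shows that an automorphism fixing the listed points is the identity.
-/

set_option autoImplicit false

namespace Cfsg.Agent.Lib.Helper18.WS

open Cfsg Finset Cfsg.Agent.Lib.Helper18.S22Plane Cfsg.Agent.Lib.Helper18.W23
open Cfsg.Agent.Lib.Helper18.Plane4

variable {n : ℕ}

/-- Value of a partial map given by a list of pairs (identity outside the listed points). -/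
def look : List (Fin n × Fin n) → Fin n → Fin n
  | [], i => i
  | P :: L, i => if P.1 = i then P.2 else look L i

theorem look_eq {g : Fin n → Fin n} (L : List (Fin n × Fin n)) (hL : ∀ P ∈ L, g P.1 = P.2)
    (i : Fin n) (hi : i ∈ L.map Prod.fst) : look L i = g i := by
  induction L with
  | nil => simp at hi
  | cons P L ih =>
    rw [look]
    by_cases h : P.1 = i
    · rw [if_pos h, ← h, hL P List.mem_cons_self]
    · rw [if_neg h]
      apply ih (fun P' hP' => hL P' (List.mem_cons_of_mem _ hP'))
      rw [List.map_cons, List.mem_cons] at hi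
      rcases hi with hi | hi
      · exact absurd hi.symm h
      · exact hi

/-- Acceptability of a new pair with respect to the pairs already chosen. -/
def okA (n : ℕ) (Wm : List ℕ) (P : Fin n × Fin n) (chosen : List (Fin n × Fin n)) : Bool :=
  decide (P.2 ∉ chosen.map Prod.snd) &&
    Wm.all (fun b => decide (b.testBit P.1 = true →
      unmsk n b ⊆ ((P :: chosen).map Prod.fst).toFinset →
        msk ((unmsk n b).image (look (P :: chosen))) ∈ Wm))

/-- All pairs of points. -/
def allPairs (n : ℕ) : List (Fin n × Fin n) :=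
  (List.finRange n).flatMap (fun x => (List.finRange n).map (fun y => (x, y)))

theorem mem_allPairs (P : Fin n × Fin n) : P ∈ allPairs n := by
  rw [allPairs, List.mem_flatMap]
  exact ⟨P.1, List.mem_finRange _, List.mem_map.2 ⟨P.2, List.mem_finRange _, rfl⟩⟩

/-- The statement checked by kernel computation. -/
def RigidCheck (n : ℕ) (Wm : List ℕ) (fx : List (Fin n)) : Prop :=
  ∀ res ∈ solve (fun (P : Fin n × Fin n) (T : Fin n) => decide (P.1 = T)) (okA n Wm) (allPairs n)
      (List.finRange n) (fx.map (fun p => (p, p))),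
    ∀ P ∈ res, P.1 = P.2

instance (n : ℕ) (Wm : List ℕ) (fx : List (Fin n)) : Decidable (RigidCheck n Wm fx) := by
  unfold RigidCheck
  infer_instance

theorem aut_rigid {Wm : List ℕ} (hWlt : ∀ b ∈ Wm, b < 2 ^ n) {fx : List (Fin n)}
    (hchk : RigidCheck n Wm fx) {g : Equiv.Perm (Fin n)}
    (hg : g ∈ setSystemAut (StdOf n Wm)) (hfix : ∀ p ∈ fx, g p = p) : g = 1 := by
  have hgmaps : ∀ s ∈ StdOf n Wm, s.image g ∈ StdOf n Wm := by
    intro s hs
    have := mem_aut_iff.1 hg
    rw [← this]
    exact ⟨s, hs, rfl⟩
  have hb : ∀ (P : Fin n × Fin n) (chosen : List (Fin n × Fin n)), g P.1 = P.2 →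
      (∀ P' ∈ chosen, g P'.1 = P'.2) → P ∉ chosen → okA n Wm P chosen = true := by
    intro P chosen hP hch hn
    rw [okA, Bool.and_eq_true, decide_eq_true_eq, List.all_eq_true]
    constructor
    · intro hmem
      obtain ⟨P', hP', he⟩ := List.mem_map.1 hmem
      have h6 : g P'.1 = g P.1 := by rw [hch P' hP', hP, he]
      have h7 : P' = P := Prod.ext (g.injective h6) he
      rw [h7] at hP'
      exact hn hP'
    · intro b hb
      rw [decide_eq_true_eq]
      intro _ hsub
      have hL : ∀ P' ∈ P :: chosen, g P'.1 = P'.2 := by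
        intro P' hP'
        rcases List.mem_cons.1 hP' with rfl | hP'
        · exact hP
        · exact hch P' hP'
      have himg : (unmsk n b).image (look (P :: chosen)) = (unmsk n b).image g := by
        apply image_congr
        intro i hi
        exact look_eq _ hL i (List.mem_toFinset.1 (hsub hi))
      rw [himg]
      exact hgmaps _ (unmsk_mem_StdOf (hWlt b hb) hb)
  have hc : ∀ T ∈ List.finRange n, ∃ P : Fin n × Fin n, g P.1 = P.2 ∧ decide (P.1 = T) = true := by
    intro T _
    exact ⟨(T, g T), rfl, by simp⟩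
  have h0 : ∀ P ∈ fx.map (fun p => (p, p)), g P.1 = P.2 := by
    intro P hP
    obtain ⟨p, hp, rfl⟩ := List.mem_map.1 hP
    exact hfix p hp
  obtain ⟨res, hres, h1, _, h3⟩ := solve_complete
    (fun (P : Fin n × Fin n) (T : Fin n) => decide (P.1 = T)) (okA n Wm) (allPairs n)
    (fun P => g P.1 = P.2) (fun P _ => mem_allPairs P) hb (List.finRange n)
    (fx.map (fun p => (p, p))) hc h0
  apply Equiv.ext
  intro T
  obtain ⟨P, hP, hcov⟩ := h3 T (List.mem_finRange T)
  rw [decide_eq_true_eq] at hcov
  have h4 := h1 P hP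
  have h5 := hchk res hres P hP
  rw [← hcov, h4, ← h5]
  rfl

theorem W12_lt : ∀ b ∈ W12, b < 2 ^ 12 := by decide +kernel

theorem W11_lt : ∀ b ∈ W11, b < 2 ^ 11 := by decide +kernel

theorem rigid12 : RigidCheck 12 W12 [0, 1, 2, 3, 4] := by decide +kernel

theorem rigid11 : RigidCheck 11 W11 [0, 1, 2, 3] := by decide +kernel

end Cfsg.Agent.Lib.Helper18.WS
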