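import Mathlib
import Cfsg.Prelude.Def_Sporadic_a
import Cfsg.Agent.Lib.Helper18.WS7
import Cfsg.Agent.Lib.Helper21.GolayFlag
import Cfsg.Agent.Lib.Helper21.GolayConj
import Cfsg.Agent.S0384
import Cfsg.Agent.S0385

/-!
Transitivity and sharpness of the automorphism groups of the Steiner systems S(5,6,12) and
S(4,5,11).
-/

set_option autoImplicit false

namespace Cfsg.Agent.Lib.Helper18.WS

open Cfsg Finset Cfsg.Agent.Lib.Helper21 Cfsg.Agent.Lib.Helper18.S22Plane
open Cfsg.Agent.Lib.Helper18.W23 Cfsg.Agent.Lib.Helper18.Plane4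
open scoped Pointwise

/-- A dodecad. -/
def dod0 : Finset GolayPt := maskFS (encMask 13)

theorem dod0_mem : dod0 ∈ dodecads :=
  maskFS_encMask_mem_dodecads 13 (by norm_num) (by decide +kernel)

theorem dod0_card : dod0.card = 12 := dod0_mem.2

/-- The points of the dodecad. -/
abbrev Pd : Type := {p : GolayPt // p ∈ dod0}

theorem card_Pd : Fintype.card Pd = 12 := by
  rw [Fintype.card_coe, dod0_card]

/-- The hexads of the dodecad. -/
def Hd : Set (Finset Pd) :=
  {h | ∃ o ∈ octads, (o ∩ dod0).card = 6 ∧ h = Finset.subtype (fun p => p ∈ dod0) o}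

theorem steiner_Hd : IsSteinerSystem 5 6 Hd := Cfsg.Agent.S0385.result dod0 dod0_mem

theorem Hd_trans : MulAction.IsMultiplyPretransitive (setSystemAut Hd) Pd 5 := by
  rw [MulAction.isMultiplyPretransitive_iff]
  intro x y
  obtain ⟨γ, hγM, hgd, hg⟩ : ∃ γ : Equiv.Perm GolayPt, γ ∈ M24 ∧ γ • dod0 = dod0 ∧
      ∀ i, γ (x i).1 = (y i).1 := by
    obtain ⟨g, hg, _⟩ := Cfsg.Agent.S0384.result dod0 dod0_mem
      (x.trans (Function.Embedding.subtype _)) (y.trans (Function.Embedding.subtype _))
      (fun i => (x i).2) (fun i => (y i).2)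
    exact ⟨((g : M24) : Equiv.Perm GolayPt), g.1.2, MulAction.mem_stabilizer_iff.1 g.2, hg⟩
  have hmem : ∀ p, γ p ∈ dod0 ↔ p ∈ dod0 := by
    intro p
    conv_lhs => rw [← hgd]
    exact Finset.smul_mem_smul_finset_iff _
  have hmemAut : γ.subtypePerm hmem ∈ setSystemAut Hd := by
    apply mem_aut_of_maps
    rintro h ⟨o, ho, ho6, rfl⟩
    refine ⟨γ • o, smul_mem_octads hγM ho, ?_, ?_⟩
    · conv_lhs => rw [← hgd]
      rw [← Finset.smul_finset_inter, Finset.card_smul_finset, ho6]
    · ext q
      rw [mem_image, mem_subtype, ← Finset.inv_smul_mem_iff]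
      constructor
      · rintro ⟨a, ha, rfl⟩
        rw [mem_subtype] at ha
        show γ⁻¹ (γ a.1) ∈ o
        have : γ⁻¹ (γ a.1) = a.1 := by simp
        rw [this]
        exact ha
      · intro hq
        have h1 : γ (γ⁻¹ q.1) = q.1 := by simp
        have hq' : γ⁻¹ q.1 ∈ dod0 := by
          rw [← hmem, h1]
          exact q.2
        refine ⟨⟨_, hq'⟩, mem_subtype.2 hq, ?_⟩
        apply Subtype.ext
        exact h1
  refine ⟨⟨_, hmemAut⟩, ?_⟩
  apply Function.Embedding.ext
  intro i
  apply Subtype.ext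
  exact hg i

section general

variable {α : Type*} [Fintype α] [DecidableEq α]

theorem trans_5_6_12 (hα : Fintype.card α = 12) {B : Set (Finset α)}
    (hB : IsSteinerSystem 5 6 B) : MulAction.IsMultiplyPretransitive (setSystemAut B) α 5 := by
  have h1 : SetSystemIso B (StdOf 12 W12) := uniq_of_uniqFin uniq12 hα hB
  have h2 : SetSystemIso Hd (StdOf 12 W12) := uniq_of_uniqFin uniq12 card_Pd steiner_Hd
  obtain ⟨e, he⟩ := setSystemIso_trans h1 (setSystemIso_symm h2)
  exact pretransitive_congr e he 5 Hd_trans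

/-- Transitivity of the derived design. -/
theorem lines_trans {γ : Type*} [Fintype γ] [DecidableEq γ] {D : Set (Finset (Option γ))} {n : ℕ}
    (h : MulAction.IsMultiplyPretransitive (setSystemAut D) (Option γ) (n + 1)) :
    MulAction.IsMultiplyPretransitive (setSystemAut (lines D)) γ n := by
  rw [MulAction.isMultiplyPretransitive_iff] at h ⊢
  intro x y
  have hx0 : (none : Option γ) ∉ Set.range (fun j : Fin n => some (x j)) := by
    rintro ⟨j, hj⟩
    exact absurd hj (by simp)
  have hy0 : (none : Option γ) ∉ Set.range (fun j : Fin n => some (y j)) := by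
    rintro ⟨j, hj⟩
    exact absurd hj (by simp)
  let x' : Fin (n + 1) ↪ Option γ := ⟨Fin.cons none (fun j : Fin n => some (x j)),
    Fin.cons_injective_of_injective hx0 ((Option.some_injective _).comp x.injective)⟩
  let y' : Fin (n + 1) ↪ Option γ := ⟨Fin.cons none (fun j : Fin n => some (y j)),
    Fin.cons_injective_of_injective hy0 ((Option.some_injective _).comp y.injective)⟩
  obtain ⟨⟨G, hG⟩, hGx⟩ := h x' y'
  have h0 : G none = none := congrArg (fun f : Fin (n + 1) ↪ Option γ => f 0) hGx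
  have hs : ∀ j : Fin n, G (some (x j)) = some (y j) :=
    fun j => congrArg (fun f : Fin (n + 1) ↪ Option γ => f j.succ) hGx
  have hsome : ∀ a : γ, some (Equiv.removeNone G a) = G (some a) := by
    intro a
    apply Equiv.removeNone_some
    rcases hGa : G (some a) with _ | b
    · exfalso
      rw [← h0] at hGa
      exact absurd (G.injective hGa) (by simp)
    · exact ⟨b, rfl⟩
  have hGeq : G = (Equiv.removeNone G).optionCongr := by
    apply Equiv.ext
    intro o
    cases o with
    | none => rw [h0]; rfl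
    | some a =>
      rw [← hsome a]
      rfl
  have hmem : Equiv.removeNone G ∈ setSystemAut (lines D) := by
    apply mem_aut_of_maps
    intro l hl
    show insertNone (l.image (Equiv.removeNone G)) ∈ D
    rw [← image_insertNone, ← hGeq]
    have := mem_aut_iff.1 hG
    rw [← this]
    exact ⟨insertNone l, hl, rfl⟩
  refine ⟨⟨_, hmem⟩, ?_⟩
  apply Function.Embedding.ext
  intro j
  apply Option.some_injective
  show some (Equiv.removeNone G (x j)) = some (y j)
  rw [hsome, hs]

theorem trans_4_5_11 (hα : Fintype.card α = 11) {B : Set (Finset α)}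
    (hB : IsSteinerSystem 4 5 B) : MulAction.IsMultiplyPretransitive (setSystemAut B) α 4 := by
  have φ : Pd ≃ Option (Fin 11) := Fintype.equivOfCardEq (by
    rw [card_Pd, Fintype.card_option, Fintype.card_fin])
  have hD₀ : IsSteinerSystem 5 6 ((fun b : Finset Pd => b.image φ) '' Hd) :=
    steiner_image_equiv steiner_Hd φ
  have htr : MulAction.IsMultiplyPretransitive
      (setSystemAut ((fun b : Finset Pd => b.image φ) '' Hd)) (Option (Fin 11)) 5 :=
    pretransitive_congr φ.symm (image_symm_eq φ rfl) 5 Hd_trans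
  have hL := derived_steiner_gen hD₀
  have htr' := lines_trans htr
  have h1 : SetSystemIso B (StdOf 11 W11) := uniq_of_uniqFin uniq11 hα hB
  have h2 : SetSystemIso (lines ((fun b : Finset Pd => b.image φ) '' Hd)) (StdOf 11 W11) :=
    uniq_of_uniqFin uniq11 (Fintype.card_fin 11) hL
  obtain ⟨e, he⟩ := setSystemIso_trans h1 (setSystemIso_symm h2)
  exact pretransitive_congr e he 4 htr'

/-- Sharpness from the rigidity check. -/
theorem sharp_of_rigid {n m : ℕ} {Wm : List ℕ} (hWlt : ∀ b ∈ Wm, b < 2 ^ n) {fx : List (Fin n)}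
    (hchk : RigidCheck n Wm fx) (x₀ : Fin m ↪ Fin n) (hx₀ : ∀ p ∈ fx, ∃ i, x₀ i = p)
    (htr : MulAction.IsMultiplyPretransitive (setSystemAut (StdOf n Wm)) (Fin n) m)
    {B : Set (Finset α)} (e : α ≃ Fin n)
    (he : (fun b : Finset α => b.image e) '' B = StdOf n Wm) (x : Fin m ↪ α) :
    MulAction.stabilizer (setSystemAut B) x = ⊥ := by
  rw [Subgroup.eq_bot_iff_forall]
  rintro ⟨g, hg⟩ hgx
  have hfix : ∀ i, g (x i) = x i :=
    fun i => congrArg (fun f : Fin m ↪ α => f i) (MulAction.mem_stabilizer_iff.1 hgx)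
  obtain ⟨⟨h, hh⟩, hhx⟩ := (MulAction.isMultiplyPretransitive_iff.1 htr)
    (x.trans e.toEmbedding) x₀
  have hhx' : ∀ i, h (e (x i)) = x₀ i :=
    fun i => congrArg (fun f : Fin m ↪ Fin n => f i) hhx
  have hg' := permCongr_mem_aut e he hg
  have hk : h * e.permCongr g * h⁻¹ ∈ setSystemAut (StdOf n Wm) :=
    mul_mem (mul_mem hh hg') (inv_mem hh)
  have hk1 : h * e.permCongr g * h⁻¹ = 1 := by
    apply aut_rigid hWlt hchk hk
    intro p hp
    obtain ⟨i, rfl⟩ := hx₀ p hp
    have h1 : h⁻¹ (x₀ i) = e (x i) := by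
      rw [← hhx' i]
      simp
    rw [Equiv.Perm.mul_apply, Equiv.Perm.mul_apply, h1, Equiv.permCongr_apply,
      Equiv.symm_apply_apply, hfix i, hhx' i]
  have hk2 : e.permCongr g = 1 := by
    have : e.permCongr g = h⁻¹ * (h * e.permCongr g * h⁻¹) * h := by group
    rw [this, hk1]
    group
  apply Subtype.ext
  show g = 1
  apply Equiv.ext
  intro a
  have := congrArg (fun f : Equiv.Perm (Fin n) => f (e a)) hk2
  simp only [Equiv.permCongr_apply, Equiv.symm_apply_apply, Equiv.Perm.coe_one, id_eq] at this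
  exact e.injective this

theorem sharp_5_6_12 (hα : Fintype.card α = 12) {B : Set (Finset α)}
    (hB : IsSteinerSystem 5 6 B) (x : Fin 5 ↪ α) :
    MulAction.stabilizer (setSystemAut B) x = ⊥ := by
  obtain ⟨e, he⟩ := uniq_of_uniqFin uniq12 hα hB
  have hstd : IsSteinerSystem 5 6 (StdOf 12 W12) := by
    rw [← he]
    exact steiner_image_equiv hB e
  have htr := trans_5_6_12 (Fintype.card_fin 12) hstd
  exact sharp_of_rigid W12_lt rigid12 (Fin.castLEEmb (by norm_num : 5 ≤ 12)) (by decide) htr e he x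

theorem sharp_4_5_11 (hα : Fintype.card α = 11) {B : Set (Finset α)}
    (hB : IsSteinerSystem 4 5 B) (x : Fin 4 ↪ α) :
    MulAction.stabilizer (setSystemAut B) x = ⊥ := by
  obtain ⟨e, he⟩ := uniq_of_uniqFin uniq11 hα hB
  have hstd : IsSteinerSystem 4 5 (StdOf 11 W11) := by
    rw [← he]
    exact steiner_image_equiv hB e
  have htr := trans_4_5_11 (Fintype.card_fin 11) hstd
  exact sharp_of_rigid W11_lt rigid11 (Fin.castLEEmb (by norm_num : 4 ≤ 11)) (by decide) htr e he x

end general

end Cfsg.Agent.Lib.Helper18.WS
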