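import Mathlib
import Cfsg.Prelude.Def_Sporadic_a
import Cfsg.Prelude.Def_Sporadic
import Cfsg.Prelude.Def_SporadicCombinatorics
import Cfsg.Agent.Lib.Helper18.TG2
import Cfsg.Agent.S0425
import Cfsg.Agent.S1592
import Cfsg.Agent.S1593

/-!
The monomial automorphism group of the ternary code of length 12.
-/

set_option autoImplicit false

namespace Cfsg.Agent.Lib.Helper18.TG

open Cfsg Finset Cfsg.Agent.Lib.Helper28.TGolay

theorem card_arrayPt : Fintype.card ArrayPt = 12 := by decide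

theorem steiner_Hex : IsSteinerSystem 5 6 Hex := Cfsg.Agent.S1592.result.1

theorem card_aut_Hex : Nat.card ↥(setSystemAut Hex) = 95040 :=
  (Cfsg.Agent.S0425.result card_arrayPt steiner_Hex).1.2

theorem card_emb : Nat.card (Fin 5 ↪ ArrayPt) = 95040 := by
  rw [Nat.card_eq_fintype_card, Fintype.card_embedding_eq, card_arrayPt, Fintype.card_fin]
  decide

/-- The permutation parts of the monomial automorphisms are exactly the automorphisms of the
hexad system. -/
theorem perm_parts : {σ : Equiv.Perm ArrayPt | ∃ c : ArrayPt → (ZMod 3)ˣ, Pres σ c}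
    = (setSystemAut Hex : Set (Equiv.Perm ArrayPt)) := by
  have hsub : {σ : Equiv.Perm ArrayPt | ∃ c : ArrayPt → (ZMod 3)ˣ, Pres σ c}
      ⊆ (setSystemAut Hex : Set (Equiv.Perm ArrayPt)) := by
    rintro σ ⟨c, hc⟩
    exact pres_mem_aut hc
  apply Set.eq_of_subset_of_ncard_le hsub _ (Set.toFinite _)
  have h1 : (setSystemAut Hex : Set (Equiv.Perm ArrayPt)).ncard = 95040 := by
    rw [← Nat.card_coe_set_eq]
    exact card_aut_Hex
  rw [h1, ← card_emb, ← Nat.card_coe_set_eq]
  let Φ : ↥{σ : Equiv.Perm ArrayPt | ∃ c : ArrayPt → (ZMod 3)ˣ, Pres σ c} → (Fin 5 ↪ ArrayPt) :=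
    fun σ => ⟨fun i => σ.1 (bpt i), σ.1.injective.comp bpt_injective⟩
  have hΦ : Function.Surjective Φ := by
    intro y
    obtain ⟨σ, c, hp, hσ⟩ := trans5 y
    refine ⟨⟨σ, c, hp⟩, ?_⟩
    apply Function.Embedding.ext
    intro i
    exact hσ i
  exact Nat.card_le_card_of_surjective Φ hΦ

theorem unit_ne_neg : ∀ u : (ZMod 3)ˣ, u ≠ -u := by decide

theorem card_monomial :
    Nat.card {f : Equiv.Perm ArrayPt × (ArrayPt → (ZMod 3)ˣ) // Pres f.1 f.2} = 190080 := by
  have hex : ∀ a : ↥(setSystemAut Hex), ∃ c : ArrayPt → (ZMod 3)ˣ, Pres a.1 c := by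
    intro a
    have : a.1 ∈ (setSystemAut Hex : Set (Equiv.Perm ArrayPt)) := a.2
    rw [← perm_parts] at this
    exact this
  choose cσ hcσ using hex
  let Ψ : ↥(setSystemAut Hex) × Bool →
      {f : Equiv.Perm ArrayPt × (ArrayPt → (ZMod 3)ˣ) // Pres f.1 f.2} :=
    fun ab => if hb : ab.2 = true then ⟨(ab.1.1, fun p => -cσ ab.1 p), pres_neg (hcσ ab.1)⟩
      else ⟨(ab.1.1, cσ ab.1), hcσ ab.1⟩
  have hΨ1 : ∀ ab, (Ψ ab).1.1 = ab.1.1 := by
    intro ab
    show (dite _ _ _ : {f : Equiv.Perm ArrayPt × (ArrayPt → (ZMod 3)ˣ) // Pres f.1 f.2}).1.1 = _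
    split_ifs <;> rfl
  have hΨ2 : ∀ ab, (Ψ ab).1.2 = if ab.2 = true then (fun p => -cσ ab.1 p) else cσ ab.1 := by
    intro ab
    show (dite _ _ _ : {f : Equiv.Perm ArrayPt × (ArrayPt → (ZMod 3)ˣ) // Pres f.1 f.2}).1.2 = _
    split_ifs <;> rfl
  have hinj : Function.Injective Ψ := by
    rintro ⟨a, b⟩ ⟨a', b'⟩ h
    have h1 : a.1 = a'.1 := by
      have := congrArg (fun f => f.1.1) h
      simp only [hΨ1] at this
      exact this
    have haa : a = a' := Subtype.ext h1
    subst haa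
    have h2 := congrArg (fun f => f.1.2) h
    simp only [hΨ2] at h2
    have p₀ : ArrayPt := (0, 0)
    cases b <;> cases b'
    · rfl
    · exfalso
      have := congrFun h2 p₀
      simp at this
      exact unit_ne_neg _ this
    · exfalso
      have := congrFun h2 p₀
      simp at this
      exact unit_ne_neg _ this.symm
    · rfl
  have hsurj : Function.Surjective Ψ := by
    rintro ⟨⟨σ, c⟩, h⟩
    have ha : σ ∈ setSystemAut Hex := pres_mem_aut h
    rcases signs_unique (hcσ ⟨σ, ha⟩) h Cfsg.Agent.S1593.result with h1 | h1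
    · refine ⟨(⟨σ, ha⟩, false), ?_⟩
      apply Subtype.ext
      apply Prod.ext
      · rw [hΨ1]
      · rw [hΨ2]
        funext p
        simp only [Bool.false_eq_true, if_false]
        exact (h1 p).symm
    · refine ⟨(⟨σ, ha⟩, true), ?_⟩
      apply Subtype.ext
      apply Prod.ext
      · rw [hΨ1]
      · rw [hΨ2]
        funext p
        simp only [if_true]
        exact (h1 p).symm
  rw [← Nat.card_congr (Equiv.ofBijective Ψ ⟨hinj, hsurj⟩), Nat.card_prod, card_aut_Hex,
    Nat.card_eq_fintype_card, Fintype.card_bool]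

end Cfsg.Agent.Lib.Helper18.TG
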