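import Mathlib
import Cfsg.Agent.Lib.Lead.WTC1

set_option autoImplicit false

/-!
# Certificates of coset enumerations with coincidences

A run of the Todd–Coxeter procedure for a group generated by involutions is recorded statically:
every coset name is a word (its parent name followed by a generator), every table entry and every
identification of two names carries the time at which it was found and a justification, namely a
relator (or a word of the subgroup) traced through entries and identifications found earlier.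
The check is local to each entry; its soundness is proved by induction on the time.
-/

namespace Cfsg.Agent.Lib.Helper18.UTC
open Cfsg.Agent.Lib.Lead.WTC Cfsg.Agent.Lib.Lead.WTC.Cert

/-- the field number `y`, of `fw` bits, of the packed table `t` -/
def fldW (fw t y : ℕ) : ℕ := Nat.mod (Nat.shiftRight t (Nat.mul fw y)) (Nat.pow 2 fw)

structure UCert where
  n : ℕ
  k : ℕ
  W : ℕ
  fuel : ℕ
  top : ℕ
  tab : ℕ → ℕ
  rk : ℕ → ℕ
  jw : ℕ → ℕ
  ja : ℕ → ℕ
  jb : ℕ → ℕ
  par : ℕ
  sg : ℕ
  lk : ℕ
  ct : ℕ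
  cw : ℕ
  ca : ℕ
  cb : ℕ
  rels : List (List ℕ)
  subs : List (List ℕ)

namespace UCert
variable (c : UCert)

def T (x s : ℕ) : ℕ := fldW c.W (c.tab s) x
def R (x s : ℕ) : ℕ := fldW 32 (c.rk s) x
def JW (x s : ℕ) : ℕ := fldW 16 (c.jw s) x
def JA (x s : ℕ) : ℕ := fldW c.W (c.ja s) x
def JB (x s : ℕ) : ℕ := fldW c.W (c.jb s) x
def P (j : ℕ) : ℕ := fldW c.W c.par j
def S (j : ℕ) : ℕ := fldW 8 c.sg j
def L (j : ℕ) : ℕ := fldW c.W c.lk j
def CT (j : ℕ) : ℕ := fldW 32 c.ct j
def CW (j : ℕ) : ℕ := fldW 16 c.cw j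
def CA (j : ℕ) : ℕ := fldW c.W c.ca j
def CB (j : ℕ) : ℕ := fldW c.W c.cb j

/-- the word number `wid`: relators first, then the words of the subgroup -/
def word (wid : ℕ) : List ℕ :=
  if wid < c.rels.length then c.rels.getD wid [] else c.subs.getD (wid - c.rels.length) []

/-- follow the identifications found before time `b` -/
def norm (b : ℕ) : ℕ → ℕ → ℕ
  | 0, y => y
  | f+1, y => if c.L y < y ∧ c.CT y < b then norm b f (c.L y) else y

/-- trace a word through the entries found before time `b` -/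
def scan (b : ℕ) : List ℕ → ℕ → Option ℕ
  | [], x => some x
  | u :: l, x =>
    if u < c.k ∧ x < c.n ∧ c.T x u < c.n ∧ c.R x u < b then
      scan b l (c.norm b c.fuel (c.T x u))
    else none

/-- the rule: the word `wid` is traced forward from `a` up to position `p`, ending at `u`, and
backward from `a2` (equivalent to `a`), ending at `v`; the letter in between is `mid`, if any -/
def ruleOK (b wid p a a2 : ℕ) (mid : Option ℕ) (u v : ℕ) : Bool :=
  decide (a < c.n) && decide (a2 < c.n) &&
  decide (wid < c.rels.length + c.subs.length) &&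
  decide (c.norm b c.fuel a = c.norm b c.fuel a2) &&
  (decide (wid < c.rels.length) || decide (c.norm b c.fuel a = 0)) &&
  decide (c.scan b ((c.word wid).take p) a = some u) &&
  (match mid with
   | some s => decide ((c.word wid)[p]? = some s) &&
       decide (c.scan b ((c.word wid).drop (p+1)).reverse a2 = some v)
   | none => decide (c.scan b ((c.word wid).drop p).reverse a2 = some v))

def entryOK (x s : ℕ) : Bool :=
  !decide (c.T x s < c.n) ||
  (if c.JW x s = 0 then
      decide (c.T x s ≠ 0) && decide (c.P (c.T x s) = x) && decide (c.S (c.T x s) = s)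
   else
      c.ruleOK (c.R x s) ((c.JW x s - 1) / 128) ((c.JW x s - 1) % 128) (c.JA x s) (c.JB x s)
        (some s) x (c.T x s))

def linkOK (j : ℕ) : Bool :=
  decide (c.L j ≤ j) &&
  (decide (c.L j = j) ||
    c.ruleOK (c.CT j) (c.CW j / 128) (c.CW j % 128) (c.CA j) (c.CB j) none j (c.L j) ||
    c.ruleOK (c.CT j) (c.CW j / 128) (c.CW j % 128) (c.CA j) (c.CB j) none (c.L j) j)

def nameOK (j : ℕ) : Bool :=
  (decide (j = 0) || (decide (c.P j < j) && decide (c.S j < c.k))) &&
  c.linkOK j &&
  decide (c.L (c.norm c.top c.fuel j) = c.norm c.top c.fuel j) &&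
  (!decide (c.L j = j) ||
    (List.range c.k).all fun s => decide (c.T j s < c.n) && decide (c.R j s < c.top)) &&
  (List.range c.k).all fun s => c.entryOK j s

/-- a piece of the check -/
def pieceOK (lo len : ℕ) : Bool := (List.range len).all fun t => c.nameOK (lo + t)

theorem pieceOK_spec {lo len : ℕ} (h : c.pieceOK lo len = true) :
    ∀ j, lo ≤ j → j < lo + len → c.nameOK j = true := by
  intro j h1 h2
  unfold pieceOK at h
  rw [List.all_eq_true] at h
  have := h (j - lo) (List.mem_range.mpr (by omega))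
  rwa [Nat.add_sub_cancel' h1] at this

/-- the whole check -/
def Ok : Prop := ∀ j, j < c.n → c.nameOK j = true

section spec
variable {c}

theorem ok_tree (h : c.Ok) : ∀ j, j < c.n → j ≠ 0 → c.P j < j ∧ c.S j < c.k := by
  intro j hj hj0
  have h1 := h j hj
  unfold nameOK at h1
  simp only [Bool.and_eq_true, Bool.or_eq_true, decide_eq_true_eq] at h1
  rcases h1.1.1.1.1 with h2 | h2
  · exact absurd h2 hj0
  · exact h2

theorem ok_link (h : c.Ok) : ∀ j, j < c.n → c.linkOK j = true := by
  intro j hj
  have h1 := h j hj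
  unfold nameOK at h1
  simp only [Bool.and_eq_true] at h1
  exact h1.1.1.1.2

theorem ok_fin (h : c.Ok) : ∀ j, j < c.n →
    c.L (c.norm c.top c.fuel j) = c.norm c.top c.fuel j := by
  intro j hj
  have h1 := h j hj
  unfold nameOK at h1
  simp only [Bool.and_eq_true, decide_eq_true_eq] at h1
  exact h1.1.1.2

theorem ok_live (h : c.Ok) : ∀ j, j < c.n → c.L j = j → ∀ s, s < c.k →
    c.T j s < c.n ∧ c.R j s < c.top := by
  intro j hj hl s hs
  have h1 := h j hj
  unfold nameOK at h1
  simp only [Bool.and_eq_true, Bool.or_eq_true, Bool.not_eq_true', decide_eq_false_iff_not,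
    List.all_eq_true, List.mem_range, decide_eq_true_eq] at h1
  rcases h1.1.2 with h2 | h2
  · exact absurd hl h2
  · exact h2 s hs

theorem ok_entry (h : c.Ok) : ∀ j, j < c.n → ∀ s, s < c.k → c.entryOK j s = true := by
  intro j hj s hs
  have h1 := h j hj
  unfold nameOK at h1
  simp only [Bool.and_eq_true, List.all_eq_true, List.mem_range] at h1
  exact h1.2 s hs

end spec

section sound
variable {G : Type*} [Group G] (g : ℕ → G)

/-- the element of the group attached to a name -/
noncomputable def rep : ℕ → G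
  | 0 => 1
  | j+1 => if h : c.P (j+1) < j+1 then rep (c.P (j+1)) * g (c.S (j+1)) else 1
termination_by j => j
decreasing_by exact h

theorem rep_zero : c.rep g 0 = 1 := by
  rw [rep]

theorem rep_pos {j : ℕ} (hj : j ≠ 0) (h : c.P j < j) :
    c.rep g j = c.rep g (c.P j) * g (c.S j) := by
  cases j with
  | zero => exact absurd rfl hj
  | succ j =>
    rw [rep]
    rw [dif_pos h]

/-- everything found before time `b` is true -/
def Facts (H : Subgroup G) (b : ℕ) : Prop :=
  (∀ x, x < c.n → ∀ s, s < c.k → c.T x s < c.n → c.R x s < b →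
      c.rep g x * g s * (c.rep g (c.T x s))⁻¹ ∈ H) ∧
  (∀ j, j < c.n → c.L j < j → c.CT j < b → c.rep g j * (c.rep g (c.L j))⁻¹ ∈ H)

variable {g}

theorem norm_sound (H : Subgroup G) {b : ℕ} (hF : c.Facts g H b) :
    ∀ f y, y < c.n → c.norm b f y < c.n ∧ c.rep g y * (c.rep g (c.norm b f y))⁻¹ ∈ H := by
  intro f
  induction f with
  | zero =>
    intro y hy
    simp only [norm]
    exact ⟨hy, by rw [mul_inv_cancel]; exact H.one_mem⟩
  | succ f ih =>
    intro y hy
    simp only [norm]
    split_ifs with h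
    · obtain ⟨h1, h2⟩ := h
      have hly : c.L y < c.n := lt_trans h1 hy
      obtain ⟨h3, h4⟩ := ih (c.L y) hly
      refine ⟨h3, ?_⟩
      have h5 := hF.2 y hy h1 h2
      have : c.rep g y * (c.rep g (c.norm b f (c.L y)))⁻¹ =
          (c.rep g y * (c.rep g (c.L y))⁻¹) *
            (c.rep g (c.L y) * (c.rep g (c.norm b f (c.L y)))⁻¹) := by group
      rw [this]
      exact H.mul_mem h5 h4
    · exact ⟨hy, by rw [mul_inv_cancel]; exact H.one_mem⟩

theorem scan_sound (H : Subgroup G) {b : ℕ} (hF : c.Facts g H b) :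
    ∀ (l : List ℕ) (x e : ℕ), x < c.n → c.scan b l x = some e →
      e < c.n ∧ (∀ u ∈ l, u < c.k) ∧ c.rep g x * wd g l * (c.rep g e)⁻¹ ∈ H := by
  intro l
  induction l with
  | nil =>
    intro x e hx h
    simp only [scan, Option.some.injEq] at h
    subst h
    refine ⟨hx, by simp, ?_⟩
    rw [wd_nil, mul_one, mul_inv_cancel]
    exact H.one_mem
  | cons u l ih =>
    intro x e hx h
    simp only [scan] at h
    split_ifs at h with hc
    obtain ⟨hu, _, hT, hR⟩ := hc
    have h1 := hF.1 x hx u hu hT hR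
    obtain ⟨hn1, hn2⟩ := c.norm_sound H hF c.fuel (c.T x u) hT
    obtain ⟨he, hl, h2⟩ := ih _ e hn1 h
    refine ⟨he, ?_, ?_⟩
    · intro v hv
      rcases List.mem_cons.mp hv with rfl | hv
      · exact hu
      · exact hl v hv
    · have : c.rep g x * wd g (u :: l) * (c.rep g e)⁻¹ =
          (c.rep g x * g u * (c.rep g (c.T x u))⁻¹) *
            (c.rep g (c.T x u) * (c.rep g (c.norm b c.fuel (c.T x u)))⁻¹) *
            (c.rep g (c.norm b c.fuel (c.T x u)) * wd g l * (c.rep g e)⁻¹) := by
        rw [wd_cons]; group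
      rw [this]
      exact H.mul_mem (H.mul_mem h1 hn2) h2

theorem rule_alg (H : Subgroup G) (ra ra2 ru rv A B M X : G)
    (hX : X = A * (M * B)) (m1 : ra * A * ru⁻¹ ∈ H) (m2 : ra2 * B⁻¹ * rv⁻¹ ∈ H)
    (hx : ra * X * ra2⁻¹ ∈ H) : ru * M * rv⁻¹ ∈ H := by
  have : ru * M * rv⁻¹ = (ra * A * ru⁻¹)⁻¹ * (ra * X * ra2⁻¹) * (ra2 * B⁻¹ * rv⁻¹) := by
    rw [hX]; group
  rw [this]
  exact H.mul_mem (H.mul_mem (H.inv_mem m1) hx) m2

/-- the element in the middle of a rule -/
def midEl (g : ℕ → G) : Option ℕ → G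
  | some s => g s
  | none => 1

theorem rule_sound (H : Subgroup G) (hsq : ∀ s, s < c.k → g s * g s = 1)
    (hrel : ∀ w ∈ c.rels, wd g w = 1) (hsub : ∀ w ∈ c.subs, wd g w ∈ H)
    {b wid p a a2 : ℕ} {mid : Option ℕ} {u v : ℕ} (hF : c.Facts g H b)
    (h : c.ruleOK b wid p a a2 mid u v = true) :
    u < c.n ∧ v < c.n ∧ c.rep g u * midEl g mid * (c.rep g v)⁻¹ ∈ H := by
  unfold ruleOK at h
  simp only [Bool.and_eq_true, decide_eq_true_eq, Bool.or_eq_true] at h
  obtain ⟨⟨⟨⟨⟨⟨ha, ha2⟩, hwid⟩, hnorm⟩, hbase⟩, hpre⟩, hmid⟩ := h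
  obtain ⟨hu, _, m1⟩ := c.scan_sound H hF _ a u ha hpre
  obtain ⟨_, n1⟩ := c.norm_sound H hF c.fuel a ha
  obtain ⟨_, n2⟩ := c.norm_sound H hF c.fuel a2 ha2
  rw [← hnorm] at n2
  -- the word
  have hx : c.rep g a * wd g (c.word wid) * (c.rep g a2)⁻¹ ∈ H := by
    by_cases hr : wid < c.rels.length
    · have hw : c.word wid ∈ c.rels := by
        unfold word
        rw [if_pos hr, List.getD_eq_getElem _ _ hr]
        exact List.getElem_mem hr
      rw [hrel _ hw, mul_one]
      have : c.rep g a * (c.rep g a2)⁻¹ =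
          (c.rep g a * (c.rep g (c.norm b c.fuel a))⁻¹) *
            (c.rep g a2 * (c.rep g (c.norm b c.fuel a))⁻¹)⁻¹ := by group
      rw [this]
      exact H.mul_mem n1 (H.inv_mem n2)
    · have h0 : c.norm b c.fuel a = 0 := by
        rcases hbase with hb | hb
        · exact absurd hb hr
        · exact hb
      rw [h0, c.rep_zero g, inv_one, mul_one] at n1 n2
      have hlt : wid - c.rels.length < c.subs.length := by omega
      have hw : c.word wid ∈ c.subs := by
        unfold word
        rw [if_neg hr, List.getD_eq_getElem _ _ hlt]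
        exact List.getElem_mem hlt
      exact H.mul_mem (H.mul_mem n1 (hsub _ hw)) (H.inv_mem n2)
  cases mid with
  | some s =>
    simp only [Bool.and_eq_true, decide_eq_true_eq] at hmid
    obtain ⟨hs, hsuf⟩ := hmid
    obtain ⟨hv, hl2, m2⟩ := c.scan_sound H hF _ a2 v ha2 hsuf
    refine ⟨hu, hv, ?_⟩
    have hinv : wd g ((c.word wid).drop (p + 1)).reverse = (wd g ((c.word wid).drop (p + 1)))⁻¹ := by
      apply wd_reverse
      intro t ht
      exact hsq t (hl2 t (List.mem_reverse.mpr ht))
    rw [hinv] at m2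
    exact rule_alg H _ _ _ _ _ _ (g s) _ (wd_split g hs) m1 m2 hx
  | none =>
    simp only [decide_eq_true_eq] at hmid
    obtain ⟨hv, hl2, m2⟩ := c.scan_sound H hF _ a2 v ha2 hmid
    refine ⟨hu, hv, ?_⟩
    have hinv : wd g ((c.word wid).drop p).reverse = (wd g ((c.word wid).drop p))⁻¹ := by
      apply wd_reverse
      intro t ht
      exact hsq t (hl2 t (List.mem_reverse.mpr ht))
    rw [hinv] at m2
    have hsplit : wd g (c.word wid) =
        wd g ((c.word wid).take p) * (1 * wd g ((c.word wid).drop p)) := by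
      rw [one_mul, ← wd_append, List.take_append_drop]
    exact rule_alg H _ _ _ _ _ _ 1 _ hsplit m1 m2 hx

theorem facts_all (H : Subgroup G) (hok : c.Ok) (hsq : ∀ s, s < c.k → g s * g s = 1)
    (hrel : ∀ w ∈ c.rels, wd g w = 1) (hsub : ∀ w ∈ c.subs, wd g w ∈ H) :
    ∀ b, c.Facts g H b := by
  intro b
  induction b with
  | zero =>
    exact ⟨fun _ _ _ _ _ h => absurd h (Nat.not_lt_zero _),
      fun _ _ _ h => absurd h (Nat.not_lt_zero _)⟩
  | succ b ih =>
    constructor
    · intro x hx s hs hT hR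
      by_cases hlt : c.R x s < b
      · exact ih.1 x hx s hs hT hlt
      have hRb : c.R x s = b := by omega
      have he := ok_entry hok x hx s hs
      unfold entryOK at he
      simp only [Bool.or_eq_true, Bool.not_eq_true', decide_eq_false_iff_not] at he
      rcases he with he | he
      · exact absurd hT he
      split_ifs at he with hj
      · simp only [Bool.and_eq_true, decide_eq_true_eq] at he
        obtain ⟨⟨hy0, hP⟩, hS⟩ := he
        have htree := ok_tree hok (c.T x s) hT hy0
        rw [c.rep_pos g hy0 htree.1, hP, hS, mul_inv_cancel]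
        exact H.one_mem
      · rw [hRb] at he
        exact (c.rule_sound H hsq hrel hsub ih he).2.2
    · intro j hj hL hC
      by_cases hlt : c.CT j < b
      · exact ih.2 j hj hL hlt
      have hCb : c.CT j = b := by omega
      have hl := ok_link hok j hj
      unfold linkOK at hl
      simp only [Bool.and_eq_true, Bool.or_eq_true, decide_eq_true_eq] at hl
      rcases hl.2 with (h1 | h1) | h1
      · omega
      · rw [hCb] at h1
        have := (c.rule_sound H hsq hrel hsub ih h1).2.2
        simpa [midEl] using this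
      · rw [hCb] at h1
        have := (c.rule_sound H hsq hrel hsub ih h1).2.2
        have h2 : c.rep g j * (c.rep g (c.L j))⁻¹ =
            (c.rep g (c.L j) * midEl g none * (c.rep g j)⁻¹)⁻¹ := by
          simp only [midEl]; group
        rw [h2]
        exact H.inv_mem this

/-- every element of the group lies in the coset of a live name -/
theorem cover (H : Subgroup G) (hok : c.Ok) (hn : 0 < c.n)
    (hsq : ∀ s, s < c.k → g s * g s = 1)
    (hrel : ∀ w ∈ c.rels, wd g w = 1) (hsub : ∀ w ∈ c.subs, wd g w ∈ H)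
    (hgen : Subgroup.closure {y | ∃ s, s < c.k ∧ y = g s} = ⊤) :
    ∀ a : G, ∃ i, i < c.n ∧ c.L i = i ∧ ∃ h' ∈ H, a = h' * c.rep g i := by
  intro a
  have ha : a ∈ Subgroup.closure {y | ∃ s, s < c.k ∧ y = g s} := by rw [hgen]; trivial
  have hF := c.facts_all H hok hsq hrel hsub c.top
  have step : ∀ (x : G), (∃ i, i < c.n ∧ c.L i = i ∧ ∃ h' ∈ H, x = h' * c.rep g i) →
      ∀ s, s < c.k → ∃ i, i < c.n ∧ c.L i = i ∧ ∃ h' ∈ H, x * g s = h' * c.rep g i := by
    rintro x ⟨i, hi, hli, h', hh', rfl⟩ s hs
    obtain ⟨hT, hR⟩ := ok_live hok i hi hli s hs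
    have h1 := hF.1 i hi s hs hT hR
    obtain ⟨h2, h3⟩ := c.norm_sound H hF c.fuel (c.T i s) hT
    refine ⟨c.norm c.top c.fuel (c.T i s), h2, ok_fin hok _ hT,
      h' * ((c.rep g i * g s * (c.rep g (c.T i s))⁻¹) *
        (c.rep g (c.T i s) * (c.rep g (c.norm c.top c.fuel (c.T i s)))⁻¹)),
      H.mul_mem hh' (H.mul_mem h1 h3), ?_⟩
    group
  induction ha using Subgroup.closure_induction_right with
  | one =>
    refine ⟨0, hn, ?_, 1, H.one_mem, by rw [c.rep_zero g, one_mul]⟩
    have := ok_link hok 0 hn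
    unfold linkOK at this
    simp only [Bool.and_eq_true, decide_eq_true_eq] at this
    omega
  | mul_right x hx y hy ih =>
    obtain ⟨s, hs, rfl⟩ := hy
    exact step x ih s hs
  | mul_inv_cancel x hx y hy ih =>
    obtain ⟨s, hs, rfl⟩ := hy
    have hinv : (g s)⁻¹ = g s := inv_eq_of_mul_eq_one_right (hsq s hs)
    rw [hinv]
    exact step x ih s hs

end sound

end UCert

/-! ### Rotations of relators -/

/-- the rotations of a word -/
def rots (l : List ℕ) : List (List ℕ) := (List.range l.length).map fun i => l.drop i ++ l.take i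

/-- all rotations of all words of a list -/
def rotAll (L : List (List ℕ)) : List (List ℕ) := L.flatMap rots

theorem wd_rot {G : Type*} [Group G] (g : ℕ → G) (l : List ℕ) (i : ℕ) (h : wd g l = 1) :
    wd g (l.drop i ++ l.take i) = 1 := by
  have h1 : wd g l = wd g (l.take i) * wd g (l.drop i) := by
    rw [← wd_append, List.take_append_drop]
  rw [wd_append]
  rw [h1] at h
  exact mul_eq_one_comm.mp h

theorem rotAll_rel {G : Type*} [Group G] (g : ℕ → G) (L : List (List ℕ))
    (h : ∀ w ∈ L, wd g w = 1) : ∀ w ∈ rotAll L, wd g w = 1 := by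
  intro w hw
  obtain ⟨l, hl, hw⟩ := List.mem_flatMap.mp hw
  obtain ⟨i, _, rfl⟩ := List.mem_map.mp hw
  exact wd_rot g l i (h l hl)

theorem mem_rotAll_self {L : List (List ℕ)} {l : List ℕ} (hl : l ∈ L) (hne : l ≠ []) :
    l ∈ rotAll L := by
  apply List.mem_flatMap.mpr ⟨l, hl, ?_⟩
  exact List.mem_map.mpr ⟨0, List.mem_range.mpr (List.length_pos_of_ne_nil hne), by simp⟩

end Cfsg.Agent.Lib.Helper18.UTC
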