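import Mathlib
import Cfsg.Agent.Lib.Lead.WTC2
import Cfsg.Agent.Lib.Helper18.UTC1

set_option autoImplicit false

/-!
# Index and suborbits from a coset table and a certificate of an enumeration with coincidences

The final coset table gives a transitive permutation action in which the subgroup fixes a point
(so its index is at least the size of the table); the certificate of the enumeration shows that the
cosets of the live names cover the group (so the index is at most their number).
-/

namespace Cfsg.Agent.Lib.Helper18.UTC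
open Cfsg.Agent.Lib.Lead.WTC Cfsg.Agent.Lib.Lead.WTC.Cert

theorem tree_spec {c : Cert} (h : c.treeOK = true) :
    ∀ j, j < c.n → j ≠ 0 → c.P j < j ∧ c.S j < c.k ∧ c.T (c.P j) (c.S j) = j := by
  intro j hj hj0
  unfold Cert.treeOK at h
  rw [List.all_eq_true] at h
  have h2 := h j (List.mem_range.mpr hj)
  simp only [Bool.or_eq_true, Bool.and_eq_true, decide_eq_true_eq] at h2
  rcases h2 with h2 | h2
  · exact absurd h2 hj0
  · exact ⟨h2.1.1, h2.1.2, h2.2⟩

section main
variable {G : Type*} [Group G] (c : Cert) (u : UCert) (g : ℕ → G) (H : Subgroup G)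
  (ρ : G →* Equiv.Perm (Fin c.n))
variable (htree : c.treeOK = true) (hact : c.actOK = true) (hn : 0 < c.n)
  (hρ : ∀ s, s < c.k → ∀ x : Fin c.n, (ρ (g s) x).val = c.T x s)
  (hgen : Subgroup.closure {y | ∃ s, s < c.k ∧ y = g s} = ⊤)
  (hsq : ∀ s, s < c.k → g s * g s = 1)
  (hrel : ∀ w ∈ c.rels, wd g w = 1)
  (hH : H = Subgroup.closure {y | ∃ w ∈ c.subs, y = wd g w})
  (huk : u.k = c.k) (hurel : ∀ w ∈ u.rels, wd g w = 1) (husubs : u.subs = c.subs)
  (hun : 0 < u.n) (huok : u.Ok)
  (hlive : ((Finset.range u.n).filter (fun j => u.L j = j)).card = c.n)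

include htree hρ hsq in
theorem rep_act' : ∀ i, i < c.n → ((ρ (c.rep g i))⁻¹ ⟨0, hn⟩).val = i := by
  intro i
  induction i using Nat.strong_induction_on with
  | _ i ih =>
    intro hi
    by_cases hi0 : i = 0
    · subst hi0
      rw [c.rep_zero g, map_one, inv_one, Equiv.Perm.one_apply]
    · obtain ⟨hP, hS, hT⟩ := tree_spec htree i hi hi0
      rw [c.rep_pos g hi0 hP, map_mul, mul_inv_rev, Equiv.Perm.mul_apply]
      have hinv : (ρ (g (c.S i)))⁻¹ = ρ (g (c.S i)) := by
        apply inv_eq_of_mul_eq_one_right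
        rw [← map_mul, hsq _ hS, map_one]
      rw [hinv, hρ _ hS, ih (c.P i) hP (lt_trans hP hi), hT]

include htree hρ hsq in
theorem phi_surjective' (hfix : ∀ h ∈ H, ρ h ⟨0, hn⟩ = ⟨0, hn⟩) :
    Function.Surjective (phi c H ρ hn hfix) := by
  intro x
  refine ⟨QuotientGroup.mk (c.rep g x.val)⁻¹, ?_⟩
  rw [phi_mk, map_inv]
  apply Fin.ext
  exact rep_act' c g ρ htree hn hρ hsq x.val x.2

include hgen hsq hrel hH huk hurel husubs hun huok hlive in
theorem card_quot_le : Finite (G ⧸ H) ∧ Nat.card (G ⧸ H) ≤ c.n := by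
  have hsub : ∀ w ∈ u.subs, wd g w ∈ H := by
    intro w hw
    rw [husubs] at hw
    rw [hH]
    exact Subgroup.subset_closure ⟨w, hw, rfl⟩
  have hcov := u.cover H huok hun (g := g) (by rw [huk]; exact hsq)
    hurel hsub (by rw [huk]; exact hgen)
  let Lv := (Finset.range u.n).filter (fun j => u.L j = j)
  let f : Lv → G ⧸ H := fun i => QuotientGroup.mk (u.rep g i.1)⁻¹
  have hf : Function.Surjective f := by
    intro q
    induction q using QuotientGroup.induction_on with
    | H b =>
      obtain ⟨i, hi, hli, h', hh', hb⟩ := hcov b⁻¹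
      have hiL : i ∈ Lv := Finset.mem_filter.mpr ⟨Finset.mem_range.mpr hi, hli⟩
      refine ⟨⟨i, hiL⟩, ?_⟩
      show (QuotientGroup.mk (u.rep g i)⁻¹ : G ⧸ H) = QuotientGroup.mk b
      rw [QuotientGroup.eq, inv_inv]
      have : u.rep g i * b = h'⁻¹ := by
        have hb2 : b = (h' * u.rep g i)⁻¹ := by rw [← hb, inv_inv]
        rw [hb2]; group
      rw [this]
      exact H.inv_mem hh'
  have hfin : Finite (G ⧸ H) := Finite.of_surjective f hf
  refine ⟨hfin, ?_⟩
  have h1 := Nat.card_le_card_of_surjective f hf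
  have h2 : Nat.card Lv = c.n := by
    rw [Nat.card_eq_fintype_card, Fintype.card_coe]
    exact hlive
  rw [h2] at h1
  exact h1

include htree hact hρ hgen hsq hrel hH huk hurel husubs hun huok hlive in
theorem phi_bijective : Function.Bijective
    (phi c H ρ hn (fix_of_mem c g H ρ hact hn hρ hsq hH)) := by
  have hfix := fix_of_mem c g H ρ hact hn hρ hsq hH
  obtain ⟨hfin, hle⟩ := card_quot_le c u g H hgen hsq hrel hH huk hurel husubs hun huok hlive
  have hs := phi_surjective' c g H ρ htree hn hρ hsq hfix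
  apply hs.bijective_of_nat_card_le
  rw [Nat.card_fin]
  exact hle

include htree hact hρ hgen hsq hrel hH huk hurel husubs hun huok hlive in
theorem mem_of_fix' : ∀ a : G, ρ a ⟨0, hn⟩ = ⟨0, hn⟩ → a ∈ H := by
  intro a ha
  have hfix := fix_of_mem c g H ρ hact hn hρ hsq hH
  have hb := phi_bijective c u g H ρ htree hact hn hρ hgen hsq hrel hH huk hurel husubs hun huok hlive
  have h1 : phi c H ρ hn hfix (QuotientGroup.mk a) = phi c H ρ hn hfix (QuotientGroup.mk 1) := by
    rw [phi_mk, phi_mk, ha, map_one, Equiv.Perm.one_apply]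
  have h2 := hb.1 h1
  rw [QuotientGroup.eq] at h2
  have h3 : a = (a⁻¹ * 1)⁻¹ := by group
  rw [h3]
  exact H.inv_mem h2

include htree hact hn hρ hgen hsq hrel hH huk hurel husubs hun huok hlive in
theorem index_eq' : H.index = c.n := by
  have hb := phi_bijective c u g H ρ htree hact hn hρ hgen hsq hrel hH huk hurel husubs hun huok hlive
  rw [Subgroup.index_eq_card, Nat.card_congr (Equiv.ofBijective _ hb), Nat.card_fin]

include htree hact hρ hgen hsq hrel hH huk hurel husubs hun huok hlive in
/-- the orbit of the subgroup on the cosets corresponding to a colour class of the points -/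
theorem orbit_card' (o : OrbCert) (r cl : ℕ) (hcol : o.colOK c = true)
    (htr : o.treeOK c r cl = true) :
    ∃ q : G ⧸ H, (MulAction.orbit H q).ncard =
        ((Finset.range c.n).filter (fun x => o.C x = cl)).card ∧
      ∀ a : G, (QuotientGroup.mk a : G ⧸ H) ∈ MulAction.orbit H q ↔
        o.C (ρ a ⟨0, hn⟩).val = cl := by
  have hfix := fix_of_mem c g H ρ hact hn hρ hsq hH
  have hbij := phi_bijective c u g H ρ htree hact hn hρ hgen hsq hrel hH huk hurel husubs hun
    huok hlive
  have hinj := hbij.1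
  obtain ⟨hr, hcr, htr'⟩ := o.treeOK_spec htr
  have hcs := o.colOK_spec hcol
  obtain ⟨q, hq⟩ := hbij.2 ⟨r, hr⟩
  refine ⟨q, ?_⟩
  -- colour invariance under H
  have hinv : ∀ h ∈ H, ∀ x : Fin c.n, o.C (ρ h x).val = o.C x.val := by
    intro h hh
    rw [hH] at hh
    induction hh using Subgroup.closure_induction with
    | mem y hy =>
      obtain ⟨w, hw, rfl⟩ := hy
      intro x
      obtain ⟨hl, _⟩ := c.actOK_sub hact w hw
      have h1 := walk_ρ c g ρ hρ hsq w hl (ρ (wd g w) x)
      rw [show (ρ (wd g w))⁻¹ (ρ (wd g w) x) = x from Equiv.Perm.inv_eq_iff_eq.mpr rfl] at h1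
      have h2 := hcs (ρ (wd g w) x).val (ρ (wd g w) x).2 w hw
      rw [← h1] at h2
      exact h2.symm
    | one => intro x; rw [map_one, Equiv.Perm.one_apply]
    | mul a b _ _ ha hb => intro x; rw [map_mul, Equiv.Perm.mul_apply, ha, hb]
    | inv a _ ha =>
      intro x
      have := ha ((ρ a)⁻¹ x)
      rw [show ρ a ((ρ a)⁻¹ x) = x from Equiv.Perm.eq_inv_iff_eq.mp rfl] at this
      rw [map_inv, this]
  -- reachability
  have hreach : ∀ d x, x < c.n → o.C x = cl → o.OD x < d →
      ∃ h ∈ H, (ρ h ⟨r, hr⟩).val = x := by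
    intro d
    induction d with
    | zero => intro x _ _ h; exact absurd h (Nat.not_lt_zero _)
    | succ d ih =>
      intro x hx hcx hd
      by_cases hxr : x = r
      · exact ⟨1, Subgroup.one_mem _, by rw [map_one, Equiv.Perm.one_apply, hxr]⟩
      · obtain ⟨hp, hcp, hdp, hwalk, hwl⟩ := htr' x hx hcx hxr
        obtain ⟨h, hh, hhx⟩ := ih (o.OP x) hp hcp (by omega)
        have hwmem : c.subs.getD (o.OW x) [] ∈ c.subs := by
          rw [List.getD_eq_getElem _ _ hwl]
          exact List.getElem_mem hwl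
        set w := c.subs.getD (o.OW x) [] with hw
        obtain ⟨hl, _⟩ := c.actOK_sub hact w hwmem
        have hwH : wd g w ∈ H := by
          rw [hH]; exact Subgroup.subset_closure ⟨w, hwmem, rfl⟩
        refine ⟨(wd g w)⁻¹ * h, Subgroup.mul_mem _ (Subgroup.inv_mem _ hwH) hh, ?_⟩
        rw [map_mul, map_inv, Equiv.Perm.mul_apply, walk_ρ c g ρ hρ hsq w hl, hhx, hwalk]
  have hsm : ∀ (h : H) (q' : G ⧸ H), h • q' = (h : G) • q' := by
    intro h q'
    induction q' using QuotientGroup.induction_on with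
    | H b => rfl
  have hmemorb : ∀ q' : G ⧸ H, q' ∈ MulAction.orbit H q ↔
      o.C (phi c H ρ hn hfix q').val = cl := by
    intro q'
    constructor
    · rintro ⟨h, rfl⟩
      show o.C (phi c H ρ hn hfix (h • q)).val = cl
      rw [hsm, phi_smul, hq, hinv h.1 h.2]
      exact hcr
    · intro hx
      obtain ⟨h, hh, hhx⟩ := hreach (o.OD (phi c H ρ hn hfix q').val + 1)
        (phi c H ρ hn hfix q').val (phi c H ρ hn hfix q').2 hx (Nat.lt_succ_self _)
      refine ⟨⟨h, hh⟩, ?_⟩
      apply hinj
      show phi c H ρ hn hfix ((⟨h, hh⟩ : H) • q) = phi c H ρ hn hfix q'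
      rw [hsm, phi_smul, hq]
      exact Fin.ext hhx
  have himg : (phi c H ρ hn hfix) '' (MulAction.orbit H q) =
      {x : Fin c.n | o.C x.val = cl} := by
    ext x
    constructor
    · rintro ⟨q', hq', rfl⟩
      exact (hmemorb q').1 hq'
    · intro hx
      obtain ⟨q', rfl⟩ := hbij.2 x
      exact ⟨q', (hmemorb q').2 hx, rfl⟩
  constructor
  · rw [← Set.ncard_image_of_injective _ hinj, himg,
      ← Set.ncard_image_of_injective _ Fin.val_injective]
    have : Fin.val '' {x : Fin c.n | o.C x.val = cl} =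
        ↑((Finset.range c.n).filter (fun x => o.C x = cl)) := by
      ext y
      simp only [Set.mem_image, Set.mem_ofPred_eq, Finset.coe_filter, Finset.mem_range]
      constructor
      · rintro ⟨x, hx, rfl⟩; exact ⟨x.2, hx⟩
      · rintro ⟨hy, hcy⟩; exact ⟨⟨y, hy⟩, hcy, rfl⟩
    rw [this, Set.ncard_coe_finset]
  · intro a
    rw [hmemorb, phi_mk]

end main

end Cfsg.Agent.Lib.Helper18.UTC
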