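import Mathlib
import Cfsg.Agent.Lib.Lead.WTC2

set_option autoImplicit false

/-! Small lemmas on words in involutions, for relators printed as `X = Y ^ m`. -/

namespace Cfsg.Agent.Lib.Helper18.UTC
open Cfsg.Agent.Lib.Lead.WTC Cfsg.Agent.Lib.Lead.WTC.Cert

theorem extra_form {M : Type*} [Group M] (γ : ℕ → M) (k : ℕ)
    (hsq : ∀ s, s < k → γ s * γ s = 1) (x y : List ℕ) (m : ℕ) (hy : ∀ u ∈ y, u < k) :
    wd γ x * ((wd γ y) ^ m)⁻¹ = wd γ (x ++ expand (y.reverse, m)) := by
  rw [wd_append, wd_expand]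
  simp only
  rw [wd_reverse (g := γ) (l := y) (fun u hu => hsq u (hy u hu)), inv_pow]

theorem pow_swap_eq_one' {M : Type*} [Group M] (a b : M) (m : ℕ) (h : (a * b) ^ m = 1) :
    (b * a) ^ m = 1 := by
  have h1 : ∀ k : ℕ, (b * a) ^ k = a⁻¹ * (a * b) ^ k * a := by
    intro k
    induction k with
    | zero => simp
    | succ k ih => rw [pow_succ, ih, pow_succ]; group
  rw [h1, h]; group

end Cfsg.Agent.Lib.Helper18.UTC
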