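import Mathlib
import Cfsg.Agent.Lib.Lead.WTC2
import Cfsg.Agent.Lib.Helper18.UTC1

set_option autoImplicit false

/-!
# Fast checks of the final coset table

The checks of a coset table (involutions, relators, spanning tree, suborbits) are restated with
lookups by shifts and split into pieces, and shown to imply the boolean checks of the table.
-/

namespace Cfsg.Agent.Lib.Helper18.UTC
open Cfsg.Agent.Lib.Lead.WTC Cfsg.Agent.Lib.Lead.WTC.Cert

theorem get16_eq (N x : ℕ) : get16 N x = fldW 16 N x := by
  unfold get16 fldW
  show N / 65536 ^ x % 65536 = (N >>> (16 * x)) % 2 ^ 16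
  rw [Nat.shiftRight_eq_div_pow, pow_mul]
  norm_num

/-- fast lookup in the table -/
def Tf (c : Cert) (x s : ℕ) : ℕ := fldW 16 (c.tab s) x

theorem T_eq (c : Cert) (x s : ℕ) : c.T x s = Tf c x s := get16_eq _ _

/-- fast tracing of a word -/
def walkf (c : Cert) : List ℕ → ℕ → ℕ
  | [], x => x
  | u :: l, x => walkf c l (Tf c x u)

theorem walk_eq_f (c : Cert) : ∀ (l : List ℕ) (x : ℕ), c.walk l x = walkf c l x := by
  intro l
  induction l with
  | nil => intro x; rfl
  | cons u l ih => intro x; simp only [Cert.walk, walkf, T_eq, ih]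

/-- the checks at one point: involutions, relators, tree, colours, tree of the suborbit -/
def ptOK (c : Cert) (o : OrbCert) (reps : List ℕ) (x : ℕ) : Bool :=
  ((List.range c.k).all fun s =>
      decide (Tf c x s < c.n) && decide (Tf c (Tf c x s) s = x)) &&
  (c.rels.all fun w => decide (walkf c w x = x)) &&
  (decide (x = 0) ||
    (decide (fldW 16 c.par x < x) && decide (fldW 16 c.sg x < c.k) &&
      decide (Tf c (fldW 16 c.par x) (fldW 16 c.sg x) = x))) &&
  (c.subs.all fun w => decide (fldW 16 o.col (walkf c w x) = fldW 16 o.col x)) &&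
  (decide (x = reps.getD (fldW 16 o.col x) c.n) ||
    (decide (fldW 16 o.opar x < c.n) &&
      decide (fldW 16 o.col (fldW 16 o.opar x) = fldW 16 o.col x) &&
      decide (fldW 16 o.odep (fldW 16 o.opar x) < fldW 16 o.odep x) &&
      decide (walkf c (c.subs.getD (fldW 16 o.ow x) []) (fldW 16 o.opar x) = x) &&
      decide (fldW 16 o.ow x < c.subs.length)))

def ptPiece (c : Cert) (o : OrbCert) (reps : List ℕ) (lo len : ℕ) : Bool :=
  (List.range len).all fun t => ptOK c o reps (lo + t)

theorem ptPiece_spec {c : Cert} {o : OrbCert} {reps : List ℕ} {lo len : ℕ}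
    (h : ptPiece c o reps lo len = true) :
    ∀ x, lo ≤ x → x < lo + len → ptOK c o reps x = true := by
  intro j h1 h2
  unfold ptPiece at h
  rw [List.all_eq_true] at h
  have := h (j - lo) (List.mem_range.mpr (by omega))
  rwa [Nat.add_sub_cancel' h1] at this

/-- the checks not attached to a point -/
def globOK (c : Cert) : Bool :=
  (c.rels.all fun w => w.all fun u => decide (u < c.k)) &&
  (c.subs.all fun w => (w.all fun u => decide (u < c.k)) && decide (walkf c w 0 = 0))

section intro
variable {c : Cert} {o : OrbCert} {reps : List ℕ}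
  (hpt : ∀ x, x < c.n → ptOK c o reps x = true)

include hpt in
theorem actOK_intro (hg : globOK c = true) : c.actOK = true := by
  unfold globOK at hg
  simp only [Bool.and_eq_true, List.all_eq_true, decide_eq_true_eq] at hg
  unfold Cert.actOK
  simp only [Bool.and_eq_true, List.all_eq_true, decide_eq_true_eq, List.mem_range]
  refine ⟨⟨?_, hg.1⟩, ?_⟩
  · intro x hx
    have h := hpt x hx
    unfold ptOK at h
    simp only [Bool.and_eq_true, List.all_eq_true, decide_eq_true_eq, List.mem_range] at h
    refine ⟨?_, ?_⟩
    · intro s hs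
      simp only [T_eq]
      exact h.1.1.1.1 s hs
    · intro w hw
      rw [walk_eq_f]
      exact h.1.1.1.2 w hw
  · intro w hw
    rw [walk_eq_f]
    exact hg.2 w hw

include hpt in
theorem treeOK_intro : c.treeOK = true := by
  unfold Cert.treeOK
  simp only [List.all_eq_true, List.mem_range, Bool.or_eq_true, Bool.and_eq_true,
    decide_eq_true_eq]
  intro x hx
  have h := hpt x hx
  unfold ptOK at h
  simp only [Bool.and_eq_true, Bool.or_eq_true, decide_eq_true_eq] at h
  rcases h.1.1.2 with h1 | h1
  · exact Or.inl h1
  · right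
    show (get16 c.par x < x ∧ get16 c.sg x < c.k) ∧ c.T (get16 c.par x) (get16 c.sg x) = x
    rw [T_eq, get16_eq, get16_eq]
    exact h1

include hpt in
theorem colOK_intro : o.colOK c = true := by
  unfold OrbCert.colOK
  simp only [List.all_eq_true, List.mem_range, decide_eq_true_eq]
  intro x hx w hw
  have h := hpt x hx
  unfold ptOK at h
  simp only [Bool.and_eq_true, List.all_eq_true, decide_eq_true_eq] at h
  show get16 o.col (c.walk w x) = get16 o.col x
  rw [walk_eq_f, get16_eq, get16_eq]
  exact h.1.2 w hw

include hpt in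
theorem orbTreeOK_intro (r cl : ℕ) (hr : r < c.n) (hcr : fldW 16 o.col r = cl)
    (hrep : reps.getD cl c.n = r) : o.treeOK c r cl = true := by
  unfold OrbCert.treeOK
  simp only [Bool.and_eq_true, List.all_eq_true, List.mem_range, Bool.or_eq_true,
    decide_eq_true_eq, Bool.not_eq_true', decide_eq_false_iff_not]
  refine ⟨⟨hr, ?_⟩, ?_⟩
  · show get16 o.col r = cl
    rw [get16_eq]; exact hcr
  · intro x hx
    have h := hpt x hx
    unfold ptOK at h
    simp only [Bool.and_eq_true, Bool.or_eq_true, decide_eq_true_eq] at h
    by_cases hcx : o.C x = cl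
    · have hcx' : fldW 16 o.col x = cl := by rw [← get16_eq]; exact hcx
      rcases h.2 with h1 | h1
      · left; right
        rw [hcx', hrep] at h1
        exact h1
      · right
        show (((get16 o.opar x < c.n ∧ get16 o.col (get16 o.opar x) = cl) ∧
          get16 o.odep (get16 o.opar x) < get16 o.odep x) ∧
          c.walk (c.subs.getD (get16 o.ow x) []) (get16 o.opar x) = x) ∧
          get16 o.ow x < c.subs.length
        rw [walk_eq_f]
        simp only [get16_eq]
        rw [hcx'] at h1
        exact h1
    · left; left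
      exact hcx

end intro

end Cfsg.Agent.Lib.Helper18.UTC
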