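import Cfsg.Agent.Lib.Helper18.UTCHeOk
import Cfsg.Agent.Lib.Helper18.UTC2
import Cfsg.Agent.Lib.Helper18.UTC3
import Cfsg.Prelude.Def_Spor_He

set_option autoImplicit false

/-! The presented Held group: the index of the subgroup of the statement and its suborbits. -/

namespace Cfsg.Agent.Lib.Helper18.UTC

open Cfsg.Spor Cfsg.Agent.Lib.Lead.WTC Cfsg.Agent.Lib.Lead.WTC.Cert

def heGen : ℕ → He.Gen
  | 0 => .a | 1 => .b | 2 => .c | 3 => .d | 4 => .e | 5 => .f | _ => .g

def heIdx : He.Gen → ℕ
  | .a => 0 | .b => 1 | .c => 2 | .d => 3 | .e => 4 | .f => 5 | .g => 6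

abbrev heRR : Set (FreeGroup He.Gen) := coxRelators He.edges ∪ {r | r ∈ He.extra}

noncomputable def heG (s : ℕ) : He := PresentedGroup.of (heGen s)

theorem heIdx_lt (x : He.Gen) : heIdx x < 7 := by cases x <;> decide

theorem heGen_idx (x : He.Gen) : heGen (heIdx x) = x := by cases x <;> rfl

theorem heIdx_gen {s : ℕ} (hs : s < 7) : heIdx (heGen s) = s := by
  interval_cases s <;> rfl

theorem he_nodes (x : He.Gen) : x ∈ coxNodes He.edges := by cases x <;> decide

theorem he_cox_rel (x y : He.Gen) :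
    ((PresentedGroup.of x : He) * PresentedGroup.of y) ^ (coxLabel He.edges x y) = 1 := by
  have hmem : (FreeGroup.of x * FreeGroup.of y) ^ (coxLabel He.edges x y) ∈ heRR :=
    Or.inl ⟨x, he_nodes x, y, he_nodes y, rfl⟩
  have h := PresentedGroup.one_of_mem hmem
  rw [map_pow, map_mul] at h
  exact h

theorem he_label_self (x : He.Gen) : coxLabel He.edges x x = 1 := by
  simp [coxLabel]

theorem he_label_symm (x y : He.Gen) :
    coxLabel He.edges y x = coxLabel He.edges x y := by
  cases x <;> cases y <;> rfl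

theorem he_sq (s : ℕ) (_hs : s < cHe.k) : heG s * heG s = 1 := by
  have h := he_cox_rel (heGen s) (heGen s)
  rw [he_label_self, pow_one] at h
  exact h

theorem he_sq7 (s : ℕ) (hs : s < 7) : heG s * heG s = 1 := he_sq s hs

theorem he_spec_char : ∀ p ∈ relHe,
    (∃ s, s < 7 ∧ ∃ t, t < 7 ∧ p = ([s, t], coxLabel He.edges (heGen s) (heGen t))) ∨
      p = ([4, 6, 5, 6, 5], 1) ∨ p = ([4, 2, 1, 0, 2, 1, 0, 2, 1, 0], 1) ∨
      p = ([0, 3, 2, 3, 2, 3, 2, 3, 2, 3, 2], 1) ∨ p = ([2, 3, 5, 6], 4) := by
  decide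

theorem he_extra1 : wd heG [4, 6, 5, 6, 5] = 1 := by
  have hmem : He.e * ((He.f * He.g) ^ 2)⁻¹ ∈ heRR := Or.inr (by simp [He.extra])
  have h := PresentedGroup.one_of_mem hmem
  rw [map_mul, map_inv, map_pow, map_mul] at h
  have h2 := extra_form heG 7 he_sq7 [4] [5, 6] 2 (by decide)
  have h3 : wd heG [4] * (wd heG [5, 6] ^ 2)⁻¹ = 1 := by
    simp only [wd, List.map_cons, List.map_nil, List.prod_cons, List.prod_nil, mul_one]
    exact h
  rw [h2] at h3
  exact h3

theorem he_extra2 : wd heG [4, 2, 1, 0, 2, 1, 0, 2, 1, 0] = 1 := by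
  have hmem : He.e * ((He.a * He.b * He.c) ^ 3)⁻¹ ∈ heRR := Or.inr (by simp [He.extra])
  have h := PresentedGroup.one_of_mem hmem
  rw [map_mul, map_inv, map_pow, map_mul, map_mul] at h
  have h2 := extra_form heG 7 he_sq7 [4] [0, 1, 2] 3 (by decide)
  have h3 : wd heG [4] * (wd heG [0, 1, 2] ^ 3)⁻¹ = 1 := by
    simp only [wd, List.map_cons, List.map_nil, List.prod_cons, List.prod_nil, mul_one]
    try simp only [mul_assoc] at h ⊢
    exact h
  rw [h2] at h3
  exact h3

theorem he_extra3 : wd heG [0, 3, 2, 3, 2, 3, 2, 3, 2, 3, 2] = 1 := by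
  have hmem : He.a * ((He.c * He.d) ^ 5)⁻¹ ∈ heRR := Or.inr (by simp [He.extra])
  have h := PresentedGroup.one_of_mem hmem
  rw [map_mul, map_inv, map_pow, map_mul] at h
  have h2 := extra_form heG 7 he_sq7 [0] [2, 3] 5 (by decide)
  have h3 : wd heG [0] * (wd heG [2, 3] ^ 5)⁻¹ = 1 := by
    simp only [wd, List.map_cons, List.map_nil, List.prod_cons, List.prod_nil, mul_one]
    exact h
  rw [h2] at h3
  exact h3

theorem he_extra4 : (wd heG [2, 3, 5, 6]) ^ 4 = 1 := by
  have hmem : (He.c * He.d * He.f * He.g) ^ 4 ∈ heRR := Or.inr (by simp [He.extra])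
  have h := PresentedGroup.one_of_mem hmem
  rw [map_pow] at h
  simp only [map_mul] at h
  simp only [wd, List.map_cons, List.map_nil, List.prod_cons, List.prod_nil, mul_one]
  try simp only [mul_assoc] at h ⊢
  exact h

theorem he_rel0 : ∀ w ∈ relHe.map expand, wd heG w = 1 := by
  intro w hw
  obtain ⟨p, hp, rfl⟩ := List.mem_map.mp hw
  rcases he_spec_char p hp with ⟨s, _, t, _, rfl⟩ | rfl | rfl | rfl | rfl
  · rw [wd_expand]
    have h := he_cox_rel (heGen s) (heGen t)
    simp only [wd, List.map_cons, List.map_nil, List.prod_cons, List.prod_nil, mul_one]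
    exact h
  · exact he_extra1
  · exact he_extra2
  · exact he_extra3
  · rw [wd_expand]
    exact he_extra4

theorem he_rel : ∀ w ∈ cHe.rels, wd heG w = 1 := he_rel0

theorem he_urel : ∀ w ∈ uHe.rels, wd heG w = 1 := rotAll_rel heG _ he_rel0

theorem he_gen : Subgroup.closure {y : He | ∃ s, s < cHe.k ∧ y = heG s} = ⊤ := by
  rw [eq_top_iff, ← PresentedGroup.closure_range_of]
  apply Subgroup.closure_mono
  rintro _ ⟨x, rfl⟩
  exact ⟨heIdx x, heIdx_lt x, by unfold heG; rw [heGen_idx]⟩

theorem he_pair_mem (x y : He.Gen) (h : heIdx x ≤ heIdx y) :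
    ([heIdx x, heIdx y], coxLabel He.edges x y) ∈ relHe := by
  revert h
  cases x <;> cases y <;> decide

/-- The generating permutations. -/
noncomputable def heSig (x : He.Gen) : Equiv.Perm (Fin cHe.n) := cHe.σ cHe_act (heIdx x)

theorem heSig_cox (x y : He.Gen) : (heSig x * heSig y) ^ (coxLabel He.edges x y) = 1 := by
  have key : ∀ x y : He.Gen, heIdx x ≤ heIdx y →
      (heSig x * heSig y) ^ (coxLabel He.edges x y) = 1 := by
    intro x y hxy
    have hm : expand ([heIdx x, heIdx y], coxLabel He.edges x y) ∈ cHe.rels :=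
      List.mem_map.mpr ⟨_, he_pair_mem x y hxy, rfl⟩
    have h := cHe.σ_word cHe_act _ hm
    rw [wd_expand] at h
    simp only [wd, List.map_cons, List.map_nil, List.prod_cons, List.prod_nil, mul_one] at h
    exact h
  rcases le_total (heIdx x) (heIdx y) with hxy | hxy
  · exact key x y hxy
  · have h := key y x hxy
    rw [he_label_symm] at h
    exact pow_swap_eq_one' _ _ _ h

theorem heSig_word (p : List ℕ × ℕ) (hp : p ∈ relHe) :
    (wd (cHe.σ cHe_act) p.1) ^ p.2 = 1 := by
  have hm : expand p ∈ cHe.rels := List.mem_map.mpr ⟨_, hp, rfl⟩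
  have h := cHe.σ_word cHe_act _ hm
  rw [wd_expand] at h
  exact h

theorem heSig_sq (s : ℕ) (hs : s < 7) : cHe.σ cHe_act s * cHe.σ cHe_act s = 1 :=
  cHe.σ_sq cHe_act hs

theorem he_lift : ∀ r ∈ heRR, FreeGroup.lift heSig r = 1 := by
  intro r hr
  rcases hr with ⟨x, _, y, _, rfl⟩ | hr
  · rw [map_pow, map_mul, FreeGroup.lift_apply_of, FreeGroup.lift_apply_of]
    exact heSig_cox x y
  · have hr' : r ∈ He.extra := hr
    simp only [He.extra, List.mem_cons, List.not_mem_nil, or_false] at hr'
    rcases hr' with rfl | rfl | rfl | rfl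
    · have h := heSig_word ([4, 6, 5, 6, 5], 1) (by decide)
      rw [pow_one] at h
      have h2 := extra_form (cHe.σ cHe_act) 7 heSig_sq [4] [5, 6] 2 (by decide)
      rw [show [4] ++ expand ([5, 6].reverse, 2) = [4, 6, 5, 6, 5] from rfl, h] at h2
      simp only [wd, List.map_cons, List.map_nil, List.prod_cons, List.prod_nil, mul_one] at h2
      simp only [map_mul, map_inv, map_pow, FreeGroup.lift_apply_of]
      exact h2
    · have h := heSig_word ([4, 2, 1, 0, 2, 1, 0, 2, 1, 0], 1) (by decide)
      rw [pow_one] at h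
      have h2 := extra_form (cHe.σ cHe_act) 7 heSig_sq [4] [0, 1, 2] 3 (by decide)
      rw [show [4] ++ expand ([0, 1, 2].reverse, 3) = [4, 2, 1, 0, 2, 1, 0, 2, 1, 0] from rfl, h] at h2
      simp only [wd, List.map_cons, List.map_nil, List.prod_cons, List.prod_nil, mul_one] at h2
      simp only [map_mul, map_inv, map_pow, FreeGroup.lift_apply_of]
      try simp only [mul_assoc] at h2 ⊢
      exact h2
    · have h := heSig_word ([0, 3, 2, 3, 2, 3, 2, 3, 2, 3, 2], 1) (by decide)
      rw [pow_one] at h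
      have h2 := extra_form (cHe.σ cHe_act) 7 heSig_sq [0] [2, 3] 5 (by decide)
      rw [show [0] ++ expand ([2, 3].reverse, 5) = [0, 3, 2, 3, 2, 3, 2, 3, 2, 3, 2] from rfl, h] at h2
      simp only [wd, List.map_cons, List.map_nil, List.prod_cons, List.prod_nil, mul_one] at h2
      simp only [map_mul, map_inv, map_pow, FreeGroup.lift_apply_of]
      exact h2
    · have h := heSig_word ([2, 3, 5, 6], 4) (by decide)
      simp only [wd, List.map_cons, List.map_nil, List.prod_cons, List.prod_nil, mul_one] at h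
      rw [map_pow]
      simp only [map_mul, FreeGroup.lift_apply_of, mul_assoc]
      try simp only [mul_assoc] at h
      exact h

noncomputable def heRho : He →* Equiv.Perm (Fin cHe.n) := PresentedGroup.toGroup he_lift

theorem heRho_val (s : ℕ) (hs : s < cHe.k) (x : Fin cHe.n) :
    (heRho (heG s) x).val = cHe.T x s := by
  unfold heRho heG
  rw [PresentedGroup.toGroup.of]
  unfold heSig
  rw [heIdx_gen hs]
  exact cHe.σ_val cHe_act hs x

/-- The subgroup of the statement. -/
abbrev heH : Subgroup He :=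
  (Subgroup.closure ({He.a, He.c, He.d, He.e, He.f, (He.a * He.b) ^ 2,
    (He.b * He.c * He.d * He.e) ^ 7} : Set (FreeGroup He.Gen))).map
    (PresentedGroup.mk heRR)

theorem he_sub_mem : ∀ p ∈ subHe, (wd heG p.1) ^ p.2 ∈ heH := by
  intro p hp
  have hmk : ∀ z ∈ ({He.a, He.c, He.d, He.e, He.f, (He.a * He.b) ^ 2,
      (He.b * He.c * He.d * He.e) ^ 7} : Set (FreeGroup He.Gen)),
      PresentedGroup.mk heRR z ∈ heH :=
    fun z hz => Subgroup.mem_map_of_mem _ (Subgroup.subset_closure hz)
  simp only [subHe, List.mem_cons, List.not_mem_nil, or_false] at hp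
  rcases hp with rfl | rfl | rfl | rfl | rfl | rfl | rfl
  · have := hmk He.a (by simp)
    simpa [wd, heG, heGen, PresentedGroup.of] using this
  · have := hmk He.c (by simp)
    simpa [wd, heG, heGen, PresentedGroup.of] using this
  · have := hmk He.d (by simp)
    simpa [wd, heG, heGen, PresentedGroup.of] using this
  · have := hmk He.e (by simp)
    simpa [wd, heG, heGen, PresentedGroup.of] using this
  · have := hmk He.f (by simp)
    simpa [wd, heG, heGen, PresentedGroup.of] using this
  · have := hmk ((He.a * He.b) ^ 2) (by simp)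
    rw [map_pow] at this
    simp only [map_mul] at this
    simp only [wd, List.map_cons, List.map_nil, List.prod_cons, List.prod_nil, mul_one]
    exact this
  · have := hmk ((He.b * He.c * He.d * He.e) ^ 7) (by simp)
    rw [map_pow] at this
    simp only [map_mul] at this
    simp only [wd, List.map_cons, List.map_nil, List.prod_cons, List.prod_nil, mul_one]
    try simp only [mul_assoc] at this ⊢
    exact this

theorem he_H : heH = Subgroup.closure {y : He | ∃ w ∈ cHe.subs, y = wd heG w} := by
  apply le_antisymm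
  · unfold heH
    rw [MonoidHom.map_closure, Subgroup.closure_le]
    rintro _ ⟨z, hz, rfl⟩
    have hsub : ∀ p ∈ subHe, (wd heG p.1) ^ p.2 ∈
        Subgroup.closure {y : He | ∃ w ∈ cHe.subs, y = wd heG w} := by
      intro p hp
      rw [← wd_expand]
      exact Subgroup.subset_closure ⟨expand p, List.mem_map.mpr ⟨p, hp, rfl⟩, rfl⟩
    simp only [Set.mem_insert_iff, Set.mem_singleton_iff] at hz
    rcases hz with rfl | rfl | rfl | rfl | rfl | rfl | rfl
    · have := hsub ([0], 1) (by decide)
      simpa [wd, heG, heGen, PresentedGroup.of] using this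
    · have := hsub ([2], 1) (by decide)
      simpa [wd, heG, heGen, PresentedGroup.of] using this
    · have := hsub ([3], 1) (by decide)
      simpa [wd, heG, heGen, PresentedGroup.of] using this
    · have := hsub ([4], 1) (by decide)
      simpa [wd, heG, heGen, PresentedGroup.of] using this
    · have := hsub ([5], 1) (by decide)
      simpa [wd, heG, heGen, PresentedGroup.of] using this
    · have := hsub ([0, 1], 2) (by decide)
      simp only [wd, List.map_cons, List.map_nil, List.prod_cons, List.prod_nil, mul_one] at this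
      show PresentedGroup.mk heRR ((He.a * He.b) ^ 2) ∈ _
      rw [map_pow]
      simp only [map_mul]
      exact this
    · have := hsub ([1, 2, 3, 4], 7) (by decide)
      simp only [wd, List.map_cons, List.map_nil, List.prod_cons, List.prod_nil, mul_one] at this
      show PresentedGroup.mk heRR ((He.b * He.c * He.d * He.e) ^ 7) ∈ _
      rw [map_pow]
      simp only [map_mul]
      try simp only [mul_assoc] at this ⊢
      exact this
  · rw [Subgroup.closure_le]
    rintro _ ⟨w, hw, rfl⟩
    obtain ⟨p, hp, rfl⟩ := List.mem_map.mp hw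
    rw [wd_expand]
    exact he_sub_mem p hp

theorem he_main : heH.index = 2058 ∧ ∃ q₁ q₂ q₃ q₄ : He ⧸ heH,
    MulAction.orbit heH q₁ ≠ MulAction.orbit heH q₂ ∧
    (MulAction.orbit heH q₁).ncard = 136 ∧ (MulAction.orbit heH q₂).ncard = 136 ∧
    (MulAction.orbit heH q₃).ncard = 425 ∧ (MulAction.orbit heH q₄).ncard = 1360 := by
  have hn : 0 < cHe.n := by decide
  have hun : 0 < uHe.n := by decide
  have ecnt : ∀ cl, ((Finset.range cHe.n).filter (fun x => oHe.C x = cl)).card =
      ((Finset.range cHe.n).filter (fun x => fldW 16 oHe.col x = cl)).card := by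
    intro cl
    simp only [OrbCert.C, get16_eq]
  refine ⟨?_, ?_⟩
  · exact index_eq' cHe uHe heG heH heRho cHe_tree cHe_act hn heRho_val he_gen he_sq he_rel he_H
      rfl he_urel rfl hun uHe_ok uHe_live
  · obtain ⟨q₁, h1, m1⟩ := orbit_card' cHe uHe heG heH heRho cHe_tree cHe_act hn heRho_val he_gen
      he_sq he_rel he_H rfl he_urel rfl hun uHe_ok uHe_live oHe 46 3 oHe_col oHe_tree3
    obtain ⟨q₂, h2, m2⟩ := orbit_card' cHe uHe heG heH heRho cHe_tree cHe_act hn heRho_val he_gen
      he_sq he_rel he_H rfl he_urel rfl hun uHe_ok uHe_live oHe 65 4 oHe_col oHe_tree4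
    obtain ⟨q₃, h3, _⟩ := orbit_card' cHe uHe heG heH heRho cHe_tree cHe_act hn heRho_val he_gen
      he_sq he_rel he_H rfl he_urel rfl hun uHe_ok uHe_live oHe 2 2 oHe_col oHe_tree2
    obtain ⟨q₄, h4, _⟩ := orbit_card' cHe uHe heG heH heRho cHe_tree cHe_act hn heRho_val he_gen
      he_sq he_rel he_H rfl he_urel rfl hun uHe_ok uHe_live oHe 1 1 oHe_col oHe_tree1
    refine ⟨q₁, q₂, q₃, q₄, ?_, (h1.trans (ecnt 3)).trans oHe_cnt3, (h2.trans (ecnt 4)).trans oHe_cnt4,
      (h3.trans (ecnt 2)).trans oHe_cnt2, (h4.trans (ecnt 1)).trans oHe_cnt1⟩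
    intro heq
    induction q₁ using QuotientGroup.induction_on with
    | H a =>
      have ha1 : (QuotientGroup.mk a : He ⧸ heH) ∈ MulAction.orbit heH (QuotientGroup.mk a) :=
        MulAction.mem_orbit_self _
      have e1 := (m1 a).1 ha1
      rw [heq] at ha1
      have e2 := (m2 a).1 ha1
      rw [e1] at e2
      exact absurd e2 (by decide)

end Cfsg.Agent.Lib.Helper18.UTC
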