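import Mathlib
import Cfsg.Agent.Lib.Helper18.UTC4
import Cfsg.Agent.Lib.Helper18.UTCHeData

set_option autoImplicit false
set_option Elab.async false

/-! Kernel checks of the final coset table of He, part 1. -/

namespace Cfsg.Agent.Lib.Helper18.UTC
open Cfsg.Agent.Lib.Lead.WTC

set_option maxRecDepth 100000 in
theorem cHe_p0 : ptPiece cHe oHe repsHe 0 500 = true := by decide +kernel

set_option maxRecDepth 100000 in
theorem cHe_p500 : ptPiece cHe oHe repsHe 500 500 = true := by decide +kernel

set_option maxRecDepth 100000 in
theorem cHe_p1000 : ptPiece cHe oHe repsHe 1000 500 = true := by decide +kernel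

set_option maxRecDepth 100000 in
theorem cHe_p1500 : ptPiece cHe oHe repsHe 1500 500 = true := by decide +kernel

set_option maxRecDepth 100000 in
theorem cHe_p2000 : ptPiece cHe oHe repsHe 2000 58 = true := by decide +kernel

end Cfsg.Agent.Lib.Helper18.UTC
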