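import Mathlib
import Cfsg.Agent.Lib.Helper18.UTC4
import Cfsg.Agent.Lib.Helper18.UTCHeChk1
import Cfsg.Agent.Lib.Helper18.UTCHeChk2
import Cfsg.Agent.Lib.Helper18.UTCHePt1

set_option autoImplicit false
set_option Elab.async false

/-! The certificate of the coset enumeration in He is valid (assembly), and the checks of the final table. -/

namespace Cfsg.Agent.Lib.Helper18.UTC
open Cfsg.Agent.Lib.Lead.WTC

theorem uHe_ok : uHe.Ok := by
  intro j hj
  have hj' : j < 7361 := hj
  rcases Nat.lt_or_ge j 500 with h0 | h0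
  · exact uHe.pieceOK_spec uHe_p0 j (by omega) (by omega)
  rcases Nat.lt_or_ge j 1000 with h1 | h1
  · exact uHe.pieceOK_spec uHe_p500 j (by omega) (by omega)
  rcases Nat.lt_or_ge j 1500 with h2 | h2
  · exact uHe.pieceOK_spec uHe_p1000 j (by omega) (by omega)
  rcases Nat.lt_or_ge j 2000 with h3 | h3
  · exact uHe.pieceOK_spec uHe_p1500 j (by omega) (by omega)
  rcases Nat.lt_or_ge j 2500 with h4 | h4
  · exact uHe.pieceOK_spec uHe_p2000 j (by omega) (by omega)
  rcases Nat.lt_or_ge j 3000 with h5 | h5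
  · exact uHe.pieceOK_spec uHe_p2500 j (by omega) (by omega)
  rcases Nat.lt_or_ge j 3500 with h6 | h6
  · exact uHe.pieceOK_spec uHe_p3000 j (by omega) (by omega)
  rcases Nat.lt_or_ge j 4000 with h7 | h7
  · exact uHe.pieceOK_spec uHe_p3500 j (by omega) (by omega)
  rcases Nat.lt_or_ge j 4500 with h8 | h8
  · exact uHe.pieceOK_spec uHe_p4000 j (by omega) (by omega)
  rcases Nat.lt_or_ge j 5000 with h9 | h9
  · exact uHe.pieceOK_spec uHe_p4500 j (by omega) (by omega)
  rcases Nat.lt_or_ge j 5500 with h10 | h10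
  · exact uHe.pieceOK_spec uHe_p5000 j (by omega) (by omega)
  rcases Nat.lt_or_ge j 6000 with h11 | h11
  · exact uHe.pieceOK_spec uHe_p5500 j (by omega) (by omega)
  rcases Nat.lt_or_ge j 6500 with h12 | h12
  · exact uHe.pieceOK_spec uHe_p6000 j (by omega) (by omega)
  rcases Nat.lt_or_ge j 7000 with h13 | h13
  · exact uHe.pieceOK_spec uHe_p6500 j (by omega) (by omega)
  exact uHe.pieceOK_spec uHe_p7000 j (by omega) (by omega)

theorem cHe_pt : ∀ x, x < cHe.n → ptOK cHe oHe repsHe x = true := by
  intro j hj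
  have hj' : j < 2058 := hj
  rcases Nat.lt_or_ge j 500 with h0 | h0
  · exact ptPiece_spec cHe_p0 j (by omega) (by omega)
  rcases Nat.lt_or_ge j 1000 with h1 | h1
  · exact ptPiece_spec cHe_p500 j (by omega) (by omega)
  rcases Nat.lt_or_ge j 1500 with h2 | h2
  · exact ptPiece_spec cHe_p1000 j (by omega) (by omega)
  rcases Nat.lt_or_ge j 2000 with h3 | h3
  · exact ptPiece_spec cHe_p1500 j (by omega) (by omega)
  exact ptPiece_spec cHe_p2000 j (by omega) (by omega)

set_option maxRecDepth 100000 in
theorem uHe_live : ((Finset.range uHe.n).filter (fun j => uHe.L j = j)).card = cHe.n := by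
  decide +kernel

set_option maxRecDepth 100000 in
theorem cHe_glob : globOK cHe = true := by decide +kernel

theorem cHe_act : cHe.actOK = true := actOK_intro cHe_pt cHe_glob

theorem cHe_tree : cHe.treeOK = true := treeOK_intro cHe_pt

theorem oHe_col : oHe.colOK cHe = true := colOK_intro cHe_pt

theorem oHe_tree1 : oHe.treeOK cHe 1 1 = true :=
  orbTreeOK_intro cHe_pt 1 1 (by decide) (by decide +kernel) (by decide)

set_option maxRecDepth 100000 in
theorem oHe_cnt1 : ((Finset.range cHe.n).filter (fun x => fldW 16 oHe.col x = 1)).card = 1360 := by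
  decide +kernel

theorem oHe_tree2 : oHe.treeOK cHe 2 2 = true :=
  orbTreeOK_intro cHe_pt 2 2 (by decide) (by decide +kernel) (by decide)

set_option maxRecDepth 100000 in
theorem oHe_cnt2 : ((Finset.range cHe.n).filter (fun x => fldW 16 oHe.col x = 2)).card = 425 := by
  decide +kernel

theorem oHe_tree3 : oHe.treeOK cHe 46 3 = true :=
  orbTreeOK_intro cHe_pt 46 3 (by decide) (by decide +kernel) (by decide)

set_option maxRecDepth 100000 in
theorem oHe_cnt3 : ((Finset.range cHe.n).filter (fun x => fldW 16 oHe.col x = 3)).card = 136 := by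
  decide +kernel

theorem oHe_tree4 : oHe.treeOK cHe 65 4 = true :=
  orbTreeOK_intro cHe_pt 65 4 (by decide) (by decide +kernel) (by decide)

set_option maxRecDepth 100000 in
theorem oHe_cnt4 : ((Finset.range cHe.n).filter (fun x => fldW 16 oHe.col x = 4)).card = 136 := by
  decide +kernel

end Cfsg.Agent.Lib.Helper18.UTC
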