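import Cfsg.Agent.Lib.Helper18.UTCSuzAOk
import Cfsg.Agent.Lib.Helper18.UTC2
import Cfsg.Agent.Lib.Helper18.UTC3
import Cfsg.Prelude.Def_Spor_Suz

set_option autoImplicit false

/-! The presented group Suz: the index of the subgroup of the statement (certificate SuzA). -/

namespace Cfsg.Agent.Lib.Helper18.UTC

open Cfsg.Spor Cfsg.Agent.Lib.Lead.WTC Cfsg.Agent.Lib.Lead.WTC.Cert

def szaGen : ℕ → Suz.Gen
  | 0 => .a | 1 => .b | 2 => .c | 3 => .d | 4 => .e | 5 => .f | _ => .g

def szaIdx : Suz.Gen → ℕ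
  | .a => 0 | .b => 1 | .c => 2 | .d => 3 | .e => 4 | .f => 5 | .g => 6

abbrev szaRR : Set (FreeGroup Suz.Gen) := coxRelators Suz.edges ∪ {r | r ∈ Suz.extra}

noncomputable def szaG (s : ℕ) : Suz := PresentedGroup.of (szaGen s)

theorem szaIdx_lt (x : Suz.Gen) : szaIdx x < 7 := by cases x <;> decide

theorem szaGen_idx (x : Suz.Gen) : szaGen (szaIdx x) = x := by cases x <;> rfl

theorem szaIdx_gen {s : ℕ} (hs : s < 7) : szaIdx (szaGen s) = s := by
  interval_cases s <;> rfl

theorem sza_nodes (x : Suz.Gen) : x ∈ coxNodes Suz.edges := by cases x <;> decide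

theorem sza_cox_rel (x y : Suz.Gen) :
    ((PresentedGroup.of x : Suz) * PresentedGroup.of y) ^ (coxLabel Suz.edges x y) = 1 := by
  have hmem : (FreeGroup.of x * FreeGroup.of y) ^ (coxLabel Suz.edges x y) ∈ szaRR :=
    Or.inl ⟨x, sza_nodes x, y, sza_nodes y, rfl⟩
  have h := PresentedGroup.one_of_mem hmem
  rw [map_pow, map_mul] at h
  exact h

theorem sza_label_self (x : Suz.Gen) : coxLabel Suz.edges x x = 1 := by
  simp [coxLabel]

theorem sza_label_symm (x y : Suz.Gen) :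
    coxLabel Suz.edges y x = coxLabel Suz.edges x y := by
  cases x <;> cases y <;> rfl

theorem sza_sq (s : ℕ) (_hs : s < cSuzA.k) : szaG s * szaG s = 1 := by
  have h := sza_cox_rel (szaGen s) (szaGen s)
  rw [sza_label_self, pow_one] at h
  exact h

theorem sza_sqk (s : ℕ) (hs : s < 7) : szaG s * szaG s = 1 := sza_sq s hs

theorem sza_spec_char : ∀ p ∈ relSuzA,
    (∃ s, s < 7 ∧ ∃ t, t < 7 ∧ p = ([s, t], coxLabel Suz.edges (szaGen s) (szaGen t))) ∨
      p = ([0, 3, 2, 3, 2, 3, 2, 3, 2], 1) ∨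
      p = ([0, 6, 5, 6, 5], 1) ∨
      p = ([0, 1, 2, 5], 5) ∨
      p = ([1, 5, 6], 5) ∨
      p = ([1, 2, 3, 2, 3, 1, 2, 3, 2, 3, 1, 2, 3, 2, 3, 1, 2, 3, 2, 3, 1, 2, 3, 2, 3, 4], 3) := by
  decide

theorem sza_extra1 : wd szaG [0, 3, 2, 3, 2, 3, 2, 3, 2] = 1 := by
  have hmem : Suz.a * ((Suz.c * Suz.d) ^ 4)⁻¹ ∈ szaRR := Or.inr (by simp [Suz.extra])
  have h := PresentedGroup.one_of_mem hmem
  rw [map_mul, map_inv, map_pow] at h
  simp only [map_mul] at h
  have h2 := extra_form szaG 7 sza_sqk [0] [2, 3] 4 (by decide)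
  have h3 : wd szaG [0] * (wd szaG [2, 3] ^ 4)⁻¹ = 1 := by
    simp only [wd, List.map_cons, List.map_nil, List.prod_cons, List.prod_nil, mul_one]
    try simp only [mul_assoc] at h ⊢
    exact h
  rw [h2] at h3
  exact h3

theorem sza_extra2 : wd szaG [0, 6, 5, 6, 5] = 1 := by
  have hmem : Suz.a * ((Suz.f * Suz.g) ^ 2)⁻¹ ∈ szaRR := Or.inr (by simp [Suz.extra])
  have h := PresentedGroup.one_of_mem hmem
  rw [map_mul, map_inv, map_pow] at h
  simp only [map_mul] at h
  have h2 := extra_form szaG 7 sza_sqk [0] [5, 6] 2 (by decide)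
  have h3 : wd szaG [0] * (wd szaG [5, 6] ^ 2)⁻¹ = 1 := by
    simp only [wd, List.map_cons, List.map_nil, List.prod_cons, List.prod_nil, mul_one]
    try simp only [mul_assoc] at h ⊢
    exact h
  rw [h2] at h3
  exact h3

theorem sza_extra3 : (wd szaG [0, 1, 2, 5]) ^ 5 = 1 := by
  have hmem : (Suz.a * Suz.b * Suz.c * Suz.f) ^ 5 ∈ szaRR := Or.inr (by simp [Suz.extra])
  have h := PresentedGroup.one_of_mem hmem
  rw [map_pow] at h
  simp only [map_mul] at h
  simp only [wd, List.map_cons, List.map_nil, List.prod_cons, List.prod_nil, mul_one]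
  try simp only [mul_assoc] at h ⊢
  exact h

theorem sza_extra4 : (wd szaG [1, 5, 6]) ^ 5 = 1 := by
  have hmem : (Suz.b * Suz.f * Suz.g) ^ 5 ∈ szaRR := Or.inr (by simp [Suz.extra])
  have h := PresentedGroup.one_of_mem hmem
  rw [map_pow] at h
  simp only [map_mul] at h
  simp only [wd, List.map_cons, List.map_nil, List.prod_cons, List.prod_nil, mul_one]
  try simp only [mul_assoc] at h ⊢
  exact h

theorem sza_extra5 : (wd szaG [1, 2, 3, 2, 3, 1, 2, 3, 2, 3, 1, 2, 3, 2, 3, 1, 2, 3, 2, 3, 1, 2, 3, 2, 3, 4]) ^ 3 = 1 := by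
  have hmem : ((Suz.b * Suz.c * Suz.d * Suz.c * Suz.d) ^ 5 * Suz.e) ^ 3 ∈ szaRR := Or.inr (by simp [Suz.extra])
  have h := PresentedGroup.one_of_mem hmem
  rw [map_pow, map_mul, map_pow] at h
  simp only [map_mul] at h
  have e1 : wd szaG [1, 2, 3, 2, 3, 1, 2, 3, 2, 3, 1, 2, 3, 2, 3, 1, 2, 3, 2, 3, 1, 2, 3, 2, 3, 4] = (wd szaG [1, 2, 3, 2, 3]) ^ 5 * wd szaG [4] := by
    rw [show ([1, 2, 3, 2, 3, 1, 2, 3, 2, 3, 1, 2, 3, 2, 3, 1, 2, 3, 2, 3, 1, 2, 3, 2, 3, 4] : List ℕ) = expand ([1, 2, 3, 2, 3], 5) ++ [4] from rfl, wd_append, wd_expand]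
  rw [e1]
  simp only [wd, List.map_cons, List.map_nil, List.prod_cons, List.prod_nil, mul_one]
  try simp only [mul_assoc] at h ⊢
  exact h

theorem sza_rel0 : ∀ w ∈ relSuzA.map expand, wd szaG w = 1 := by
  intro w hw
  obtain ⟨p, hp, rfl⟩ := List.mem_map.mp hw
  rcases sza_spec_char p hp with ⟨s, _, t, _, rfl⟩ | rfl | rfl | rfl | rfl | rfl
  · rw [wd_expand]
    have h := sza_cox_rel (szaGen s) (szaGen t)
    simp only [wd, List.map_cons, List.map_nil, List.prod_cons, List.prod_nil, mul_one]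
    exact h
  · exact sza_extra1
  · exact sza_extra2
  · rw [wd_expand]
    exact sza_extra3
  · rw [wd_expand]
    exact sza_extra4
  · rw [wd_expand]
    exact sza_extra5

theorem sza_rel : ∀ w ∈ cSuzA.rels, wd szaG w = 1 := sza_rel0

theorem sza_urel : ∀ w ∈ uSuzA.rels, wd szaG w = 1 := rotAll_rel szaG _ sza_rel0

theorem sza_gen : Subgroup.closure {y : Suz | ∃ s, s < cSuzA.k ∧ y = szaG s} = ⊤ := by
  rw [eq_top_iff, ← PresentedGroup.closure_range_of]
  apply Subgroup.closure_mono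
  rintro _ ⟨x, rfl⟩
  exact ⟨szaIdx x, szaIdx_lt x, by unfold szaG; rw [szaGen_idx]⟩

theorem sza_pair_mem (x y : Suz.Gen) (h : szaIdx x ≤ szaIdx y) :
    ([szaIdx x, szaIdx y], coxLabel Suz.edges x y) ∈ relSuzA := by
  revert h
  cases x <;> cases y <;> decide

/-- The generating permutations. -/
noncomputable def szaSig (x : Suz.Gen) : Equiv.Perm (Fin cSuzA.n) := cSuzA.σ cSuzA_act (szaIdx x)

theorem szaSig_cox (x y : Suz.Gen) : (szaSig x * szaSig y) ^ (coxLabel Suz.edges x y) = 1 := by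
  have key : ∀ x y : Suz.Gen, szaIdx x ≤ szaIdx y →
      (szaSig x * szaSig y) ^ (coxLabel Suz.edges x y) = 1 := by
    intro x y hxy
    have hm : expand ([szaIdx x, szaIdx y], coxLabel Suz.edges x y) ∈ cSuzA.rels :=
      List.mem_map.mpr ⟨_, sza_pair_mem x y hxy, rfl⟩
    have h := cSuzA.σ_word cSuzA_act _ hm
    rw [wd_expand] at h
    simp only [wd, List.map_cons, List.map_nil, List.prod_cons, List.prod_nil, mul_one] at h
    exact h
  rcases le_total (szaIdx x) (szaIdx y) with hxy | hxy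
  · exact key x y hxy
  · have h := key y x hxy
    rw [sza_label_symm] at h
    exact pow_swap_eq_one' _ _ _ h

theorem szaSig_word (p : List ℕ × ℕ) (hp : p ∈ relSuzA) :
    (wd (cSuzA.σ cSuzA_act) p.1) ^ p.2 = 1 := by
  have hm : expand p ∈ cSuzA.rels := List.mem_map.mpr ⟨_, hp, rfl⟩
  have h := cSuzA.σ_word cSuzA_act _ hm
  rw [wd_expand] at h
  exact h

theorem szaSig_sq (s : ℕ) (hs : s < 7) : cSuzA.σ cSuzA_act s * cSuzA.σ cSuzA_act s = 1 :=
  cSuzA.σ_sq cSuzA_act hs

theorem sza_lift : ∀ r ∈ szaRR, FreeGroup.lift szaSig r = 1 := by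
  intro r hr
  rcases hr with ⟨x, _, y, _, rfl⟩ | hr
  · rw [map_pow, map_mul, FreeGroup.lift_apply_of, FreeGroup.lift_apply_of]
    exact szaSig_cox x y
  · have hr' : r ∈ Suz.extra := hr
    simp only [Suz.extra, List.mem_cons, List.not_mem_nil, or_false] at hr'
    rcases hr' with rfl | rfl | rfl | rfl | rfl
    · have h := szaSig_word ([0, 3, 2, 3, 2, 3, 2, 3, 2], 1) (by decide)
      rw [pow_one] at h
      have h2 := extra_form (cSuzA.σ cSuzA_act) 7 szaSig_sq [0] [2, 3] 4 (by decide)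
      rw [show [0] ++ expand (([2, 3] : List ℕ).reverse, 4) = [0, 3, 2, 3, 2, 3, 2, 3, 2] from rfl, h] at h2
      simp only [wd, List.map_cons, List.map_nil, List.prod_cons, List.prod_nil, mul_one] at h2
      simp only [map_mul, map_inv, map_pow, FreeGroup.lift_apply_of]
      try simp only [mul_assoc] at h2 ⊢
      exact h2
    · have h := szaSig_word ([0, 6, 5, 6, 5], 1) (by decide)
      rw [pow_one] at h
      have h2 := extra_form (cSuzA.σ cSuzA_act) 7 szaSig_sq [0] [5, 6] 2 (by decide)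
      rw [show [0] ++ expand (([5, 6] : List ℕ).reverse, 2) = [0, 6, 5, 6, 5] from rfl, h] at h2
      simp only [wd, List.map_cons, List.map_nil, List.prod_cons, List.prod_nil, mul_one] at h2
      simp only [map_mul, map_inv, map_pow, FreeGroup.lift_apply_of]
      try simp only [mul_assoc] at h2 ⊢
      exact h2
    · have h := szaSig_word ([0, 1, 2, 5], 5) (by decide)
      simp only [wd, List.map_cons, List.map_nil, List.prod_cons, List.prod_nil, mul_one] at h
      rw [map_pow]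
      simp only [map_mul, FreeGroup.lift_apply_of, mul_assoc]
      try simp only [mul_assoc] at h
      exact h
    · have h := szaSig_word ([1, 5, 6], 5) (by decide)
      simp only [wd, List.map_cons, List.map_nil, List.prod_cons, List.prod_nil, mul_one] at h
      rw [map_pow]
      simp only [map_mul, FreeGroup.lift_apply_of, mul_assoc]
      try simp only [mul_assoc] at h
      exact h
    · have h := szaSig_word ([1, 2, 3, 2, 3, 1, 2, 3, 2, 3, 1, 2, 3, 2, 3, 1, 2, 3, 2, 3, 1, 2, 3, 2, 3, 4], 3) (by decide)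
      have e1 : wd (cSuzA.σ cSuzA_act) [1, 2, 3, 2, 3, 1, 2, 3, 2, 3, 1, 2, 3, 2, 3, 1, 2, 3, 2, 3, 1, 2, 3, 2, 3, 4] =
          (wd (cSuzA.σ cSuzA_act) [1, 2, 3, 2, 3]) ^ 5 * wd (cSuzA.σ cSuzA_act) [4] := by
        rw [show ([1, 2, 3, 2, 3, 1, 2, 3, 2, 3, 1, 2, 3, 2, 3, 1, 2, 3, 2, 3, 1, 2, 3, 2, 3, 4] : List ℕ) = expand ([1, 2, 3, 2, 3], 5) ++ [4] from rfl, wd_append, wd_expand]
      rw [e1] at h
      simp only [wd, List.map_cons, List.map_nil, List.prod_cons, List.prod_nil, mul_one] at h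
      simp only [map_mul, map_pow, FreeGroup.lift_apply_of]
      try simp only [mul_assoc] at h ⊢
      exact h

noncomputable def szaRho : Suz →* Equiv.Perm (Fin cSuzA.n) := PresentedGroup.toGroup sza_lift

theorem szaRho_val (s : ℕ) (hs : s < cSuzA.k) (x : Fin cSuzA.n) :
    (szaRho (szaG s) x).val = cSuzA.T x s := by
  unfold szaRho szaG
  rw [PresentedGroup.toGroup.of]
  unfold szaSig
  rw [szaIdx_gen hs]
  exact cSuzA.σ_val cSuzA_act hs x

/-- The subgroup of the statement. -/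
abbrev szaH : Subgroup Suz :=
  (Subgroup.closure ({Suz.a, Suz.b, Suz.c, Suz.d, Suz.e, Suz.f} : Set (FreeGroup Suz.Gen))).map
    (PresentedGroup.mk szaRR)

theorem sza_sub_mem : ∀ p ∈ subSuzA, (wd szaG p.1) ^ p.2 ∈ szaH := by
  intro p hp
  have hmk : ∀ z ∈ ({Suz.a, Suz.b, Suz.c, Suz.d, Suz.e, Suz.f} : Set (FreeGroup Suz.Gen)),
      PresentedGroup.mk szaRR z ∈ szaH :=
    fun z hz => Subgroup.mem_map_of_mem _ (Subgroup.subset_closure hz)
  simp only [subSuzA, List.mem_cons, List.not_mem_nil, or_false] at hp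
  rcases hp with rfl | rfl | rfl | rfl | rfl | rfl
  · have := hmk Suz.a (by simp)
    simpa [wd, szaG, szaGen, PresentedGroup.of] using this
  · have := hmk Suz.b (by simp)
    simpa [wd, szaG, szaGen, PresentedGroup.of] using this
  · have := hmk Suz.c (by simp)
    simpa [wd, szaG, szaGen, PresentedGroup.of] using this
  · have := hmk Suz.d (by simp)
    simpa [wd, szaG, szaGen, PresentedGroup.of] using this
  · have := hmk Suz.e (by simp)
    simpa [wd, szaG, szaGen, PresentedGroup.of] using this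
  · have := hmk Suz.f (by simp)
    simpa [wd, szaG, szaGen, PresentedGroup.of] using this

theorem sza_H : szaH = Subgroup.closure {y : Suz | ∃ w ∈ cSuzA.subs, y = wd szaG w} := by
  apply le_antisymm
  · unfold szaH
    rw [MonoidHom.map_closure, Subgroup.closure_le]
    rintro _ ⟨z, hz, rfl⟩
    have hsub : ∀ p ∈ subSuzA, (wd szaG p.1) ^ p.2 ∈
        Subgroup.closure {y : Suz | ∃ w ∈ cSuzA.subs, y = wd szaG w} := by
      intro p hp
      rw [← wd_expand]
      exact Subgroup.subset_closure ⟨expand p, List.mem_map.mpr ⟨p, hp, rfl⟩, rfl⟩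
    simp only [Set.mem_insert_iff, Set.mem_singleton_iff] at hz
    rcases hz with rfl | rfl | rfl | rfl | rfl | rfl
    · have := hsub ([0], 1) (by decide)
      simpa [wd, szaG, szaGen, PresentedGroup.of] using this
    · have := hsub ([1], 1) (by decide)
      simpa [wd, szaG, szaGen, PresentedGroup.of] using this
    · have := hsub ([2], 1) (by decide)
      simpa [wd, szaG, szaGen, PresentedGroup.of] using this
    · have := hsub ([3], 1) (by decide)
      simpa [wd, szaG, szaGen, PresentedGroup.of] using this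
    · have := hsub ([4], 1) (by decide)
      simpa [wd, szaG, szaGen, PresentedGroup.of] using this
    · have := hsub ([5], 1) (by decide)
      simpa [wd, szaG, szaGen, PresentedGroup.of] using this
  · rw [Subgroup.closure_le]
    rintro _ ⟨w, hw, rfl⟩
    obtain ⟨p, hp, rfl⟩ := List.mem_map.mp hw
    rw [wd_expand]
    exact sza_sub_mem p hp

theorem sza_main : szaH.index = 1782 ∧ ∃ q₁ q₂ : Suz ⧸ szaH,
    (MulAction.orbit szaH q₁).ncard = 416 ∧ (MulAction.orbit szaH q₂).ncard = 1365 := by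
  have hn : 0 < cSuzA.n := by decide
  have hun : 0 < uSuzA.n := by decide
  have ecnt : ∀ cl, ((Finset.range cSuzA.n).filter (fun x => oSuzA.C x = cl)).card =
      ((Finset.range cSuzA.n).filter (fun x => fldW 16 oSuzA.col x = cl)).card := by
    intro cl
    simp only [OrbCert.C, get16_eq]
  refine ⟨?_, ?_⟩
  · exact index_eq' cSuzA uSuzA szaG szaH szaRho cSuzA_tree cSuzA_act hn szaRho_val sza_gen
      sza_sq sza_rel sza_H rfl sza_urel rfl hun uSuzA_ok uSuzA_live
  · obtain ⟨q₁, h1, _⟩ := orbit_card' cSuzA uSuzA szaG szaH szaRho cSuzA_tree cSuzA_act hn szaRho_val sza_gen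
      sza_sq sza_rel sza_H rfl sza_urel rfl hun uSuzA_ok uSuzA_live oSuzA 47 2 oSuzA_col oSuzA_tree2
    obtain ⟨q₂, h2, _⟩ := orbit_card' cSuzA uSuzA szaG szaH szaRho cSuzA_tree cSuzA_act hn szaRho_val sza_gen
      sza_sq sza_rel sza_H rfl sza_urel rfl hun uSuzA_ok uSuzA_live oSuzA 1 1 oSuzA_col oSuzA_tree1
    exact ⟨q₁, q₂, (h1.trans (ecnt 2)).trans oSuzA_cnt2, (h2.trans (ecnt 1)).trans oSuzA_cnt1⟩

end Cfsg.Agent.Lib.Helper18.UTC
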