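import Mathlib
import Cfsg.Agent.Lib.Helper18.UTCSuzAData

set_option autoImplicit false
set_option Elab.async false

/-! Kernel checks of the certificate of the coset enumeration in SuzA, part 2. -/

namespace Cfsg.Agent.Lib.Helper18.UTC
open Cfsg.Agent.Lib.Lead.WTC

set_option maxRecDepth 100000 in
theorem uSuzA_p3500 : uSuzA.pieceOK 3500 500 = true := by decide +kernel

set_option maxRecDepth 100000 in
theorem uSuzA_p4000 : uSuzA.pieceOK 4000 500 = true := by decide +kernel

set_option maxRecDepth 100000 in
theorem uSuzA_p4500 : uSuzA.pieceOK 4500 500 = true := by decide +kernel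

set_option maxRecDepth 100000 in
theorem uSuzA_p5000 : uSuzA.pieceOK 5000 500 = true := by decide +kernel

set_option maxRecDepth 100000 in
theorem uSuzA_p5500 : uSuzA.pieceOK 5500 500 = true := by decide +kernel

set_option maxRecDepth 100000 in
theorem uSuzA_p6000 : uSuzA.pieceOK 6000 500 = true := by decide +kernel

set_option maxRecDepth 100000 in
theorem uSuzA_p6500 : uSuzA.pieceOK 6500 500 = true := by decide +kernel

end Cfsg.Agent.Lib.Helper18.UTC
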