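import Mathlib
import Cfsg.Agent.Lib.Helper18.UTCSuzAData

set_option autoImplicit false
set_option Elab.async false

/-! Kernel checks of the certificate of the coset enumeration in SuzA, part 3. -/

namespace Cfsg.Agent.Lib.Helper18.UTC
open Cfsg.Agent.Lib.Lead.WTC

set_option maxRecDepth 100000 in
theorem uSuzA_p7000 : uSuzA.pieceOK 7000 500 = true := by decide +kernel

set_option maxRecDepth 100000 in
theorem uSuzA_p7500 : uSuzA.pieceOK 7500 500 = true := by decide +kernel

set_option maxRecDepth 100000 in
theorem uSuzA_p8000 : uSuzA.pieceOK 8000 500 = true := by decide +kernel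

set_option maxRecDepth 100000 in
theorem uSuzA_p8500 : uSuzA.pieceOK 8500 500 = true := by decide +kernel

set_option maxRecDepth 100000 in
theorem uSuzA_p9000 : uSuzA.pieceOK 9000 500 = true := by decide +kernel

set_option maxRecDepth 100000 in
theorem uSuzA_p9500 : uSuzA.pieceOK 9500 500 = true := by decide +kernel

set_option maxRecDepth 100000 in
theorem uSuzA_p10000 : uSuzA.pieceOK 10000 500 = true := by decide +kernel

end Cfsg.Agent.Lib.Helper18.UTC
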