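import Mathlib
import Cfsg.Agent.Lib.Helper18.UTCSuzAData

set_option autoImplicit false
set_option Elab.async false

/-! Kernel checks of the certificate of the coset enumeration in SuzA, part 4. -/

namespace Cfsg.Agent.Lib.Helper18.UTC
open Cfsg.Agent.Lib.Lead.WTC

set_option maxRecDepth 100000 in
theorem uSuzA_p10500 : uSuzA.pieceOK 10500 500 = true := by decide +kernel

set_option maxRecDepth 100000 in
theorem uSuzA_p11000 : uSuzA.pieceOK 11000 500 = true := by decide +kernel

set_option maxRecDepth 100000 in
theorem uSuzA_p11500 : uSuzA.pieceOK 11500 500 = true := by decide +kernel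

set_option maxRecDepth 100000 in
theorem uSuzA_p12000 : uSuzA.pieceOK 12000 365 = true := by decide +kernel

end Cfsg.Agent.Lib.Helper18.UTC
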