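import Mathlib
import Cfsg.Agent.Lib.Helper18.UTC4
import Cfsg.Agent.Lib.Helper18.UTCSuzAData

set_option autoImplicit false
set_option Elab.async false

/-! Kernel checks of the final coset table of SuzA, part 1. -/

namespace Cfsg.Agent.Lib.Helper18.UTC
open Cfsg.Agent.Lib.Lead.WTC

set_option maxRecDepth 100000 in
theorem cSuzA_p0 : ptPiece cSuzA oSuzA repsSuzA 0 500 = true := by decide +kernel

set_option maxRecDepth 100000 in
theorem cSuzA_p500 : ptPiece cSuzA oSuzA repsSuzA 500 500 = true := by decide +kernel

set_option maxRecDepth 100000 in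
theorem cSuzA_p1000 : ptPiece cSuzA oSuzA repsSuzA 1000 500 = true := by decide +kernel

set_option maxRecDepth 100000 in
theorem cSuzA_p1500 : ptPiece cSuzA oSuzA repsSuzA 1500 282 = true := by decide +kernel

end Cfsg.Agent.Lib.Helper18.UTC
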