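import Mathlib
import Cfsg.Agent.Lib.Helper18.UTC4
import Cfsg.Agent.Lib.Helper18.UTCSuzAChk1
import Cfsg.Agent.Lib.Helper18.UTCSuzAChk2
import Cfsg.Agent.Lib.Helper18.UTCSuzAChk3
import Cfsg.Agent.Lib.Helper18.UTCSuzAChk4
import Cfsg.Agent.Lib.Helper18.UTCSuzAPt1

set_option autoImplicit false
set_option Elab.async false

/-! The certificate of the coset enumeration in SuzA is valid (assembly), and the checks of the final table. -/

namespace Cfsg.Agent.Lib.Helper18.UTC
open Cfsg.Agent.Lib.Lead.WTC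

theorem uSuzA_ok : uSuzA.Ok := by
  intro j hj
  have hj' : j < 12365 := hj
  rcases Nat.lt_or_ge j 500 with h0 | h0
  · exact uSuzA.pieceOK_spec uSuzA_p0 j (by omega) (by omega)
  rcases Nat.lt_or_ge j 1000 with h1 | h1
  · exact uSuzA.pieceOK_spec uSuzA_p500 j (by omega) (by omega)
  rcases Nat.lt_or_ge j 1500 with h2 | h2
  · exact uSuzA.pieceOK_spec uSuzA_p1000 j (by omega) (by omega)
  rcases Nat.lt_or_ge j 2000 with h3 | h3
  · exact uSuzA.pieceOK_spec uSuzA_p1500 j (by omega) (by omega)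
  rcases Nat.lt_or_ge j 2500 with h4 | h4
  · exact uSuzA.pieceOK_spec uSuzA_p2000 j (by omega) (by omega)
  rcases Nat.lt_or_ge j 3000 with h5 | h5
  · exact uSuzA.pieceOK_spec uSuzA_p2500 j (by omega) (by omega)
  rcases Nat.lt_or_ge j 3500 with h6 | h6
  · exact uSuzA.pieceOK_spec uSuzA_p3000 j (by omega) (by omega)
  rcases Nat.lt_or_ge j 4000 with h7 | h7
  · exact uSuzA.pieceOK_spec uSuzA_p3500 j (by omega) (by omega)
  rcases Nat.lt_or_ge j 4500 with h8 | h8
  · exact uSuzA.pieceOK_spec uSuzA_p4000 j (by omega) (by omega)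
  rcases Nat.lt_or_ge j 5000 with h9 | h9
  · exact uSuzA.pieceOK_spec uSuzA_p4500 j (by omega) (by omega)
  rcases Nat.lt_or_ge j 5500 with h10 | h10
  · exact uSuzA.pieceOK_spec uSuzA_p5000 j (by omega) (by omega)
  rcases Nat.lt_or_ge j 6000 with h11 | h11
  · exact uSuzA.pieceOK_spec uSuzA_p5500 j (by omega) (by omega)
  rcases Nat.lt_or_ge j 6500 with h12 | h12
  · exact uSuzA.pieceOK_spec uSuzA_p6000 j (by omega) (by omega)
  rcases Nat.lt_or_ge j 7000 with h13 | h13
  · exact uSuzA.pieceOK_spec uSuzA_p6500 j (by omega) (by omega)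
  rcases Nat.lt_or_ge j 7500 with h14 | h14
  · exact uSuzA.pieceOK_spec uSuzA_p7000 j (by omega) (by omega)
  rcases Nat.lt_or_ge j 8000 with h15 | h15
  · exact uSuzA.pieceOK_spec uSuzA_p7500 j (by omega) (by omega)
  rcases Nat.lt_or_ge j 8500 with h16 | h16
  · exact uSuzA.pieceOK_spec uSuzA_p8000 j (by omega) (by omega)
  rcases Nat.lt_or_ge j 9000 with h17 | h17
  · exact uSuzA.pieceOK_spec uSuzA_p8500 j (by omega) (by omega)
  rcases Nat.lt_or_ge j 9500 with h18 | h18
  · exact uSuzA.pieceOK_spec uSuzA_p9000 j (by omega) (by omega)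
  rcases Nat.lt_or_ge j 10000 with h19 | h19
  · exact uSuzA.pieceOK_spec uSuzA_p9500 j (by omega) (by omega)
  rcases Nat.lt_or_ge j 10500 with h20 | h20
  · exact uSuzA.pieceOK_spec uSuzA_p10000 j (by omega) (by omega)
  rcases Nat.lt_or_ge j 11000 with h21 | h21
  · exact uSuzA.pieceOK_spec uSuzA_p10500 j (by omega) (by omega)
  rcases Nat.lt_or_ge j 11500 with h22 | h22
  · exact uSuzA.pieceOK_spec uSuzA_p11000 j (by omega) (by omega)
  rcases Nat.lt_or_ge j 12000 with h23 | h23
  · exact uSuzA.pieceOK_spec uSuzA_p11500 j (by omega) (by omega)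
  exact uSuzA.pieceOK_spec uSuzA_p12000 j (by omega) (by omega)

theorem cSuzA_pt : ∀ x, x < cSuzA.n → ptOK cSuzA oSuzA repsSuzA x = true := by
  intro j hj
  have hj' : j < 1782 := hj
  rcases Nat.lt_or_ge j 500 with h0 | h0
  · exact ptPiece_spec cSuzA_p0 j (by omega) (by omega)
  rcases Nat.lt_or_ge j 1000 with h1 | h1
  · exact ptPiece_spec cSuzA_p500 j (by omega) (by omega)
  rcases Nat.lt_or_ge j 1500 with h2 | h2
  · exact ptPiece_spec cSuzA_p1000 j (by omega) (by omega)
  exact ptPiece_spec cSuzA_p1500 j (by omega) (by omega)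

set_option maxRecDepth 100000 in
theorem uSuzA_live : ((Finset.range uSuzA.n).filter (fun j => uSuzA.L j = j)).card = cSuzA.n := by
  decide +kernel

set_option maxRecDepth 100000 in
theorem cSuzA_glob : globOK cSuzA = true := by decide +kernel

theorem cSuzA_act : cSuzA.actOK = true := actOK_intro cSuzA_pt cSuzA_glob

theorem cSuzA_tree : cSuzA.treeOK = true := treeOK_intro cSuzA_pt

theorem oSuzA_col : oSuzA.colOK cSuzA = true := colOK_intro cSuzA_pt

theorem oSuzA_tree1 : oSuzA.treeOK cSuzA 1 1 = true :=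
  orbTreeOK_intro cSuzA_pt 1 1 (by decide) (by decide +kernel) (by decide)

set_option maxRecDepth 100000 in
theorem oSuzA_cnt1 : ((Finset.range cSuzA.n).filter (fun x => fldW 16 oSuzA.col x = 1)).card = 1365 := by
  decide +kernel

theorem oSuzA_tree2 : oSuzA.treeOK cSuzA 47 2 = true :=
  orbTreeOK_intro cSuzA_pt 47 2 (by decide) (by decide +kernel) (by decide)

set_option maxRecDepth 100000 in
theorem oSuzA_cnt2 : ((Finset.range cSuzA.n).filter (fun x => fldW 16 oSuzA.col x = 2)).card = 416 := by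
  decide +kernel

end Cfsg.Agent.Lib.Helper18.UTC
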