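import Mathlib
import Cfsg.Prelude.Def_Sporadic_a
import Cfsg.Agent.Lib.Helper21.GolayFlag

/-!
A computational key lemma on `Cfsg.golayCode`: a set of points meeting evenly every octad through
the two points `none`, `some 0` is, possibly after toggling these two points, the support of a
code word.
-/

set_option autoImplicit false

namespace Cfsg.Agent.Lib.Helper18.W23

open Cfsg Finset Cfsg.Agent.Lib.Helper21

theorem popc_xor_add (k a b : ℕ) :
    popc k (a ^^^ b) + 2 * popc k (a &&& b) = popc k a + popc k b := by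
  simp only [popc_eq_sum, Finset.mul_sum, ← Finset.sum_add_distrib]
  apply Finset.sum_congr rfl
  intro i _
  rw [Nat.testBit_xor, Nat.testBit_and]
  cases a.testBit i <;> cases b.testBit i <;> rfl

theorem popc_xor_mod (k a b : ℕ) (hb : popc k b % 2 = 0) :
    popc k (a ^^^ b) % 2 = popc k a % 2 := by
  have := popc_xor_add k a b
  omega

/-- Eleven octads through the points `none` (bit 23) and `some 0` (bit 0). -/
def octList : List ℕ :=
  [0xc75001, 0x8ea003, 0xa96009, 0x88d015, 0xa58025, 0x91104d, 0xd98081, 0xb30103, 0xbc1201,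
    0xa23405, 0xf04805]

theorem octList_code : ∀ O ∈ octList, O % 4096 < 4096 ∧ encMask (O % 4096) = O ∧ popc 24 O = 8 ∧
    O.testBit 23 = true ∧ O.testBit 0 = true := by
  decide +kernel

theorem octList_orth : ∀ c < 4096, ∀ O ∈ octList, popc 24 (encMask c &&& O) % 2 = 0 := by
  apply forall_lt_4096
  decide +kernel

theorem high_sweep : ∀ h < 4096, (∀ O ∈ octList, popc 24 ((h * 4096) &&& O) % 2 = 0) →
    h = 0 ∨ h * 4096 = 0x475000 := by
  apply forall_lt_4096
  decide +kernel

theorem enc_one : encMask 1 = 0xc75001 := by decide +kernel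

/-- The key lemma on masks. -/
theorem mask_key (m : ℕ) (hm : m < 2 ^ 24)
    (h : ∀ O ∈ octList, popc 24 (m &&& O) % 2 = 0) :
    (∃ c < 4096, m = encMask c) ∨ (∃ c < 4096, m ^^^ 0x800001 = encMask c) := by
  have hc : m % 4096 < 4096 := Nat.mod_lt _ (by norm_num)
  set c := m % 4096 with hcdef
  set r := m ^^^ encMask c with hr
  have hrlt : r < 2 ^ 24 := Nat.xor_lt_two_pow hm (encMask_lt c hc)
  have hrmod : r % 4096 = 0 := by
    rw [hr, show (4096 : ℕ) = 2 ^ 12 by norm_num, Nat.xor_mod_two_pow,
      show (2 : ℕ) ^ 12 = 4096 by norm_num, encMask_mod c hc, ← hcdef, Nat.xor_self]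
  have hrO : ∀ O ∈ octList, popc 24 (r &&& O) % 2 = 0 := by
    intro O hO
    rw [hr, Nat.and_xor_distrib_right, popc_xor_mod _ _ _ (octList_orth c hc O hO)]
    exact h O hO
  have hr' : r = (r / 4096) * 4096 := by
    have := Nat.div_add_mod r 4096
    omega
  have hh : r / 4096 < 4096 := by
    rw [Nat.div_lt_iff_lt_mul (by norm_num)]
    exact lt_of_lt_of_le hrlt (by norm_num)
  have hm' : m = r ^^^ encMask c := by
    rw [hr, Nat.xor_assoc, Nat.xor_self, Nat.xor_zero]
  rcases high_sweep (r / 4096) hh (by rw [← hr']; exact hrO) with h0 | h1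
  · left
    refine ⟨c, hc, ?_⟩
    rw [hm', hr', h0]
    simp
  · right
    refine ⟨c ^^^ 1, ?_, ?_⟩
    · exact Nat.xor_lt_two_pow (n := 12) hc (by norm_num)
    · have e : (4673536 : ℕ) ^^^ 8388609 = 13062145 := by decide
      rw [encMask_xor, enc_one, hm', hr', h1, Nat.xor_assoc, Nat.xor_comm (encMask c),
        ← Nat.xor_assoc, e, Nat.xor_comm]

end Cfsg.Agent.Lib.Helper18.W23
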