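import Mathlib
import Cfsg.Prelude.Def_Sporadic_a
import Cfsg.Agent.Lib.Helper18.W23a
import Cfsg.Agent.Lib.Helper18.W23Gen
import Cfsg.Agent.Lib.Helper18.M21Plane
import Cfsg.Agent.Lib.Helper18.GolayS22
import Cfsg.Agent.Lib.Helper21.SteinerCounts

/-!
Sets of the 22 points meeting every hexad of the derived S(3,6,22) oddly: they complete to an
octad by one of the two base points.
-/

set_option autoImplicit false

namespace Cfsg.Agent.Lib.Helper18.W23

open Cfsg Finset Cfsg.Agent.Lib.Helper21 Cfsg.Agent.Lib.Helper18.GolayS22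
open Cfsg.Agent.Lib.Helper18.S22Plane Cfsg.Agent.Lib.Helper18.M21

theorem gEquiv_none : ((gEquiv none : Fin 24) : ℕ) = 23 := by decide

theorem gEquiv_zero : ((gEquiv (some 0) : Fin 24) : ℕ) = 0 := by decide

theorem octList_octad : ∀ O ∈ octList, maskFS O ∈ octads ∧ none ∈ maskFS O ∧
    some 0 ∈ maskFS O ∧ O < 2 ^ 24 := by
  intro O hO
  obtain ⟨h1, h2, h3, h4, h5⟩ := octList_code O hO
  refine ⟨?_, ?_, ?_, ?_⟩
  · have := maskFS_encMask_mem_octads (O % 4096) h1 (by rw [h2]; exact h3)
    rwa [h2] at this
  · rw [mem_maskFS, gEquiv_none]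
    exact h4
  · rw [mem_maskFS, gEquiv_zero]
    exact h5
  · have := encMask_lt _ h1
    rwa [h2] at this

theorem fsMask_pair : fsMask ({none, some 0} : Finset GolayPt) = 0x800001 := by
  decide +kernel

theorem set_key (X : Finset GolayPt)
    (h : ∀ O ∈ octads, none ∈ O → some 0 ∈ O → 2 ∣ (X ∩ O).card) :
    (∃ c < 4096, fsMask X = encMask c) ∨
      (∃ c < 4096, fsMask (symmDiff X {none, some 0}) = encMask c) := by
  rw [fsMask_symmDiff, fsMask_pair]
  apply mask_key (fsMask X) (fsMask_lt X)
  intro O hO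
  obtain ⟨h1, h2, h3, h4⟩ := octList_octad O hO
  have := h _ h1 h2 h3
  rw [card_eq_popc, fsMask_inter, fsMask_maskFS O h4] at this
  omega

theorem mem_octads_of_mask {X : Finset GolayPt} (hX : X.card = 8) {c : ℕ} (hc : c < 4096)
    (h : fsMask X = encMask c) : X ∈ octads := by
  have h8 : popc 24 (encMask c) = 8 := by rw [← h, ← card_eq_popc, hX]
  have := maskFS_encMask_mem_octads c hc h8
  rwa [← h, maskFS_fsMask] at this

/-- The set of the 24 points corresponding to a set of the 22 points. -/
def lift (Q : Finset Pt22) : Finset GolayPt := Q.map (Function.Embedding.subtype P22)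

theorem mem_lift {Q : Finset Pt22} {x : GolayPt} : x ∈ lift Q ↔ ∃ h : P22 x, (⟨x, h⟩ : Pt22) ∈ Q := by
  simp only [lift, mem_map, Function.Embedding.coe_subtype]
  constructor
  · rintro ⟨y, hy, rfl⟩
    exact ⟨y.2, hy⟩
  · rintro ⟨h, hx⟩
    exact ⟨⟨x, h⟩, hx, rfl⟩

theorem none_notMem_lift (Q : Finset Pt22) : none ∉ lift Q := by
  rw [mem_lift]
  rintro ⟨h, _⟩
  exact h.1 rfl

theorem zero_notMem_lift (Q : Finset Pt22) : some 0 ∉ lift Q := by
  rw [mem_lift]
  rintro ⟨h, _⟩
  exact h.2 rfl

theorem card_lift (Q : Finset Pt22) : (lift Q).card = Q.card := card_map _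

theorem lift_inter (Q Q' : Finset Pt22) : lift Q ∩ lift Q' = lift (Q ∩ Q') :=
  (map_inter _ _).symm

theorem lift_inter_set (Q : Finset Pt22) (O : Finset GolayPt) :
    lift Q ∩ O = lift (Q ∩ O.subtype P22) := by
  ext x
  simp only [mem_inter, mem_lift, mem_subtype]
  constructor
  · rintro ⟨⟨h, hx⟩, hO⟩
    exact ⟨h, hx, hO⟩
  · rintro ⟨h, hx, hO⟩
    exact ⟨⟨h, hx⟩, hO⟩

theorem symmDiff_pair (L : Finset GolayPt) (hn : none ∉ L) (h0 : some 0 ∉ L) :
    symmDiff (insert none L) {none, some 0} = insert (some 0) L := by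
  ext x
  simp only [mem_symmDiff, mem_insert, mem_singleton]
  by_cases h1 : x = none
  · subst h1
    simp [hn]
  by_cases h2 : x = some 0
  · subst h2
    simp [h0]
  simp [h1, h2]

/-- The classification of the sets meeting all hexads oddly. -/
theorem heptad_class (Q : Finset Pt22) (hQ : Q.card = 7)
    (h : ∀ l ∈ D22, ¬ 2 ∣ (Q ∩ l).card) :
    insert none (lift Q) ∈ octads ∨ insert (some 0) (lift Q) ∈ octads := by
  have hX : (insert none (lift Q)).card = 8 := by
    rw [card_insert_of_notMem (none_notMem_lift Q), card_lift, hQ]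
  have hX' : (insert (some 0) (lift Q)).card = 8 := by
    rw [card_insert_of_notMem (zero_notMem_lift Q), card_lift, hQ]
  have key := set_key (insert none (lift Q)) (by
    intro O hO h1 h2
    have hl : O.subtype P22 ∈ D22 := by
      show up (O.subtype P22) ∈ octads
      rw [up_down h1 h2]
      exact hO
    have := h _ hl
    rw [insert_inter_of_mem h1, card_insert_of_notMem (by
      intro hh
      exact none_notMem_lift Q (mem_inter.1 hh).1), lift_inter_set, card_lift]
    omega)
  rcases key with ⟨c, hc, hm⟩ | ⟨c, hc, hm⟩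
  · exact Or.inl (mem_octads_of_mask hX hc hm)
  · rw [symmDiff_pair _ (none_notMem_lift Q) (zero_notMem_lift Q)] at hm
    exact Or.inr (mem_octads_of_mask hX' hc hm)

theorem card_golayPt : Fintype.card GolayPt = 24 := by decide

theorem card_opt22 : Fintype.card (Option Pt22) = 23 := by
  rw [Fintype.card_option, card_pt22]

section inter

variable {α : Type*} [Fintype α] [DecidableEq α]

theorem inter_4_7_23 (hα : Fintype.card α = 23) {B : Set (Finset α)}
    (hB : IsSteinerSystem 4 7 B) {b c : Finset α} (hb : b ∈ B) (hc : c ∈ B) (hbc : b ≠ c) :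
    (b ∩ c).card = 1 ∨ (b ∩ c).card = 3 := by
  have hlt := inter_card_lt hB hb hc hbc
  obtain ⟨h0, _, h2, _⟩ := interCounts_4_7_23 hα hB hb
  have n0 := interCount_eq_zero b 0 h0 hc hbc
  have n2 := interCount_eq_zero b 2 h2 hc hbc
  omega

end inter

section classes

variable {D : Set (Finset (Option Pt22))}

theorem oval_odd (hD : IsSteinerSystem 4 7 D) {Q l : Finset Pt22} (hQ : Q ∈ ovals D)
    (hl : l ∈ lines D) : (Q ∩ l).card = 1 ∨ (Q ∩ l).card = 3 := by
  have hne : insertNone l ≠ Q.map Function.Embedding.some := by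
    intro h
    have : none ∈ Q.map Function.Embedding.some := by
      rw [← h]
      exact none_mem_insertNone
    simp at this
  have h := inter_4_7_23 card_opt22 hD hl hQ hne
  have e : insertNone l ∩ Q.map Function.Embedding.some
      = (Q ∩ l).map Function.Embedding.some := by
    ext o
    cases o with
    | none => simp
    | some a => simp [and_comm]
  rwa [e, card_map] at h

theorem oval_card (hD : IsSteinerSystem 4 7 D) {Q : Finset Pt22} (hQ : Q ∈ ovals D) :
    Q.card = 7 := by
  have := hD.1 _ hQ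
  rwa [card_map] at this

theorem oval_class (hD : IsSteinerSystem 4 7 D) (hL : lines D = D22) {Q : Finset Pt22}
    (hQ : Q ∈ ovals D) :
    insert none (lift Q) ∈ octads ∨ insert (some 0) (lift Q) ∈ octads := by
  apply heptad_class Q (oval_card hD hQ)
  intro l hl
  rw [← hL] at hl
  rcases oval_odd hD hQ hl with h | h <;> omega

theorem inter_classes (L L' : Finset GolayPt) (hn : none ∉ L') (h0 : some 0 ∉ L) :
    insert none L ∩ insert (some 0) L' = L ∩ L' := by
  ext x
  simp only [mem_inter, mem_insert]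
  by_cases h1 : x = none
  · subst h1
    simp [hn]
  by_cases h2 : x = some 0
  · subst h2
    simp [h0]
  simp [h1, h2]

theorem class_excl (hD : IsSteinerSystem 4 7 D) {Q Q' : Finset Pt22} (hQ : Q ∈ ovals D)
    (hQ' : Q' ∈ ovals D) (h1 : insert none (lift Q) ∈ octads)
    (h2 : insert (some 0) (lift Q') ∈ octads) : False := by
  have hne : insert none (lift Q) ≠ insert (some 0) (lift Q') := by
    intro h
    have : none ∈ insert (some 0) (lift Q') := by
      rw [← h]
      exact mem_insert_self _ _
    rw [mem_insert] at this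
    rcases this with h | h
    · exact absurd h (by decide)
    · exact none_notMem_lift Q' h
  have h := inter_5_8_24 card_golayPt octads_steiner h1 h2 hne
  rw [inter_classes _ _ (none_notMem_lift Q') (zero_notMem_lift Q), lift_inter, card_lift] at h
  by_cases hQQ : Q = Q'
  · subst hQQ
    rw [inter_self, oval_card hD hQ] at h
    omega
  · have hne' : Q.map Function.Embedding.some ≠ Q'.map Function.Embedding.some :=
      fun h => hQQ (map_injective _ h)
    have h' := inter_4_7_23 card_opt22 hD hQ hQ' hne'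
    rw [← map_inter, card_map] at h'
    omega

theorem all_class (hD : IsSteinerSystem 4 7 D) (hL : lines D = D22) :
    (∀ Q ∈ ovals D, insert none (lift Q) ∈ octads) ∨
      (∀ Q ∈ ovals D, insert (some 0) (lift Q) ∈ octads) := by
  by_cases h : ∃ Q₀ ∈ ovals D, insert none (lift Q₀) ∈ octads
  · obtain ⟨Q₀, hQ₀, h₀⟩ := h
    left
    intro Q hQ
    rcases oval_class hD hL hQ with h1 | h2
    · exact h1
    · exact absurd (class_excl hD hQ₀ hQ h₀ h2) id
  · right
    intro Q hQ
    rcases oval_class hD hL hQ with h1 | h2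
    · exact absurd ⟨Q, hQ, h1⟩ h
    · exact h2

end classes

end Cfsg.Agent.Lib.Helper18.W23
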