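import Mathlib
import Cfsg.Prelude.Def_Sporadic_a
import Cfsg.Agent.Lib.Helper18.W23b
import Cfsg.Agent.Lib.Helper18.HS9
import Cfsg.Agent.Lib.Helper18.S22Unique

/-!
Uniqueness of the Steiner system S(4,7,23): every such system is isomorphic to the design of
the octads through the point `none`.
-/

set_option autoImplicit false

namespace Cfsg.Agent.Lib.Helper18.W23

open Cfsg Finset Cfsg.Agent.Lib.Helper21 Cfsg.Agent.Lib.Helper18.GolayS22
open Cfsg.Agent.Lib.Helper18.S22Plane Cfsg.Agent.Lib.Helper18.M21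
open scoped Pointwise

theorem steiner_DT_gen {T : Finset GolayPt} {t k : ℕ} (ht : T.card + t = 5)
    (hk : T.card + k = 8) : IsSteinerSystem t k (DT T) := by
  have hO := octads_steiner
  constructor
  · intro b hb
    have := hO.1 _ hb
    rw [card_upT] at this
    omega
  · intro s hs
    obtain ⟨o, ⟨ho, hsub⟩, huniq⟩ := hO.2 (upT T s) (by rw [card_upT, hs, ht])
    have hTo : T ⊆ o := fun x hx => hsub (mem_upT.2 (Or.inl hx))
    refine ⟨o.subtype (· ∉ T), ⟨?_, ?_⟩, ?_⟩
    · show upT T (o.subtype (· ∉ T)) ∈ octads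
      rw [upT_down hTo]
      exact ho
    · intro y hy
      rw [mem_subtype]
      exact hsub (mem_upT.2 (Or.inr ⟨y.2, hy⟩))
    · rintro b' ⟨hb', hsb'⟩
      have : upT T b' = o := huniq _ ⟨hb', upT_subset hsb'⟩
      rw [← this, down_upT]

theorem card_ptOut_one (p : GolayPt) : Fintype.card (PtOut ({p} : Finset GolayPt)) = 23 := by
  rw [Fintype.card_subtype_compl, Fintype.card_coe, card_singleton]
  rfl

theorem steiner_DT_one (p : GolayPt) : IsSteinerSystem 4 7 (DT ({p} : Finset GolayPt)) :=
  steiner_DT_gen (by rw [card_singleton]) (by rw [card_singleton])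

/-! ### The maps from `Option Pt22` -/

/-- `none ↦ q`, `some y ↦ y`. -/
def fq (q : GolayPt) : Option Pt22 → GolayPt := fun o => o.elim q Subtype.val

/-- The two base points, in some order. -/
def BasePair (p q : GolayPt) : Prop := (p = none ∧ q = some 0) ∨ (p = some 0 ∧ q = none)

theorem fq_injective {p q : GolayPt} (h : BasePair p q) : Function.Injective (fq q) := by
  have hq : ¬ P22 q := by
    rcases h with ⟨_, rfl⟩ | ⟨_, rfl⟩
    · exact fun h => h.2 rfl
    · exact fun h => h.1 rfl
  intro o o' hoo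
  cases o with
  | none =>
    cases o' with
    | none => rfl
    | some y' =>
      exfalso
      have : q = y'.1 := hoo
      rw [this] at hq
      exact hq y'.2
  | some y =>
    cases o' with
    | none =>
      exfalso
      have : y.1 = q := hoo
      rw [← this] at hq
      exact hq y.2
    | some y' =>
      have : y.1 = y'.1 := hoo
      rw [Subtype.ext this]

theorem fq_ne {p q : GolayPt} (h : BasePair p q) (o : Option Pt22) : fq q o ≠ p := by
  cases o with
  | none =>
    show q ≠ p
    rcases h with ⟨rfl, rfl⟩ | ⟨rfl, rfl⟩ <;> decide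
  | some y =>
    show y.1 ≠ p
    rcases h with ⟨rfl, _⟩ | ⟨rfl, _⟩
    · exact y.2.1
    · exact y.2.2

theorem fq_surj {p q : GolayPt} (h : BasePair p q) (x : GolayPt) (hx : x ≠ p) :
    ∃ o, fq q o = x := by
  by_cases hP : P22 x
  · exact ⟨some ⟨x, hP⟩, rfl⟩
  · refine ⟨none, ?_⟩
    show q = x
    have : x = none ∨ x = some 0 := by
      unfold P22 at hP
      tauto
    rcases h with ⟨rfl, rfl⟩ | ⟨rfl, rfl⟩
    · rcases this with h | h
      · exact absurd h hx
      · exact h.symm
    · rcases this with h | h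
      · exact h.symm
      · exact absurd h hx

/-- The bijection of `Option Pt22` with the points other than `p`. -/
noncomputable def eqv {p q : GolayPt} (h : BasePair p q) :
    Option Pt22 ≃ PtOut ({p} : Finset GolayPt) :=
  Equiv.ofBijective (fun o => ⟨fq q o, by rw [mem_singleton]; exact fq_ne h o⟩) (by
    constructor
    · intro o o' hoo
      exact fq_injective h (congrArg Subtype.val hoo)
    · rintro ⟨x, hx⟩
      rw [mem_singleton] at hx
      obtain ⟨o, ho⟩ := fq_surj h x hx
      exact ⟨o, Subtype.ext ho⟩)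

theorem eqv_val {p q : GolayPt} (h : BasePair p q) (o : Option Pt22) :
    ((eqv h o : PtOut ({p} : Finset GolayPt)) : GolayPt) = fq q o := rfl

theorem upT_image_eqv {p q : GolayPt} (h : BasePair p q) (b : Finset (Option Pt22)) :
    upT {p} (b.image (eqv h)) = insert p (b.image (fq q)) := by
  ext x
  rw [mem_upT, mem_insert, mem_image]
  constructor
  · rintro (hx | ⟨hx, hb⟩)
    · exact Or.inl (mem_singleton.1 hx)
    · obtain ⟨o, ho, hox⟩ := mem_image.1 hb
      exact Or.inr ⟨o, ho, congrArg Subtype.val hox⟩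
  · rintro (hx | ⟨o, ho, rfl⟩)
    · exact Or.inl (mem_singleton.2 hx)
    · have hx : fq q o ∉ ({p} : Finset GolayPt) := by
        rw [mem_singleton]
        exact fq_ne h o
      exact Or.inr ⟨hx, mem_image.2 ⟨o, ho, rfl⟩⟩

theorem image_fq_insertNone (q : GolayPt) (l : Finset Pt22) :
    (insertNone l).image (fq q) = insert q (lift l) := by
  ext x
  rw [mem_image, mem_insert, mem_lift]
  constructor
  · rintro ⟨o, ho, rfl⟩
    cases o with
    | none => exact Or.inl rfl
    | some y => exact Or.inr ⟨y.2, some_mem_insertNone.1 ho⟩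
  · rintro (rfl | ⟨h, hx⟩)
    · exact ⟨none, none_mem_insertNone, rfl⟩
    · exact ⟨some ⟨x, h⟩, some_mem_insertNone.2 hx, rfl⟩

theorem image_fq_map_some (q : GolayPt) (Q : Finset Pt22) :
    (Q.map Function.Embedding.some).image (fq q) = lift Q := by
  ext x
  rw [mem_image, mem_lift]
  constructor
  · rintro ⟨o, ho, rfl⟩
    obtain ⟨y, hy, rfl⟩ := mem_map.1 ho
    exact ⟨y.2, hy⟩
  · rintro ⟨h, hx⟩
    exact ⟨some ⟨x, h⟩, mem_map.2 ⟨⟨x, h⟩, hx, rfl⟩, rfl⟩

theorem maps_class {D : Set (Finset (Option Pt22))} (hD : IsSteinerSystem 4 7 D)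
    (hL : lines D = D22) {p q : GolayPt} (h : BasePair p q)
    (hcls : ∀ Q ∈ ovals D, insert p (lift Q) ∈ octads) :
    (fun b : Finset (Option Pt22) => b.image (eqv h)) '' D = DT {p} := by
  apply iso_of_maps hD (steiner_DT_one p) (by norm_num)
  intro b hb
  show upT {p} (b.image (eqv h)) ∈ octads
  rw [upT_image_eqv]
  rcases block_cases hb with ⟨_, hl, hbe⟩ | ⟨_, hQ, hbe⟩
  · rw [hbe, image_fq_insertNone]
    rw [hL] at hl
    have : insert p (insert q (lift (eraseNone b))) = up (eraseNone b) := by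
      rcases h with ⟨rfl, rfl⟩ | ⟨rfl, rfl⟩
      · rfl
      · exact Finset.insert_comm _ _ _
    rw [this]
    exact hl
  · rw [hbe, image_fq_map_some]
    exact hcls _ hQ

/-! ### Changing the base point -/

theorem upT_image_equiv {T T' : Finset GolayPt} (g : Equiv.Perm GolayPt)
    (hT : ∀ x, x ∉ T ↔ g x ∉ T') (b : Finset (PtOut T)) :
    upT T' (b.image (g.subtypeEquiv hT)) = (upT T b).image g := by
  ext x
  obtain ⟨y, rfl⟩ := g.surjective x
  rw [g.injective.mem_finset_image, mem_upT, mem_upT]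
  have hTy : g y ∈ T' ↔ y ∈ T := by
    have := hT y
    tauto
  constructor
  · rintro (h | ⟨h, hx⟩)
    · exact Or.inl (hTy.1 h)
    · obtain ⟨z, hz, hzx⟩ := mem_image.1 hx
      have h1 : g z.1 = g y := congrArg Subtype.val hzx
      have h2 : z.1 = y := g.injective h1
      have h3 : z = ⟨y, (hT y).2 h⟩ := Subtype.ext h2
      rw [h3] at hz
      exact Or.inr ⟨_, hz⟩
  · rintro (h | ⟨h, hy⟩)
    · exact Or.inl (hTy.2 h)
    · exact Or.inr ⟨(hT y).1 h, mem_image.2 ⟨⟨y, h⟩, hy, rfl⟩⟩

theorem DT_maps {T T' : Finset GolayPt} {g : Equiv.Perm GolayPt} (hg : g ∈ M24)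
    (hT : ∀ x, x ∉ T ↔ g x ∉ T') {b : Finset (PtOut T)} (hb : b ∈ DT T) :
    b.image (g.subtypeEquiv hT) ∈ DT T' := by
  show upT T' (b.image (g.subtypeEquiv hT)) ∈ octads
  rw [upT_image_equiv]
  exact smul_mem_octads hg hb

theorem DT_iso {T T' : Finset GolayPt} (hT1 : T.card = 1) (hT1' : T'.card = 1)
    {g : Equiv.Perm GolayPt} (hg : g ∈ M24) (hT : ∀ x, x ∉ T ↔ g x ∉ T') :
    SetSystemIso (DT T) (DT T') := by
  refine ⟨g.subtypeEquiv hT, ?_⟩
  apply iso_of_maps (steiner_DT_gen (t := 4) (k := 7) (by omega) (by omega))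
    (steiner_DT_gen (by omega) (by omega)) (by norm_num)
  intro b hb
  exact DT_maps hg hT hb

open Cfsg.Agent.Lib.Helper18.HSOdd in
theorem tau_swap : tau none = some 0 ∧ tau (some 0) = none := by
  unfold tau
  decide +kernel

open Cfsg.Agent.Lib.Helper18.HSOdd in
theorem DT_zero_none :
    SetSystemIso (DT ({some 0} : Finset GolayPt)) (DT ({none} : Finset GolayPt)) := by
  apply DT_iso (card_singleton _) (card_singleton _) tau_mem
  intro x
  rw [mem_singleton, mem_singleton, not_iff_not]
  constructor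
  · rintro rfl
    exact tau_swap.2
  · intro h
    rw [← tau_swap.2] at h
    exact tau.injective h

/-- Every S(4,7,23) is isomorphic to the design of the octads through `none`. -/
theorem unique_4_7_23 {α : Type*} [Fintype α] [DecidableEq α] (hα : Fintype.card α = 23)
    {B : Set (Finset α)} (hB : IsSteinerSystem 4 7 B) :
    SetSystemIso B (DT ({none} : Finset GolayPt)) := by
  have hne : Nonempty α := by
    rw [← Fintype.card_pos_iff, hα]
    norm_num
  obtain ⟨p⟩ := hne
  obtain ⟨φ₀, -⟩ := exists_equiv_option_gen (γ := Pt22) (by rw [hα, card_pt22]) p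
  have hD₀ := steiner_image_equiv hB φ₀
  have hL₀ : IsSteinerSystem 3 6 (lines ((fun b : Finset α => b.image φ₀) '' B)) :=
    derived_steiner_gen hD₀
  obtain ⟨e, he⟩ := unique_s22 card_pt22 card_pt22 hL₀ steiner_D22
  have hD : IsSteinerSystem 4 7 ((fun b : Finset (Option Pt22) => b.image e.optionCongr) ''
      ((fun b : Finset α => b.image φ₀) '' B)) := steiner_image_equiv hD₀ e.optionCongr
  have hL : lines ((fun b : Finset (Option Pt22) => b.image e.optionCongr) ''
      ((fun b : Finset α => b.image φ₀) '' B)) = D22 := by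
    rw [← he]
    symm
    apply steiner_eq_of_subset (steiner_image_equiv hL₀ e) (derived_steiner_gen hD) (by norm_num)
    rintro _ ⟨l₀, hl₀, rfl⟩
    show insertNone (l₀.image e) ∈ (fun b : Finset (Option Pt22) => b.image e.optionCongr) ''
      ((fun b : Finset α => b.image φ₀) '' B)
    rw [← image_insertNone]
    exact ⟨insertNone l₀, hl₀, rfl⟩
  have h1 : SetSystemIso B ((fun b : Finset (Option Pt22) => b.image e.optionCongr) ''
      ((fun b : Finset α => b.image φ₀) '' B)) :=
    setSystemIso_trans ⟨φ₀, rfl⟩ ⟨e.optionCongr, rfl⟩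
  rcases all_class hD hL with hc | hc
  · exact setSystemIso_trans h1 ⟨eqv (Or.inl ⟨rfl, rfl⟩), maps_class hD hL _ hc⟩
  · have h2 : SetSystemIso _ (DT ({some 0} : Finset GolayPt)) :=
      ⟨eqv (Or.inr ⟨rfl, rfl⟩), maps_class hD hL _ hc⟩
    exact setSystemIso_trans h1 (setSystemIso_trans h2 DT_zero_none)

end Cfsg.Agent.Lib.Helper18.W23
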