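import Mathlib
import Cfsg.Prelude.Def_Sporadic_a
import Cfsg.Agent.Lib.Helper18.W23b

/-!
A set of points meeting evenly every octad through the point `none` is the support of a word of
`Cfsg.golayCode`.
-/

set_option autoImplicit false

namespace Cfsg.Agent.Lib.Helper18.W23

open Cfsg Finset Cfsg.Agent.Lib.Helper21

/-- Twelve octads through the point `none` (bit 23), forming a basis of the code. -/
def octList24 : List ℕ :=
  [0x800c75, 0x8018ea, 0x80254b, 0x804a96, 0x8081b3, 0x810366, 0x8206cc, 0x840d98, 0x881b30,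
    0x900bc1, 0xa0031d, 0xc0063a]

theorem octList24_code : ∀ O ∈ octList24, O % 4096 < 4096 ∧ encMask (O % 4096) = O ∧
    popc 24 O = 8 ∧ O.testBit 23 = true := by
  decide +kernel

theorem octList24_orth : ∀ c < 4096, ∀ O ∈ octList24, popc 24 (encMask c &&& O) % 2 = 0 := by
  apply forall_lt_4096
  decide +kernel

theorem high_sweep24 : ∀ h < 4096, (∀ O ∈ octList24, popc 24 ((h * 4096) &&& O) % 2 = 0) →
    h = 0 := by
  apply forall_lt_4096
  decide +kernel

theorem mask_key24 (m : ℕ) (hm : m < 2 ^ 24)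
    (h : ∀ O ∈ octList24, popc 24 (m &&& O) % 2 = 0) : ∃ c < 4096, m = encMask c := by
  have hc : m % 4096 < 4096 := Nat.mod_lt _ (by norm_num)
  set c := m % 4096 with hcdef
  set r := m ^^^ encMask c with hr
  have hrlt : r < 2 ^ 24 := Nat.xor_lt_two_pow hm (encMask_lt c hc)
  have hrmod : r % 4096 = 0 := by
    rw [hr, show (4096 : ℕ) = 2 ^ 12 by norm_num, Nat.xor_mod_two_pow,
      show (2 : ℕ) ^ 12 = 4096 by norm_num, encMask_mod c hc, ← hcdef, Nat.xor_self]
  have hrO : ∀ O ∈ octList24, popc 24 (r &&& O) % 2 = 0 := by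
    intro O hO
    rw [hr, Nat.and_xor_distrib_right, popc_xor_mod _ _ _ (octList24_orth c hc O hO)]
    exact h O hO
  have hr' : r = (r / 4096) * 4096 := by
    have := Nat.div_add_mod r 4096
    omega
  have hh : r / 4096 < 4096 := by
    rw [Nat.div_lt_iff_lt_mul (by norm_num)]
    exact lt_of_lt_of_le hrlt (by norm_num)
  have hm' : m = r ^^^ encMask c := by
    rw [hr, Nat.xor_assoc, Nat.xor_self, Nat.xor_zero]
  have h0 := high_sweep24 (r / 4096) hh (by rw [← hr']; exact hrO)
  refine ⟨c, hc, ?_⟩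
  rw [hm', hr', h0]
  simp

theorem octList24_octad : ∀ O ∈ octList24, maskFS O ∈ octads ∧ none ∈ maskFS O ∧ O < 2 ^ 24 := by
  intro O hO
  obtain ⟨h1, h2, h3, h4⟩ := octList24_code O hO
  refine ⟨?_, ?_, ?_⟩
  · have := maskFS_encMask_mem_octads (O % 4096) h1 (by rw [h2]; exact h3)
    rwa [h2] at this
  · rw [mem_maskFS, gEquiv_none]
    exact h4
  · have := encMask_lt _ h1
    rwa [h2] at this

theorem set_key24 (X : Finset GolayPt)
    (h : ∀ O ∈ octads, none ∈ O → 2 ∣ (X ∩ O).card) : ∃ c < 4096, fsMask X = encMask c := by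
  apply mask_key24 (fsMask X) (fsMask_lt X)
  intro O hO
  obtain ⟨h1, h2, h4⟩ := octList24_octad O hO
  have := h _ h1 h2
  rw [card_eq_popc, fsMask_inter, fsMask_maskFS O h4] at this
  omega

/-- An eight-element set meeting evenly every octad through `none` is an octad. -/
theorem octad_of_even (X : Finset GolayPt) (hX : X.card = 8)
    (h : ∀ O ∈ octads, none ∈ O → 2 ∣ (X ∩ O).card) : X ∈ octads := by
  obtain ⟨c, hc, hm⟩ := set_key24 X h
  exact mem_octads_of_mask hX hc hm

end Cfsg.Agent.Lib.Helper18.W23
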