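import Mathlib
import Cfsg.Prelude.Def_Sporadic_a
import Cfsg.Agent.Lib.Helper18.W24a
import Cfsg.Agent.Lib.Helper18.W23c

/-!
Uniqueness of the Steiner system S(5,8,24): every such system is isomorphic to the octads.
-/

set_option autoImplicit false

namespace Cfsg.Agent.Lib.Helper18.W23

open Cfsg Finset Cfsg.Agent.Lib.Helper21 Cfsg.Agent.Lib.Helper18.GolayS22
open Cfsg.Agent.Lib.Helper18.S22Plane Cfsg.Agent.Lib.Helper18.M21
open scoped Pointwise

/-- The 23 points other than `none`. -/
abbrev Pt23 : Type := PtOut ({none} : Finset GolayPt)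

theorem card_pt23 : Fintype.card Pt23 = 23 := card_ptOut_one none

theorem card_opt23 : Fintype.card (Option Pt23) = 24 := by
  rw [Fintype.card_option, card_pt23]

/-- `none ↦ none`, `some y ↦ y`. -/
def F24fun : Option Pt23 → GolayPt := fun o => o.elim none Subtype.val

theorem F24fun_bijective : Function.Bijective F24fun := by
  constructor
  · intro o o' hoo
    cases o with
    | none =>
      cases o' with
      | none => rfl
      | some y' =>
        exfalso
        have h : none = y'.1 := hoo
        exact y'.2 (mem_singleton.2 h.symm)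
    | some y =>
      cases o' with
      | none =>
        exfalso
        have h : y.1 = none := hoo
        exact y.2 (mem_singleton.2 h)
      | some y' =>
        have : y.1 = y'.1 := hoo
        rw [Subtype.ext this]
  · intro x
    by_cases hx : x = none
    · exact ⟨none, hx.symm⟩
    · exact ⟨some ⟨x, by rw [mem_singleton]; exact hx⟩, rfl⟩

/-- The bijection of `Option Pt23` with the 24 points. -/
noncomputable def F24 : Option Pt23 ≃ GolayPt := Equiv.ofBijective F24fun F24fun_bijective

theorem F24_none : F24 none = none := rfl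

theorem F24_some (y : Pt23) : F24 (some y) = y.1 := rfl

theorem image_F24_insertNone (l : Finset Pt23) :
    (insertNone l).image F24 = upT {none} l := by
  ext x
  rw [mem_image, mem_upT]
  constructor
  · rintro ⟨o, ho, rfl⟩
    cases o with
    | none => exact Or.inl (mem_singleton.2 rfl)
    | some y => exact Or.inr ⟨y.2, some_mem_insertNone.1 ho⟩
  · rintro (hx | ⟨h, hx⟩)
    · exact ⟨none, none_mem_insertNone, (mem_singleton.1 hx).symm⟩
    · exact ⟨some ⟨x, h⟩, some_mem_insertNone.2 hx, rfl⟩

theorem image_F24_map_some (Q : Finset Pt23) :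
    (Q.map Function.Embedding.some).image F24 = Q.map (Function.Embedding.subtype _) := by
  ext x
  rw [mem_image, mem_map]
  constructor
  · rintro ⟨o, ho, rfl⟩
    obtain ⟨y, hy, rfl⟩ := mem_map.1 ho
    exact ⟨y, hy, rfl⟩
  · rintro ⟨y, hy, rfl⟩
    exact ⟨some y, mem_map.2 ⟨y, hy, rfl⟩, rfl⟩

theorem map_inter_set (Q : Finset Pt23) (O : Finset GolayPt) :
    Q.map (Function.Embedding.subtype _) ∩ O
      = (Q ∩ O.subtype (· ∉ ({none} : Finset GolayPt))).map (Function.Embedding.subtype _) := by
  ext x
  simp only [mem_inter, mem_map, mem_subtype, Function.Embedding.coe_subtype]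
  constructor
  · rintro ⟨⟨y, hy, rfl⟩, hO⟩
    exact ⟨y, ⟨hy, hO⟩, rfl⟩
  · rintro ⟨y, ⟨hy, hO⟩, rfl⟩
    exact ⟨⟨y, hy, rfl⟩, hO⟩

section big

variable {D : Set (Finset (Option Pt23))}

theorem oval_even (hD : IsSteinerSystem 5 8 D) {Q l : Finset Pt23} (hQ : Q ∈ ovals D)
    (hl : l ∈ lines D) : 2 ∣ (Q ∩ l).card := by
  have hne : insertNone l ≠ Q.map Function.Embedding.some := by
    intro h
    have : none ∈ Q.map Function.Embedding.some := by
      rw [← h]
      exact none_mem_insertNone
    simp at this
  have h := inter_5_8_24 card_opt23 hD hl hQ hne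
  have e : insertNone l ∩ Q.map Function.Embedding.some
      = (Q ∩ l).map Function.Embedding.some := by
    ext o
    cases o with
    | none => simp
    | some a => simp [and_comm]
  rw [e, card_map] at h
  omega

theorem maps_octads (hD : IsSteinerSystem 5 8 D) (hL : lines D = DT {none}) :
    (fun b : Finset (Option Pt23) => b.image F24) '' D = octads := by
  apply iso_of_maps hD octads_steiner (by norm_num)
  intro b hb
  rcases block_cases hb with ⟨_, hl, hbe⟩ | ⟨_, hQ, hbe⟩
  · rw [hbe, image_F24_insertNone]
    rw [hL] at hl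
    exact hl
  · rw [hbe, image_F24_map_some]
    apply octad_of_even
    · rw [card_map]
      have := hD.1 _ hQ
      rwa [card_map] at this
    · intro O hO hn
      rw [map_inter_set, card_map]
      apply oval_even hD hQ
      rw [hL]
      show upT {none} (O.subtype (· ∉ ({none} : Finset GolayPt))) ∈ octads
      rw [upT_down (by
        intro x hx
        rw [mem_singleton.1 hx]
        exact hn)]
      exact hO

end big

/-- Every S(5,8,24) is isomorphic to the system of octads. -/
theorem unique_5_8_24 {α : Type*} [Fintype α] [DecidableEq α] (hα : Fintype.card α = 24)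
    {B : Set (Finset α)} (hB : IsSteinerSystem 5 8 B) : SetSystemIso B octads := by
  have hne : Nonempty α := by
    rw [← Fintype.card_pos_iff, hα]
    norm_num
  obtain ⟨p⟩ := hne
  obtain ⟨φ₀, -⟩ := exists_equiv_option_gen (γ := Pt23) (by rw [hα, card_pt23]) p
  have hD₀ := steiner_image_equiv hB φ₀
  have hL₀ : IsSteinerSystem 4 7 (lines ((fun b : Finset α => b.image φ₀) '' B)) :=
    derived_steiner_gen hD₀
  obtain ⟨e, he⟩ := unique_4_7_23 card_pt23 hL₀
  have hD : IsSteinerSystem 5 8 ((fun b : Finset (Option Pt23) => b.image e.optionCongr) ''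
      ((fun b : Finset α => b.image φ₀) '' B)) := steiner_image_equiv hD₀ e.optionCongr
  have hL : lines ((fun b : Finset (Option Pt23) => b.image e.optionCongr) ''
      ((fun b : Finset α => b.image φ₀) '' B)) = DT {none} := by
    rw [← he]
    symm
    apply steiner_eq_of_subset (steiner_image_equiv hL₀ e) (derived_steiner_gen hD) (by norm_num)
    rintro _ ⟨l₀, hl₀, rfl⟩
    show insertNone (l₀.image e) ∈ (fun b : Finset (Option Pt23) => b.image e.optionCongr) ''
      ((fun b : Finset α => b.image φ₀) '' B)
    rw [← image_insertNone]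
    exact ⟨insertNone l₀, hl₀, rfl⟩
  have h1 : SetSystemIso B ((fun b : Finset (Option Pt23) => b.image e.optionCongr) ''
      ((fun b : Finset α => b.image φ₀) '' B)) :=
    setSystemIso_trans ⟨φ₀, rfl⟩ ⟨e.optionCongr, rfl⟩
  exact setSystemIso_trans h1 ⟨F24, maps_octads hD hL⟩

end Cfsg.Agent.Lib.Helper18.W23
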