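import Mathlib
import Cfsg.Prelude.Def_Sporadic_a
import Cfsg.Agent.Lib.Helper18.W24b
import Cfsg.Agent.Lib.Helper21.GolayAutOctads
import Cfsg.Agent.Lib.Helper21.GolaySets
import Cfsg.Agent.S0376
import Cfsg.Agent.S0377

/-!
The automorphism group of the design of the octads through `none` is the point stabiliser
of `M24`.
-/

set_option autoImplicit false

namespace Cfsg.Agent.Lib.Helper18.W23

open Cfsg Finset Cfsg.Agent.Lib.Helper21 Cfsg.Agent.Lib.Helper18.GolayS22
open Cfsg.Agent.Lib.Helper18.S22Plane Cfsg.Agent.Lib.Helper18.M21 Cfsg.Agent.Lib.Helper18.Plane4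
open scoped Pointwise

/-- The point stabiliser. -/
abbrev K1 : Subgroup ↥M24 := MulAction.stabilizer M24 (none : GolayPt)

theorem K1_fix (k : ↥K1) : ∀ t ∈ ({none} : Finset GolayPt), k.1.1 t = t := by
  intro t ht
  rw [mem_singleton.1 ht]
  exact MulAction.mem_stabilizer_iff.1 k.2

/-- The action on the 23 remaining points. -/
noncomputable def rho1 (k : ↥K1) : Equiv.Perm Pt23 :=
  (k.1.1 : Equiv.Perm GolayPt).subtypePerm (notMem_iff (K1_fix k))

theorem rho1_mem (k : ↥K1) : rho1 k ∈ Cfsg.setSystemAut (DT ({none} : Finset GolayPt)) := by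
  apply mem_aut_of_maps
  intro b hb
  show upT _ (b.image (rho1 k)) ∈ octads
  rw [rho1, upT_image (K1_fix k)]
  exact smul_mem_octads k.1.2 hb

/-- The restriction homomorphism. -/
noncomputable def rho1Hom : ↥K1 →* ↥(Cfsg.setSystemAut (DT ({none} : Finset GolayPt))) :=
  MonoidHom.mk' (fun k => ⟨rho1 k, rho1_mem k⟩) (by
    intro k k'
    apply Subtype.ext
    apply Equiv.ext
    intro y
    rfl)

theorem rho1Hom_injective : Function.Injective rho1Hom := by
  intro k k' h
  apply Subtype.ext
  apply Subtype.ext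
  apply Equiv.ext
  intro x
  by_cases hx : x ∈ ({none} : Finset GolayPt)
  · rw [K1_fix k x hx, K1_fix k' x hx]
  · have h1 : rho1 k = rho1 k' := congrArg Subtype.val h
    have := congrArg (fun f : Equiv.Perm Pt23 => ((f ⟨x, hx⟩ : Pt23) : GolayPt)) h1
    exact this

/-- Extension of a permutation of the 23 points by fixing `none`. -/
noncomputable def ext1 (g : Equiv.Perm Pt23) : Equiv.Perm GolayPt := Equiv.Perm.ofSubtype g

theorem ext1_none (g : Equiv.Perm Pt23) : ext1 g none = none :=
  Equiv.Perm.ofSubtype_apply_of_not_mem g (by simp)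

theorem ext1_val (g : Equiv.Perm Pt23) (y : Pt23) : ext1 g y.1 = (g y).1 :=
  Equiv.Perm.ofSubtype_apply_coe g y

theorem ext1_fix (g : Equiv.Perm Pt23) : ∀ t ∈ ({none} : Finset GolayPt), ext1 g t = t := by
  intro t ht
  rw [mem_singleton.1 ht]
  exact ext1_none g

theorem subtypePerm_ext1 (g : Equiv.Perm Pt23) :
    (ext1 g).subtypePerm (notMem_iff (ext1_fix g)) = g := by
  apply Equiv.ext
  intro y
  apply Subtype.ext
  exact ext1_val g y

theorem upT_image_ext1 (g : Equiv.Perm Pt23) (b : Finset Pt23) :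
    upT {none} (b.image g) = ext1 g • upT {none} b := by
  have := upT_image (ext1_fix g) b
  rwa [subtypePerm_ext1] at this

theorem ext1_inv (g : Equiv.Perm Pt23) : (ext1 g)⁻¹ = ext1 g⁻¹ :=
  (map_inv (Equiv.Perm.ofSubtype) g).symm

theorem ext1_through {g : Equiv.Perm Pt23}
    (hg : g ∈ Cfsg.setSystemAut (DT ({none} : Finset GolayPt))) {O : Finset GolayPt}
    (hO : O ∈ octads) (hn : none ∈ O) : ext1 g • O ∈ octads ∧ none ∈ ext1 g • O := by
  have hTo : ({none} : Finset GolayPt) ⊆ O := by
    intro x hx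
    rw [mem_singleton.1 hx]
    exact hn
  have hl : O.subtype (· ∉ ({none} : Finset GolayPt)) ∈ DT {none} := by
    show upT {none} _ ∈ octads
    rw [upT_down hTo]
    exact hO
  have hgl : (O.subtype (· ∉ ({none} : Finset GolayPt))).image g ∈ DT {none} := by
    have := mem_aut_iff.1 hg
    rw [← this]
    exact ⟨_, hl, rfl⟩
  have h1 : upT {none} ((O.subtype (· ∉ ({none} : Finset GolayPt))).image g) ∈ octads := hgl
  rw [upT_image_ext1, upT_down hTo] at h1
  refine ⟨h1, ?_⟩
  have := Finset.smul_mem_smul_finset (a := ext1 g) hn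
  rwa [Equiv.Perm.smul_def, ext1_none] at this

theorem ext1_mem_M24 {g : Equiv.Perm Pt23}
    (hg : g ∈ Cfsg.setSystemAut (DT ({none} : Finset GolayPt))) : ext1 g ∈ M24 := by
  rw [M24_eq_aut_octads]
  apply mem_aut_of_maps
  intro O hO
  by_cases hn : none ∈ O
  · exact (ext1_through hg hO hn).1
  · apply octad_of_even
    · rw [card_image_of_injective _ (ext1 g).injective]
      exact octads_steiner.1 O hO
    · intro O' hO' hn'
      have hg' : g⁻¹ ∈ Cfsg.setSystemAut (DT ({none} : Finset GolayPt)) := Subgroup.inv_mem _ hg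
      obtain ⟨h1, h2⟩ := ext1_through hg' hO' hn'
      have hne : O ≠ ext1 g⁻¹ • O' := by
        rintro rfl
        exact hn h2
      have h3 := inter_5_8_24 card_golayPt octads_steiner hO h1 hne
      have h4 : (O.image (ext1 g) ∩ O').card = (O ∩ ext1 g⁻¹ • O').card := by
        rw [← ext1_inv]
        have : (ext1 g)⁻¹ • (ext1 g • O ∩ O') = O ∩ (ext1 g)⁻¹ • O' := by
          rw [Finset.smul_finset_inter, inv_smul_smul]
        rw [← this, Finset.card_smul_finset]
        rfl
      rw [h4]
      omega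

theorem rho1Hom_surjective : Function.Surjective rho1Hom := by
  rintro ⟨g, hg⟩
  refine ⟨⟨⟨ext1 g, ext1_mem_M24 hg⟩, ?_⟩, ?_⟩
  · rw [MulAction.mem_stabilizer_iff]
    exact ext1_none g
  · apply Subtype.ext
    show rho1 _ = g
    apply Equiv.ext
    intro y
    apply Subtype.ext
    exact ext1_val g y

/-- The point stabiliser of `M24` is the full automorphism group of the derived design. -/
noncomputable def theta : ↥K1 ≃* ↥(Cfsg.setSystemAut (DT ({none} : Finset GolayPt))) :=
  MulEquiv.ofBijective rho1Hom ⟨rho1Hom_injective, rho1Hom_surjective⟩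

theorem aut_DT_simple : IsSimpleGroup ↥(Cfsg.setSystemAut (DT ({none} : Finset GolayPt))) := by
  haveI : IsSimpleGroup ↥K1 := Cfsg.Agent.S0377.result none
  exact theta.symm.isSimpleGroup

theorem aut_DT_card : Nat.card ↥(Cfsg.setSystemAut (DT ({none} : Finset GolayPt))) = 10200960 := by
  rw [← Nat.card_congr theta.toEquiv]
  exact Cfsg.Agent.S0376.result none

theorem aut_DT_trans :
    MulAction.IsMultiplyPretransitive ↥(Cfsg.setSystemAut (DT ({none} : Finset GolayPt))) Pt23 4 := by
  rw [MulAction.isMultiplyPretransitive_iff]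
  intro x y
  have hx0 : (none : GolayPt) ∉ Set.range (fun j : Fin 4 => ((x j : Pt23) : GolayPt)) := by
    rintro ⟨j, hj⟩
    exact (x j).2 (mem_singleton.2 hj)
  have hy0 : (none : GolayPt) ∉ Set.range (fun j : Fin 4 => ((y j : Pt23) : GolayPt)) := by
    rintro ⟨j, hj⟩
    exact (y j).2 (mem_singleton.2 hj)
  let x' : Fin 5 ↪ GolayPt := ⟨Fin.cons none (fun j : Fin 4 => ((x j : Pt23) : GolayPt)),
    Fin.cons_injective_of_injective hx0 (Subtype.val_injective.comp x.injective)⟩
  let y' : Fin 5 ↪ GolayPt := ⟨Fin.cons none (fun j : Fin 4 => ((y j : Pt23) : GolayPt)),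
    Fin.cons_injective_of_injective hy0 (Subtype.val_injective.comp y.injective)⟩
  obtain ⟨g, hg, h⟩ := M24_tuples 5 le_rfl x' y'
  have h0 : g none = none := h 0
  have hs : ∀ j : Fin 4, g (x j).1 = (y j).1 := fun j => h j.succ
  let k : ↥K1 := ⟨⟨g, hg⟩, MulAction.mem_stabilizer_iff.2 h0⟩
  refine ⟨rho1Hom k, ?_⟩
  apply Function.Embedding.ext
  intro j
  apply Subtype.ext
  exact hs j

end Cfsg.Agent.Lib.Helper18.W23
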