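import Mathlib
import Cfsg.Prelude.Def_CaseTheorems
import Cfsg.Agent.Lib.Helper24.DihIso

/-!
# Wreathed 2-groups `Z_{2^n} ≀ Z_2` (helper18)

Normal forms and basic structure of an abstract group satisfying `Cfsg.IsWreathed`.
Every element is `P x y i j = x^i * y^j` or `P x y i j * z`.
-/

set_option autoImplicit false
set_option linter.style.haveILetI false

open scoped commutatorElement

namespace Cfsg.Agent.Lib.Helper18

/-- Data of a wreathed group. -/
structure WR (S : Type*) [Group S] (n : ℕ) (x y z : S) : Prop where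
  hn : 2 ≤ n
  card : Nat.card S = 2 ^ (2 * n + 1)
  hx : orderOf x = 2 ^ n
  hxy : x * y = y * x
  hinf : Subgroup.zpowers x ⊓ Subgroup.zpowers y = ⊥
  hz : orderOf z = 2
  hzx : z * x * z⁻¹ = y

theorem isWreathed_iff {S : Type*} [Group S] :
    Cfsg.IsWreathed S ↔ ∃ n x y z, WR S n x y z := by
  constructor
  · rintro ⟨n, hn, hc, x, y, z, hx, hxy, hinf, hz, hzx⟩
    exact ⟨n, x, y, z, ⟨hn, hc, hx, hxy, hinf, hz, hzx⟩⟩
  · rintro ⟨n, x, y, z, ⟨hn, hc, hx, hxy, hinf, hz, hzx⟩⟩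
    exact ⟨n, hn, hc, x, y, z, hx, hxy, hinf, hz, hzx⟩

namespace WR

variable {S : Type*} [Group S] {n : ℕ} {x y z : S}

/-- normal form of elements of the base group -/
def P (x y : S) (i j : ℤ) : S := x ^ i * y ^ j

theorem finite (h : WR S n x y z) : Finite S :=
  Nat.finite_of_card_ne_zero (by rw [h.card]; positivity)

theorem z_sq (h : WR S n x y z) : z * z = 1 := by
  have := pow_orderOf_eq_one z
  rwa [h.hz, pow_two] at this

theorem z_inv (h : WR S n x y z) : z⁻¹ = z := inv_eq_of_mul_eq_one_right h.z_sq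

theorem z_ne_one (h : WR S n x y z) : z ≠ 1 := by
  intro h1
  have := h.hz
  rw [h1, orderOf_one] at this
  omega

theorem z_mul_x (h : WR S n x y z) : z * x = y * z := by
  have := h.hzx
  rwa [mul_inv_eq_iff_eq_mul] at this

theorem z_mul_y (h : WR S n x y z) : z * y = x * z := by
  have h1 : z * (z * x) = z * (y * z) := by rw [h.z_mul_x]
  rw [← mul_assoc, h.z_sq, one_mul, ← mul_assoc] at h1
  have h2 : x * z = z * y * z * z := by rw [h1]
  rw [h2, mul_assoc, h.z_sq, mul_one]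

theorem comm_zpow (h : WR S n x y z) (i j : ℤ) : x ^ i * y ^ j = y ^ j * x ^ i :=
  ((show Commute x y from h.hxy).zpow_zpow i j).eq

theorem z_mul_x_zpow (h : WR S n x y z) (i : ℤ) : z * x ^ i = y ^ i * z := by
  have : SemiconjBy z x y := h.z_mul_x
  exact (this.zpow_right i).eq

theorem z_mul_y_zpow (h : WR S n x y z) (i : ℤ) : z * y ^ i = x ^ i * z := by
  have : SemiconjBy z y x := h.z_mul_y
  exact (this.zpow_right i).eq

theorem hy (h : WR S n x y z) : orderOf y = 2 ^ n := by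
  rw [← h.hzx, ← h.hx]
  exact MulEquiv.orderOf_eq (MulAut.conj z) x

theorem two_pow_pred (h : WR S n x y z) : (2 : ℤ) ^ n = 2 * 2 ^ (n - 1) := by
  have := h.hn
  obtain ⟨m, rfl⟩ : ∃ m, n = m + 1 := ⟨n - 1, by omega⟩
  rw [pow_succ]; simp; ring

theorem two_pow_pred2 (h : WR S n x y z) : (2 : ℤ) ^ (n - 1) = 2 * 2 ^ (n - 2) := by
  have := h.hn
  obtain ⟨m, rfl⟩ : ∃ m, n = m + 2 := ⟨n - 2, by omega⟩
  simp [pow_succ]; ring

theorem x_zpow_eq_one_iff (h : WR S n x y z) (i : ℤ) : x ^ i = 1 ↔ (2 : ℤ) ^ n ∣ i := by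
  rw [← orderOf_dvd_iff_zpow_eq_one, h.hx]; simp

theorem y_zpow_eq_one_iff (h : WR S n x y z) (i : ℤ) : y ^ i = 1 ↔ (2 : ℤ) ^ n ∣ i := by
  rw [← orderOf_dvd_iff_zpow_eq_one, h.hy]; simp

/-! ### Normal form arithmetic -/

@[simp] theorem P_zero_zero : P x y 0 0 = 1 := by simp [P]

theorem P_one_zero : P x y 1 0 = x := by simp [P]

theorem P_zero_one : P x y 0 1 = y := by simp [P]

theorem P_mul_P (h : WR S n x y z) (i j k l : ℤ) :
    P x y i j * P x y k l = P x y (i + k) (j + l) := by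
  unfold P
  rw [mul_assoc, ← mul_assoc (y ^ j), ← h.comm_zpow k j, mul_assoc, ← zpow_add, ← mul_assoc,
    ← zpow_add]

theorem P_mul_P_assoc (h : WR S n x y z) (i j k l : ℤ) (g : S) :
    P x y i j * (P x y k l * g) = P x y (i + k) (j + l) * g := by
  rw [← mul_assoc, h.P_mul_P]

theorem z_mul_P (h : WR S n x y z) (i j : ℤ) : z * P x y i j = P x y j i * z := by
  unfold P
  rw [← mul_assoc, h.z_mul_x_zpow, mul_assoc, h.z_mul_y_zpow, ← mul_assoc, ← h.comm_zpow]

theorem z_mul_P_assoc (h : WR S n x y z) (i j : ℤ) (g : S) :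
    z * (P x y i j * g) = P x y j i * (z * g) := by
  rw [← mul_assoc, h.z_mul_P, mul_assoc]

theorem z_mul_z_assoc (h : WR S n x y z) (g : S) : z * (z * g) = g := by
  rw [← mul_assoc, h.z_sq, one_mul]

theorem P_inv (h : WR S n x y z) (i j : ℤ) : (P x y i j)⁻¹ = P x y (-i) (-j) := by
  apply inv_eq_of_mul_eq_one_right
  rw [h.P_mul_P]; simp

theorem Pz_mul_P (h : WR S n x y z) (i j k l : ℤ) :
    (P x y i j * z) * P x y k l = P x y (i + l) (j + k) * z := by
  rw [mul_assoc, h.z_mul_P, ← mul_assoc, h.P_mul_P]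

theorem Pz_mul_Pz (h : WR S n x y z) (i j k l : ℤ) :
    (P x y i j * z) * (P x y k l * z) = P x y (i + l) (j + k) := by
  rw [← mul_assoc, h.Pz_mul_P, mul_assoc, h.z_sq, mul_one]

theorem P_mul_Pz (h : WR S n x y z) (i j k l : ℤ) :
    P x y i j * (P x y k l * z) = P x y (i + k) (j + l) * z := by
  rw [← mul_assoc, h.P_mul_P]

theorem Pz_inv (h : WR S n x y z) (i j : ℤ) : (P x y i j * z)⁻¹ = P x y (-j) (-i) * z := by
  apply inv_eq_of_mul_eq_one_right
  rw [h.Pz_mul_Pz]; simp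

theorem P_eq_one_iff (h : WR S n x y z) (i j : ℤ) :
    P x y i j = 1 ↔ (2 : ℤ) ^ n ∣ i ∧ (2 : ℤ) ^ n ∣ j := by
  constructor
  · intro h1
    unfold P at h1
    have h2 : x ^ i = y ^ (-j) := by rw [zpow_neg]; exact eq_inv_of_mul_eq_one_left h1
    have h3 : x ^ i ∈ Subgroup.zpowers x ⊓ Subgroup.zpowers y := by
      refine ⟨Subgroup.zpow_mem_zpowers x i, ?_⟩
      rw [h2]; exact Subgroup.zpow_mem_zpowers y (-j)
    rw [h.hinf, Subgroup.mem_bot] at h3
    rw [h3, one_mul] at h1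
    exact ⟨(h.x_zpow_eq_one_iff i).mp h3, (h.y_zpow_eq_one_iff j).mp h1⟩
  · rintro ⟨h1, h2⟩
    unfold P
    rw [(h.x_zpow_eq_one_iff i).mpr h1, (h.y_zpow_eq_one_iff j).mpr h2, one_mul]

theorem P_eq_iff (h : WR S n x y z) (i j k l : ℤ) :
    P x y i j = P x y k l ↔ (2 : ℤ) ^ n ∣ i - k ∧ (2 : ℤ) ^ n ∣ j - l := by
  rw [← h.P_eq_one_iff, ← mul_inv_eq_one, h.P_inv, h.P_mul_P]
  rfl

/-- The base group `A = ⟨x⟩ × ⟨y⟩`. -/
def A (h : WR S n x y z) : Subgroup S where
  carrier := {g | ∃ i j : ℤ, g = P x y i j}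
  one_mem' := ⟨0, 0, by simp⟩
  mul_mem' := by
    rintro a b ⟨i, j, rfl⟩ ⟨k, l, rfl⟩
    exact ⟨_, _, h.P_mul_P i j k l⟩
  inv_mem' := by
    rintro a ⟨i, j, rfl⟩
    exact ⟨_, _, h.P_inv i j⟩

theorem mem_A_iff (h : WR S n x y z) (g : S) : g ∈ h.A ↔ ∃ i j : ℤ, g = P x y i j := Iff.rfl

theorem P_mem_A (h : WR S n x y z) (i j : ℤ) : P x y i j ∈ h.A := ⟨i, j, rfl⟩

theorem x_mem_A (h : WR S n x y z) : x ∈ h.A := ⟨1, 0, P_one_zero.symm⟩

theorem y_mem_A (h : WR S n x y z) : y ∈ h.A := ⟨0, 1, P_zero_one.symm⟩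

theorem x_ne_one (h : WR S n x y z) : x ≠ 1 := by
  intro h1
  have := h.hx
  rw [h1, orderOf_one] at this
  have h2 : 2 ≤ 2 ^ n := by
    calc 2 = 2 ^ 1 := by norm_num
      _ ≤ 2 ^ n := Nat.pow_le_pow_right (by norm_num) (by have := h.hn; omega)
  omega

theorem not_dvd_one (h : WR S n x y z) : ¬ (2 : ℤ) ^ n ∣ 1 := by
  intro h1
  have := (h.x_zpow_eq_one_iff 1).mpr h1
  rw [zpow_one] at this
  exact h.x_ne_one this

theorem z_not_mem_A (h : WR S n x y z) : z ∉ h.A := by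
  rintro ⟨i, j, hz⟩
  have h1 := h.z_mul_P 1 0
  rw [hz, h.P_mul_P, h.P_mul_P, h.P_eq_iff] at h1
  apply h.not_dvd_one
  have := h1.2
  have e : j + 0 - (0 + j) = 0 := by ring
  obtain ⟨c, hc⟩ := h1.1
  exact ⟨c, by linarith⟩

theorem dvd_sub_cast (n : ℕ) (a : ZMod (2 ^ n)) (i : ℤ) (hi : ((i : ℤ) : ZMod (2 ^ n)) = a) :
    (2 : ℤ) ^ n ∣ i - (a.cast : ℤ) := by
  have : (((2 ^ n : ℕ) : ℤ)) ∣ i - (a.cast : ℤ) := by
    rw [← ZMod.intCast_zmod_eq_zero_iff_dvd]
    push_cast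
    simp [hi]
  exact_mod_cast this

/-- The base group is `Z_{2^n} × Z_{2^n}`. -/
noncomputable def AHom (h : WR S n x y z) : Multiplicative (ZMod (2 ^ n) × ZMod (2 ^ n)) →* h.A :=
  MonoidHom.mk' (fun p => ⟨P x y ((Multiplicative.toAdd p).1.cast : ℤ)
    ((Multiplicative.toAdd p).2.cast : ℤ), h.P_mem_A _ _⟩) (by
    intro p q
    apply Subtype.ext
    rw [Subgroup.coe_mul]
    simp only
    rw [h.P_mul_P, h.P_eq_iff]
    constructor
    · have := dvd_sub_cast n ((Multiplicative.toAdd (p * q)).1)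
        (((Multiplicative.toAdd p).1.cast : ℤ) + ((Multiplicative.toAdd q).1.cast : ℤ)) (by
          push_cast; rfl)
      rwa [← dvd_neg, neg_sub] at this
    · have := dvd_sub_cast n ((Multiplicative.toAdd (p * q)).2)
        (((Multiplicative.toAdd p).2.cast : ℤ) + ((Multiplicative.toAdd q).2.cast : ℤ)) (by
          push_cast; rfl)
      rwa [← dvd_neg, neg_sub] at this)

theorem AHom_apply (h : WR S n x y z) (p : Multiplicative (ZMod (2 ^ n) × ZMod (2 ^ n))) :
    (h.AHom p : S) = P x y ((Multiplicative.toAdd p).1.cast : ℤ)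
      ((Multiplicative.toAdd p).2.cast : ℤ) := rfl

theorem cast_eq_zero_of_dvd (n : ℕ) (a : ZMod (2 ^ n)) (hd : (2 : ℤ) ^ n ∣ (a.cast : ℤ)) :
    a = 0 := by
  have : (((2 ^ n : ℕ) : ℤ)) ∣ (a.cast : ℤ) := by exact_mod_cast hd
  rw [← ZMod.intCast_zmod_eq_zero_iff_dvd, ZMod.intCast_cast, ZMod.cast_id', id] at this
  exact this

theorem AHom_bijective (h : WR S n x y z) : Function.Bijective h.AHom := by
  constructor
  · rw [injective_iff_map_eq_one]
    intro p hp
    have h1 : (h.AHom p : S) = 1 := by rw [hp]; rfl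
    rw [h.AHom_apply, h.P_eq_one_iff] at h1
    have e1 := cast_eq_zero_of_dvd n _ h1.1
    have e2 := cast_eq_zero_of_dvd n _ h1.2
    change Multiplicative.toAdd p = 0
    exact Prod.ext e1 e2
  · rintro ⟨g, i, j, rfl⟩
    refine ⟨Multiplicative.ofAdd ((i : ZMod (2 ^ n)), (j : ZMod (2 ^ n))), ?_⟩
    apply Subtype.ext
    rw [h.AHom_apply]
    simp only [toAdd_ofAdd]
    rw [h.P_eq_iff]
    constructor
    · have := dvd_sub_cast n (i : ZMod (2 ^ n)) i rfl
      rwa [← dvd_neg, neg_sub] at this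
    · have := dvd_sub_cast n (j : ZMod (2 ^ n)) j rfl
      rwa [← dvd_neg, neg_sub] at this

noncomputable def AEquiv (h : WR S n x y z) :
    Multiplicative (ZMod (2 ^ n) × ZMod (2 ^ n)) ≃* h.A :=
  MulEquiv.ofBijective h.AHom h.AHom_bijective

theorem card_A (h : WR S n x y z) : Nat.card h.A = 2 ^ (2 * n) := by
  rw [← Nat.card_congr h.AEquiv.toEquiv]
  change Nat.card (ZMod (2 ^ n) × ZMod (2 ^ n)) = _
  rw [Nat.card_prod, Nat.card_zmod, two_mul, pow_add]

theorem index_A (h : WR S n x y z) : h.A.index = 2 := by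
  have h1 := h.A.card_mul_index
  rw [h.card_A, h.card, pow_succ] at h1
  exact Nat.eq_of_mul_eq_mul_left (by positivity) h1

instance A_normal (h : WR S n x y z) : h.A.Normal := Subgroup.normal_of_index_eq_two h.index_A

/-- Normal form: every element is `P i j` or `P i j * z`. -/
theorem cases (h : WR S n x y z) (g : S) :
    (∃ i j : ℤ, g = P x y i j) ∨ (∃ i j : ℤ, g = P x y i j * z) := by
  by_cases hg : g ∈ h.A
  · left; exact hg
  · right
    have h2 := h.index_A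
    have h3 : g * z⁻¹ ∈ h.A := by
      rw [Subgroup.mul_mem_iff_of_index_two h2]
      constructor
      · intro h4; exact absurd h4 hg
      · intro h4; exact absurd ((Subgroup.inv_mem_iff _).mp h4) h.z_not_mem_A
    obtain ⟨i, j, hi⟩ := h3
    exact ⟨i, j, by rw [← hi, inv_mul_cancel_right]⟩

theorem Pz_ne_P (h : WR S n x y z) (i j k l : ℤ) : P x y i j * z ≠ P x y k l := by
  intro h1
  apply h.z_not_mem_A
  have h2 : P x y i j * z ∈ h.A := by rw [h1]; exact h.P_mem_A _ _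
  exact (Subgroup.mul_mem_cancel_left _ (h.P_mem_A i j)).mp h2

theorem Pz_not_mem_A (h : WR S n x y z) (i j : ℤ) : P x y i j * z ∉ h.A := by
  rintro ⟨k, l, hk⟩
  exact h.Pz_ne_P _ _ _ _ hk

theorem Pz_eq_iff (h : WR S n x y z) (i j k l : ℤ) :
    P x y i j * z = P x y k l * z ↔ (2 : ℤ) ^ n ∣ i - k ∧ (2 : ℤ) ^ n ∣ j - l := by
  rw [mul_left_inj, h.P_eq_iff]

/-! ### Orders -/

theorem orderOf_eq_of_zpow_iff {G : Type*} [Group G] (g : G) (N : ℕ)
    (hg : ∀ k : ℤ, g ^ k = 1 ↔ (N : ℤ) ∣ k) : orderOf g = N := by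
  apply Nat.dvd_antisymm
  · apply orderOf_dvd_of_pow_eq_one
    have := (hg N).mpr dvd_rfl
    rwa [zpow_natCast] at this
  · have := (hg (orderOf g)).mp (by rw [zpow_natCast]; exact pow_orderOf_eq_one g)
    exact_mod_cast this

theorem P_zpow (h : WR S n x y z) (i j k : ℤ) : (P x y i j) ^ k = P x y (i * k) (j * k) := by
  unfold P
  have : Commute (x ^ i) (y ^ j) := h.comm_zpow i j
  rw [this.mul_zpow, ← zpow_mul, ← zpow_mul]

theorem xy_zpow (h : WR S n x y z) (k : ℤ) : (x * y) ^ k = P x y k k := by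
  have := h.P_zpow 1 1 k
  rwa [P, zpow_one, zpow_one, one_mul] at this

theorem xyinv_zpow (h : WR S n x y z) (k : ℤ) : (x * y⁻¹) ^ k = P x y k (-k) := by
  have := h.P_zpow 1 (-1) k
  rwa [P, zpow_one, zpow_neg, zpow_one, one_mul, neg_one_mul] at this

theorem orderOf_xy (h : WR S n x y z) : orderOf (x * y) = 2 ^ n := by
  apply orderOf_eq_of_zpow_iff
  intro k
  rw [h.xy_zpow, h.P_eq_one_iff]
  push_cast
  tauto

theorem orderOf_xyinv (h : WR S n x y z) : orderOf (x * y⁻¹) = 2 ^ n := by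
  apply orderOf_eq_of_zpow_iff
  intro k
  rw [h.xyinv_zpow, h.P_eq_one_iff]
  push_cast
  rw [dvd_neg]
  tauto

/-- squares of elements outside `A` -/
theorem Pz_sq (h : WR S n x y z) (i j : ℤ) :
    (P x y i j * z) * (P x y i j * z) = P x y (i + j) (i + j) := by
  rw [h.Pz_mul_Pz, add_comm j i]

/-! ### The centre -/

theorem P_diag_mem_center (h : WR S n x y z) (k : ℤ) : P x y k k ∈ Subgroup.center S := by
  rw [Subgroup.mem_center_iff]
  intro g
  rcases h.cases g with ⟨i, j, rfl⟩ | ⟨i, j, rfl⟩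
  · rw [h.P_mul_P, h.P_mul_P, add_comm i k, add_comm j k]
  · rw [h.Pz_mul_P, h.P_mul_Pz, add_comm i k, add_comm j k]

theorem mem_center_iff (h : WR S n x y z) (g : S) :
    g ∈ Subgroup.center S ↔ ∃ k : ℤ, g = P x y k k := by
  constructor
  · intro hg
    rw [Subgroup.mem_center_iff] at hg
    rcases h.cases g with ⟨i, j, rfl⟩ | ⟨i, j, rfl⟩
    · have h1 := hg z
      rw [h.z_mul_P, mul_left_inj, h.P_eq_iff] at h1
      refine ⟨i, ?_⟩
      rw [h.P_eq_iff]
      refine ⟨by simp, ?_⟩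
      exact h1.1
    · exfalso
      have h1 := hg (P x y 1 0)
      rw [h.P_mul_Pz, h.Pz_mul_P, h.Pz_eq_iff] at h1
      apply h.not_dvd_one
      obtain ⟨c, hc⟩ := h1.1
      exact ⟨c, by linarith⟩
  · rintro ⟨k, rfl⟩
    exact h.P_diag_mem_center k

theorem center_eq (h : WR S n x y z) : Subgroup.center S = Subgroup.zpowers (x * y) := by
  ext g
  rw [h.mem_center_iff, Subgroup.mem_zpowers_iff]
  constructor
  · rintro ⟨k, rfl⟩
    exact ⟨k, h.xy_zpow k⟩
  · rintro ⟨k, rfl⟩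
    exact ⟨k, h.xy_zpow k⟩

theorem card_center (h : WR S n x y z) : Nat.card (Subgroup.center S) = 2 ^ n := by
  rw [h.center_eq, Nat.card_zpowers, h.orderOf_xy]

theorem isCyclic_center (h : WR S n x y z) : IsCyclic (Subgroup.center S) := by
  rw [h.center_eq]
  infer_instance

/-! ### The derived subgroup -/

/-- The subgroup `{P k (-k)}`. -/
theorem commutator_le (h : WR S n x y z) : commutator S ≤ Subgroup.zpowers (x * y⁻¹) := by
  have key : ∀ g : S, g ∈ Subgroup.zpowers (x * y⁻¹) ↔ ∃ k : ℤ, g = P x y k (-k) := by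
    intro g
    rw [Subgroup.mem_zpowers_iff]
    constructor
    · rintro ⟨k, rfl⟩; exact ⟨k, h.xyinv_zpow k⟩
    · rintro ⟨k, rfl⟩; exact ⟨k, h.xyinv_zpow k⟩
  rw [commutator_def, Subgroup.commutator_le]
  intro g₁ _ g₂ _
  rw [key, commutatorElement_def]
  rcases h.cases g₁ with ⟨i, j, rfl⟩ | ⟨i, j, rfl⟩ <;>
    rcases h.cases g₂ with ⟨k, l, rfl⟩ | ⟨k, l, rfl⟩
  · refine ⟨0, ?_⟩
    rw [h.P_inv, h.P_inv, h.P_mul_P, h.P_mul_P, h.P_mul_P]
    congr 1
    · ring
    · ring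
  · refine ⟨i - j, ?_⟩
    rw [h.P_inv, h.Pz_inv, h.P_mul_Pz, h.Pz_mul_P, h.Pz_mul_Pz]
    congr 1 <;> ring
  · refine ⟨l - k, ?_⟩
    rw [h.P_inv, h.Pz_inv, h.Pz_mul_P, h.Pz_mul_Pz, h.P_mul_P]
    congr 1 <;> ring
  · refine ⟨i + l - j - k, ?_⟩
    rw [h.Pz_inv, h.Pz_inv, h.Pz_mul_Pz, h.P_mul_Pz, h.Pz_mul_Pz]
    congr 1 <;> ring

theorem commutator_eq (h : WR S n x y z) : commutator S = Subgroup.zpowers (x * y⁻¹) := by
  apply le_antisymm h.commutator_le
  rw [Subgroup.zpowers_le, commutator_def]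
  have : x * y⁻¹ = ⁅x, z⁆ := by
    rw [commutatorElement_def, ← h.hzx, mul_inv_rev, mul_inv_rev, inv_inv]
    group
  rw [this]
  exact Subgroup.commutator_mem_commutator (Subgroup.mem_top _) (Subgroup.mem_top _)

theorem card_commutator (h : WR S n x y z) : Nat.card (commutator S) = 2 ^ n := by
  rw [h.commutator_eq, Nat.card_zpowers, h.orderOf_xyinv]

theorem isCyclic_commutator (h : WR S n x y z) : IsCyclic (commutator S) := by
  rw [h.commutator_eq]
  infer_instance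

/-! ### The quotient by the centre is dihedral -/

theorem Pz_not_mem_center (h : WR S n x y z) (i j : ℤ) : P x y i j * z ∉ Subgroup.center S := by
  rw [h.mem_center_iff]
  rintro ⟨k, hk⟩
  exact h.Pz_ne_P _ _ _ _ hk

theorem x_zpow_mem_center_iff (h : WR S n x y z) (k : ℤ) :
    x ^ k ∈ Subgroup.center S ↔ (2 : ℤ) ^ n ∣ k := by
  rw [h.mem_center_iff]
  have e : x ^ k = P x y k 0 := by simp [P]
  rw [e]
  constructor
  · rintro ⟨m, hm⟩
    rw [h.P_eq_iff] at hm
    obtain ⟨c, hc⟩ := hm.1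
    obtain ⟨d, hd⟩ := hm.2
    exact ⟨c - d, by rw [mul_sub, ← hc, ← hd]; ring⟩
  · intro hk
    refine ⟨0, ?_⟩
    rw [h.P_eq_iff]
    simpa using hk

theorem quotient_center_equiv (h : WR S n x y z) :
    Nonempty (S ⧸ Subgroup.center S ≃* DihedralGroup (2 ^ n)) := by
  haveI := h.finite
  set u : S ⧸ Subgroup.center S := QuotientGroup.mk (x * z) with hu
  set v : S ⧸ Subgroup.center S := QuotientGroup.mk z with hv
  have exz : x * z = P x y 1 0 * z := by rw [P_one_zero]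
  have ez : z = P x y 0 0 * z := by simp
  have ou : orderOf u = 2 := by
    apply orderOf_eq_prime
    · rw [hu, ← QuotientGroup.mk_pow, QuotientGroup.eq_one_iff, pow_two, exz, h.Pz_sq]
      exact h.P_diag_mem_center _
    · rw [hu, Ne, QuotientGroup.eq_one_iff, exz]
      exact h.Pz_not_mem_center 1 0
  have ov : orderOf v = 2 := by
    apply orderOf_eq_prime
    · rw [hv, ← QuotientGroup.mk_pow, QuotientGroup.eq_one_iff, pow_two, h.z_sq]
      exact Subgroup.one_mem _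
    · rw [hv, Ne, QuotientGroup.eq_one_iff, ez]
      exact h.Pz_not_mem_center 0 0
  have huv : u * v = QuotientGroup.mk x := by
    rw [hu, hv, ← QuotientGroup.mk_mul, mul_assoc, h.z_sq, mul_one]
  have ouv : orderOf (u * v) = 2 ^ n := by
    rw [huv]
    apply orderOf_eq_of_zpow_iff
    intro k
    rw [← QuotientGroup.mk_zpow, QuotientGroup.eq_one_iff, h.x_zpow_mem_center_iff]
    push_cast
    rfl
  obtain ⟨e⟩ := Cfsg.Agent.Lib.Helper24.closure_pair_equiv_dihedral ou ov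
  rw [ouv] at e
  have htop : Subgroup.closure ({u, v} : Set (S ⧸ Subgroup.center S)) = ⊤ := by
    rw [eq_top_iff]
    intro g _
    have hx : (QuotientGroup.mk x : S ⧸ Subgroup.center S) ∈
        Subgroup.closure ({u, v} : Set (S ⧸ Subgroup.center S)) := by
      rw [← huv]
      exact Subgroup.mul_mem _ (Subgroup.subset_closure (by simp)) (Subgroup.subset_closure (by simp))
    have hzm : (QuotientGroup.mk z : S ⧸ Subgroup.center S) ∈
        Subgroup.closure ({u, v} : Set (S ⧸ Subgroup.center S)) :=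
      Subgroup.subset_closure (by simp [hv])
    have hy : (QuotientGroup.mk y : S ⧸ Subgroup.center S) ∈
        Subgroup.closure ({u, v} : Set (S ⧸ Subgroup.center S)) := by
      rw [← h.hzx, QuotientGroup.mk_mul, QuotientGroup.mk_mul, QuotientGroup.mk_inv]
      exact Subgroup.mul_mem _ (Subgroup.mul_mem _ hzm hx) (Subgroup.inv_mem _ hzm)
    have hP : ∀ i j : ℤ, (QuotientGroup.mk (P x y i j) : S ⧸ Subgroup.center S) ∈
        Subgroup.closure ({u, v} : Set (S ⧸ Subgroup.center S)) := by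
      intro i j
      rw [P, QuotientGroup.mk_mul, QuotientGroup.mk_zpow, QuotientGroup.mk_zpow]
      exact Subgroup.mul_mem _ (Subgroup.zpow_mem _ hx i) (Subgroup.zpow_mem _ hy j)
    obtain ⟨s, rfl⟩ := QuotientGroup.mk_surjective g
    rcases h.cases s with ⟨i, j, rfl⟩ | ⟨i, j, rfl⟩
    · exact hP i j
    · rw [QuotientGroup.mk_mul]
      exact Subgroup.mul_mem _ (hP i j) hzm
  exact ⟨(Subgroup.topEquiv.symm.trans (MulEquiv.subgroupCongr htop.symm)).trans e⟩

theorem eq_of_card (h : WR S n x y z) {m : ℕ} (hm : Nat.card S = 2 ^ (2 * m + 1)) : n = m := by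
  have := h.card
  rw [hm] at this
  have := Nat.pow_right_injective (le_refl 2) this
  omega

end WR






end Cfsg.Agent.Lib.Helper18
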